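import Cfsg.Agent.H25.Fi24.Simple
import Cfsg.Agent.H74.SchurPerfect

/-!
Extensions of the presented group `Fi24` by an abelian kernel centralised by the even elements,
with an involution over the first transposition.
-/

set_option autoImplicit false

namespace Cfsg.Agent.H96.Fi24Mult

open Cfsg.Agent.H45 (evalW evalW_nil evalW_cons evalW_append)
open scoped commutatorElement

/-- the presented group -/
abbrev Q : Type := Cfsg.Agent.H25.Fi24.X

/-- its letters -/
noncomputable abbrev qe : ℕ → Q := Cfsg.Agent.H25.Fi24.pres.e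

/-- its even part -/
noncomputable abbrev evenQ : Subgroup Q := commutator Q

/-- the first further relator -/
def w1 : List ℕ := [0] ++ (List.replicate 9 [10, 7, 6, 5, 4, 3, 2]).flatten

/-- the second further relator -/
def wz : List ℕ := (List.replicate 17 [5, 4, 3, 2, 1, 0, 5, 6, 7, 8, 9, 5, 10, 11]).flatten

theorem rx_eq : Cfsg.Agent.H25.Fi24.pres.Rx = [w1, wz] := by decide +kernel

/-- braided pairs of the diagram -/
def braidP : List (ℕ × ℕ) :=
  [(0, 1), (1, 2), (2, 3), (3, 4), (4, 5), (5, 6), (5, 10), (6, 7), (7, 8), (8, 9), (10, 11)]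

/-- the pairs are adjacent -/
def adj (x y : ℕ) : Bool := decide ((x, y) ∈ braidP) || decide ((y, x) ∈ braidP)

theorem qe_sq (l : ℕ) : qe l * qe l = 1 := Cfsg.Agent.H25.Fi24.e_sq l

theorem qe_inv (l : ℕ) : (qe l)⁻¹ = qe l := inv_eq_of_mul_eq_one_right (qe_sq l)

theorem qe_rel {w : List ℕ} (hw : w ∈ Cfsg.Agent.H25.Fi24.pres.R) : evalW qe w = 1 :=
  Cfsg.Agent.H25.Fi24.pres_ok.rel w hw

theorem qe_comm {x y : ℕ} (hx : x < 12) (hy : y < 12) (hxy : adj x y = false) :
    qe x * qe y = qe y * qe x := by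
  have h : ((List.range 12).all fun x => (List.range 12).all fun y => adj x y || decide (x = y) ||
      decide ([x, y, x, y] ∈ Cfsg.Agent.H25.Fi24.pres.R) ||
      decide ([y, x, y, x] ∈ Cfsg.Agent.H25.Fi24.pres.R)) = true := by decide +kernel
  have h' := List.all_eq_true.mp (List.all_eq_true.mp h x (List.mem_range.2 hx)) y (List.mem_range.2 hy)
  simp only [hxy, Bool.false_or, Bool.or_eq_true, decide_eq_true_eq] at h'
  rcases h' with (h' | h') | h'
  · rw [h']
  · exact Cfsg.Agent.H25.Fi24.comm_rule h'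
  · exact (Cfsg.Agent.H25.Fi24.comm_rule h').symm

theorem qe_braid {x y : ℕ} (hxy : (x, y) ∈ braidP) :
    qe x * qe y * qe x = qe y * qe x * qe y := by
  have h : (braidP.all fun p => decide ([p.1, p.2, p.1, p.2, p.1, p.2] ∈ Cfsg.Agent.H25.Fi24.pres.R)) =
      true := by decide +kernel
  have h' := qe_rel (of_decide_eq_true (List.all_eq_true.mp h _ hxy))
  simp only [evalW_cons, evalW_nil, mul_one] at h'
  have h2 : qe x * qe y * qe x * (qe y * qe x * qe y) = 1 := by simpa only [mul_assoc] using h'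
  rw [eq_inv_of_mul_eq_one_left h2]
  simp only [mul_inv_rev, qe_inv, mul_assoc]

theorem qe0_notMem : qe 0 ∉ evenQ := Cfsg.Agent.H25.Fi24.e0_notMem_commutator

theorem evenQ_index : evenQ.index = 2 := Cfsg.Agent.H25.Fi24.commutator_index

theorem qe_notMem {l : ℕ} (hl : l < 12) : qe l ∉ evenQ := by
  have hiff : ∀ x y, (x, y) ∈ braidP → (qe x ∈ evenQ ↔ qe y ∈ evenQ) := by
    intro x y hxy
    have h := qe_braid hxy
    have h1 : qe x * qe y * qe x ∈ evenQ ↔ qe y ∈ evenQ := by
      rw [Subgroup.mul_mem_iff_of_index_two evenQ_index, Subgroup.mul_mem_iff_of_index_two evenQ_index]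
      tauto
    have h2 : qe y * qe x * qe y ∈ evenQ ↔ qe x ∈ evenQ := by
      rw [Subgroup.mul_mem_iff_of_index_two evenQ_index, Subgroup.mul_mem_iff_of_index_two evenQ_index]
      tauto
    rw [← h2, ← h, h1]
  have n0 := qe0_notMem
  have n1 := mt (hiff 0 1 (by decide)).mpr n0
  have n2 := mt (hiff 1 2 (by decide)).mpr n1
  have n3 := mt (hiff 2 3 (by decide)).mpr n2
  have n4 := mt (hiff 3 4 (by decide)).mpr n3
  have n5 := mt (hiff 4 5 (by decide)).mpr n4
  have n6 := mt (hiff 5 6 (by decide)).mpr n5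
  have n10 := mt (hiff 5 10 (by decide)).mpr n5
  have n7 := mt (hiff 6 7 (by decide)).mpr n6
  have n8 := mt (hiff 7 8 (by decide)).mpr n7
  have n9 := mt (hiff 8 9 (by decide)).mpr n8
  have n11 := mt (hiff 10 11 (by decide)).mpr n10
  interval_cases l <;> assumption

theorem evalW_mem_iff : ∀ {w : List ℕ}, (∀ l ∈ w, l < 12) →
    (evalW qe w ∈ evenQ ↔ Even w.length) := by
  intro w
  induction w with
  | nil => intro _; simp [evalW, one_mem]
  | cons a w ih =>
    intro hw
    rw [evalW_cons, Subgroup.mul_mem_iff_of_index_two evenQ_index,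
      ih fun l hl => hw l (List.mem_cons_of_mem _ hl), List.length_cons, Nat.even_add_one]
    have := qe_notMem (hw a List.mem_cons_self)
    tauto

theorem mem_or (q : Q) : q ∈ evenQ ∨ q * qe 0 ∈ evenQ := by
  by_cases h : q ∈ evenQ
  · exact Or.inl h
  · exact Or.inr ((Subgroup.mul_mem_iff_of_index_two evenQ_index).mpr (iff_of_false h qe0_notMem))

theorem finite_Q : Finite Q := Cfsg.Agent.H25.Fi24.finite_X

theorem evenQ_perfect : commutator (↥evenQ) = ⊤ := by
  have : IsSimpleGroup (↥evenQ) := Cfsg.Agent.H25.Fi24.isSimple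
  rcases (inferInstance : (commutator (↥evenQ)).Normal).eq_bot_or_eq_top with h | h
  · exfalso
    have hcomm : ∀ a b : ↥evenQ, a * b = b * a := fun a b => by
      have hm : ⁅a, b⁆ ∈ commutator (↥evenQ) :=
        Subgroup.commutator_mem_commutator (Subgroup.mem_top a) (Subgroup.mem_top b)
      rw [h, Subgroup.mem_bot, commutatorElement_eq_one_iff_mul_comm] at hm
      exact hm
    have hp : (Nat.card (↥evenQ)).Prime := by
      let _ : CommGroup (↥evenQ) := { (inferInstance : Group (↥evenQ)) with mul_comm := hcomm }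
      have := finite_Q
      exact IsSimpleGroup.prime_card
    rw [Cfsg.Agent.H25.Fi24.card_commutator] at hp
    exact absurd hp (Nat.not_prime_of_dvd_of_lt (m := 2) (by norm_num) (by norm_num) (by norm_num))
  · exact h

/-- An extension of `Q` with an involution over the first letter. -/
structure Ext (E : Type) [Group E] where
  π : E →* Q
  surj : Function.Surjective π
  T : E
  T_sq : T * T = 1
  π_T : π T = qe 0
  perfect : evenQ.comap π ≤ ⁅evenQ.comap π, evenQ.comap π⁆
  cent : ∀ z, π z = 1 → ∀ d, π d ∈ evenQ → Commute z d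

namespace Ext

variable {E : Type} [Group E] (D : Ext E)

theorem T_inv : D.T⁻¹ = D.T := inv_eq_of_mul_eq_one_right D.T_sq

theorem π_conjT {z : E} (hz : D.π z = 1) : D.π (D.T * z * D.T) = 1 := by
  rw [map_mul, map_mul, hz, mul_one, D.π_T, qe_sq]

/-- odd elements act on the kernel as the involution does -/
theorem odd_conj {y z : E} (hy : D.π y ∉ evenQ) (hz : D.π z = 1) :
    y * z * y⁻¹ = D.T * z * D.T := by
  have hd : D.π (y * D.T) ∈ evenQ := by
    rw [map_mul, D.π_T]; exact (mem_or _).resolve_left hy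
  have h := (D.cent _ (D.π_conjT hz) _ hd).eq
  calc y * z * y⁻¹ = y * D.T * (D.T * z * D.T) * (y * D.T)⁻¹ := by
        simp only [mul_inv_rev, T_inv, mul_assoc]
        rw [← mul_assoc D.T D.T, D.T_sq, one_mul, ← mul_assoc D.T D.T (y⁻¹), D.T_sq, one_mul]
    _ = D.T * z * D.T := by rw [← h, mul_inv_cancel_right]

/-- a section forces a trivial kernel -/
theorem section_trivial (s : Q →* E) (hs : ∀ q, D.π (s q) = q) {z : E} (hz : D.π z = 1) : z = 1 := by
  have hsE : ∀ d ∈ evenQ.comap D.π, ∀ d' ∈ evenQ.comap D.π, ⁅d, d'⁆ ∈ s.range := by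
    intro d hd d' hd'
    rw [Subgroup.mem_comap] at hd hd'
    have dec : ∀ x : E, D.π x ∈ evenQ → ∃ k, D.π k = 1 ∧ x = s (D.π x) * k ∧
        D.π (s (D.π x)) ∈ evenQ := by
      intro x hx
      refine ⟨(s (D.π x))⁻¹ * x, ?_, (mul_inv_cancel_left _ _).symm, by rwa [hs]⟩
      rw [map_mul, map_inv, hs, inv_mul_cancel]
    obtain ⟨k, hk, hdk, ha⟩ := dec d hd
    obtain ⟨k', hk', hdk', hb⟩ := dec d' hd'
    refine ⟨⁅D.π d, D.π d'⁆, ?_⟩
    rw [map_commutatorElement]
    rw [show ⁅d, d'⁆ = ⁅s (D.π d) * k, s (D.π d') * k'⁆ by rw [← hdk, ← hdk']]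
    set a := s (D.π d)
    set b := s (D.π d')
    have c1 := (D.cent k hk b hb).eq
    have c2 := (D.cent k' hk' a ha).eq
    have c3 := (D.cent k hk k' (by rw [hk']; exact one_mem _)).eq
    simp only [commutatorElement_def, mul_inv_rev]
    symm
    calc a * k * (b * k') * (k⁻¹ * a⁻¹) * (k'⁻¹ * b⁻¹)
        = a * (k * b) * k' * k⁻¹ * a⁻¹ * k'⁻¹ * b⁻¹ := by group
      _ = a * b * (k * k') * k⁻¹ * a⁻¹ * k'⁻¹ * b⁻¹ := by rw [c1]; group
      _ = a * b * (k' * a⁻¹) * k'⁻¹ * b⁻¹ := by rw [c3]; group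
      _ = a * b * (a⁻¹ * k') * k'⁻¹ * b⁻¹ := by
          rw [((D.cent k' hk' a ha).inv_right).eq]
      _ = a * b * a⁻¹ * b⁻¹ := by group
  have hz' : z ∈ s.range := by
    have h1 : ⁅evenQ.comap D.π, evenQ.comap D.π⁆ ≤ s.range := Subgroup.commutator_le.2 hsE
    exact h1 (D.perfect (by rw [Subgroup.mem_comap, hz]; exact one_mem _))
  obtain ⟨q, rfl⟩ := hz'
  rw [hs] at hz
  rw [hz, map_one]

/-- the extension modulo a normal subgroup of the kernel -/
noncomputable def quot (N : Subgroup E) [N.Normal] (hN : N ≤ D.π.ker) : Ext (E ⧸ N) where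
  π := QuotientGroup.lift N D.π hN
  surj q := by obtain ⟨y, rfl⟩ := D.surj q; exact ⟨QuotientGroup.mk y, rfl⟩
  T := QuotientGroup.mk D.T
  T_sq := by rw [← QuotientGroup.mk_mul, D.T_sq]; rfl
  π_T := D.π_T
  perfect := by
    rintro y' hy'
    obtain ⟨y, rfl⟩ := QuotientGroup.mk_surjective y'
    have h := Subgroup.mem_map_of_mem (QuotientGroup.mk' N) (D.perfect (x := y) hy')
    rw [Subgroup.map_commutator] at h
    refine Subgroup.commutator_mono ?_ ?_ h <;>
      · rintro _ ⟨x, hx, rfl⟩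
        exact hx
  cent := by
    intro z hz d hd
    obtain ⟨z, rfl⟩ := QuotientGroup.mk_surjective z
    obtain ⟨d, rfl⟩ := QuotientGroup.mk_surjective d
    exact (D.cent z hz d hd).map (QuotientGroup.mk' N)

end Ext

end Cfsg.Agent.H96.Fi24Mult
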