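import Cfsg.Agent.H96.Fi24Mult.Lift23

/-!
Lifted letters: consequences of commutation and braid relations.
-/

set_option autoImplicit false

namespace Cfsg.Agent.H96.Fi24Mult

open Cfsg.Agent.H45 (evalW evalW_nil evalW_cons evalW_append eOf ixOf)

/-- the presentation -/
abbrev qp := Cfsg.Agent.H25.Fi24.pres

/-- the spider word -/
abbrev wsp : List ℕ := Cfsg.Agent.H25.Fi24.wSpider

/-- the word of the ninth power -/
def wb9 : List ℕ := (List.replicate 9 [2, 3, 4, 5, 6, 7, 10]).flatten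

/-- a base word of the first further relator -/
def wbase : List ℕ := [10, 7, 6, 5, 4, 3, 2]

/-- relators of a certificate are of the known kinds -/
def relsOK (C : Cfg) (a1 az : Option ℕ) : Bool :=
  C.R.all fun w => (decide (w.1 ∈ qp.Rc) && decide (w.2 = 0)) || (decide (w.1 = wsp) && decide (w.2 = 0)) ||
    (decide (w.1 = w1) && decide (some w.2 = a1)) || (decide (w.1 = wz) && decide (some w.2 = az))

/-- seeds of a certificate are of the known kinds -/
def seedsOK (C : Cfg) (sv : ℕ) : Bool :=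
  C.S.all fun x => decide (x = 16384) || (decide (x / 16 = 1024 + sv) && decide (2 ≤ x % 16) &&
    decide (x % 16 < 12))

/-- lifted letters with the Coxeter relations -/
structure Letters {E : Type} [Group E] (D : Ext E) where
  g : ℕ → E
  g0 : g 0 = D.T
  π_g : ∀ l < 12, D.π (g l) = qe l
  sq : ∀ l, g l * g l = 1
  high : ∀ l, 12 ≤ l → g l = D.T
  comm : ∀ x < 12, ∀ y < 12, adj x y = false → Commute (g x) (g y)
  braid : ∀ x y, (x, y) ∈ braidP → g x * g y * g x = g y * g x * g y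

variable {E : Type} [Group E] {D : Ext E} (L : Letters D)

namespace Letters

theorem inv (l : ℕ) : (L.g l)⁻¹ = L.g l := inv_eq_of_mul_eq_one_right (L.sq l)

theorem π_eval : ∀ {w : List ℕ}, (∀ l ∈ w, l < 12) → D.π (evalW L.g w) = evalW qe w := by
  intro w
  induction w with
  | nil => intro _; simp [evalW]
  | cons a w ih =>
    intro hw
    rw [evalW_cons, evalW_cons, map_mul, L.π_g a (hw a List.mem_cons_self),
      ih fun l hl => hw l (List.mem_cons_of_mem _ hl)]

theorem evalW_reverse (w : List ℕ) : evalW L.g w.reverse = (evalW L.g w)⁻¹ := by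
  induction w with
  | nil => simp [evalW]
  | cons x w ih =>
    rw [List.reverse_cons, evalW_append, ih, evalW_cons L.g x w, mul_inv_rev, L.inv]
    simp [evalW]

theorem rc : ∀ w ∈ qp.Rc, evalW L.g w = 1 := by
  intro w hw
  have h : (qp.Rc.all fun w => (List.range 12).any (fun x => decide (w = [x, x])) ||
      (List.range 12).any (fun x => (List.range 12).any fun y => !adj x y && decide (w = [x, y, x, y])) ||
      braidP.any (fun p => decide (w = [p.1, p.2, p.1, p.2, p.1, p.2]))) = true := by decide +kernel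
  have h' := List.all_eq_true.mp h w hw
  simp only [Bool.or_eq_true, List.any_eq_true, Bool.and_eq_true, Bool.not_eq_true',
    decide_eq_true_eq, List.mem_range] at h'
  rcases h' with (⟨x, -, rfl⟩ | ⟨x, hx, y, hy, hxy, rfl⟩) | ⟨⟨x, y⟩, hp, rfl⟩
  · simp [evalW, L.sq]
  · simp only [evalW_cons, evalW_nil, mul_one]
    rw [← mul_assoc (L.g x)]
    nth_rw 1 [(L.comm x hx y hy hxy).eq]
    rw [mul_assoc, ← mul_assoc (L.g x) (L.g x), L.sq, one_mul, L.sq]
  · simp only [evalW_cons, evalW_nil, mul_one]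
    rw [← mul_assoc (L.g x) (L.g y), ← mul_assoc (L.g x * L.g y) (L.g x), L.braid x y hp]
    simp only [mul_assoc]
    rw [← mul_assoc (L.g y) (L.g y) (L.g x * L.g y), L.sq, one_mul,
      ← mul_assoc (L.g x) (L.g x) (L.g y), L.sq, one_mul, L.sq]

theorem rel_of (sp : evalW L.g wsp = 1) {C : Cfg} {a1 az : Option ℕ} {m : E}
    (h : relsOK C a1 az = true) (h1 : ∀ a, a1 = some a → evalW L.g w1 = m ^ (a : ℤ))
    (hz : ∀ a, az = some a → evalW L.g wz = m ^ (a : ℤ)) :
    ∀ w ∈ C.R, evalW L.g w.1 = m ^ (w.2 : ℤ) := by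
  intro w hw
  have h' := List.all_eq_true.mp h w hw
  simp only [Bool.or_eq_true, Bool.and_eq_true, decide_eq_true_eq] at h'
  rcases h' with ((⟨hr, h0⟩ | ⟨hr, h0⟩) | ⟨hr, h0⟩) | ⟨hr, h0⟩
  · rw [L.rc _ hr, h0]; simp
  · rw [hr, sp, h0]; simp
  · rw [hr]; exact h1 _ h0.symm
  · rw [hr]; exact hz _ h0.symm

/-- the lifted generators of `Fi23` -/
def f3 (x : Cfsg.Spor.Fi23.Gen) : E :=
  L.g (ixOf Cfsg.Agent.H25.Fi23.pres.gl x + 2) * D.T

theorem T_comm {l : ℕ} (h2 : 2 ≤ l) (hl : l < 12) : Commute D.T (L.g l) := by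
  rw [← L.g0]
  refine L.comm 0 (by norm_num) l hl ?_
  have : ((List.range 12).all fun l => decide (l < 2) || !adj 0 l) = true := by decide +kernel
  simpa [Nat.not_lt.mpr h2] using List.all_eq_true.mp this l (List.mem_range.2 hl)

theorem f3_sq (x : Cfsg.Spor.Fi23.Gen) : L.f3 x * L.f3 x = 1 := by
  have hl : ixOf Cfsg.Agent.H25.Fi23.pres.gl x + 2 < 12 := by cases x <;> decide
  have hc := L.T_comm (Nat.le_add_left 2 _) hl
  rw [f3, mul_assoc, ← mul_assoc D.T, hc.eq, mul_assoc, D.T_sq, mul_one, L.sq]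

theorem π_f3 (x : Cfsg.Spor.Fi23.Gen) : D.π (L.f3 x) = emb3 (PresentedGroup.of x) := by
  have hl : ixOf Cfsg.Agent.H25.Fi23.pres.gl x + 2 < 12 := by cases x <;> decide
  rw [f3, map_mul, L.π_g _ hl, D.π_T, Cfsg.Agent.H25.Fi24.phi_of]
  rfl

theorem f3_letter {l : ℕ} (hl : l < 10) :
    eOf Cfsg.Agent.H25.Fi23.pres.gl L.f3 l = L.g (l + 2) * D.T := by
  have hlen : Cfsg.Agent.H25.Fi23.pres.gl.length = 10 := rfl
  simp only [eOf, List.getElem?_eq_getElem (show l < Cfsg.Agent.H25.Fi23.pres.gl.length by omega),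
    Option.elim_some, f3]
  rw [Cfsg.Agent.H25.Fi24.gl_getElem Cfsg.Agent.H25.Fi23.pres_ok]

theorem f3_word : ∀ (w : List ℕ), (∀ l ∈ w, l < 10) →
    evalW (eOf Cfsg.Agent.H25.Fi23.pres.gl L.f3) w =
      evalW L.g (w.map fun l => l + 2) * D.T ^ w.length ∧
    Commute D.T (evalW L.g (w.map fun l => l + 2)) := by
  intro w
  induction w with
  | nil => intro _; exact ⟨by simp [evalW], by simp [evalW]⟩
  | cons a w ih =>
    intro hw
    obtain ⟨h1, h2⟩ := ih fun l hl => hw l (List.mem_cons_of_mem _ hl)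
    have ha := hw a List.mem_cons_self
    have hc := L.T_comm (Nat.le_add_left 2 a) (by omega)
    rw [List.map_cons, evalW_cons L.g]
    refine ⟨?_, hc.mul_right h2⟩
    rw [evalW_cons, h1, L.f3_letter ha, List.length_cons, pow_succ']
    simp only [mul_assoc]
    rw [← mul_assoc D.T, h2.eq, mul_assoc]

theorem T_pow_even {n : ℕ} (hn : Even n) : D.T ^ n = 1 := by
  obtain ⟨k, rfl⟩ := hn
  rw [← two_mul, pow_mul, pow_two, D.T_sq, one_pow]

theorem f3_cox : Cfsg.Agent.H45.CoxHolds Cfsg.Agent.H25.Fi23.pres.edges L.f3 := by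
  refine Cfsg.Agent.H45.coxHolds_of_words Cfsg.Agent.H25.Fi23.pres_ok.all
    Cfsg.Agent.H25.Fi23.pres_ok.check fun w hw => ?_
  have h : (Cfsg.Agent.H25.Fi23.pres.Rc.all fun w => w.all (fun l => decide (l < 10)) &&
      decide (Even w.length) && decide ((w.map fun l => l + 2) ∈ qp.Rc)) = true := by decide +kernel
  have h' := List.all_eq_true.mp h w hw
  simp only [Bool.and_eq_true, List.all_eq_true, decide_eq_true_eq] at h'
  rw [(L.f3_word w h'.1.1).1, L.rc _ h'.2, one_mul, T_pow_even h'.1.2]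

theorem f3_spider :
    evalW (eOf Cfsg.Agent.H25.Fi23.pres.gl L.f3)
      (List.replicate 10 [3, 2, 1, 3, 4, 5, 3, 8, 9]).flatten = evalW L.g wsp := by
  rw [(L.f3_word _ (by decide +kernel)).1, T_pow_even (by decide +kernel), mul_one,
    show ((List.replicate 10 [3, 2, 1, 3, 4, 5, 3, 8, 9]).flatten.map fun l => l + 2) = wsp by
      decide +kernel]

theorem f3_ninth :
    evalW (eOf Cfsg.Agent.H25.Fi23.pres.gl L.f3)
      (List.replicate 9 [0, 1, 2, 3, 4, 5, 8]).flatten = evalW L.g wb9 * D.T ∧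
      Commute D.T (evalW L.g wb9) := by
  obtain ⟨h1, h2⟩ := L.f3_word (List.replicate 9 [0, 1, 2, 3, 4, 5, 8]).flatten (by decide +kernel)
  rw [show ((List.replicate 9 [0, 1, 2, 3, 4, 5, 8]).flatten.map fun l => l + 2) = wb9 by
    decide +kernel] at h1 h2
  refine ⟨?_, h2⟩
  rw [h1, show (List.replicate 9 [0, 1, 2, 3, 4, 5, 8]).flatten.length = 62 + 1 by decide +kernel,
    pow_succ, T_pow_even (n := 62) ⟨31, rfl⟩, one_mul]

theorem w1_eq : evalW L.g w1 = D.T * (evalW L.g wb9)⁻¹ := by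
  rw [w1, evalW_append, show (List.replicate 9 [10, 7, 6, 5, 4, 3, 2]).flatten = wb9.reverse by
    decide +kernel, L.evalW_reverse]
  simp [evalW, L.g0]

theorem fi23_rx : Cfsg.Agent.H25.Fi23.pres.Rx =
    [(List.replicate 10 [3, 2, 1, 3, 4, 5, 3, 8, 9]).flatten,
      (List.replicate 9 [0, 1, 2, 3, 4, 5, 8]).flatten] := by decide +kernel

/-- all relators holding, there is a section -/
theorem exists_section (h1 : evalW L.g w1 = 1) (hz : evalW L.g wz = 1) :
    ∃ s : Q →* E, ∀ q, D.π (s q) = q := by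
  let f : Cfsg.Spor.Fi24.Gen → E := fun x => L.g (ixOf qp.gl x)
  have hlt : ∀ x, ixOf qp.gl x < 12 := fun x => by cases x <;> decide
  have he : ∀ l, l < 12 → eOf qp.gl f l = L.g l := by
    intro l hl
    have hlen : qp.gl.length = 12 := rfl
    simp only [eOf, List.getElem?_eq_getElem (show l < qp.gl.length by omega), Option.elim_some, f]
    rw [Cfsg.Agent.H25.Fi24.gl_getElem Cfsg.Agent.H25.Fi24.pres_ok]
  have hR : ∀ w ∈ qp.R, evalW (eOf qp.gl f) w = 1 := by
    intro w hw
    have hl : (qp.R.all fun w => w.all fun l => decide (l < 12)) = true := by decide +kernel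
    have hl' := List.all_eq_true.mp hl w hw
    simp only [List.all_eq_true, decide_eq_true_eq] at hl'
    rw [show evalW (eOf qp.gl f) w = evalW L.g w from
      congrArg List.prod (List.map_congr_left fun l hm => he l (hl' l hm))]
    rcases List.mem_append.mp hw with hw | hw
    · exact L.rc w hw
    · rw [rx_eq] at hw
      simp only [List.mem_cons, List.not_mem_nil, or_false] at hw
      rcases hw with rfl | rfl
      exacts [h1, hz]
  have hinv : ∀ x, (f x)⁻¹ = f x := fun x => L.inv _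
  have hcox : Cfsg.Agent.H45.CoxHolds qp.edges f :=
    Cfsg.Agent.H45.coxHolds_of_words Cfsg.Agent.H25.Fi24.pres_ok.all
      Cfsg.Agent.H25.Fi24.pres_ok.check fun w hw => hR w (List.mem_append_left _ hw)
  have hall : ∀ r ∈ Cfsg.Spor.coxRelators qp.edges ∪ {r | r ∈ qp.extra}, FreeGroup.lift f r = 1 := by
    rintro r (⟨x, hx, y, hy, rfl⟩ | hr)
    · rw [map_pow, map_mul, FreeGroup.lift_apply_of, FreeGroup.lift_apply_of]
      exact hcox x hx y hy
    · have a := Cfsg.Agent.H25.Fi24.pres_ok.extra_eval _ f hinv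
      have b : FreeGroup.lift f r ∈ qp.Rx.map (evalW (eOf qp.gl f)) := by
        rw [← a]; exact List.mem_map.mpr ⟨r, hr, rfl⟩
      obtain ⟨w, hw, hwr⟩ := List.mem_map.mp b
      rw [← hwr]; exact hR w (List.mem_append_right _ hw)
  refine ⟨PresentedGroup.toGroup (f := f) hall, fun q => ?_⟩
  have h : D.π.comp (PresentedGroup.toGroup (f := f) hall) = MonoidHom.id Q :=
    PresentedGroup.ext fun x => by
      rw [MonoidHom.comp_apply, PresentedGroup.toGroup.of, MonoidHom.id_apply, L.π_g _ (hlt x)]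
      exact Cfsg.Agent.H45.eOf_ix (Cfsg.Agent.H25.Fi24.pres_ok.all x)
  exact DFunLike.congr_fun h q

theorem seed_of (Li : Lift3 D) {C : Cfg} {sv : ℕ} {m : E} (h : seedsOK C sv = true)
    (hv : ∀ x, L.f3 x = Li.ψ (PresentedGroup.of x) * m ^ (sv : ℤ))
    (hmT : Commute m D.T) :
    ∀ x ∈ C.S, ∃ h ∈ Li.hH, L.g (x % 16) = h * m ^ ((x / 16 : ℤ) - 1024) := by
  intro x hx
  have h' := List.all_eq_true.mp h x hx
  simp only [Bool.or_eq_true, Bool.and_eq_true, decide_eq_true_eq] at h'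
  rcases h' with rfl | ⟨⟨hv', h2⟩, h12⟩
  · exact ⟨D.T, Li.T_mem, by simp [L.g0]⟩
  · have hlen : Cfsg.Agent.H25.Fi23.pres.gl.length = 10 := rfl
    set l := x % 16
    set x' := Cfsg.Agent.H25.Fi23.pres.gl[l - 2]'(by omega)
    refine ⟨Li.ψ (PresentedGroup.of x') * D.T, ⟨_, Or.inr rfl⟩, ?_⟩
    have hf := hv x'
    rw [f3, Cfsg.Agent.H25.Fi24.gl_getElem Cfsg.Agent.H25.Fi23.pres_ok,
      Nat.sub_add_cancel h2] at hf
    have hexp : ((x : ℤ) / 16 - 1024) = (sv : ℤ) := by omega
    rw [hexp, mul_assoc, ((hmT.zpow_left _).symm).eq, ← mul_assoc, ← hf, mul_assoc, D.T_sq, mul_one]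

end Letters

end Cfsg.Agent.H96.Fi24Mult
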