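import Cfsg.Agent.H96.Fi24Mult.SubCheck0

/-!
The checked scan certificate.
-/

set_option autoImplicit false

namespace Cfsg.Agent.H96.Fi24Mult.Sub

theorem facts_ok : FactsOK cfg 0 597 :=
  (factsOK_chunk chunk0)
  |>.append (factsOK_chunk chunk1)

set_option maxRecDepth 100000 in
theorem fin_ok : finOK cfg 597 57 66 0x1bf0328034e0372037c02bc008701c601ea020e049e0388034c00e803d0039c020903780382032400c5039a01eb035c00c700ef0115042802f103f802020216014f03be015d03e804a404660167046a0468043a044f03f004a80168022b0239014c0492030d0430011800f2040a041203d2049800ec00c6038402ee00a203c2 15 false = true := by decide +kernel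

theorem kill {G : Type*} [Group G] {g : ℕ → G} {m : G} {H : Subgroup G} (hD : Hyp cfg g m H) : m ^ 15 = 1 :=
  cert_sound hD (by decide +kernel) facts_ok fin_ok

end Cfsg.Agent.H96.Fi24Mult.Sub
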