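import Cfsg.Agent.H96.Fi24Mult.ZthreeData

/-!
Generated checks of a scan certificate.
-/

set_option Elab.async false
set_option autoImplicit false

namespace Cfsg.Agent.H96.Fi24Mult.Zthree

open Cfsg.Agent.H25.Fi24 (allFrom)

set_option maxRecDepth 100000 in
theorem chunk40 : allFrom (factOK cfg) 500 20000 = true := by decide +kernel

set_option maxRecDepth 100000 in
theorem chunk41 : allFrom (factOK cfg) 500 20500 = true := by decide +kernel

set_option maxRecDepth 100000 in
theorem chunk42 : allFrom (factOK cfg) 500 21000 = true := by decide +kernel

set_option maxRecDepth 100000 in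
theorem chunk43 : allFrom (factOK cfg) 500 21500 = true := by decide +kernel

set_option maxRecDepth 100000 in
theorem chunk44 : allFrom (factOK cfg) 128 22000 = true := by decide +kernel

end Cfsg.Agent.H96.Fi24Mult.Zthree
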