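import Cfsg.Agent.H96.Fi24Mult.ZtwoData

/-!
Generated checks of a scan certificate.
-/

set_option Elab.async false
set_option autoImplicit false

namespace Cfsg.Agent.H96.Fi24Mult.Ztwo

open Cfsg.Agent.H25.Fi24 (allFrom)

set_option maxRecDepth 100000 in
theorem chunk32 : allFrom (factOK cfg) 500 16000 = true := by decide +kernel

set_option maxRecDepth 100000 in
theorem chunk33 : allFrom (factOK cfg) 500 16500 = true := by decide +kernel

set_option maxRecDepth 100000 in
theorem chunk34 : allFrom (factOK cfg) 500 17000 = true := by decide +kernel

set_option maxRecDepth 100000 in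
theorem chunk35 : allFrom (factOK cfg) 500 17500 = true := by decide +kernel

set_option maxRecDepth 100000 in
theorem chunk36 : allFrom (factOK cfg) 500 18000 = true := by decide +kernel

set_option maxRecDepth 100000 in
theorem chunk37 : allFrom (factOK cfg) 500 18500 = true := by decide +kernel

set_option maxRecDepth 100000 in
theorem chunk38 : allFrom (factOK cfg) 500 19000 = true := by decide +kernel

set_option maxRecDepth 100000 in
theorem chunk39 : allFrom (factOK cfg) 500 19500 = true := by decide +kernel

end Cfsg.Agent.H96.Fi24Mult.Ztwo
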