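import Cfsg.Agent.H96.Fi24Mult.ZtwoCheck0
import Cfsg.Agent.H96.Fi24Mult.ZtwoCheck1
import Cfsg.Agent.H96.Fi24Mult.ZtwoCheck2
import Cfsg.Agent.H96.Fi24Mult.ZtwoCheck3
import Cfsg.Agent.H96.Fi24Mult.ZtwoCheck4
import Cfsg.Agent.H96.Fi24Mult.ZtwoCheck5
import Cfsg.Agent.H96.Fi24Mult.ZtwoCheck6
import Cfsg.Agent.H96.Fi24Mult.ZtwoCheck7

/-!
The checked scan certificate.
-/

set_option autoImplicit false

namespace Cfsg.Agent.H96.Fi24Mult.Ztwo

theorem facts_ok : FactsOK cfg 0 30613 :=
  (factsOK_chunk chunk0)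
  |>.append (factsOK_chunk chunk1)
  |>.append (factsOK_chunk chunk2)
  |>.append (factsOK_chunk chunk3)
  |>.append (factsOK_chunk chunk4)
  |>.append (factsOK_chunk chunk5)
  |>.append (factsOK_chunk chunk6)
  |>.append (factsOK_chunk chunk7)
  |>.append (factsOK_chunk chunk8)
  |>.append (factsOK_chunk chunk9)
  |>.append (factsOK_chunk chunk10)
  |>.append (factsOK_chunk chunk11)
  |>.append (factsOK_chunk chunk12)
  |>.append (factsOK_chunk chunk13)
  |>.append (factsOK_chunk chunk14)
  |>.append (factsOK_chunk chunk15)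
  |>.append (factsOK_chunk chunk16)
  |>.append (factsOK_chunk chunk17)
  |>.append (factsOK_chunk chunk18)
  |>.append (factsOK_chunk chunk19)
  |>.append (factsOK_chunk chunk20)
  |>.append (factsOK_chunk chunk21)
  |>.append (factsOK_chunk chunk22)
  |>.append (factsOK_chunk chunk23)
  |>.append (factsOK_chunk chunk24)
  |>.append (factsOK_chunk chunk25)
  |>.append (factsOK_chunk chunk26)
  |>.append (factsOK_chunk chunk27)
  |>.append (factsOK_chunk chunk28)
  |>.append (factsOK_chunk chunk29)
  |>.append (factsOK_chunk chunk30)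
  |>.append (factsOK_chunk chunk31)
  |>.append (factsOK_chunk chunk32)
  |>.append (factsOK_chunk chunk33)
  |>.append (factsOK_chunk chunk34)
  |>.append (factsOK_chunk chunk35)
  |>.append (factsOK_chunk chunk36)
  |>.append (factsOK_chunk chunk37)
  |>.append (factsOK_chunk chunk38)
  |>.append (factsOK_chunk chunk39)
  |>.append (factsOK_chunk chunk40)
  |>.append (factsOK_chunk chunk41)
  |>.append (factsOK_chunk chunk42)
  |>.append (factsOK_chunk chunk43)
  |>.append (factsOK_chunk chunk44)
  |>.append (factsOK_chunk chunk45)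
  |>.append (factsOK_chunk chunk46)
  |>.append (factsOK_chunk chunk47)
  |>.append (factsOK_chunk chunk48)
  |>.append (factsOK_chunk chunk49)
  |>.append (factsOK_chunk chunk50)
  |>.append (factsOK_chunk chunk51)
  |>.append (factsOK_chunk chunk52)
  |>.append (factsOK_chunk chunk53)
  |>.append (factsOK_chunk chunk54)
  |>.append (factsOK_chunk chunk55)
  |>.append (factsOK_chunk chunk56)
  |>.append (factsOK_chunk chunk57)
  |>.append (factsOK_chunk chunk58)
  |>.append (factsOK_chunk chunk59)
  |>.append (factsOK_chunk chunk60)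
  |>.append (factsOK_chunk chunk61)

set_option maxRecDepth 100000 in
theorem fin_ok : finOK cfg 30613 11317 66 0xcdc179449f73dace668d9141576b6dc8bd51e892eee88a2c9b685a7cab3fd035e740a1f4816d7abb59a7be3aa79c9d0cef288a3d9b735a84c96a6af89f7db09aef2680c858f1cfdbb3c5ef1c63d59249c9e9e900ed8db3b3e468b0fd92167a52e8ffcfd5b3b6a0a463a466907a8a5957be38ae6a9d0aef229df89b715a4ee2a9 2 false = true := by decide +kernel

theorem kill {G : Type*} [Group G] {g : ℕ → G} {m : G} {H : Subgroup G} (hD : Hyp cfg g m H) : m ^ 2 = 1 :=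
  cert_sound hD (by decide +kernel) facts_ok fin_ok

end Cfsg.Agent.H96.Fi24Mult.Ztwo
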