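import Cfsg.Agent.H96.Fi24Mult.Derive
import Cfsg.Agent.H96.Fi24Mult.Letters
import Cfsg.Agent.H96.Fi24Mult.SubOK
import Cfsg.Agent.H96.Fi24Mult.ZtwoOK
import Cfsg.Agent.H96.Fi24Mult.ZthreeOK

/-!
A central kernel is trivial.
-/

set_option autoImplicit false

namespace Cfsg.Agent.H96.Fi24Mult

open Cfsg.Agent.H45 (evalW evalW_nil evalW_cons evalW_append eOf ixOf)

/-- order in which commutation is propagated -/
def stepsC : List (ℕ × ℕ × ℕ) := 
[
  (3, 1, 0), (4, 1, 0), (4, 2, 1), (5, 1, 0), (5, 2, 1), (5, 3, 2), (6, 1, 0),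
  (6, 2, 1), (6, 3, 2), (6, 4, 3), (7, 1, 0), (7, 2, 1), (7, 3, 2), (7, 4, 3),
  (7, 5, 4), (7, 10, 5), (7, 11, 10), (8, 1, 0), (8, 2, 1), (8, 3, 2), (8, 4, 3),
  (8, 5, 4), (8, 6, 5), (8, 10, 5), (8, 11, 10), (9, 1, 0), (9, 2, 1), (9, 3, 2),
  (9, 4, 3), (9, 5, 4), (9, 6, 5), (9, 7, 6), (9, 10, 5), (9, 11, 10), (10, 1, 0),
  (10, 2, 1), (10, 3, 2), (10, 4, 3), (10, 6, 7), (11, 1, 0), (11, 2, 1), (11, 3, 2),
  (11, 4, 3), (11, 5, 4), (11, 6, 5)]

theorem stepsC_ok : stepsOK (fun x _ z => [(x, z)])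
    (fun x y z => !adj x y && !adj x z && adj y z)
    ((List.range 10).map fun l => (0, l + 2)) stepsC = true := by decide +kernel

namespace Ext

variable {E : Type} [Group E] (D : Ext E)

/-- a lift of the conjugate of a lifted letter -/
noncomputable def child (a : E) (y : ℕ) : E :=
  a * Function.surjInv D.surj (qe y) * a * (a * Function.surjInv D.surj (qe y))⁻¹

theorem child_π {a : E} {x y : ℕ} (ha : D.π a = qe x) (hxy : (x, y) ∈ braidP) :
    D.π (D.child a y) = qe y := by
  rw [child, map_mul, map_mul, map_mul, map_inv, map_mul, Function.surjInv_eq D.surj, ha,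
    qe_braid hxy]
  group

theorem child_sq {a : E} {y : ℕ} (ha : a * a = 1) : D.child a y * D.child a y = 1 := by
  set u := a * Function.surjInv D.surj (qe y) with hu
  have : D.child a y = MulAut.conj u a := by rw [child, ← hu, MulAut.conj_apply]
  rw [this, ← map_mul, ha, map_one]

theorem child_braid (hc : D.π.ker ≤ Subgroup.center E) {a : E} {x y : ℕ} (ha : D.π a = qe x)
    (hxy : (x, y) ∈ braidP) :
    a * D.child a y * a = D.child a y * a * D.child a y := by
  set u := a * Function.surjInv D.surj (qe y) with hu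
  set b := D.child a y with hb
  have hz : u⁻¹ * (a * b) ∈ Subgroup.center E := hc (by
    rw [MonoidHom.mem_ker, map_mul, map_inv, hu, map_mul, map_mul, hb, D.child_π ha hxy,
      Function.surjInv_eq D.surj, inv_mul_cancel])
  have hcm := Subgroup.mem_center_iff.1 hz a
  have h : a * b * a = b * (a * b) := by
    have e : b = u * a * u⁻¹ := by rw [hb, child, ← hu]
    conv_rhs => rw [show a * b = u * (u⁻¹ * (a * b)) by group, e]
    calc a * b * a = u * ((u⁻¹ * (a * b)) * a) := by group
      _ = u * (a * (u⁻¹ * (a * b))) := by rw [← hcm]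
      _ = u * a * u⁻¹ * (u * (u⁻¹ * (a * b))) := by group
  rw [h, mul_assoc]

/-- the lifted letters in the central case -/
noncomputable def gC (l : ℕ) : E :=
  let g1 := D.child D.T 1
  let g2 := D.child g1 2
  let g3 := D.child g2 3
  let g4 := D.child g3 4
  let g5 := D.child g4 5
  let g6 := D.child g5 6
  let g7 := D.child g6 7
  let g8 := D.child g7 8
  let g9 := D.child g8 9
  let g10 := D.child g5 10
  let g11 := D.child g10 11
  [D.T, g1, g2, g3, g4, g5, g6, g7, g8, g9, g10, g11].getD l D.T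

theorem gC_child {x y : ℕ} (h : (x, y) ∈ braidP) : D.gC y = D.child (D.gC x) y := by
  simp only [braidP, List.mem_cons, List.not_mem_nil, or_false, Prod.mk.injEq] at h
  rcases h with ⟨rfl, rfl⟩ | ⟨rfl, rfl⟩ | ⟨rfl, rfl⟩ | ⟨rfl, rfl⟩ | ⟨rfl, rfl⟩ | ⟨rfl, rfl⟩ |
    ⟨rfl, rfl⟩ | ⟨rfl, rfl⟩ | ⟨rfl, rfl⟩ | ⟨rfl, rfl⟩ | ⟨rfl, rfl⟩ <;> rfl

theorem gC_zero : D.gC 0 = D.T := rfl

theorem gC_facts : ∀ l, D.gC l * D.gC l = 1 ∧ (l < 12 → D.π (D.gC l) = qe l) := by
  have step : ∀ x y, (x, y) ∈ braidP →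
      D.gC x * D.gC x = 1 ∧ D.π (D.gC x) = qe x → D.gC y * D.gC y = 1 ∧ D.π (D.gC y) = qe y := by
    intro x y h hx
    rw [D.gC_child h]
    exact ⟨D.child_sq hx.1, D.child_π hx.2 h⟩
  have h0 : D.gC 0 * D.gC 0 = 1 ∧ D.π (D.gC 0) = qe 0 := ⟨D.T_sq, D.π_T⟩
  have h1 := step 0 1 (by decide) h0
  have h2 := step 1 2 (by decide) h1
  have h3 := step 2 3 (by decide) h2
  have h4 := step 3 4 (by decide) h3
  have h5 := step 4 5 (by decide) h4
  have h6 := step 5 6 (by decide) h5
  have h7 := step 6 7 (by decide) h6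
  have h8 := step 7 8 (by decide) h7
  have h9 := step 8 9 (by decide) h8
  have h10 := step 5 10 (by decide) h5
  have h11 := step 10 11 (by decide) h10
  intro l
  by_cases hl : l < 12
  · interval_cases l <;> first | exact ⟨h0.1, fun _ => h0.2⟩ | exact ⟨h1.1, fun _ => h1.2⟩ |
      exact ⟨h2.1, fun _ => h2.2⟩ | exact ⟨h3.1, fun _ => h3.2⟩ | exact ⟨h4.1, fun _ => h4.2⟩ |
      exact ⟨h5.1, fun _ => h5.2⟩ | exact ⟨h6.1, fun _ => h6.2⟩ | exact ⟨h7.1, fun _ => h7.2⟩ |
      exact ⟨h8.1, fun _ => h8.2⟩ | exact ⟨h9.1, fun _ => h9.2⟩ | exact ⟨h10.1, fun _ => h10.2⟩ |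
      exact ⟨h11.1, fun _ => h11.2⟩
  · refine ⟨?_, fun h => absurd h hl⟩
    rw [gC, List.getD_eq_default _ _ (by simpa using Nat.le_of_not_lt hl)]
    exact D.T_sq

/-- the commutation defect of two lifted letters -/
noncomputable def cv (x y : ℕ) : E := D.gC x * D.gC y * (D.gC x * D.gC y)

theorem cv_ker {x y : ℕ} (hx : x < 12) (hy : y < 12) (h : adj x y = false) :
    D.π (D.cv x y) = 1 := by
  rw [cv, map_mul, map_mul, (D.gC_facts x).2 hx, (D.gC_facts y).2 hy]
  rw [show qe x * qe y * (qe x * qe y) = qe x * qe y * (qe y * qe x) by rw [qe_comm hx hy h]]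
  rw [mul_assoc, ← mul_assoc (qe y), qe_sq, one_mul, qe_sq]

theorem cv_conj (x y : ℕ) : D.gC x * D.gC y * D.gC x = D.cv x y * D.gC y := by
  rw [cv, mul_assoc _ _ (D.gC y), mul_assoc (D.gC x) (D.gC y) (D.gC y), (D.gC_facts y).1, mul_one]

variable (hc : D.π.ker ≤ Subgroup.center E)
include hc

theorem cen {z : E} (hz : D.π z = 1) (y : E) : z * y = y * z :=
  (Subgroup.mem_center_iff.1 (hc hz) y).symm

theorem cv_transfer {x y z : ℕ} (hx : x < 12) (hy : y < 12) (hz : z < 12)
    (hxy : adj x y = false) (hxz : adj x z = false) (hyz : (y, z) ∈ braidP) :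
    D.cv x y = D.cv x z := by
  have hb : D.gC y * D.gC z * D.gC y = D.gC z * D.gC y * D.gC z := by
    rw [D.gC_child hyz]; exact D.child_braid hc ((D.gC_facts y).2 hy) hyz
  have cy := D.cen hc (D.cv_ker hx hy hxy)
  have cz := D.cen hc (D.cv_ker hx hz hxz)
  set a := D.gC x
  have hconj : ∀ u v w : E, a * (u * v * w) * a = a * u * a * (a * v * a) * (a * w * a) := by
    intro u v w
    have haa : a * a = 1 := (D.gC_facts x).1
    simp only [mul_assoc]
    rw [← mul_assoc a a, haa, one_mul, ← mul_assoc a a, haa, one_mul]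
  have e : D.cv x y * D.cv x y * D.cv x z * (D.gC y * D.gC z * D.gC y) =
      D.cv x z * D.cv x z * D.cv x y * (D.gC z * D.gC y * D.gC z) := by
    have h1 := hconj (D.gC y) (D.gC z) (D.gC y)
    have h2 := hconj (D.gC z) (D.gC y) (D.gC z)
    have cxy : a * D.gC y * a = D.cv x y * D.gC y := D.cv_conj x y
    have cxz : a * D.gC z * a = D.cv x z * D.gC z := D.cv_conj x z
    rw [cxy, cxz] at h1 h2
    have n1 : D.cv x y * D.gC y * (D.cv x z * D.gC z) * (D.cv x y * D.gC y) =
        D.cv x y * D.cv x y * D.cv x z * (D.gC y * D.gC z * D.gC y) := by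
      simp only [mul_assoc]
      rw [← mul_assoc (D.gC y) (D.cv x z), ← cz (D.gC y), mul_assoc, ← mul_assoc (D.gC z) (D.cv x y),
        ← cy (D.gC z), mul_assoc, ← mul_assoc (D.gC y) (D.cv x y), ← cy (D.gC y), mul_assoc,
        ← mul_assoc (D.cv x z) (D.cv x y), cz (D.cv x y), mul_assoc]
    have n2 : D.cv x z * D.gC z * (D.cv x y * D.gC y) * (D.cv x z * D.gC z) =
        D.cv x z * D.cv x z * D.cv x y * (D.gC z * D.gC y * D.gC z) := by
      simp only [mul_assoc]
      rw [← mul_assoc (D.gC z) (D.cv x y), ← cy (D.gC z), mul_assoc, ← mul_assoc (D.gC y) (D.cv x z),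
        ← cz (D.gC y), mul_assoc, ← mul_assoc (D.gC z) (D.cv x z), ← cz (D.gC z), mul_assoc,
        ← mul_assoc (D.cv x y) (D.cv x z), cy (D.cv x z), mul_assoc]
    rw [← n1, ← n2, ← h1, ← h2, hb]
  rw [hb] at e
  have e2 := mul_right_cancel e
  have e3 : D.cv x y * D.cv x z * D.cv x y = D.cv x y * D.cv x z * D.cv x z := by
    calc D.cv x y * D.cv x z * D.cv x y = D.cv x y * D.cv x y * D.cv x z := by
          rw [mul_assoc, cz (D.cv x y), ← mul_assoc]
      _ = D.cv x z * D.cv x z * D.cv x y := e2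
      _ = D.cv x y * D.cv x z * D.cv x z := by
          rw [mul_assoc, cz (D.cv x y), ← mul_assoc, cz (D.cv x y)]
  exact mul_left_cancel e3

theorem cv_sq {x y : ℕ} (hx : x < 12) (hy : y < 12) (hxy : adj x y = false) :
    D.cv x y * D.cv x y = 1 := by
  have e1 : D.gC x * D.cv x y * D.gC x = (D.cv x y)⁻¹ := by
    simp only [cv, mul_inv_rev, inv_eq_of_mul_eq_one_right (D.gC_facts x).1,
      inv_eq_of_mul_eq_one_right (D.gC_facts y).1, mul_assoc]
    rw [← mul_assoc (D.gC x) (D.gC x), (D.gC_facts x).1, one_mul]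
  have e2 : D.gC x * D.cv x y * D.gC x = D.cv x y := by
    rw [← D.cen hc (D.cv_ker hx hy hxy), mul_assoc, (D.gC_facts x).1, mul_one]
  exact mul_eq_one_iff_eq_inv.mpr (e2.symm.trans e1)

theorem cv_symm {x y : ℕ} (hx : x < 12) (hy : y < 12) (hxy : adj x y = false) :
    D.cv y x = D.cv x y := by
  rw [← inv_eq_of_mul_eq_one_right (D.cv_sq hc hx hy hxy)]
  simp only [cv, mul_inv_rev, inv_eq_of_mul_eq_one_right (D.gC_facts x).1,
    inv_eq_of_mul_eq_one_right (D.gC_facts y).1]

theorem cv_base : ∀ l < 10, D.cv 0 (l + 2) = 1 := by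
  have hadj : ∀ l < 10, adj 0 (l + 2) = false := by decide +kernel
  have tr : ∀ y z, (y, z) ∈ braidP → 2 ≤ y → 2 ≤ z → y < 12 → z < 12 → D.cv 0 y = D.cv 0 z := by
    intro y z h h1 h2 h3 h4
    have a := hadj (y - 2) (by omega)
    have b := hadj (z - 2) (by omega)
    rw [Nat.sub_add_cancel h1] at a
    rw [Nat.sub_add_cancel h2] at b
    exact D.cv_transfer hc (by norm_num) h3 h4 a b h
  set v := D.cv 0 2
  have e3 := tr 2 3 (by decide) le_rfl (by norm_num) (by norm_num) (by norm_num)
  have e4 := e3.trans (tr 3 4 (by decide) (by norm_num) (by norm_num) (by norm_num) (by norm_num))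
  have e5 := e4.trans (tr 4 5 (by decide) (by norm_num) (by norm_num) (by norm_num) (by norm_num))
  have e6 := e5.trans (tr 5 6 (by decide) (by norm_num) (by norm_num) (by norm_num) (by norm_num))
  have e7 := e6.trans (tr 6 7 (by decide) (by norm_num) (by norm_num) (by norm_num) (by norm_num))
  have e8 := e7.trans (tr 7 8 (by decide) (by norm_num) (by norm_num) (by norm_num) (by norm_num))
  have e9 := e8.trans (tr 8 9 (by decide) (by norm_num) (by norm_num) (by norm_num) (by norm_num))
  have e10 := e5.trans (tr 5 10 (by decide) (by norm_num) (by norm_num) (by norm_num) (by norm_num))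
  have e11 := e10.trans
    (tr 10 11 (by decide) (by norm_num) (by norm_num) (by norm_num) (by norm_num))
  have hall : ∀ l < 10, D.cv 0 (l + 2) = v := by
    intro l hl
    interval_cases l
    exacts [rfl, e3.symm, e4.symm, e5.symm, e6.symm, e7.symm, e8.symm, e9.symm, e10.symm, e11.symm]
  have hvk : D.π v = 1 := D.cv_ker (by norm_num) (by norm_num) (by decide)
  have hT : ∀ w : List ℕ, (∀ l ∈ w, 2 ≤ l ∧ l < 12) →
      D.T * evalW D.gC w * D.T = v ^ w.length * evalW D.gC w := by
    intro w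
    induction w with
    | nil => intro _; simp [evalW, D.T_sq]
    | cons a w ih =>
      intro hw
      obtain ⟨ha2, ha⟩ := hw a List.mem_cons_self
      have h1 : D.T * D.gC a * D.T = v * D.gC a := by
        have h := D.cv_conj 0 a
        rw [show D.cv 0 a = v by
          have := hall (a - 2) (by omega); rwa [Nat.sub_add_cancel ha2] at this] at h
        exact h
      rw [evalW_cons, List.length_cons, pow_succ',
        show D.T * (D.gC a * evalW D.gC w) * D.T = D.T * D.gC a * D.T * (D.T * evalW D.gC w * D.T) by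
          simp only [mul_assoc]; rw [← mul_assoc D.T D.T, D.T_sq, one_mul],
        h1, ih fun l hl => hw l (List.mem_cons_of_mem _ hl)]
      have cp : v ^ w.length * D.gC a = D.gC a * v ^ w.length :=
        D.cen hc (by rw [map_pow, hvk, one_pow]) _
      simp only [mul_assoc]
      rw [← mul_assoc (D.gC a) (v ^ w.length), ← cp, mul_assoc]
  have hW := hT wb9 (by decide +kernel)
  have hπW : ∀ w : List ℕ, (∀ l ∈ w, l < 12) → D.π (evalW D.gC w) = evalW qe w := by
    intro w
    induction w with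
    | nil => intro _; simp [evalW]
    | cons a w ih =>
      intro hw
      rw [evalW_cons, evalW_cons, map_mul, (D.gC_facts a).2 (hw a List.mem_cons_self),
        ih fun l hl => hw l (List.mem_cons_of_mem _ hl)]
  have hz : D.π (D.T * evalW D.gC wb9) = 1 := by
    rw [map_mul, D.π_T, hπW wb9 (by decide +kernel),
      show evalW qe wb9 = qe 0 from Cfsg.Agent.H25.Fi24.ninth_power, qe_sq]
  have hfix : D.T * evalW D.gC wb9 * D.T = evalW D.gC wb9 := by
    rw [D.cen hc hz, ← mul_assoc, D.T_sq, one_mul]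
  rw [hfix, show wb9.length = 2 * 31 + 1 by decide +kernel, pow_succ, pow_mul, pow_two,
    D.cv_sq hc (by norm_num) (by norm_num) (by decide), one_pow, one_mul] at hW
  intro l hl
  rw [hall l hl]
  exact mul_eq_right.mp hW.symm

theorem cv_one : ∀ x < 12, ∀ y < 12, x ≠ y → adj x y = false → D.cv x y = 1 := by
  intro x hx y hy hne hxy
  have key := derive
    (P := fun x y => x < 12 ∧ y < 12 ∧ adj x y = false ∧ D.cv x y = 1)
    (fun x y h => ⟨h.2.1, h.1, by
      have := h.2.2.1; simp only [adj, Bool.or_eq_false_iff] at this ⊢; exact this.symm,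
      by rw [D.cv_symm hc h.1 h.2.1 h.2.2.1]; exact h.2.2.2⟩)
    (need := fun x _ z => [(x, z)]) (side := fun x y z => !adj x y && !adj x z && adj y z)
    (fun x y z hx hy hz hs hp => by
      simp only [Bool.and_eq_true, Bool.not_eq_true'] at hs
      obtain ⟨⟨h1, h2⟩, h3⟩ := hs
      refine ⟨hx, hy, h1, ?_⟩
      have h4 := (hp (x, z) List.mem_cons_self).2.2.2
      simp only [adj, Bool.or_eq_true, decide_eq_true_eq] at h3
      rcases h3 with h3 | h3
      · rw [D.cv_transfer hc hx hy hz h1 h2 h3]; exact h4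
      · rw [← D.cv_transfer hc hx hz hy h2 h1 h3]; exact h4)
    (fun p hp => by
      simp only [List.mem_map, List.mem_range] at hp
      obtain ⟨l, hl, rfl⟩ := hp
      refine ⟨by norm_num, by omega, ?_, D.cv_base hc l hl⟩
      revert l; decide +kernel)
    stepsC_ok x hx y hy hne hxy
  exact key.2.2.2

/-- lifted letters in the central case -/
noncomputable def lettersC : Letters D where
  g := D.gC
  g0 := rfl
  π_g l hl := (D.gC_facts l).2 hl
  sq l := (D.gC_facts l).1
  high l hl := by rw [gC, List.getD_eq_default _ _ (by simpa using hl)]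
  comm x hx y hy hxy := by
    rcases eq_or_ne x y with rfl | hne
    · exact Commute.refl _
    · have h : D.gC x * D.gC y * D.gC x = D.gC y := by
        rw [D.cv_conj, D.cv_one hc x hx y hy hne hxy, one_mul]
      calc D.gC x * D.gC y = D.gC x * D.gC y * D.gC x * D.gC x := by
            rw [mul_assoc _ (D.gC x), (D.gC_facts x).1, mul_one]
        _ = D.gC y * D.gC x := by rw [h]
  braid x y h := by
    have hx : x < 12 := by
      revert h; simp only [braidP, List.mem_cons, List.not_mem_nil, or_false, Prod.mk.injEq]; omega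
    rw [D.gC_child h]
    exact D.child_braid hc ((D.gC_facts x).2 hx) h

theorem central_trivial [Finite E] {z : E} (hz : D.π z = 1) : z = 1 := by
  set L := D.lettersC hc
  obtain ⟨ψ, hψ⟩ := exists_lift23 D hc
  let k : Cfsg.Spor.Fi23.Gen → E := fun x => (ψ (PresentedGroup.of x))⁻¹ * L.f3 x
  have hk : ∀ x, D.π (k x) = 1 := fun x => by
    rw [map_mul, map_inv, hψ, L.π_f3, inv_mul_cancel]
  have hf : ∀ x, L.f3 x = ψ (PresentedGroup.of x) * k x := fun x => (mul_inv_cancel_left _ _).symm
  have hksq : ∀ x, k x * k x = 1 := by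
    intro x
    have h := L.f3_sq x
    rw [hf, mul_assoc, ← mul_assoc (k x), D.cen hc (hk x), mul_assoc, ← mul_assoc,
      ← map_mul, Cfsg.Agent.H25.Fi23.pres_ok.sq, map_one, one_mul] at h
    exact h
  have hedge : ∀ x y, Cfsg.Spor.coxLabel Cfsg.Agent.H25.Fi23.pres.edges x y = 3 → k x = k y := by
    intro x y hxy
    have h := L.f3_cox x (Cfsg.Agent.H25.Fi23.pres_ok.nodes x) y (Cfsg.Agent.H25.Fi23.pres_ok.nodes y)
    have h2 := Cfsg.Agent.H25.Fi23.pres_ok.cox x (Cfsg.Agent.H25.Fi23.pres_ok.nodes x) y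
      (Cfsg.Agent.H25.Fi23.pres_ok.nodes y)
    rw [hxy] at h h2
    have e : L.f3 x * L.f3 y = ψ (PresentedGroup.of x * PresentedGroup.of y) * (k x * k y) := by
      rw [hf, hf, map_mul]
      simp only [mul_assoc]
      rw [← mul_assoc (k x), D.cen hc (hk x), mul_assoc]
    rw [e, Commute.mul_pow ((D.cen hc (by rw [map_mul, hk, hk, mul_one]) _).symm), ← map_pow, h2,
      map_one, one_mul] at h
    have hsq2 : (k x * k y) ^ 2 = 1 := by
      rw [Commute.mul_pow (D.cen hc (hk x) _), pow_two, pow_two, hksq, hksq, one_mul]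
    rw [pow_succ, hsq2, one_mul] at h
    rw [← inv_eq_of_mul_eq_one_right h]
    exact (inv_eq_of_mul_eq_one_right (hksq x)).symm
  set k0 := k .a with hk0
  have hall : ∀ x, k x = k0 := by
    have ab := hedge .a .b (by decide)
    have bc := hedge .b .c (by decide)
    have cd := hedge .c .d (by decide)
    have de := hedge .d .e (by decide)
    have dh := hedge .d .h (by decide)
    have ef := hedge .e .f (by decide)
    have fg := hedge .f .g (by decide)
    have gj := hedge .g .j (by decide)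
    have hi := hedge .h .i (by decide)
    intro x
    cases x <;> simp only [hk0, ab, bc, cd, de, ← dh, ef, fg, gj, ← hi]
  have hpow : ∀ w : List ℕ, (∀ l ∈ w, l < 10) →
      evalW (eOf Cfsg.Agent.H25.Fi23.pres.gl L.f3) w =
        ψ (evalW Cfsg.Agent.H25.Fi23.pres.e w) * k0 ^ w.length := by
    intro w
    induction w with
    | nil => intro _; simp [evalW]
    | cons a w ih =>
      intro hw
      rw [evalW_cons, evalW_cons, ih fun l hl => hw l (List.mem_cons_of_mem _ hl), map_mul,
        List.length_cons, pow_succ']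
      have ha : a < Cfsg.Agent.H25.Fi23.pres.gl.length := hw a List.mem_cons_self
      have e : eOf Cfsg.Agent.H25.Fi23.pres.gl L.f3 a =
          ψ (Cfsg.Agent.H25.Fi23.pres.e a) * k0 := by
        simp only [eOf, Cfsg.Agent.H45.Pres.e, List.getElem?_eq_getElem ha, Option.elim_some]
        rw [hf, hall]
      rw [e]
      simp only [mul_assoc]
      rw [← mul_assoc k0, D.cen hc (hk _) (ψ _), mul_assoc]
  have hk0sq : k0 * k0 = 1 := hksq _
  have hsp : evalW L.g wsp = 1 := by
    rw [← L.f3_spider, hpow _ (by decide +kernel),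
      Cfsg.Agent.H25.Fi23.pres_ok.rel _ (List.mem_append_right _ (by rw [Letters.fi23_rx]; simp)),
      map_one, one_mul,
      show (List.replicate 10 [3, 2, 1, 3, 4, 5, 3, 8, 9]).flatten.length = 2 * 45 by decide +kernel,
      pow_mul, pow_two, hk0sq, one_pow]
  have hW : evalW L.g wb9 * D.T = k0 := by
    rw [← L.f3_ninth.1, hpow _ (by decide +kernel),
      Cfsg.Agent.H25.Fi23.pres_ok.rel _ (List.mem_append_right _ (by rw [Letters.fi23_rx]; simp)),
      map_one, one_mul,
      show (List.replicate 9 [0, 1, 2, 3, 4, 5, 8]).flatten.length = 2 * 31 + 1 by decide +kernel,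
      pow_succ, pow_mul, pow_two, hk0sq, one_pow, one_mul]
  have hm1 : evalW L.g w1 = k0 := by
    rw [L.w1_eq, ← inv_inj, mul_inv_rev, inv_inv, D.T_inv, hW, inv_eq_of_mul_eq_one_right hk0sq]
  have hlift : ∀ x, Commute (ψ x) D.T := by
    have h : (MulAut.conj D.T).toMonoidHom.comp ψ = ψ := PresentedGroup.ext fun x => by
      have hcx : Commute D.T (L.f3 x) :=
        (L.T_comm (Nat.le_add_left 2 _) (by cases x <;> decide)).mul_right (Commute.refl _)
      have hψx : ψ (PresentedGroup.of x) = L.f3 x * (k x)⁻¹ := by rw [hf, mul_inv_cancel_right]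
      rw [MonoidHom.comp_apply, MulEquiv.coe_toMonoidHom, MulAut.conj_apply, hψx,
        (hcx.mul_right (Commute.inv_right (D.cen hc (hk x) D.T).symm)).eq, mul_inv_cancel_right]
    intro x
    have h' := DFunLike.congr_fun h x
    rw [MonoidHom.comp_apply, MulEquiv.coe_toMonoidHom, MulAut.conj_apply, mul_inv_eq_iff_eq_mul] at h'
    exact h'.symm
  let Li : Lift3 D := ⟨ψ, hψ, hlift⟩
  have hconj : ∀ {C : Cfg} {m : E}, C.sg = false → D.π m = 1 → ∀ l, l < 16 → ∀ k : ℤ,
      L.g l * m ^ k = m ^ (cond C.sg (-k) k) * L.g l := by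
    intro C m hs hm l _ k
    rw [hs, cond_false]
    exact (D.cen hc (by rw [map_zpow, hm, one_zpow]) _).symm
  have hk01 : k0 = 1 := by
    have hkill := Sub.kill (Li.hyp L.sq (hconj rfl (hk _)) (hk _)
      (L.rel_of hsp (a1 := some 1) (az := none) (by decide +kernel)
        (fun a ha => by obtain rfl : a = 1 := (Option.some.inj ha).symm; simpa using hm1)
        (fun a ha => by simp at ha))
      (L.seed_of Li (sv := 1) (by decide +kernel) (fun x => by rw [hf, hall]; simp [hk0, Li])
        (D.cen hc (hk _) _)))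
    rw [show (15 : ℕ) = 2 * 7 + 1 from rfl, pow_succ, pow_mul, pow_two, hk0sq, one_pow, one_mul]
      at hkill
    exact hkill
  rw [hk01] at hm1
  set mz := evalW L.g wz with hmzdef
  have hmz : D.π mz = 1 := by
    rw [hmzdef, L.π_eval (by decide +kernel)]
    exact qe_rel (List.mem_append_right _ (by rw [rx_eq]; simp))
  have hyp : ∀ {C : Cfg}, C.sg = false → relsOK C (some 0) (some 1) = true → seedsOK C 0 = true →
      Hyp C L.g mz Li.hH := fun {C} hs hr hsd =>
    Li.hyp L.sq (hconj hs hmz) hmz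
      (L.rel_of hsp hr
        (fun a ha => by obtain rfl : a = 0 := (Option.some.inj ha).symm; simpa using hm1)
        (fun a ha => by obtain rfl : a = 1 := (Option.some.inj ha).symm; simp [hmzdef]))
      (L.seed_of Li hsd (fun x => by rw [hf, hall, hk01]; simp [Li]) (D.cen hc hmz _))
  have h2 := Ztwo.kill (hyp (C := Ztwo.cfg) rfl (by decide +kernel) (by decide +kernel))
  have h3 := Zthree.kill (hyp (C := Zthree.cfg) rfl (by decide +kernel) (by decide +kernel))
  have hz1 : mz = 1 := by rwa [pow_succ, h2, one_mul] at h3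
  obtain ⟨s, hs⟩ := L.exists_section hm1 hz1
  exact D.section_trivial s hs hz

end Ext

end Cfsg.Agent.H96.Fi24Mult
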