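import Cfsg.Agent.H25.Fi24.Action

/-!
Labelled scan certificates: in a group with twelve involutions normalising a cyclic subgroup,
relators valued in that subgroup give congruences on edges of a coset diagram; one closed scan
bounds the order of the generator of the cyclic subgroup.
-/

set_option autoImplicit false

namespace Cfsg.Agent.H96.Fi24Mult

open Cfsg.Agent.H45 (force force_eq evalW evalW_nil evalW_cons evalW_append)
open Cfsg.Agent.H25.Fi24 (Tr andB andB_eq ifB ifB_eq)

/-- fixed data: signed or central, relators with exponents, seeds, facts, parents, reasons -/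
structure Cfg where
  sg : Bool
  R : List (List ℕ × ℕ)
  S : List ℕ
  F : Tr
  P : Tr
  C : Tr

/-- first end of a fact -/
def fP (f : ℕ) : ℕ := Nat.land f 65535

/-- second end of a fact -/
def fQ (f : ℕ) : ℕ := Nat.land (Nat.shiftRight f 16) 65535

/-- letter of a fact -/
def fL (f : ℕ) : ℕ := Nat.land (Nat.shiftRight f 32) 15

/-- exponent of a fact, shifted by 1024 -/
def fV (f : ℕ) : ℕ := Nat.shiftRight f 36

/-- add one exponent to a difference of sums -/
noncomputable def upd (sg : Bool) (a b X Y : ℕ) (k : ℕ → ℕ → Bool) : Bool :=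
  ifB sg (force (Nat.add a Y) fun X' => force (Nat.add b X) fun Y' => k X' Y')
    (force (Nat.add a X) fun X' => force (Nat.add b Y) fun Y' => k X' Y')

/-- one step along a fact with index below `i` -/
noncomputable def stepF (C : Cfg) (i a c p X Y : ℕ) (k : ℕ → ℕ → ℕ → Bool) : Bool :=
  force (Nat.shiftRight c 1) fun j => andB (Nat.blt j i) (force (C.F.get j) fun f =>
    force (fV f) fun v => force (fP f) fun fp => force (fQ f) fun fq =>
      andB (Nat.beq (fL f) a) (ifB (Nat.beq (Nat.land c 1) 0)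
        (andB (Nat.beq fp p) (upd C.sg v 1024 X Y fun X' Y' => k fq X' Y'))
        (andB (Nat.beq fq p) (upd C.sg (ifB C.sg v 1024) (ifB C.sg 1024 v) X Y
          fun X' Y' => k fp X' Y'))))

/-- walk a word along facts, listed 16 bits a step -/
noncomputable def walkF (C : Cfg) (i : ℕ) (u : List ℕ) :
    ℕ → ℕ → ℕ → ℕ → (ℕ → ℕ → ℕ → Bool) → Bool :=
  List.rec (fun _ p X Y k => k p X Y)
    (fun a _ ih st p X Y k => force (Nat.land st 65535) fun c =>
      force (Nat.shiftRight st 16) fun st' =>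
        stepF C i a c p X Y fun q X' Y' => ih st' q X' Y' k) u

theorem walkF_cons (C : Cfg) (i a : ℕ) (u : List ℕ) (st p X Y : ℕ) (k : ℕ → ℕ → ℕ → Bool) :
    walkF C i (a :: u) st p X Y k = force (Nat.land st 65535) fun c =>
      force (Nat.shiftRight st 16) fun st' =>
        stepF C i a c p X Y fun q X' Y' => walkF C i u st' q X' Y' k := rfl

/-- a number is odd -/
def oddB (n : ℕ) : Bool := Nat.beq (Nat.land n 1) 1

/-- check the scan giving fact `i` -/
noncomputable def scanOK (C : Cfg) (i p q l v c : ℕ) : Bool :=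
  force (Nat.land (Nat.shiftRight c 2) 127) fun r =>
    force (Nat.land (Nat.shiftRight c 9) 255) fun pos =>
      force (Nat.shiftRight c 17) fun st =>
        andB (Nat.blt r C.R.length) (andB (Nat.blt pos (C.R.getD r ([], 0)).1.length)
          (andB (Nat.beq ((C.R.getD r ([], 0)).1.getD pos 0) l)
            (walkF C i ((C.R.getD r ([], 0)).1.drop (Nat.succ pos) ++ (C.R.getD r ([], 0)).1.take pos)
              st q 0 0 fun e X Y => andB (Nat.beq e p)
                (force (C.R.getD r ([], 0)).2 fun a =>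
                  force (ifB (C.sg && oddB pos) 0 a) fun W => force (ifB (C.sg && oddB pos) a 0) fun W' =>
                    ifB (C.sg && oddB ((C.R.getD r ([], 0)).1.length - 1))
                      (Nat.beq (v + W + Y) (1024 + X + W'))
                      (Nat.beq (v + X + W') (1024 + W + Y))))))

/-- check fact `i` -/
noncomputable def factOK (C : Cfg) (i : ℕ) : Bool :=
  force (C.F.get i) fun f => force (C.C.get i) fun c =>
    force (fP f) fun p => force (fQ f) fun q => force (fL f) fun l => force (fV f) fun v =>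
      ifB (Nat.beq (Nat.land c 3) 0)
        (andB (Nat.blt p q) (andB (Nat.blt l 12) (andB (Nat.beq v 1024)
          (Nat.beq (C.P.get q) (p * 16 + l + 1)))))
        (ifB (Nat.beq (Nat.land c 3) 1)
          (andB (Nat.beq p 0) (andB (Nat.beq q 0) (C.S.any fun x => Nat.beq x (v * 16 + l))))
          (scanOK C i p q l v c))

/-- the closing scan: relator `r` at `p` with the difference `d` -/
noncomputable def finOK (C : Cfg) (N p r st d : ℕ) (neg : Bool) : Bool :=
  andB (Nat.blt r C.R.length) (walkF C N (C.R.getD r ([], 0)).1 st p 0 0 fun e X Y =>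
    andB (Nat.beq e p) (ifB neg (Nat.beq ((C.R.getD r ([], 0)).2 + Y + d) X)
      (Nat.beq ((C.R.getD r ([], 0)).2 + Y) (X + d))))

variable {G : Type*} [Group G]

/-- representatives along the parents -/
noncomputable def rep (P : Tr) (g : ℕ → G) (j : ℕ) : G :=
  if _h : (P.get j - 1) / 16 < j then
    (if P.get j = 0 then 1 else rep P g ((P.get j - 1) / 16) * g ((P.get j - 1) % 16))
  else 1
termination_by j

theorem rep_zero (P : Tr) (g : ℕ → G) : rep P g 0 = 1 := by
  rw [rep, dif_neg (Nat.not_lt_zero _)]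

theorem rep_child {P : Tr} {g : ℕ → G} {p l q : ℕ} (hpq : p < q) (hl : l < 16)
    (h : P.get q = p * 16 + l + 1) : rep P g q = rep P g p * g l := by
  rw [rep, h, dif_pos (by omega), if_neg (by omega)]
  congr 2 <;> omega

/-- the hypotheses on letters, subgroup and central or inverted element -/
structure Hyp (C : Cfg) (g : ℕ → G) (m : G) (H : Subgroup G) : Prop where
  sq : ∀ l, g l * g l = 1
  conj : ∀ l, l < 16 → ∀ k : ℤ, g l * m ^ k = m ^ (cond C.sg (-k) k) * g l
  rel : ∀ w ∈ C.R, evalW g w.1 = m ^ (w.2 : ℤ)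
  seed : ∀ x ∈ C.S, ∃ h ∈ H, g (x % 16) = h * m ^ ((x / 16 : ℤ) - 1024)
  disj : ∀ k : ℤ, m ^ k ∈ H → m ^ k = 1

/-- the meaning of a fact -/
def Fact (C : Cfg) (g : ℕ → G) (m : G) (H : Subgroup G) (f : ℕ) : Prop :=
  ∃ h ∈ H, rep C.P g (fP f) * g (fL f) = h * rep C.P g (fQ f) * m ^ ((fV f : ℤ) - 1024)

/-- the sign of a word -/
def sgn (C : Cfg) (n : ℕ) : ℤ := cond (C.sg && oddB n) (-1) 1

theorem oddB_eq (n : ℕ) : oddB n = decide (n % 2 = 1) := by
  have h : Nat.land n 1 = n % 2 := Nat.and_one_is_mod n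
  simp only [oddB, h]
  rcases Nat.mod_two_eq_zero_or_one n with h2 | h2 <;> rw [h2] <;> rfl

theorem oddB_succ (n : ℕ) : oddB (n + 1) = !oddB n := by
  rw [oddB_eq, oddB_eq]
  rcases Nat.mod_two_eq_zero_or_one n with h2 | h2 <;> simp [h2, Nat.add_mod]

theorem sgn_succ (C : Cfg) (n : ℕ) (k : ℤ) :
    sgn C (n + 1) * k = cond C.sg (-(sgn C n * k)) (sgn C n * k) := by
  unfold sgn
  rw [oddB_succ]
  cases C.sg <;> cases oddB n <;> simp

theorem sgn_mul_self (C : Cfg) (n : ℕ) : sgn C n * sgn C n = 1 := by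
  unfold sgn; cases (C.sg && oddB n) <;> simp

variable {C : Cfg} {g : ℕ → G} {m : G} {H : Subgroup G}

theorem eval_move (hD : Hyp C g m H) : ∀ (u : List ℕ), (∀ l ∈ u, l < 16) → ∀ k : ℤ,
    evalW g u * m ^ k = m ^ (sgn C u.length * k) * evalW g u := by
  intro u
  induction u with
  | nil => intro _ k; simp [evalW, sgn, oddB_eq]
  | cons a u ih =>
    intro hu k
    rw [evalW_cons, mul_assoc, ih (fun l hl => hu l (List.mem_cons_of_mem _ hl)), ← mul_assoc,
      hD.conj a (hu a List.mem_cons_self), mul_assoc, List.length_cons, sgn_succ]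

theorem rep_move (hD : Hyp C g m H) : ∀ (j : ℕ) (k : ℤ), ∃ e : ℤ, e * e = 1 ∧
    rep C.P g j * m ^ k = m ^ (e * k) * rep C.P g j := by
  intro j
  induction j using Nat.strong_induction_on with
  | _ j ih =>
    intro k
    rw [rep]
    by_cases h : (C.P.get j - 1) / 16 < j
    · rw [dif_pos h]
      by_cases h0 : C.P.get j = 0
      · rw [if_pos h0]; exact ⟨1, by norm_num, by simp⟩
      · rw [if_neg h0, mul_assoc, hD.conj _ (Nat.mod_lt _ (by norm_num)), ← mul_assoc]
        obtain ⟨e, he, h1⟩ := ih _ h (cond C.sg (-k) k)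
        rw [h1, mul_assoc]
        refine ⟨cond C.sg (-e) e, ?_, ?_⟩
        · cases C.sg <;> simpa using he
        · congr 2
          cases C.sg <;> simp
    · rw [dif_neg h]; exact ⟨1, by norm_num, by simp⟩

theorem upd_eq (s : Bool) (a b X Y : ℕ) (k : ℕ → ℕ → Bool) :
    upd s a b X Y k = cond s (k (a + Y) (b + X)) (k (a + X) (b + Y)) := by
  simp only [upd, ifB_eq, force_eq, Nat.add_eq]

theorem stepF_sound (hD : Hyp C g m H) {i a c p X Y : ℕ} (ha : a < 16)
    {k : ℕ → ℕ → ℕ → Bool} (hF : ∀ j < i, Fact C g m H (C.F.get j))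
    (h : stepF C i a c p X Y k = true) :
    ∃ q X' Y', k q X' Y' = true ∧ ∀ x, (∃ h ∈ H, x = h * rep C.P g p * m ^ ((X : ℤ) - Y)) →
      ∃ h ∈ H, x * g a = h * rep C.P g q * m ^ ((X' : ℤ) - Y') := by
  simp only [stepF, force_eq, andB_eq, ifB_eq, upd_eq, Bool.and_eq_true, Nat.blt_eq,
    Nat.beq_eq] at h
  obtain ⟨hj, hl, h⟩ := h
  obtain ⟨h₀, hh₀, hf⟩ := hF _ hj
  rw [hl] at hf
  set f := C.F.get (Nat.shiftRight c 1)
  have move : ∀ x, ∀ h₁ : G, x = h₁ * rep C.P g p * m ^ ((X : ℤ) - Y) →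
      x * g a = h₁ * (rep C.P g p * g a) * m ^ (cond C.sg ((Y : ℤ) - X) ((X : ℤ) - Y)) := by
    intro x h₁ hx
    have e1 := hD.conj a ha (cond C.sg ((Y : ℤ) - X) ((X : ℤ) - Y))
    rw [show cond C.sg (-(cond C.sg ((Y : ℤ) - X) ((X : ℤ) - Y))) (cond C.sg ((Y : ℤ) - X) ((X : ℤ) - Y)) =
      (X : ℤ) - Y by cases C.sg <;> simp] at e1
    rw [hx]
    simp only [mul_assoc]
    rw [← e1]
  cases hd : Nat.beq (Nat.land c 1) 0 with
  | true =>
    simp only [hd, cond_true, Bool.and_eq_true, Nat.beq_eq] at h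
    obtain ⟨hp, hk⟩ := h
    rw [hp] at hf
    refine ⟨fQ f, cond C.sg (fV f + Y) (fV f + X), cond C.sg (1024 + X) (1024 + Y), ?_, ?_⟩
    · cases hs : C.sg <;> simpa [hs] using hk
    · rintro x ⟨h₁, hh₁, hx⟩
      refine ⟨h₁ * h₀, H.mul_mem hh₁ hh₀, ?_⟩
      rw [move x h₁ hx, hf]
      simp only [mul_assoc, ← zpow_add]
      cases C.sg <;> (simp only [cond_true, cond_false, Nat.cast_add]; congr 4; omega)
  | false =>
    simp only [hd, cond_false, Bool.and_eq_true, Nat.beq_eq] at h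
    obtain ⟨hp, hk⟩ := h
    rw [hp] at hf
    have hr : rep C.P g p * g a = h₀⁻¹ * rep C.P g (fP f) *
        m ^ (cond C.sg ((fV f : ℤ) - 1024) (1024 - (fV f : ℤ))) := by
      have e1 := hD.conj a ha ((fV f : ℤ) - 1024)
      have e2 : rep C.P g p = h₀⁻¹ * (rep C.P g (fP f) * g a) * (m ^ ((fV f : ℤ) - 1024))⁻¹ := by
        rw [hf]; group
      rw [e2, ← zpow_neg]
      simp only [mul_assoc]
      congr 2
      have e3 := hD.conj a ha (cond C.sg ((fV f : ℤ) - 1024) (1024 - (fV f : ℤ)))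
      rw [show cond C.sg (-(cond C.sg ((fV f : ℤ) - 1024) (1024 - (fV f : ℤ))))
        (cond C.sg ((fV f : ℤ) - 1024) (1024 - (fV f : ℤ))) = -((fV f : ℤ) - 1024) by
          cases C.sg <;> simp] at e3
      rw [← e3, ← mul_assoc (g a) (g a), hD.sq, one_mul]
    refine ⟨fP f, cond C.sg (fV f + Y) (1024 + X), cond C.sg (1024 + X) (fV f + Y), ?_, ?_⟩
    · cases hs : C.sg <;> simpa [hs] using hk
    · rintro x ⟨h₁, hh₁, hx⟩
      refine ⟨h₁ * h₀⁻¹, H.mul_mem hh₁ (H.inv_mem hh₀), ?_⟩
      rw [move x h₁ hx, hr]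
      simp only [mul_assoc, ← zpow_add]
      cases C.sg <;> (simp only [cond_true, cond_false, Nat.cast_add]; congr 4; omega)

theorem walkF_sound (hD : Hyp C g m H) {i : ℕ} (hF : ∀ j < i, Fact C g m H (C.F.get j)) :
    ∀ (u : List ℕ), (∀ l ∈ u, l < 16) → ∀ {st p X Y : ℕ} {k : ℕ → ℕ → ℕ → Bool},
      walkF C i u st p X Y k = true →
      ∃ q X' Y', k q X' Y' = true ∧ ∀ x, (∃ h ∈ H, x = h * rep C.P g p * m ^ ((X : ℤ) - Y)) →
        ∃ h ∈ H, x * evalW g u = h * rep C.P g q * m ^ ((X' : ℤ) - Y') := by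
  intro u
  induction u with
  | nil =>
    intro _ st p X Y k h
    exact ⟨p, X, Y, h, fun x hx => by simpa [evalW] using hx⟩
  | cons a u ih =>
    intro hu st p X Y k h
    simp only [walkF_cons, force_eq] at h
    obtain ⟨q, X', Y', hk, h1⟩ := stepF_sound hD (hu a List.mem_cons_self) hF h
    obtain ⟨q', X'', Y'', hk', h2⟩ := ih (fun l hl => hu l (List.mem_cons_of_mem _ hl)) hk
    refine ⟨q', X'', Y'', hk', fun x hx => ?_⟩
    obtain ⟨h', hh', e⟩ := h2 _ (h1 x hx)
    exact ⟨h', hh', by rw [evalW_cons, ← mul_assoc, e]⟩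

theorem scanOK_sound (hD : Hyp C g m H) (hR : ∀ w ∈ C.R, ∀ l ∈ w.1, l < 16) {i p q l v c : ℕ}
    (hF : ∀ j < i, Fact C g m H (C.F.get j)) (h : scanOK C i p q l v c = true) :
    ∃ h ∈ H, rep C.P g p * g l = h * rep C.P g q * m ^ ((v : ℤ) - 1024) := by
  simp only [scanOK, force_eq, andB_eq, Bool.and_eq_true, Nat.blt_eq, Nat.beq_eq, ifB_eq] at h
  set r := Nat.land (Nat.shiftRight c 2) 127
  set pos := Nat.land (Nat.shiftRight c 9) 255
  obtain ⟨hr, hpos, hl, hw⟩ := h
  rw [List.getD_eq_getElem _ _ hr] at hpos hl hw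
  set w := C.R[r]
  have hwR : w ∈ C.R := List.getElem_mem hr
  have hlet := hR w hwR
  rw [List.getD_eq_getElem _ _ hpos] at hl
  set pre := w.1.take pos
  set post := w.1.drop (pos + 1)
  have hsplit : w.1 = pre ++ l :: post := by
    rw [← hl, ← List.drop_eq_getElem_cons hpos, List.take_append_drop]
  have hu : ∀ a ∈ post ++ pre, a < 16 := by
    intro a ha
    rcases List.mem_append.mp ha with ha | ha
    · exact hlet a (List.mem_of_mem_drop ha)
    · exact hlet a (List.mem_of_mem_take ha)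
  obtain ⟨e, X, Y, hk, hwalk⟩ := walkF_sound hD hF _ hu hw
  simp only [Bool.and_eq_true, Nat.beq_eq] at hk
  obtain ⟨hep, hval⟩ := hk
  obtain ⟨h', hh', hU⟩ := hwalk (rep C.P g q) ⟨1, H.one_mem, by simp⟩
  rw [hep] at hU
  set U := evalW g (post ++ pre) with hUdef
  have hpre : pre.length = pos := by simp [pre]; omega
  have hlen : (post ++ pre).length = w.1.length - 1 := by simp [post, pre]; omega
  have hrot : g l * U = m ^ (sgn C pos * (w.2 : ℤ)) := by
    have h1 := hD.rel w hwR
    rw [hsplit, evalW_append, evalW_cons] at h1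
    have h2 : evalW g pre * (g l * U) = evalW g pre * m ^ (sgn C pos * (w.2 : ℤ)) := by
      rw [eval_move hD pre (fun a ha => hlet a (List.mem_of_mem_take ha)), hpre,
        ← mul_assoc (sgn C pos) (sgn C pos), sgn_mul_self, one_mul, hUdef, evalW_append, ← h1]
      simp only [mul_assoc]
    exact mul_left_cancel h2
  refine ⟨h'⁻¹, H.inv_mem hh', ?_⟩
  have h3 : rep C.P g p = h'⁻¹ * rep C.P g q * U * m ^ (-((X : ℤ) - Y)) := by
    rw [mul_assoc h'⁻¹, hU]; group
  have h4 : g l = m ^ (sgn C pos * (w.2 : ℤ)) * U⁻¹ := eq_mul_inv_of_mul_eq hrot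
  rw [h3, h4]
  simp only [mul_assoc]
  rw [← mul_assoc (m ^ _) (m ^ _), ← zpow_add]
  congr 2
  rw [← mul_assoc, eval_move hD _ hu, mul_inv_cancel_right]
  congr 1
  rw [hlen]
  unfold sgn
  revert hval
  cases C.sg && oddB pos <;> cases C.sg && oddB (w.1.length - 1) <;>
    simp only [cond_true, cond_false, Nat.beq_eq] <;> intro hval <;> omega

theorem factOK_sound (hD : Hyp C g m H) (hR : ∀ w ∈ C.R, ∀ l ∈ w.1, l < 16) {i : ℕ}
    (hF : ∀ j < i, Fact C g m H (C.F.get j)) (h : factOK C i = true) :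
    Fact C g m H (C.F.get i) := by
  simp only [factOK, force_eq, andB_eq, ifB_eq] at h
  set f := C.F.get i
  unfold Fact
  cases h0 : Nat.beq (Nat.land (C.C.get i) 3) 0 with
  | true =>
    simp only [h0, cond_true, Bool.and_eq_true, Nat.beq_eq, Nat.blt_eq] at h
    obtain ⟨hpq, hl, hv, hP⟩ := h
    refine ⟨1, H.one_mem, ?_⟩
    rw [rep_child hpq (by omega) hP, hv]
    simp
  | false =>
    simp only [h0, cond_false] at h
    cases h1 : Nat.beq (Nat.land (C.C.get i) 3) 1 with
    | true =>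
      simp only [h1, cond_true, Bool.and_eq_true, Nat.beq_eq, List.any_eq_true] at h
      obtain ⟨hp, hq, x, hx, hxe⟩ := h
      obtain ⟨h', hh', e⟩ := hD.seed x hx
      have hl16 : fL f < 16 := Nat.lt_succ_of_le Nat.and_le_right
      have a1 : x % 16 = fL f := by omega
      have a2 : x / 16 = fV f := by omega
      rw [a1] at e
      refine ⟨h', hh', ?_⟩
      rw [hp, hq, rep_zero, one_mul, mul_one, e, ← a2]
      push_cast
      rfl
    | false =>
      simp only [h1, cond_false] at h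
      exact scanOK_sound hD hR hF h

/-- all facts below `N` pass -/
def FactsOK (C : Cfg) (a b : ℕ) : Prop := ∀ i, a ≤ i → i < b → factOK C i = true

theorem FactsOK.append {C : Cfg} {a b c : ℕ} (h1 : FactsOK C a b) (h2 : FactsOK C b c) :
    FactsOK C a c := fun i ha hc => (Nat.lt_or_ge i b).elim (h1 i ha) (fun h => h2 i h hc)

theorem factsOK_chunk {C : Cfg} {k a : ℕ}
    (h : Cfsg.Agent.H25.Fi24.allFrom (factOK C) k a = true) : FactsOK C a (a + k) :=
  Cfsg.Agent.H25.Fi24.allFrom_sound h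

theorem facts_sound (hD : Hyp C g m H) (hR : ∀ w ∈ C.R, ∀ l ∈ w.1, l < 16) {N : ℕ}
    (hok : FactsOK C 0 N) : ∀ i, i < N → Fact C g m H (C.F.get i) := by
  intro i
  induction i using Nat.strong_induction_on with
  | _ i ih =>
    intro hi
    exact factOK_sound hD hR (fun j hj => ih j hj (hj.trans hi)) (hok i (Nat.zero_le _) hi)

/-- all letters of the relators are small -/
def lettersOK (C : Cfg) : Bool := C.R.all fun w => w.1.all fun l => Nat.blt l 12

/-- A checked certificate kills a power of the element. -/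
theorem cert_sound (hD : Hyp C g m H) (hL : lettersOK C = true) {N p r st d : ℕ} {neg : Bool}
    (hok : FactsOK C 0 N) (hfin : finOK C N p r st d neg = true) : m ^ d = 1 := by
  have hR : ∀ w ∈ C.R, ∀ l ∈ w.1, l < 16 := by
    simp only [lettersOK, List.all_eq_true, Nat.blt_eq] at hL
    exact fun w hw l hl => (hL w hw l hl).trans (by norm_num)
  simp only [finOK, andB_eq, ifB_eq, Bool.and_eq_true, Nat.blt_eq] at hfin
  obtain ⟨hr, hw⟩ := hfin
  rw [List.getD_eq_getElem _ _ hr] at hw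
  set w := C.R[r]
  have hwR : w ∈ C.R := List.getElem_mem hr
  obtain ⟨e, X, Y, hk, hwalk⟩ := walkF_sound hD (facts_sound hD hR hok) _ (hR w hwR) hw
  simp only [Bool.and_eq_true, Nat.beq_eq] at hk
  obtain ⟨hep, hval⟩ := hk
  obtain ⟨h', hh', e1⟩ := hwalk (rep C.P g p) ⟨1, H.one_mem, by simp⟩
  rw [hD.rel w hwR, hep] at e1
  obtain ⟨s, hs, hmove⟩ := rep_move hD p ((w.2 : ℤ) - ((X : ℤ) - Y))
  have e2 : rep C.P g p * m ^ ((w.2 : ℤ) - ((X : ℤ) - Y)) = h' * rep C.P g p := by
    rw [zpow_sub, ← mul_assoc, e1, mul_inv_cancel_right]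
  have e3 : m ^ (s * ((w.2 : ℤ) - ((X : ℤ) - Y))) = h' := by
    rw [hmove] at e2; exact mul_right_cancel e2
  have e4 := hD.disj _ (by rw [e3]; exact hh')
  have e5 : m ^ ((w.2 : ℤ) - ((X : ℤ) - Y)) = 1 := by
    have := congrArg (fun y => y ^ s) e4
    simpa [← zpow_mul, mul_comm s, mul_assoc, hs] using this
  rw [← zpow_natCast]
  cases neg with
  | true =>
    simp only [cond_true, Nat.beq_eq] at hval
    rw [show ((d : ℤ)) = -((w.2 : ℤ) - ((X : ℤ) - Y)) by omega, zpow_neg, e5, inv_one]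
  | false =>
    simp only [cond_false, Nat.beq_eq] at hval
    rw [show ((d : ℤ)) = (w.2 : ℤ) - ((X : ℤ) - Y) by omega, e5]

end Cfsg.Agent.H96.Fi24Mult
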