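import Cfsg.Agent.H96.Fi24Mult.Basic

/-!
Propagation of a symmetric relation along a checked list of steps.
-/

set_option autoImplicit false

namespace Cfsg.Agent.H96.Fi24Mult

/-- steps in which every new pair rests on earlier pairs -/
def stepsOK (need : ℕ → ℕ → ℕ → List (ℕ × ℕ)) (side : ℕ → ℕ → ℕ → Bool) :
    List (ℕ × ℕ) → List (ℕ × ℕ × ℕ) → Bool
  | known, [] => (List.range 12).all fun x => (List.range 12).all fun y =>
      decide (x = y) || adj x y || decide ((x, y) ∈ known) || decide ((y, x) ∈ known)
  | known, (x, y, z) :: st =>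
      side x y z && decide (x < 12) && decide (y < 12) && decide (z < 12) &&
        ((need x y z).all fun p => decide (p ∈ known) || decide ((p.2, p.1) ∈ known)) &&
        stepsOK need side ((x, y) :: known) st

theorem derive {P : ℕ → ℕ → Prop} (hsymm : ∀ x y, P x y → P y x)
    {need : ℕ → ℕ → ℕ → List (ℕ × ℕ)} {side : ℕ → ℕ → ℕ → Bool}
    (hstep : ∀ x y z, x < 12 → y < 12 → z < 12 → side x y z = true →
      (∀ p ∈ need x y z, P p.1 p.2) → P x y) :
    ∀ {st : List (ℕ × ℕ × ℕ)} {known : List (ℕ × ℕ)}, (∀ p ∈ known, P p.1 p.2) →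
      stepsOK need side known st = true →
      ∀ x, x < 12 → ∀ y, y < 12 → x ≠ y → adj x y = false → P x y := by
  intro st
  induction st with
  | nil =>
    intro known hk h x hx y hy hne hxy
    simp only [stepsOK, List.all_eq_true, List.mem_range, Bool.or_eq_true, decide_eq_true_eq] at h
    rcases h x hx y hy with ((h' | h') | h') | h'
    · exact absurd h' hne
    · rw [hxy] at h'; exact absurd h' (by decide)
    · exact hk _ h'
    · exact hsymm _ _ (hk _ h')
  | cons s st ih =>
    obtain ⟨a, b, c⟩ := s
    intro known hk h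
    simp only [stepsOK, Bool.and_eq_true, decide_eq_true_eq, List.all_eq_true, Bool.or_eq_true] at h
    obtain ⟨⟨⟨⟨⟨hs, ha⟩, hb⟩, hc⟩, hn⟩, hrest⟩ := h
    refine ih (fun p hp => ?_) hrest
    rcases List.mem_cons.mp hp with rfl | hp
    · refine hstep a b c ha hb hc hs fun p hp => ?_
      rcases hn p hp with h' | h'
      · exact hk _ h'
      · exact hsymm _ _ (hk _ h')
    · exact hk _ hp

end Cfsg.Agent.H96.Fi24Mult
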