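import Mathlib.GroupTheory.Abelianization.Defs
import Mathlib.Data.ZMod.Basic

/-!
Small group theoretical helpers.
-/

set_option autoImplicit false

namespace Cfsg.Agent.H96.Fi24Mult

theorem map_commutator_top {G K : Type*} [Group G] [Group K] (f : G →* K)
    (hf : Function.Surjective f) : (commutator G).map f = commutator K := by
  rw [commutator_def, commutator_def, Subgroup.map_commutator, ← MonoidHom.range_eq_map,
    MonoidHom.range_eq_top.2 hf]

/-- the homomorphism given by an element of exponent `n` -/
noncomputable def zmodHom {G : Type*} [Group G] (n : ℕ) (g : G) (h : g ^ n = 1) :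
    Multiplicative (ZMod n) →* G :=
  AddMonoidHom.toMultiplicativeLeft
    (ZMod.lift n ⟨zmultiplesHom (Additive G) (Additive.ofMul g), by
      simp only [zmultiplesHom_apply, natCast_zsmul]
      exact h⟩)

theorem zmodHom_int {G : Type*} [Group G] (n : ℕ) (g : G) (h : g ^ n = 1) (k : ℤ) :
    zmodHom n g h (Multiplicative.ofAdd (k : ZMod n)) = g ^ k := by
  show Additive.toMul (ZMod.lift n _ ((k : ZMod n))) = g ^ k
  rw [ZMod.lift_coe]
  simp

theorem zmodHom_range {G : Type*} [Group G] (n : ℕ) (g : G) (h : g ^ n = 1) (k : ℤ) :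
    ∃ a, zmodHom n g h a = g ^ k := ⟨_, zmodHom_int n g h k⟩

/-- the homomorphism given by an involution -/
noncomputable def zmodTwoHom {G : Type*} [Group G] (g : G) (h : g * g = 1) :
    Multiplicative (ZMod 2) →* G :=
  zmodHom 2 g (by rw [pow_two, h])

theorem zmodTwoHom_one {G : Type*} [Group G] (g : G) (h : g * g = 1) :
    zmodTwoHom g h (Multiplicative.ofAdd 1) = g := by
  have e := zmodHom_int 2 g (by rw [pow_two, h]) 1
  rw [Int.cast_one, zpow_one] at e
  exact e

theorem zmodTwo_cases (t : Multiplicative (ZMod 2)) : t = 1 ∨ t = Multiplicative.ofAdd 1 := by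
  have h : ∀ a : ZMod 2, a = 0 ∨ a = 1 := by decide
  exact h (Multiplicative.toAdd t)

end Cfsg.Agent.H96.Fi24Mult
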