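import Cfsg.Agent.H25.Fi24.Relators
import Mathlib.Data.ZMod.Basic

/-!
Permutations of a table with ternary labels on the edges.
-/

set_option autoImplicit false

namespace Cfsg.Agent.H96.Fi24Mult

open Cfsg.Agent.H45 (force force_eq evalW evalW_cons evalW_nil evalW_append)
open Cfsg.Agent.H25.Fi24 (Tr Cert andB andB_eq ifB ifB_eq rowC rtgt tgt walkV uget allPairs
  allPairs_eq nth nth_eq nbRows nbRows_eq sg sg_sq sg_apply sg_walk walkV_lt walkV_append)

/-- the labels of a coset: 16 cosets of 24 bits in a leaf -/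
noncomputable def labC (u : Tr) (i : ℕ) : ℕ :=
  force i fun i' => force (Nat.shiftRight i' 4) fun a =>
    Nat.shiftRight (u.get a) (Nat.mul (Nat.land i' 15) 24)

/-- the label of an edge in packed labels -/
def elb (a l : ℕ) : ℕ := Nat.land (Nat.shiftRight a (Nat.mul l 2)) 3

/-- the labels of the neighbours -/
noncomputable def nbLabs (u : Tr) (ri : ℕ) (xs : List ℕ) : (List ℕ → Bool) → Bool :=
  List.rec (fun k => k [])
    (fun x _ ih k => force (rtgt ri x) fun j => force (labC u j) fun a => ih fun l => k (a :: l)) xs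

theorem nbLabs_eq (u : Tr) (ri : ℕ) : ∀ (xs : List ℕ) (k : List ℕ → Bool),
    nbLabs u ri xs k = k (xs.map fun x => labC u (rtgt ri x)) := by
  intro xs
  induction xs with
  | nil => intro k; rfl
  | cons x xs ih =>
    intro k
    rw [show nbLabs u ri (x :: xs) k = force (rtgt ri x) fun j => force (labC u j) fun a =>
      nbLabs u ri xs fun l => k (a :: l) from rfl]
    simp only [force_eq, ih, List.map_cons]

/-- labels of a path, modulo 3 -/
noncomputable def lwalk (t u : Tr) (w : List ℕ) : ℕ → ℕ → (ℕ → ℕ → Bool) → Bool :=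
  List.rec (fun p v k => k p v)
    (fun m _ ih p v k => force (rowC t p) fun r => force (labC u p) fun a =>
      force (rtgt r m) fun q => force (Nat.mod (elb a m + (v + v)) 3) fun v' => ih q v' k) w

/-- the end of a labelled path -/
noncomputable def lval (t u : Tr) : List ℕ → ℕ → ℕ → ℕ
  | [], _, v => v
  | m :: w, p, v => lval t u w (tgt t p m) ((elb (labC u p) m + (v + v)) % 3)

theorem lwalk_eq (t u : Tr) : ∀ (w : List ℕ) (p v : ℕ) (k : ℕ → ℕ → Bool),
    lwalk t u w p v k = k (walkV t w p) (lval t u w p v) := by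
  intro w
  induction w with
  | nil => intro p v k; rfl
  | cons m w ih =>
    intro p v k
    rw [show lwalk t u (m :: w) p v k = force (rowC t p) fun r => force (labC u p) fun a =>
      force (rtgt r m) fun q => force (Nat.mod (elb a m + (v + v)) 3) fun v' => lwalk t u w q v' k
        from rfl]
    simp only [force_eq, ih]
    rfl

/-- iterate a column until it goes below the starting point -/
noncomputable def exitIter (col : Tr) (i m : ℕ) : ℕ → (Unit → Bool) → Bool :=
  Nat.rec (fun _ k => k ())
    (fun _ ih p k => force (uget col p) fun q => ifB (Nat.blt q i) true (ih q k)) m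

theorem exitIter_sound (col : Tr) (i : ℕ) : ∀ (m p : ℕ) (k : Unit → Bool),
    exitIter col i m p k = true → (∃ j, ((uget col)^[j] p) < i) ∨ k () = true := by
  intro m
  induction m with
  | zero => intro p k h; exact Or.inr h
  | succ m ih =>
    intro p k h
    rw [show exitIter col i (m + 1) p k = force (uget col p) fun q => ifB (Nat.blt q i) true
      (exitIter col i m q k) from rfl] at h
    simp only [force_eq, ifB_eq] at h
    cases hb : Nat.blt (uget col p) i with
    | true => exact Or.inl ⟨1, by simpa [Nat.blt_eq] using hb⟩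
    | false =>
      rw [hb, cond_false] at h
      rcases ih _ _ h with ⟨j, hlt⟩ | hk
      · exact Or.inl ⟨j + 1, by rw [Function.iterate_succ_apply]; exact hlt⟩
      · exact Or.inr hk

/-- symmetry at one edge -/
noncomputable def symAt (u : Tr) (i ri ai x : ℕ) : Bool :=
  force (rtgt ri x) fun j => ifB (Nat.blt j i) true
    (force (labC u j) fun aj => Nat.beq (Nat.mod (elb aj x) 3) (Nat.mod (elb ai x) 3))

/-- the letters leading below the coset -/
noncomputable def lowMask (i ri : ℕ) (xs : List ℕ) : (ℕ → Bool) → Bool :=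
  List.rec (fun k => k 0)
    (fun x _ ih k => force (rtgt ri x) fun j =>
      ih fun S => force (ifB (Nat.blt j i) (Nat.lor S (Nat.shiftLeft 1 x)) S) k) xs

/-- a commutation at one coset -/
noncomputable def commFull (t u : Tr) (ri ai x y : ℕ) : Bool :=
  force (rtgt ri x) fun j => force (rtgt ri y) fun h =>
    force (rowC t j) fun rj => force (rowC t h) fun rh =>
      andB (Nat.beq (rtgt rj y) (rtgt rh x))
        (force (labC u j) fun aj => force (labC u h) fun ah =>
          Nat.beq (Nat.mod (elb aj y + (elb ai x + elb ai x)) 3)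
            (Nat.mod (elb ah x + (elb ai y + elb ai y)) 3))

/-- a braid at one coset -/
noncomputable def braidFull (t u : Tr) (ri ai x y : ℕ) : Bool :=
  force (rtgt ri x) fun j => force (rtgt ri y) fun h =>
    force (tgt t j y) fun p => force (tgt t h x) fun q =>
      andB (Nat.beq (tgt t p x) (tgt t q y))
        (force (labC u j) fun aj => force (labC u h) fun ah =>
          force (labC u p) fun ap => force (labC u q) fun aq =>
            Nat.beq (Nat.mod (elb ap x + (elb aj y + elb aj y) + elb ai x) 3)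
              (Nat.mod (elb aq y + (elb ah x + elb ah x) + elb ai y) 3))

/-- coded pairs `x + 16 y + 256 mask`, skipped where a letter of the mask leads below -/
noncomputable def pairsAt (S : ℕ) (f : ℕ → ℕ → Bool) (cs : List ℕ) : Bool :=
  List.rec true (fun c _ ih => andB (ifB (Nat.beq (Nat.land (Nat.shiftRight c 8) S) 0)
    (force (Nat.land c 15) fun x => force (Nat.land (Nat.shiftRight c 4) 15) fun y => f x y) true) ih) cs

/-- the twelve letters -/
def lets : List ℕ := [0, 1, 2, 3, 4, 5, 6, 7, 8, 9, 10, 11]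

/-- all letters pass a test -/
noncomputable def allLets (f : ℕ → Bool) (xs : List ℕ) : Bool :=
  List.rec true (fun x _ ih => andB (f x) ih) xs

/-- the ninth power at one coset -/
noncomputable def powBAt (t u colB : Tr) (wBB : List ℕ) (i ri ai : ℕ) : Bool :=
  exitIter colB i 17 i fun _ => lwalk t u wBB i 0 fun q v =>
    andB (Nat.beq q (rtgt ri 0)) (Nat.beq (Nat.mod v 3) (Nat.mod (elb ai 0) 3))

/-- the seventeenth power at one coset -/
noncomputable def powZAt (t u colZ : Tr) (wZZ : List ℕ) (i : ℕ) : Bool :=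
  exitIter colZ i 16 i fun _ => lwalk t u wZZ i 0 fun q v =>
    andB (Nat.beq q i) (Nat.beq (Nat.mod v 3) 1)

/-- all labelled relators at one coset -/
noncomputable def labOK (t u colB colZ : Tr) (comm braid wBB wZZ : List ℕ) (i : ℕ) : Bool :=
  force (rowC t i) fun ri => force (labC u i) fun ai =>
    andB (allLets (symAt u i ri ai) lets)
    (andB (lowMask i ri lets fun S =>
        andB (pairsAt S (commFull t u ri ai) comm) (pairsAt S (braidFull t u ri ai) braid))
    (andB (powBAt t u colB wBB i ri ai) (powZAt t u colZ wZZ i)))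

variable {C : Cert}

/-- the label as an element of `ZMod 3` -/
noncomputable def el (u : Tr) (i l : ℕ) : ZMod 3 := (elb (labC u i) l : ℕ)

/-- symmetric labels -/
def LabSym (C : Cert) (u : Tr) : Prop :=
  ∀ i, i < C.n → ∀ l, l < C.L → el u (tgt C.t i l) l = el u i l

/-- the labelled permutation of a letter -/
noncomputable def lsg (hC : C.Inv) {u : Tr} (hs : LabSym C u) (l : ℕ) :
    Equiv.Perm (Fin C.n × ZMod 3) :=
  if hl : l < C.L then
    { toFun := fun x => (sg hC l x.1, el u x.1 l - x.2)
      invFun := fun x => (sg hC l x.1, el u x.1 l - x.2)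
      left_inv := fun x => Prod.ext (by simp [← Equiv.Perm.mul_apply, sg_sq])
        (by simp [sg_apply hC hl, hs x.1 x.1.isLt l hl])
      right_inv := fun x => Prod.ext (by simp [← Equiv.Perm.mul_apply, sg_sq])
        (by simp [sg_apply hC hl, hs x.1 x.1.isLt l hl]) }
  else 1

theorem lsg_sq (hC : C.Inv) {u : Tr} (hs : LabSym C u) (l : ℕ) :
    lsg hC hs l * lsg hC hs l = 1 := by
  unfold lsg
  split
  · rename_i hl
    refine Equiv.ext fun x => Prod.ext ?_ ?_
    · simp [Equiv.Perm.mul_apply, ← Equiv.Perm.mul_apply (sg hC l), sg_sq]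
    · simp [Equiv.Perm.mul_apply, sg_apply hC hl, hs x.1 x.1.isLt l hl]
  · simp

theorem lsg_inv (hC : C.Inv) {u : Tr} (hs : LabSym C u) (l : ℕ) :
    (lsg hC hs l)⁻¹ = lsg hC hs l := inv_eq_of_mul_eq_one_right (lsg_sq hC hs l)

/-- the sign of a word length -/
def zsgn (n : ℕ) : ZMod 3 := (-1) ^ n

theorem lsg_walk (hC : C.Inv) {u : Tr} (hs : LabSym C u) : ∀ (w : List ℕ), (∀ l ∈ w, l < C.L) →
    ∀ (x : Fin C.n × ZMod 3) (v : ℕ), x.2 = (v : ZMod 3) →
      ((((evalW (lsg hC hs) w)⁻¹ x).1 : Fin C.n) : ℕ) = walkV C.t w x.1 ∧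
        ((evalW (lsg hC hs) w)⁻¹ x).2 = (lval C.t u w x.1 v : ℕ) := by
  intro w
  induction w with
  | nil => intro _ x v hv; exact ⟨rfl, hv⟩
  | cons l w ih =>
    intro hw x v hv
    have hl : l < C.L := hw l List.mem_cons_self
    rw [evalW_cons, mul_inv_rev, Equiv.Perm.mul_apply, lsg_inv]
    have h1 : ((lsg hC hs l x).1 : ℕ) = tgt C.t x.1 l := by
      simp [lsg, hl, sg_apply hC hl]
    have h2 : (lsg hC hs l x).2 = (((elb (labC u x.1) l + (v + v)) % 3 : ℕ) : ZMod 3) := by
      simp only [lsg, hl, dif_pos, Equiv.coe_fn_mk, el, hv, ZMod.natCast_mod, Nat.cast_add]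
      rw [sub_eq_add_neg]
      congr 1
      rw [neg_eq_iff_add_eq_zero]
      have h3 : (3 : ZMod 3) = 0 := rfl
      calc (v : ZMod 3) + ((v : ZMod 3) + v) = 3 * v := by ring
        _ = 0 := by rw [h3, zero_mul]
    obtain ⟨a, b⟩ := ih (fun m hm => hw m (List.mem_cons_of_mem _ hm)) _ _ h2
    rw [h1] at a b
    exact ⟨a, b⟩

theorem lval_shift (t u : Tr) : ∀ (w : List ℕ) (p v : ℕ),
    ((lval t u w p v : ℕ) : ZMod 3) = (lval t u w p 0 : ℕ) + zsgn w.length * v := by
  intro w
  induction w with
  | nil => intro p v; simp [lval, zsgn]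
  | cons m w ih =>
    intro p v
    simp only [lval]
    rw [ih, ih (v := (elb (labC u p) m + (0 + 0)) % 3)]
    simp only [ZMod.natCast_mod, Nat.cast_add, List.length_cons, zsgn, pow_succ, Nat.cast_zero]
    have h2 : ((v : ZMod 3) + v) = -1 * v := by
      have h3 : (3 : ZMod 3) = 0 := rfl
      linear_combination (v : ZMod 3) * h3
    rw [h2]
    ring

theorem lsg_word_eq (hC : C.Inv) {u : Tr} (hs : LabSym C u) {v w : List ℕ}
    (hv : ∀ l ∈ v, l < C.L) (hw : ∀ l ∈ w, l < C.L) (hpar : zsgn v.length = zsgn w.length)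
    (h : ∀ i, i < C.n → walkV C.t v i = walkV C.t w i ∧
      ((lval C.t u v i 0 : ℕ) : ZMod 3) = (lval C.t u w i 0 : ℕ)) :
    evalW (lsg hC hs) v = evalW (lsg hC hs) w := by
  rw [← inv_inj]
  refine Equiv.ext fun x => ?_
  obtain ⟨a, b⟩ := lsg_walk hC hs v hv x x.2.val (ZMod.natCast_zmod_val _).symm
  obtain ⟨c, d⟩ := lsg_walk hC hs w hw x x.2.val (ZMod.natCast_zmod_val _).symm
  refine Prod.ext (Fin.ext (a.trans ((h x.1 x.1.isLt).1.trans c.symm))) ?_
  rw [b, d, lval_shift, lval_shift C.t u w, (h x.1 x.1.isLt).2, hpar]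

theorem lval_append (t u : Tr) (w z : List ℕ) : ∀ (p v : ℕ),
    lval t u (w ++ z) p v = lval t u z (walkV t w p) (lval t u w p v) := by
  induction w with
  | nil => intro p v; rfl
  | cons m w ih => intro p v; simpa [lval, walkV] using ih _ _

theorem col_iter (hC : C.Inv) {col : Tr} {w : List ℕ} (hw : ∀ l ∈ w, l < C.L)
    (h : ∀ i, i < C.n → uget col i = walkV C.t w i) :
    ∀ m p, p < C.n → (uget col)^[m] p = walkV C.t (List.replicate m w).flatten p := by
  intro m
  induction m with
  | zero => intro p _; rfl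
  | succ m ih =>
    intro p hp
    rw [List.replicate_succ, List.flatten_cons, walkV_append, Function.iterate_succ_apply, h p hp]
    exact ih _ (walkV_lt hC w hw p hp)

/-- the translation of every fibre -/
def shiftP (n : ℕ) : Equiv.Perm (Fin n × ZMod 3) where
  toFun x := (x.1, x.2 + 1)
  invFun x := (x.1, x.2 - 1)
  left_inv x := by simp
  right_inv x := by simp

/-- A permutation commuting up to inversion with enough moves downwards is trivial. -/
theorem fibre_induct {n : ℕ} (D : Equiv.Perm (Fin n × ZMod 3))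
    (h : ∀ i : Fin n, (∀ t, D (i, t) = (i, t)) ∨
      ∃ g : Equiv.Perm (Fin n × ZMod 3), (g * D = D * g ∨ g * D = D⁻¹ * g) ∧
        ∀ t, ((g (i, t)).1 : ℕ) < i) : D = 1 := by
  suffices key : ∀ k (i : Fin n), (i : ℕ) = k → ∀ t, D (i, t) = (i, t) from
    Equiv.ext fun x => key _ x.1 rfl x.2
  intro k
  induction k using Nat.strong_induction_on with
  | _ k ih =>
    intro i hi t
    rcases h i with h' | ⟨g, hg, hlt⟩
    · exact h' t
    · have hfix := ih _ (hi ▸ hlt t) (g (i, t)).1 rfl (g (i, t)).2
      apply g.injective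
      rcases hg with hg | hg
      · have e := Equiv.ext_iff.mp hg (i, t)
        rw [Equiv.Perm.mul_apply, Equiv.Perm.mul_apply] at e
        rw [e]; exact hfix
      · have e := Equiv.ext_iff.mp hg (i, t)
        rw [Equiv.Perm.mul_apply, Equiv.Perm.mul_apply] at e
        rw [e, Equiv.Perm.inv_def, Equiv.symm_apply_eq]
        exact hfix.symm

theorem lowMask_eq (i ri : ℕ) : ∀ (xs : List ℕ) (k : ℕ → Bool),
    lowMask i ri xs k = k (List.foldr (fun x S =>
      cond (Nat.blt (rtgt ri x) i) (Nat.lor S (Nat.shiftLeft 1 x)) S) 0 xs) := by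
  intro xs
  induction xs with
  | nil => intro k; rfl
  | cons x xs ih =>
    intro k
    rw [show lowMask i ri (x :: xs) k = force (rtgt ri x) fun j => lowMask i ri xs fun S =>
      force (ifB (Nat.blt j i) (Nat.lor S (Nat.shiftLeft 1 x)) S) k from rfl]
    simp only [force_eq, ifB_eq, ih, List.foldr_cons]

theorem mask_bit (i ri : ℕ) : ∀ (xs : List ℕ) (z : ℕ),
    (List.foldr (fun x S => cond (Nat.blt (rtgt ri x) i) (Nat.lor S (Nat.shiftLeft 1 x)) S) 0
      xs).testBit z = true → z ∈ xs ∧ rtgt ri z < i := by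
  intro xs
  induction xs with
  | nil => intro z h; simp at h
  | cons x xs ih =>
    intro z h
    rw [List.foldr_cons] at h
    cases hb : Nat.blt (rtgt ri x) i with
    | false =>
      rw [hb, cond_false] at h
      exact ⟨List.mem_cons_of_mem _ (ih z h).1, (ih z h).2⟩
    | true =>
      rw [hb, cond_true] at h
      have h' : (List.foldr (fun x S => cond (Nat.blt (rtgt ri x) i) (Nat.lor S (Nat.shiftLeft 1 x)) S)
          0 xs ||| 1 <<< x).testBit z = true := h
      rw [Nat.testBit_or, Bool.or_eq_true] at h'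
      rcases h' with h' | h'
      · exact ⟨List.mem_cons_of_mem _ (ih z h').1, (ih z h').2⟩
      · rw [Nat.one_shiftLeft, Nat.testBit_two_pow] at h'
        obtain rfl : x = z := of_decide_eq_true h'
        exact ⟨List.mem_cons_self, Nat.blt_eq.mp hb⟩

theorem pairsAt_sound {S : ℕ} {f : ℕ → ℕ → Bool} : ∀ {cs : List ℕ}, pairsAt S f cs = true →
    ∀ c ∈ cs, f (c % 16) (c / 16 % 16) = true ∨
      ∃ z, (c / 256).testBit z = true ∧ S.testBit z = true := by
  intro cs
  induction cs with
  | nil => intro _ c hc; simp at hc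
  | cons a cs ih =>
    intro h c hc
    rw [show pairsAt S f (a :: cs) = andB (ifB (Nat.beq (Nat.land (Nat.shiftRight a 8) S) 0)
      (force (Nat.land a 15) fun x => force (Nat.land (Nat.shiftRight a 4) 15) fun y => f x y) true)
      (pairsAt S f cs) from rfl] at h
    simp only [andB_eq, ifB_eq, force_eq, Bool.and_eq_true] at h
    rcases List.mem_cons.mp hc with rfl | hc
    · obtain ⟨h1, -⟩ := h
      have e15 : ∀ m : ℕ, m &&& 15 = m % 16 := fun m => Nat.and_two_pow_sub_one_eq_mod m 4
      cases hb : Nat.beq (Nat.land (Nat.shiftRight c 8) S) 0 with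
      | true =>
        rw [hb, cond_true] at h1
        left
        have e1 : Nat.land c 15 = c % 16 := e15 c
        have e2 : Nat.land (Nat.shiftRight c 4) 15 = c / 16 % 16 := by
          exact (congrArg (Nat.land · 15) (Nat.shiftRight_eq_div_pow c 4)).trans (e15 (c / 2 ^ 4))
        rwa [e1, e2] at h1
      | false =>
        right
        have hne : (c / 256) &&& S ≠ 0 := by
          have e : Nat.land (Nat.shiftRight c 8) S = (c / 256) &&& S :=
            congrArg (· &&& S) (Nat.shiftRight_eq_div_pow c 8)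
          rw [← e]
          intro h0
          rw [h0] at hb
          exact absurd hb (by decide)
        obtain ⟨z, hz⟩ := Nat.exists_testBit_of_ne_zero hne
        rw [Nat.testBit_and, Bool.and_eq_true] at hz
        exact ⟨z, hz.1, hz.2⟩
    · exact ih h.2 c hc

/-- masks of commutation codes rest on earlier pairs -/
def orderOK : List (ℕ × ℕ) → List ℕ → Bool
  | _, [] => true
  | known, c :: cs =>
    decide (c % 16 < 12) && decide (c / 16 % 16 < 12) &&
      ((List.range 12).all fun z => !(c / 256).testBit z || decide (z = c % 16) ||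
        decide (z = c / 16 % 16) ||
        ((decide ((z, c % 16) ∈ known) || decide ((c % 16, z) ∈ known)) &&
          (decide ((z, c / 16 % 16) ∈ known) || decide ((c / 16 % 16, z) ∈ known)))) &&
      orderOK ((c % 16, c / 16 % 16) :: known) cs

/-- masks of braid codes rest on commuting pairs -/
def braidOK (comm braid : List ℕ) : Bool :=
  braid.all fun c => decide (c % 16 < 12) && decide (c / 16 % 16 < 12) &&
    ((List.range 12).all fun z => !(c / 256).testBit z || decide (z = c % 16) ||
      decide (z = c / 16 % 16) ||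
      ((comm.any fun d => (decide (d % 16 = z) && decide (d / 16 % 16 = c % 16)) ||
          (decide (d / 16 % 16 = z) && decide (d % 16 = c % 16))) &&
        (comm.any fun d => (decide (d % 16 = z) && decide (d / 16 % 16 = c / 16 % 16)) ||
          (decide (d / 16 % 16 = z) && decide (d % 16 = c / 16 % 16)))))

/-- the first letter commutes with the letters of a word -/
def zeroCommOK (comm wB : List ℕ) : Bool :=
  wB.all fun l => comm.any fun d => decide (d % 16 = 0) && decide (d / 16 % 16 = l)

theorem lsg_fix (hC : C.Inv) {u : Tr} (hs : LabSym C u) {v w : List ℕ}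
    (hv : ∀ l ∈ v, l < C.L) (hw : ∀ l ∈ w, l < C.L) (hpar : zsgn v.length = zsgn w.length)
    (i : Fin C.n) (h1 : walkV C.t v i = walkV C.t w i)
    (h2 : ((lval C.t u v i 0 : ℕ) : ZMod 3) = (lval C.t u w i 0 : ℕ)) :
    ∀ t, (evalW (lsg hC hs) w * (evalW (lsg hC hs) v)⁻¹) (i, t) = (i, t) := by
  intro t
  obtain ⟨a, b⟩ := lsg_walk hC hs v hv (i, t) t.val (ZMod.natCast_zmod_val _).symm
  obtain ⟨c, d⟩ := lsg_walk hC hs w hw (i, t) t.val (ZMod.natCast_zmod_val _).symm
  have e : (evalW (lsg hC hs) v)⁻¹ (i, t) = (evalW (lsg hC hs) w)⁻¹ (i, t) := by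
    refine Prod.ext (Fin.ext (a.trans (h1.trans c.symm))) ?_
    rw [b, d, lval_shift, lval_shift C.t u w, h2, hpar]
  rw [Equiv.Perm.mul_apply, e, Equiv.Perm.inv_def, Equiv.apply_symm_apply]

theorem evalW_comm_rel {G : Type*} [Group G] {e : ℕ → G} {x y : ℕ} (hx : e x * e x = 1)
    (hy : e y * e y = 1) (h : evalW e [y, x] * (evalW e [x, y])⁻¹ = 1) :
    e x * e y = e y * e x := by
  rw [mul_inv_eq_one] at h
  simpa [evalW] using h.symm

theorem evalW_flat {G : Type*} [Group G] (e : ℕ → G) (w : List ℕ) : ∀ m,
    evalW e (List.replicate m w).flatten = evalW e w ^ m := by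
  intro m
  induction m with
  | zero => simp [evalW]
  | succ m ih => rw [List.replicate_succ, List.flatten_cons, evalW_append, ih, pow_succ']

theorem commute_evalW {G : Type*} [Group G] {e : ℕ → G} {g : G} :
    ∀ {w : List ℕ}, (∀ l ∈ w, Commute g (e l)) → Commute g (evalW e w) := by
  intro w
  induction w with
  | nil => intro _; simp [evalW]
  | cons a w ih =>
    intro h
    rw [evalW_cons]
    exact (h a List.mem_cons_self).mul_right (ih fun l hl => h l (List.mem_cons_of_mem _ hl))

/-- what the checks of all cosets give -/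
structure LabFacts (hC : C.Inv) (u : Tr) (comm braid : List ℕ) (wB wZ : List ℕ) where
  sym : LabSym C u
  commRel : ∀ c ∈ comm, lsg hC sym (c % 16) * lsg hC sym (c / 16 % 16) =
    lsg hC sym (c / 16 % 16) * lsg hC sym (c % 16)
  braidRel : ∀ c ∈ braid, lsg hC sym (c % 16) * lsg hC sym (c / 16 % 16) * lsg hC sym (c % 16) =
    lsg hC sym (c / 16 % 16) * lsg hC sym (c % 16) * lsg hC sym (c / 16 % 16)
  powB : evalW (lsg hC sym) (List.replicate 9 wB).flatten = lsg hC sym 0
  powZ : (evalW (lsg hC sym) (List.replicate 17 wZ).flatten)⁻¹ = shiftP C.n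

theorem labFacts_of (hC : C.Inv) (hL : C.L = 12) {u colB colZ : Tr} {comm braid : List ℕ}
    {wB wZ wBB wZZ : List ℕ} (hord : orderOK [] comm = true) (hbr : braidOK comm braid = true)
    (h0c : zeroCommOK comm wB = true) (hB : ∀ l ∈ wB, l < 12) (hZ : ∀ l ∈ wZ, l < 12)
    (hBo : zsgn wB.length = -1) (hZo : zsgn wZ.length = 1)
    (hBB : wBB = (List.replicate 9 wB).flatten) (hZZ : wZZ = (List.replicate 17 wZ).flatten)
    (hcB : ∀ i, i < C.n → uget colB i = walkV C.t wB i)
    (hcZ : ∀ i, i < C.n → uget colZ i = walkV C.t wZ i)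
    (h : ∀ i, i < C.n → labOK C.t u colB colZ comm braid wBB wZZ i = true) :
    Nonempty (LabFacts hC u comm braid wB wZ) := by
  have cast3 : ∀ a b : ℕ, a % 3 = b % 3 → (a : ZMod 3) = (b : ZMod 3) := fun a b e =>
    (ZMod.natCast_eq_natCast_iff' a b 3).2 e
  have hmod : ∀ a b : ℕ, Nat.mod a b = a % b := fun _ _ => rfl
  have allLets_eq : ∀ (f : ℕ → Bool) (xs : List ℕ), allLets f xs = xs.all f := by
    intro f xs
    induction xs with
    | nil => rfl
    | cons x xs ih =>
      rw [show allLets f (x :: xs) = andB (f x) (allLets f xs) from rfl, andB_eq, ih, List.all_cons]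
  simp only [labOK, andB_eq, force_eq, allLets_eq, lowMask_eq, Bool.and_eq_true,
    List.all_eq_true] at h
  have hlets : ∀ l, l < 12 → l ∈ lets := by intro l hl; interval_cases l <;> decide
  have hsym : LabSym C u := by
    intro i
    induction i using Nat.strong_induction_on with
    | _ i ih =>
      intro hi l hl
      have h1 := (h i hi).1 l (hlets l (hL ▸ hl))
      simp only [symAt, force_eq, ifB_eq] at h1
      have hd : rtgt (rowC C.t i) l = tgt C.t i l := rfl
      cases hb : Nat.blt (rtgt (rowC C.t i) l) i with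
      | true =>
        have h2 := ih _ (hd ▸ Nat.blt_eq.mp hb) (hC i hi l hl).1 l hl
        rw [(hC i hi l hl).2] at h2
        exact h2.symm
      | false =>
        rw [hb, cond_false, hd] at h1
        simp only [Nat.beq_eq, hmod] at h1
        exact cast3 _ _ h1
  set σ := lsg hC hsym with hσ
  have sq : ∀ l, σ l * σ l = 1 := lsg_sq hC hsym
  have inv : ∀ l, (σ l)⁻¹ = σ l := lsg_inv hC hsym
  have low : ∀ (i : Fin C.n) z, (List.foldr (fun x S =>
      cond (Nat.blt (rtgt (rowC C.t i) x) (i : ℕ)) (Nat.lor S (Nat.shiftLeft 1 x)) S) 0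
        lets).testBit z = true → z < 12 ∧ ∀ t, ((σ z (i, t)).1 : ℕ) < i := by
    intro i z hz
    obtain ⟨hz1, hz2⟩ := mask_bit _ _ _ _ hz
    have hz12 : z < 12 := by
      revert hz1; simp only [lets, List.mem_cons, List.not_mem_nil, or_false]; omega
    refine ⟨hz12, fun t => ?_⟩
    simp only [hσ, lsg, hL, hz12, dif_pos, Equiv.coe_fn_mk]
    rw [sg_apply hC (hL ▸ hz12)]
    exact hz2
  have commP : ∀ (cs : List ℕ) (known : List (ℕ × ℕ)),
      (∀ p ∈ known, σ p.1 * σ p.2 = σ p.2 * σ p.1) → orderOK known cs = true →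
      (∀ c ∈ cs, ∀ i : Fin C.n, commFull C.t u (rowC C.t i) (labC u i) (c % 16) (c / 16 % 16) = true ∨
        ∃ z, (c / 256).testBit z = true ∧ z < 12 ∧ ∀ t, ((σ z (i, t)).1 : ℕ) < i) →
      ∀ c ∈ cs, σ (c % 16) * σ (c / 16 % 16) = σ (c / 16 % 16) * σ (c % 16) := by
    intro cs
    induction cs with
    | nil => intro known _ _ _ c hc; simp at hc
    | cons a cs ih =>
      intro known hk ho hat
      simp only [orderOK, Bool.and_eq_true, decide_eq_true_eq, List.all_eq_true, List.mem_range,
        Bool.or_eq_true, Bool.not_eq_true'] at ho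
      obtain ⟨⟨⟨hx, hy⟩, hm⟩, hrest⟩ := ho
      set x := a % 16 with hxd
      set y := a / 16 % 16 with hyd
      have ha : σ x * σ y = σ y * σ x := by
        refine evalW_comm_rel (sq x) (sq y) (fibre_induct _ fun i => ?_)
        rcases hat a List.mem_cons_self i with hf | ⟨z, hzb, hz12, hlt⟩
        · left
          simp only [commFull, force_eq, andB_eq, Bool.and_eq_true, Nat.beq_eq, hmod] at hf
          refine lsg_fix hC hsym (v := [x, y]) (w := [y, x]) (by simp [hL, hx, hy]) (by simp [hL, hx, hy]) rfl i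
            (by simpa [walkV, tgt] using hf.1) (cast3 _ _ ?_)
          simp only [lval, tgt]
          simp only [hxd, hyd] at hf ⊢
          omega
        · right
          refine ⟨σ z, ?_, hlt⟩
          have hD : evalW σ [y, x] * (evalW σ [x, y])⁻¹ = σ y * σ x * (σ y * σ x) := by
            simp [evalW, inv]
          rw [hD]
          rcases hm z hz12 with ((hn | rfl) | rfl) | ⟨h1, h2⟩
          · rw [hzb] at hn; exact absurd hn (by decide)
          · right
            simp only [mul_inv_rev, inv, mul_assoc]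
          · right
            simp only [mul_inv_rev, inv, mul_assoc]
            simp only [← mul_assoc (σ y) (σ y), sq, one_mul, mul_one]
          · left
            have c1 : Commute (σ z) (σ x) := by
              rcases h1 with h1 | h1
              · exact hk _ h1
              · exact (hk _ h1).symm
            have c2 : Commute (σ z) (σ y) := by
              rcases h2 with h2 | h2
              · exact hk _ h2
              · exact (hk _ h2).symm
            exact ((c2.mul_right c1).mul_right (c2.mul_right c1)).eq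
      intro c hc
      rcases List.mem_cons.mp hc with rfl | hc
      · exact ha
      · refine ih _ (fun p hp => ?_) hrest (fun c hc => hat c (List.mem_cons_of_mem _ hc)) c hc
        rcases List.mem_cons.mp hp with rfl | hp
        · exact ha
        · exact hk p hp
  have hcomm : ∀ c ∈ comm, σ (c % 16) * σ (c / 16 % 16) = σ (c / 16 % 16) * σ (c % 16) :=
    commP comm [] (by simp) hord fun c hc i => by
      rcases pairsAt_sound (h i i.isLt).2.1.1 c hc with h1 | ⟨z, h1, h2⟩
      · exact Or.inl h1
      · exact Or.inr ⟨z, h1, (low i z h2).1, (low i z h2).2⟩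
  have hbraid : ∀ c ∈ braid, σ (c % 16) * σ (c / 16 % 16) * σ (c % 16) =
      σ (c / 16 % 16) * σ (c % 16) * σ (c / 16 % 16) := by
    intro c hc
    have hb := List.all_eq_true.mp hbr c hc
    simp only [Bool.and_eq_true, decide_eq_true_eq, List.all_eq_true, List.mem_range,
      Bool.or_eq_true, Bool.not_eq_true', List.any_eq_true] at hb
    obtain ⟨⟨hx, hy⟩, hm⟩ := hb
    set x := c % 16 with hxd
    set y := c / 16 % 16 with hyd
    have e : evalW σ [y, x, y] * (evalW σ [x, y, x])⁻¹ = 1 := by
      refine fibre_induct _ fun i => ?_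
      rcases pairsAt_sound (h i i.isLt).2.1.2 c hc with hf | ⟨z, hzb, hzS⟩
      · left
        simp only [braidFull, force_eq, andB_eq, Bool.and_eq_true, Nat.beq_eq, hmod] at hf
        refine lsg_fix hC hsym (v := [x, y, x]) (w := [y, x, y]) (by simp [hL, hx, hy]) (by simp [hL, hx, hy]) rfl i
          (by simpa [walkV, tgt] using hf.1) (cast3 _ _ ?_)
        simp only [lval]
        simp only [tgt] at hf ⊢
        simp only [hxd, hyd] at hf ⊢
        omega
      · right
        obtain ⟨hz12, hlt⟩ := low i z hzS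
        refine ⟨σ z, ?_, hlt⟩
        have hD : evalW σ [y, x, y] * (evalW σ [x, y, x])⁻¹ =
            σ y * σ x * σ y * (σ x * σ y * σ x) := by
          simp [evalW, inv, mul_assoc]
        rw [hD]
        rcases hm z hz12 with ((hn | rfl) | rfl) | ⟨⟨d, hd, h1⟩, ⟨d', hd', h2⟩⟩
        · rw [hzb] at hn; exact absurd hn (by decide)
        · right
          simp only [mul_inv_rev, inv, mul_assoc]
        · right
          simp only [mul_inv_rev, inv, mul_assoc]
          simp only [← mul_assoc (σ y) (σ y), sq, one_mul, mul_one]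
        · left
          have c1 : Commute (σ z) (σ x) := by
            rcases h1 with ⟨e1, e2⟩ | ⟨e1, e2⟩
            · have := hcomm d hd; rw [e1, e2] at this; exact this
            · have := hcomm d hd; rw [e1, e2] at this; exact this.symm
          have c2 : Commute (σ z) (σ y) := by
            rcases h2 with ⟨e1, e2⟩ | ⟨e1, e2⟩
            · have := hcomm d' hd'; rw [e1, e2] at this; exact this
            · have := hcomm d' hd'; rw [e1, e2] at this; exact this.symm
          exact (((c2.mul_right c1).mul_right c2).mul_right ((c1.mul_right c2).mul_right c1)).eq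
    rw [mul_inv_eq_one] at e
    simpa [evalW, mul_assoc] using e.symm
  have hBL : ∀ l ∈ wB, l < C.L := hL ▸ hB
  have hZL : ∀ l ∈ wZ, l < C.L := hL ▸ hZ
  have iter_low : ∀ (w : List ℕ), (∀ l ∈ w, l < C.L) → ∀ (m : ℕ) (i : Fin C.n),
      walkV C.t (List.replicate m w).flatten i < i →
      ∀ t, (((evalW σ w ^ m)⁻¹ (i, t)).1 : ℕ) < i := by
    intro w hw m i hlt t
    rw [← evalW_flat, (lsg_walk hC hsym _ (Cfsg.Agent.H25.Fi24.replicate_lt hw) (i, t) t.val
      (ZMod.natCast_zmod_val _).symm).1]
    exact hlt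
  subst hBB hZZ
  refine ⟨⟨hsym, hcomm, hbraid, ?_, ?_⟩⟩
  · have hlet0 : ∀ l ∈ (List.replicate 9 wB).flatten, l < C.L :=
      Cfsg.Agent.H25.Fi24.replicate_lt hBL
    have hpar : zsgn (List.replicate 9 wB).flatten.length = zsgn [0].length := by
      simp only [List.length_flatten, List.map_replicate, List.sum_replicate, smul_eq_mul, zsgn,
        mul_comm 9, pow_mul, List.length_cons, List.length_nil]
      rw [show (-1 : ZMod 3) ^ wB.length = -1 from hBo]
      decide
    have hc0 : Commute (σ 0) (evalW σ wB) := by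
      refine commute_evalW fun l hl => ?_
      have h1 := List.all_eq_true.mp h0c l hl
      simp only [List.any_eq_true, Bool.and_eq_true, decide_eq_true_eq] at h1
      obtain ⟨d, hd, e1, e2⟩ := h1
      have h2 := hcomm d hd
      rw [e1, e2] at h2
      exact h2
    have e : evalW σ [0] * (evalW σ (List.replicate 9 wB).flatten)⁻¹ = 1 := by
      refine fibre_induct _ fun i => ?_
      have h1 := (h i i.isLt).2.2.1
      simp only [powBAt] at h1
      rcases exitIter_sound _ _ _ _ _ h1 with ⟨j, hj⟩ | hk
      · right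
        rw [col_iter hC hBL hcB j i i.isLt] at hj
        refine ⟨(evalW σ wB ^ j)⁻¹, Or.inl ?_, iter_low wB hBL j i hj⟩
        have e0 : evalW σ [0] = σ 0 := by simp [evalW]
        rw [evalW_flat, e0]
        exact (((hc0.symm.pow_left j).inv_left).mul_right
          (((Commute.refl _).pow_pow j 9).inv_left.inv_right)).eq
      · left
        simp only [lwalk_eq, andB_eq, Bool.and_eq_true, Nat.beq_eq, hmod] at hk
        refine lsg_fix hC hsym hlet0 (by simp [hL]) hpar i hk.1 ?_
        rw [cast3 _ _ hk.2]
        simp [lval]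
    rw [mul_inv_eq_one] at e
    simpa [evalW] using e.symm
  · have hshift : (evalW σ wZ)⁻¹ * shiftP C.n = shiftP C.n * (evalW σ wZ)⁻¹ := by
      refine Equiv.ext fun x => ?_
      rw [Equiv.Perm.mul_apply, Equiv.Perm.mul_apply]
      obtain ⟨a, b⟩ := lsg_walk hC hsym wZ hZL x x.2.val (ZMod.natCast_zmod_val _).symm
      obtain ⟨c, d⟩ := lsg_walk hC hsym wZ hZL (shiftP C.n x) (shiftP C.n x).2.val
        (ZMod.natCast_zmod_val _).symm
      refine Prod.ext (Fin.ext (c.trans a.symm)) ?_
      change ((evalW σ wZ)⁻¹ (shiftP C.n x)).2 = ((evalW σ wZ)⁻¹ x).2 + 1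
      rw [d, b, lval_shift, lval_shift C.t u wZ _ x.2.val, hZo, one_mul, one_mul,
        ZMod.natCast_zmod_val, ZMod.natCast_zmod_val]
      change _ + (x.2 + 1) = _
      rw [add_assoc]
      rfl
    have hlZ : ∀ l ∈ (List.replicate 17 wZ).flatten, l < C.L :=
      Cfsg.Agent.H25.Fi24.replicate_lt hZL
    have hl : zsgn (List.replicate 17 wZ).flatten.length = 1 := by
      simp only [List.length_flatten, List.map_replicate, List.sum_replicate, smul_eq_mul, zsgn,
        pow_mul']
      rw [show (-1 : ZMod 3) ^ wZ.length = 1 from hZo, one_pow]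
    have e : (evalW σ (List.replicate 17 wZ).flatten)⁻¹ * (shiftP C.n)⁻¹ = 1 := by
      refine fibre_induct _ fun i => ?_
      have h1 := (h i i.isLt).2.2.2
      simp only [powZAt] at h1
      rcases exitIter_sound _ _ _ _ _ h1 with ⟨j, hj⟩ | hk
      · right
        rw [col_iter hC hZL hcZ j i i.isLt] at hj
        refine ⟨(evalW σ wZ ^ j)⁻¹, Or.inl ?_, iter_low wZ hZL j i hj⟩
        rw [evalW_flat, ← inv_pow, ← inv_pow]
        exact ((Commute.refl _).pow_pow j 17 |>.mul_right
          ((show Commute (evalW σ wZ)⁻¹ (shiftP C.n) from hshift).pow_left j).inv_right).eq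
      · left
        intro t
        simp only [lwalk_eq, andB_eq, Bool.and_eq_true, Nat.beq_eq, hmod] at hk
        rw [Equiv.Perm.mul_apply]
        have hb : (shiftP C.n)⁻¹ (i, t) = (i, t - 1) := rfl
        rw [hb]
        obtain ⟨a, b⟩ := lsg_walk hC hsym _ hlZ (i, t - 1) (t - 1).val
          (ZMod.natCast_zmod_val _).symm
        refine Prod.ext (Fin.ext ?_) ?_
        · rw [a]; exact hk.1
        · rw [b]; dsimp only
          rw [lval_shift, cast3 _ 1 hk.2, hl, ZMod.natCast_zmod_val]
          simp
    rw [mul_inv_eq_one] at e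
    exact e

end Cfsg.Agent.H96.Fi24Mult
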