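import Cfsg.Agent.H96.Fi24Mult.LabWords

/-!
Generated checks of the labels.
-/

set_option autoImplicit false
set_option Elab.async false

namespace Cfsg.Agent.H96.Fi24Mult.Lab

open Cfsg.Agent.H25.Fi24 (allFrom allFrom_sound)

set_option maxRecDepth 100000 in
theorem at0 : allFrom ok 250 0 = true := by decide +kernel

set_option maxRecDepth 100000 in
theorem at250 : allFrom ok 250 250 = true := by decide +kernel

set_option maxRecDepth 100000 in
theorem at500 : allFrom ok 250 500 = true := by decide +kernel

set_option maxRecDepth 100000 in
theorem at750 : allFrom ok 250 750 = true := by decide +kernel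

set_option maxRecDepth 100000 in
theorem at1000 : allFrom ok 250 1000 = true := by decide +kernel

set_option maxRecDepth 100000 in
theorem at1250 : allFrom ok 250 1250 = true := by decide +kernel

set_option maxRecDepth 100000 in
theorem at1500 : allFrom ok 250 1500 = true := by decide +kernel

set_option maxRecDepth 100000 in
theorem at1750 : allFrom ok 250 1750 = true := by decide +kernel

set_option maxRecDepth 100000 in
theorem at2000 : allFrom ok 250 2000 = true := by decide +kernel

set_option maxRecDepth 100000 in
theorem at2250 : allFrom ok 250 2250 = true := by decide +kernel

set_option maxRecDepth 100000 in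
theorem at2500 : allFrom ok 250 2500 = true := by decide +kernel

set_option maxRecDepth 100000 in
theorem at2750 : allFrom ok 250 2750 = true := by decide +kernel

set_option maxRecDepth 100000 in
theorem at3000 : allFrom ok 250 3000 = true := by decide +kernel

set_option maxRecDepth 100000 in
theorem at3250 : allFrom ok 250 3250 = true := by decide +kernel

set_option maxRecDepth 100000 in
theorem at3500 : allFrom ok 250 3500 = true := by decide +kernel

set_option maxRecDepth 100000 in
theorem at3750 : allFrom ok 250 3750 = true := by decide +kernel

set_option maxRecDepth 100000 in
theorem at4000 : allFrom ok 250 4000 = true := by decide +kernel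

set_option maxRecDepth 100000 in
theorem at4250 : allFrom ok 250 4250 = true := by decide +kernel

set_option maxRecDepth 100000 in
theorem at4500 : allFrom ok 250 4500 = true := by decide +kernel

set_option maxRecDepth 100000 in
theorem at4750 : allFrom ok 250 4750 = true := by decide +kernel

theorem range0 (i : ℕ) (h1 : 0 ≤ i) (h2 : i < 5000) : ok i = true := by
  by_cases c0 : i < 250
  · exact allFrom_sound at0 i (by omega) (by omega)
  by_cases c250 : i < 500
  · exact allFrom_sound at250 i (by omega) (by omega)
  by_cases c500 : i < 750
  · exact allFrom_sound at500 i (by omega) (by omega)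
  by_cases c750 : i < 1000
  · exact allFrom_sound at750 i (by omega) (by omega)
  by_cases c1000 : i < 1250
  · exact allFrom_sound at1000 i (by omega) (by omega)
  by_cases c1250 : i < 1500
  · exact allFrom_sound at1250 i (by omega) (by omega)
  by_cases c1500 : i < 1750
  · exact allFrom_sound at1500 i (by omega) (by omega)
  by_cases c1750 : i < 2000
  · exact allFrom_sound at1750 i (by omega) (by omega)
  by_cases c2000 : i < 2250
  · exact allFrom_sound at2000 i (by omega) (by omega)
  by_cases c2250 : i < 2500
  · exact allFrom_sound at2250 i (by omega) (by omega)
  by_cases c2500 : i < 2750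
  · exact allFrom_sound at2500 i (by omega) (by omega)
  by_cases c2750 : i < 3000
  · exact allFrom_sound at2750 i (by omega) (by omega)
  by_cases c3000 : i < 3250
  · exact allFrom_sound at3000 i (by omega) (by omega)
  by_cases c3250 : i < 3500
  · exact allFrom_sound at3250 i (by omega) (by omega)
  by_cases c3500 : i < 3750
  · exact allFrom_sound at3500 i (by omega) (by omega)
  by_cases c3750 : i < 4000
  · exact allFrom_sound at3750 i (by omega) (by omega)
  by_cases c4000 : i < 4250
  · exact allFrom_sound at4000 i (by omega) (by omega)
  by_cases c4250 : i < 4500
  · exact allFrom_sound at4250 i (by omega) (by omega)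
  by_cases c4500 : i < 4750
  · exact allFrom_sound at4500 i (by omega) (by omega)
  exact allFrom_sound at4750 i (by omega) (by omega)

end Cfsg.Agent.H96.Fi24Mult.Lab
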