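import Cfsg.Agent.H96.Fi24Mult.LabWords

/-!
Generated checks of the labels.
-/

set_option autoImplicit false
set_option Elab.async false

namespace Cfsg.Agent.H96.Fi24Mult.Lab

open Cfsg.Agent.H25.Fi24 (allFrom allFrom_sound)

set_option maxRecDepth 100000 in
theorem at5000 : allFrom ok 250 5000 = true := by decide +kernel

set_option maxRecDepth 100000 in
theorem at5250 : allFrom ok 250 5250 = true := by decide +kernel

set_option maxRecDepth 100000 in
theorem at5500 : allFrom ok 250 5500 = true := by decide +kernel

set_option maxRecDepth 100000 in
theorem at5750 : allFrom ok 250 5750 = true := by decide +kernel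

set_option maxRecDepth 100000 in
theorem at6000 : allFrom ok 250 6000 = true := by decide +kernel

set_option maxRecDepth 100000 in
theorem at6250 : allFrom ok 250 6250 = true := by decide +kernel

set_option maxRecDepth 100000 in
theorem at6500 : allFrom ok 250 6500 = true := by decide +kernel

set_option maxRecDepth 100000 in
theorem at6750 : allFrom ok 250 6750 = true := by decide +kernel

set_option maxRecDepth 100000 in
theorem at7000 : allFrom ok 250 7000 = true := by decide +kernel

set_option maxRecDepth 100000 in
theorem at7250 : allFrom ok 250 7250 = true := by decide +kernel

set_option maxRecDepth 100000 in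
theorem at7500 : allFrom ok 250 7500 = true := by decide +kernel

set_option maxRecDepth 100000 in
theorem at7750 : allFrom ok 250 7750 = true := by decide +kernel

set_option maxRecDepth 100000 in
theorem at8000 : allFrom ok 250 8000 = true := by decide +kernel

set_option maxRecDepth 100000 in
theorem at8250 : allFrom ok 250 8250 = true := by decide +kernel

set_option maxRecDepth 100000 in
theorem at8500 : allFrom ok 250 8500 = true := by decide +kernel

set_option maxRecDepth 100000 in
theorem at8750 : allFrom ok 250 8750 = true := by decide +kernel

set_option maxRecDepth 100000 in
theorem at9000 : allFrom ok 250 9000 = true := by decide +kernel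

set_option maxRecDepth 100000 in
theorem at9250 : allFrom ok 250 9250 = true := by decide +kernel

set_option maxRecDepth 100000 in
theorem at9500 : allFrom ok 250 9500 = true := by decide +kernel

set_option maxRecDepth 100000 in
theorem at9750 : allFrom ok 250 9750 = true := by decide +kernel

theorem range1 (i : ℕ) (h1 : 5000 ≤ i) (h2 : i < 10000) : ok i = true := by
  by_cases c5000 : i < 5250
  · exact allFrom_sound at5000 i (by omega) (by omega)
  by_cases c5250 : i < 5500
  · exact allFrom_sound at5250 i (by omega) (by omega)
  by_cases c5500 : i < 5750
  · exact allFrom_sound at5500 i (by omega) (by omega)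
  by_cases c5750 : i < 6000
  · exact allFrom_sound at5750 i (by omega) (by omega)
  by_cases c6000 : i < 6250
  · exact allFrom_sound at6000 i (by omega) (by omega)
  by_cases c6250 : i < 6500
  · exact allFrom_sound at6250 i (by omega) (by omega)
  by_cases c6500 : i < 6750
  · exact allFrom_sound at6500 i (by omega) (by omega)
  by_cases c6750 : i < 7000
  · exact allFrom_sound at6750 i (by omega) (by omega)
  by_cases c7000 : i < 7250
  · exact allFrom_sound at7000 i (by omega) (by omega)
  by_cases c7250 : i < 7500
  · exact allFrom_sound at7250 i (by omega) (by omega)
  by_cases c7500 : i < 7750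
  · exact allFrom_sound at7500 i (by omega) (by omega)
  by_cases c7750 : i < 8000
  · exact allFrom_sound at7750 i (by omega) (by omega)
  by_cases c8000 : i < 8250
  · exact allFrom_sound at8000 i (by omega) (by omega)
  by_cases c8250 : i < 8500
  · exact allFrom_sound at8250 i (by omega) (by omega)
  by_cases c8500 : i < 8750
  · exact allFrom_sound at8500 i (by omega) (by omega)
  by_cases c8750 : i < 9000
  · exact allFrom_sound at8750 i (by omega) (by omega)
  by_cases c9000 : i < 9250
  · exact allFrom_sound at9000 i (by omega) (by omega)
  by_cases c9250 : i < 9500
  · exact allFrom_sound at9250 i (by omega) (by omega)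
  by_cases c9500 : i < 9750
  · exact allFrom_sound at9500 i (by omega) (by omega)
  exact allFrom_sound at9750 i (by omega) (by omega)

end Cfsg.Agent.H96.Fi24Mult.Lab
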