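import Cfsg.Agent.H96.Fi24Mult.LabWords

/-!
Generated checks of the labels.
-/

set_option autoImplicit false
set_option Elab.async false

namespace Cfsg.Agent.H96.Fi24Mult.Lab

open Cfsg.Agent.H25.Fi24 (allFrom allFrom_sound)

set_option maxRecDepth 100000 in
theorem at50000 : allFrom ok 250 50000 = true := by decide +kernel

set_option maxRecDepth 100000 in
theorem at50250 : allFrom ok 250 50250 = true := by decide +kernel

set_option maxRecDepth 100000 in
theorem at50500 : allFrom ok 250 50500 = true := by decide +kernel

set_option maxRecDepth 100000 in
theorem at50750 : allFrom ok 250 50750 = true := by decide +kernel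

set_option maxRecDepth 100000 in
theorem at51000 : allFrom ok 250 51000 = true := by decide +kernel

set_option maxRecDepth 100000 in
theorem at51250 : allFrom ok 250 51250 = true := by decide +kernel

set_option maxRecDepth 100000 in
theorem at51500 : allFrom ok 250 51500 = true := by decide +kernel

set_option maxRecDepth 100000 in
theorem at51750 : allFrom ok 250 51750 = true := by decide +kernel

set_option maxRecDepth 100000 in
theorem at52000 : allFrom ok 250 52000 = true := by decide +kernel

set_option maxRecDepth 100000 in
theorem at52250 : allFrom ok 250 52250 = true := by decide +kernel

set_option maxRecDepth 100000 in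
theorem at52500 : allFrom ok 250 52500 = true := by decide +kernel

set_option maxRecDepth 100000 in
theorem at52750 : allFrom ok 250 52750 = true := by decide +kernel

set_option maxRecDepth 100000 in
theorem at53000 : allFrom ok 250 53000 = true := by decide +kernel

set_option maxRecDepth 100000 in
theorem at53250 : allFrom ok 250 53250 = true := by decide +kernel

set_option maxRecDepth 100000 in
theorem at53500 : allFrom ok 250 53500 = true := by decide +kernel

set_option maxRecDepth 100000 in
theorem at53750 : allFrom ok 250 53750 = true := by decide +kernel

set_option maxRecDepth 100000 in
theorem at54000 : allFrom ok 250 54000 = true := by decide +kernel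

set_option maxRecDepth 100000 in
theorem at54250 : allFrom ok 250 54250 = true := by decide +kernel

set_option maxRecDepth 100000 in
theorem at54500 : allFrom ok 250 54500 = true := by decide +kernel

set_option maxRecDepth 100000 in
theorem at54750 : allFrom ok 250 54750 = true := by decide +kernel

theorem range10 (i : ℕ) (h1 : 50000 ≤ i) (h2 : i < 55000) : ok i = true := by
  by_cases c50000 : i < 50250
  · exact allFrom_sound at50000 i (by omega) (by omega)
  by_cases c50250 : i < 50500
  · exact allFrom_sound at50250 i (by omega) (by omega)
  by_cases c50500 : i < 50750
  · exact allFrom_sound at50500 i (by omega) (by omega)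
  by_cases c50750 : i < 51000
  · exact allFrom_sound at50750 i (by omega) (by omega)
  by_cases c51000 : i < 51250
  · exact allFrom_sound at51000 i (by omega) (by omega)
  by_cases c51250 : i < 51500
  · exact allFrom_sound at51250 i (by omega) (by omega)
  by_cases c51500 : i < 51750
  · exact allFrom_sound at51500 i (by omega) (by omega)
  by_cases c51750 : i < 52000
  · exact allFrom_sound at51750 i (by omega) (by omega)
  by_cases c52000 : i < 52250
  · exact allFrom_sound at52000 i (by omega) (by omega)
  by_cases c52250 : i < 52500
  · exact allFrom_sound at52250 i (by omega) (by omega)
  by_cases c52500 : i < 52750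
  · exact allFrom_sound at52500 i (by omega) (by omega)
  by_cases c52750 : i < 53000
  · exact allFrom_sound at52750 i (by omega) (by omega)
  by_cases c53000 : i < 53250
  · exact allFrom_sound at53000 i (by omega) (by omega)
  by_cases c53250 : i < 53500
  · exact allFrom_sound at53250 i (by omega) (by omega)
  by_cases c53500 : i < 53750
  · exact allFrom_sound at53500 i (by omega) (by omega)
  by_cases c53750 : i < 54000
  · exact allFrom_sound at53750 i (by omega) (by omega)
  by_cases c54000 : i < 54250
  · exact allFrom_sound at54000 i (by omega) (by omega)
  by_cases c54250 : i < 54500
  · exact allFrom_sound at54250 i (by omega) (by omega)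
  by_cases c54500 : i < 54750
  · exact allFrom_sound at54500 i (by omega) (by omega)
  exact allFrom_sound at54750 i (by omega) (by omega)

end Cfsg.Agent.H96.Fi24Mult.Lab
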