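import Cfsg.Agent.H96.Fi24Mult.LabWords

/-!
Generated checks of the labels.
-/

set_option autoImplicit false
set_option Elab.async false

namespace Cfsg.Agent.H96.Fi24Mult.Lab

open Cfsg.Agent.H25.Fi24 (allFrom allFrom_sound)

set_option maxRecDepth 100000 in
theorem at55000 : allFrom ok 250 55000 = true := by decide +kernel

set_option maxRecDepth 100000 in
theorem at55250 : allFrom ok 250 55250 = true := by decide +kernel

set_option maxRecDepth 100000 in
theorem at55500 : allFrom ok 250 55500 = true := by decide +kernel

set_option maxRecDepth 100000 in
theorem at55750 : allFrom ok 250 55750 = true := by decide +kernel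

set_option maxRecDepth 100000 in
theorem at56000 : allFrom ok 250 56000 = true := by decide +kernel

set_option maxRecDepth 100000 in
theorem at56250 : allFrom ok 250 56250 = true := by decide +kernel

set_option maxRecDepth 100000 in
theorem at56500 : allFrom ok 250 56500 = true := by decide +kernel

set_option maxRecDepth 100000 in
theorem at56750 : allFrom ok 250 56750 = true := by decide +kernel

set_option maxRecDepth 100000 in
theorem at57000 : allFrom ok 250 57000 = true := by decide +kernel

set_option maxRecDepth 100000 in
theorem at57250 : allFrom ok 250 57250 = true := by decide +kernel

set_option maxRecDepth 100000 in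
theorem at57500 : allFrom ok 250 57500 = true := by decide +kernel

set_option maxRecDepth 100000 in
theorem at57750 : allFrom ok 250 57750 = true := by decide +kernel

set_option maxRecDepth 100000 in
theorem at58000 : allFrom ok 250 58000 = true := by decide +kernel

set_option maxRecDepth 100000 in
theorem at58250 : allFrom ok 250 58250 = true := by decide +kernel

set_option maxRecDepth 100000 in
theorem at58500 : allFrom ok 250 58500 = true := by decide +kernel

set_option maxRecDepth 100000 in
theorem at58750 : allFrom ok 250 58750 = true := by decide +kernel

set_option maxRecDepth 100000 in
theorem at59000 : allFrom ok 250 59000 = true := by decide +kernel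

set_option maxRecDepth 100000 in
theorem at59250 : allFrom ok 250 59250 = true := by decide +kernel

set_option maxRecDepth 100000 in
theorem at59500 : allFrom ok 250 59500 = true := by decide +kernel

set_option maxRecDepth 100000 in
theorem at59750 : allFrom ok 250 59750 = true := by decide +kernel

theorem range11 (i : ℕ) (h1 : 55000 ≤ i) (h2 : i < 60000) : ok i = true := by
  by_cases c55000 : i < 55250
  · exact allFrom_sound at55000 i (by omega) (by omega)
  by_cases c55250 : i < 55500
  · exact allFrom_sound at55250 i (by omega) (by omega)
  by_cases c55500 : i < 55750
  · exact allFrom_sound at55500 i (by omega) (by omega)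
  by_cases c55750 : i < 56000
  · exact allFrom_sound at55750 i (by omega) (by omega)
  by_cases c56000 : i < 56250
  · exact allFrom_sound at56000 i (by omega) (by omega)
  by_cases c56250 : i < 56500
  · exact allFrom_sound at56250 i (by omega) (by omega)
  by_cases c56500 : i < 56750
  · exact allFrom_sound at56500 i (by omega) (by omega)
  by_cases c56750 : i < 57000
  · exact allFrom_sound at56750 i (by omega) (by omega)
  by_cases c57000 : i < 57250
  · exact allFrom_sound at57000 i (by omega) (by omega)
  by_cases c57250 : i < 57500
  · exact allFrom_sound at57250 i (by omega) (by omega)
  by_cases c57500 : i < 57750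
  · exact allFrom_sound at57500 i (by omega) (by omega)
  by_cases c57750 : i < 58000
  · exact allFrom_sound at57750 i (by omega) (by omega)
  by_cases c58000 : i < 58250
  · exact allFrom_sound at58000 i (by omega) (by omega)
  by_cases c58250 : i < 58500
  · exact allFrom_sound at58250 i (by omega) (by omega)
  by_cases c58500 : i < 58750
  · exact allFrom_sound at58500 i (by omega) (by omega)
  by_cases c58750 : i < 59000
  · exact allFrom_sound at58750 i (by omega) (by omega)
  by_cases c59000 : i < 59250
  · exact allFrom_sound at59000 i (by omega) (by omega)
  by_cases c59250 : i < 59500
  · exact allFrom_sound at59250 i (by omega) (by omega)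
  by_cases c59500 : i < 59750
  · exact allFrom_sound at59500 i (by omega) (by omega)
  exact allFrom_sound at59750 i (by omega) (by omega)

end Cfsg.Agent.H96.Fi24Mult.Lab
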