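import Cfsg.Agent.H96.Fi24Mult.LabWords

/-!
Generated checks of the labels.
-/

set_option autoImplicit false
set_option Elab.async false

namespace Cfsg.Agent.H96.Fi24Mult.Lab

open Cfsg.Agent.H25.Fi24 (allFrom allFrom_sound)

set_option maxRecDepth 100000 in
theorem at60000 : allFrom ok 250 60000 = true := by decide +kernel

set_option maxRecDepth 100000 in
theorem at60250 : allFrom ok 250 60250 = true := by decide +kernel

set_option maxRecDepth 100000 in
theorem at60500 : allFrom ok 250 60500 = true := by decide +kernel

set_option maxRecDepth 100000 in
theorem at60750 : allFrom ok 250 60750 = true := by decide +kernel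

set_option maxRecDepth 100000 in
theorem at61000 : allFrom ok 250 61000 = true := by decide +kernel

set_option maxRecDepth 100000 in
theorem at61250 : allFrom ok 250 61250 = true := by decide +kernel

set_option maxRecDepth 100000 in
theorem at61500 : allFrom ok 250 61500 = true := by decide +kernel

set_option maxRecDepth 100000 in
theorem at61750 : allFrom ok 250 61750 = true := by decide +kernel

set_option maxRecDepth 100000 in
theorem at62000 : allFrom ok 250 62000 = true := by decide +kernel

set_option maxRecDepth 100000 in
theorem at62250 : allFrom ok 250 62250 = true := by decide +kernel

set_option maxRecDepth 100000 in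
theorem at62500 : allFrom ok 250 62500 = true := by decide +kernel

set_option maxRecDepth 100000 in
theorem at62750 : allFrom ok 250 62750 = true := by decide +kernel

set_option maxRecDepth 100000 in
theorem at63000 : allFrom ok 250 63000 = true := by decide +kernel

set_option maxRecDepth 100000 in
theorem at63250 : allFrom ok 250 63250 = true := by decide +kernel

set_option maxRecDepth 100000 in
theorem at63500 : allFrom ok 250 63500 = true := by decide +kernel

set_option maxRecDepth 100000 in
theorem at63750 : allFrom ok 250 63750 = true := by decide +kernel

set_option maxRecDepth 100000 in
theorem at64000 : allFrom ok 250 64000 = true := by decide +kernel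

set_option maxRecDepth 100000 in
theorem at64250 : allFrom ok 250 64250 = true := by decide +kernel

set_option maxRecDepth 100000 in
theorem at64500 : allFrom ok 250 64500 = true := by decide +kernel

set_option maxRecDepth 100000 in
theorem at64750 : allFrom ok 250 64750 = true := by decide +kernel

theorem range12 (i : ℕ) (h1 : 60000 ≤ i) (h2 : i < 65000) : ok i = true := by
  by_cases c60000 : i < 60250
  · exact allFrom_sound at60000 i (by omega) (by omega)
  by_cases c60250 : i < 60500
  · exact allFrom_sound at60250 i (by omega) (by omega)
  by_cases c60500 : i < 60750
  · exact allFrom_sound at60500 i (by omega) (by omega)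
  by_cases c60750 : i < 61000
  · exact allFrom_sound at60750 i (by omega) (by omega)
  by_cases c61000 : i < 61250
  · exact allFrom_sound at61000 i (by omega) (by omega)
  by_cases c61250 : i < 61500
  · exact allFrom_sound at61250 i (by omega) (by omega)
  by_cases c61500 : i < 61750
  · exact allFrom_sound at61500 i (by omega) (by omega)
  by_cases c61750 : i < 62000
  · exact allFrom_sound at61750 i (by omega) (by omega)
  by_cases c62000 : i < 62250
  · exact allFrom_sound at62000 i (by omega) (by omega)
  by_cases c62250 : i < 62500
  · exact allFrom_sound at62250 i (by omega) (by omega)
  by_cases c62500 : i < 62750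
  · exact allFrom_sound at62500 i (by omega) (by omega)
  by_cases c62750 : i < 63000
  · exact allFrom_sound at62750 i (by omega) (by omega)
  by_cases c63000 : i < 63250
  · exact allFrom_sound at63000 i (by omega) (by omega)
  by_cases c63250 : i < 63500
  · exact allFrom_sound at63250 i (by omega) (by omega)
  by_cases c63500 : i < 63750
  · exact allFrom_sound at63500 i (by omega) (by omega)
  by_cases c63750 : i < 64000
  · exact allFrom_sound at63750 i (by omega) (by omega)
  by_cases c64000 : i < 64250
  · exact allFrom_sound at64000 i (by omega) (by omega)
  by_cases c64250 : i < 64500
  · exact allFrom_sound at64250 i (by omega) (by omega)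
  by_cases c64500 : i < 64750
  · exact allFrom_sound at64500 i (by omega) (by omega)
  exact allFrom_sound at64750 i (by omega) (by omega)

end Cfsg.Agent.H96.Fi24Mult.Lab
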