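import Cfsg.Agent.H96.Fi24Mult.LabWords

/-!
Generated checks of the labels.
-/

set_option autoImplicit false
set_option Elab.async false

namespace Cfsg.Agent.H96.Fi24Mult.Lab

open Cfsg.Agent.H25.Fi24 (allFrom allFrom_sound)

set_option maxRecDepth 100000 in
theorem at65000 : allFrom ok 250 65000 = true := by decide +kernel

set_option maxRecDepth 100000 in
theorem at65250 : allFrom ok 250 65250 = true := by decide +kernel

set_option maxRecDepth 100000 in
theorem at65500 : allFrom ok 250 65500 = true := by decide +kernel

set_option maxRecDepth 100000 in
theorem at65750 : allFrom ok 250 65750 = true := by decide +kernel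

set_option maxRecDepth 100000 in
theorem at66000 : allFrom ok 250 66000 = true := by decide +kernel

set_option maxRecDepth 100000 in
theorem at66250 : allFrom ok 250 66250 = true := by decide +kernel

set_option maxRecDepth 100000 in
theorem at66500 : allFrom ok 250 66500 = true := by decide +kernel

set_option maxRecDepth 100000 in
theorem at66750 : allFrom ok 250 66750 = true := by decide +kernel

set_option maxRecDepth 100000 in
theorem at67000 : allFrom ok 250 67000 = true := by decide +kernel

set_option maxRecDepth 100000 in
theorem at67250 : allFrom ok 250 67250 = true := by decide +kernel

set_option maxRecDepth 100000 in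
theorem at67500 : allFrom ok 250 67500 = true := by decide +kernel

set_option maxRecDepth 100000 in
theorem at67750 : allFrom ok 250 67750 = true := by decide +kernel

set_option maxRecDepth 100000 in
theorem at68000 : allFrom ok 250 68000 = true := by decide +kernel

set_option maxRecDepth 100000 in
theorem at68250 : allFrom ok 250 68250 = true := by decide +kernel

set_option maxRecDepth 100000 in
theorem at68500 : allFrom ok 250 68500 = true := by decide +kernel

set_option maxRecDepth 100000 in
theorem at68750 : allFrom ok 250 68750 = true := by decide +kernel

set_option maxRecDepth 100000 in
theorem at69000 : allFrom ok 250 69000 = true := by decide +kernel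

set_option maxRecDepth 100000 in
theorem at69250 : allFrom ok 250 69250 = true := by decide +kernel

set_option maxRecDepth 100000 in
theorem at69500 : allFrom ok 250 69500 = true := by decide +kernel

set_option maxRecDepth 100000 in
theorem at69750 : allFrom ok 250 69750 = true := by decide +kernel

theorem range13 (i : ℕ) (h1 : 65000 ≤ i) (h2 : i < 70000) : ok i = true := by
  by_cases c65000 : i < 65250
  · exact allFrom_sound at65000 i (by omega) (by omega)
  by_cases c65250 : i < 65500
  · exact allFrom_sound at65250 i (by omega) (by omega)
  by_cases c65500 : i < 65750
  · exact allFrom_sound at65500 i (by omega) (by omega)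
  by_cases c65750 : i < 66000
  · exact allFrom_sound at65750 i (by omega) (by omega)
  by_cases c66000 : i < 66250
  · exact allFrom_sound at66000 i (by omega) (by omega)
  by_cases c66250 : i < 66500
  · exact allFrom_sound at66250 i (by omega) (by omega)
  by_cases c66500 : i < 66750
  · exact allFrom_sound at66500 i (by omega) (by omega)
  by_cases c66750 : i < 67000
  · exact allFrom_sound at66750 i (by omega) (by omega)
  by_cases c67000 : i < 67250
  · exact allFrom_sound at67000 i (by omega) (by omega)
  by_cases c67250 : i < 67500
  · exact allFrom_sound at67250 i (by omega) (by omega)
  by_cases c67500 : i < 67750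
  · exact allFrom_sound at67500 i (by omega) (by omega)
  by_cases c67750 : i < 68000
  · exact allFrom_sound at67750 i (by omega) (by omega)
  by_cases c68000 : i < 68250
  · exact allFrom_sound at68000 i (by omega) (by omega)
  by_cases c68250 : i < 68500
  · exact allFrom_sound at68250 i (by omega) (by omega)
  by_cases c68500 : i < 68750
  · exact allFrom_sound at68500 i (by omega) (by omega)
  by_cases c68750 : i < 69000
  · exact allFrom_sound at68750 i (by omega) (by omega)
  by_cases c69000 : i < 69250
  · exact allFrom_sound at69000 i (by omega) (by omega)
  by_cases c69250 : i < 69500
  · exact allFrom_sound at69250 i (by omega) (by omega)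
  by_cases c69500 : i < 69750
  · exact allFrom_sound at69500 i (by omega) (by omega)
  exact allFrom_sound at69750 i (by omega) (by omega)

end Cfsg.Agent.H96.Fi24Mult.Lab
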