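import Cfsg.Agent.H96.Fi24Mult.LabWords

/-!
Generated checks of the labels.
-/

set_option autoImplicit false
set_option Elab.async false

namespace Cfsg.Agent.H96.Fi24Mult.Lab

open Cfsg.Agent.H25.Fi24 (allFrom allFrom_sound)

set_option maxRecDepth 100000 in
theorem at70000 : allFrom ok 250 70000 = true := by decide +kernel

set_option maxRecDepth 100000 in
theorem at70250 : allFrom ok 250 70250 = true := by decide +kernel

set_option maxRecDepth 100000 in
theorem at70500 : allFrom ok 250 70500 = true := by decide +kernel

set_option maxRecDepth 100000 in
theorem at70750 : allFrom ok 250 70750 = true := by decide +kernel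

set_option maxRecDepth 100000 in
theorem at71000 : allFrom ok 250 71000 = true := by decide +kernel

set_option maxRecDepth 100000 in
theorem at71250 : allFrom ok 250 71250 = true := by decide +kernel

set_option maxRecDepth 100000 in
theorem at71500 : allFrom ok 250 71500 = true := by decide +kernel

set_option maxRecDepth 100000 in
theorem at71750 : allFrom ok 250 71750 = true := by decide +kernel

set_option maxRecDepth 100000 in
theorem at72000 : allFrom ok 250 72000 = true := by decide +kernel

set_option maxRecDepth 100000 in
theorem at72250 : allFrom ok 250 72250 = true := by decide +kernel

set_option maxRecDepth 100000 in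
theorem at72500 : allFrom ok 250 72500 = true := by decide +kernel

set_option maxRecDepth 100000 in
theorem at72750 : allFrom ok 250 72750 = true := by decide +kernel

set_option maxRecDepth 100000 in
theorem at73000 : allFrom ok 250 73000 = true := by decide +kernel

set_option maxRecDepth 100000 in
theorem at73250 : allFrom ok 250 73250 = true := by decide +kernel

set_option maxRecDepth 100000 in
theorem at73500 : allFrom ok 250 73500 = true := by decide +kernel

set_option maxRecDepth 100000 in
theorem at73750 : allFrom ok 250 73750 = true := by decide +kernel

set_option maxRecDepth 100000 in
theorem at74000 : allFrom ok 250 74000 = true := by decide +kernel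

set_option maxRecDepth 100000 in
theorem at74250 : allFrom ok 250 74250 = true := by decide +kernel

set_option maxRecDepth 100000 in
theorem at74500 : allFrom ok 250 74500 = true := by decide +kernel

set_option maxRecDepth 100000 in
theorem at74750 : allFrom ok 250 74750 = true := by decide +kernel

theorem range14 (i : ℕ) (h1 : 70000 ≤ i) (h2 : i < 75000) : ok i = true := by
  by_cases c70000 : i < 70250
  · exact allFrom_sound at70000 i (by omega) (by omega)
  by_cases c70250 : i < 70500
  · exact allFrom_sound at70250 i (by omega) (by omega)
  by_cases c70500 : i < 70750
  · exact allFrom_sound at70500 i (by omega) (by omega)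
  by_cases c70750 : i < 71000
  · exact allFrom_sound at70750 i (by omega) (by omega)
  by_cases c71000 : i < 71250
  · exact allFrom_sound at71000 i (by omega) (by omega)
  by_cases c71250 : i < 71500
  · exact allFrom_sound at71250 i (by omega) (by omega)
  by_cases c71500 : i < 71750
  · exact allFrom_sound at71500 i (by omega) (by omega)
  by_cases c71750 : i < 72000
  · exact allFrom_sound at71750 i (by omega) (by omega)
  by_cases c72000 : i < 72250
  · exact allFrom_sound at72000 i (by omega) (by omega)
  by_cases c72250 : i < 72500
  · exact allFrom_sound at72250 i (by omega) (by omega)
  by_cases c72500 : i < 72750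
  · exact allFrom_sound at72500 i (by omega) (by omega)
  by_cases c72750 : i < 73000
  · exact allFrom_sound at72750 i (by omega) (by omega)
  by_cases c73000 : i < 73250
  · exact allFrom_sound at73000 i (by omega) (by omega)
  by_cases c73250 : i < 73500
  · exact allFrom_sound at73250 i (by omega) (by omega)
  by_cases c73500 : i < 73750
  · exact allFrom_sound at73500 i (by omega) (by omega)
  by_cases c73750 : i < 74000
  · exact allFrom_sound at73750 i (by omega) (by omega)
  by_cases c74000 : i < 74250
  · exact allFrom_sound at74000 i (by omega) (by omega)
  by_cases c74250 : i < 74500
  · exact allFrom_sound at74250 i (by omega) (by omega)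
  by_cases c74500 : i < 74750
  · exact allFrom_sound at74500 i (by omega) (by omega)
  exact allFrom_sound at74750 i (by omega) (by omega)

end Cfsg.Agent.H96.Fi24Mult.Lab
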