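import Cfsg.Agent.H96.Fi24Mult.LabWords

/-!
Generated checks of the labels.
-/

set_option autoImplicit false
set_option Elab.async false

namespace Cfsg.Agent.H96.Fi24Mult.Lab

open Cfsg.Agent.H25.Fi24 (allFrom allFrom_sound)

set_option maxRecDepth 100000 in
theorem at75000 : allFrom ok 250 75000 = true := by decide +kernel

set_option maxRecDepth 100000 in
theorem at75250 : allFrom ok 250 75250 = true := by decide +kernel

set_option maxRecDepth 100000 in
theorem at75500 : allFrom ok 250 75500 = true := by decide +kernel

set_option maxRecDepth 100000 in
theorem at75750 : allFrom ok 250 75750 = true := by decide +kernel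

set_option maxRecDepth 100000 in
theorem at76000 : allFrom ok 250 76000 = true := by decide +kernel

set_option maxRecDepth 100000 in
theorem at76250 : allFrom ok 250 76250 = true := by decide +kernel

set_option maxRecDepth 100000 in
theorem at76500 : allFrom ok 250 76500 = true := by decide +kernel

set_option maxRecDepth 100000 in
theorem at76750 : allFrom ok 250 76750 = true := by decide +kernel

set_option maxRecDepth 100000 in
theorem at77000 : allFrom ok 250 77000 = true := by decide +kernel

set_option maxRecDepth 100000 in
theorem at77250 : allFrom ok 250 77250 = true := by decide +kernel

set_option maxRecDepth 100000 in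
theorem at77500 : allFrom ok 250 77500 = true := by decide +kernel

set_option maxRecDepth 100000 in
theorem at77750 : allFrom ok 250 77750 = true := by decide +kernel

set_option maxRecDepth 100000 in
theorem at78000 : allFrom ok 250 78000 = true := by decide +kernel

set_option maxRecDepth 100000 in
theorem at78250 : allFrom ok 250 78250 = true := by decide +kernel

set_option maxRecDepth 100000 in
theorem at78500 : allFrom ok 250 78500 = true := by decide +kernel

set_option maxRecDepth 100000 in
theorem at78750 : allFrom ok 250 78750 = true := by decide +kernel

set_option maxRecDepth 100000 in
theorem at79000 : allFrom ok 250 79000 = true := by decide +kernel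

set_option maxRecDepth 100000 in
theorem at79250 : allFrom ok 250 79250 = true := by decide +kernel

set_option maxRecDepth 100000 in
theorem at79500 : allFrom ok 250 79500 = true := by decide +kernel

set_option maxRecDepth 100000 in
theorem at79750 : allFrom ok 250 79750 = true := by decide +kernel

theorem range15 (i : ℕ) (h1 : 75000 ≤ i) (h2 : i < 80000) : ok i = true := by
  by_cases c75000 : i < 75250
  · exact allFrom_sound at75000 i (by omega) (by omega)
  by_cases c75250 : i < 75500
  · exact allFrom_sound at75250 i (by omega) (by omega)
  by_cases c75500 : i < 75750
  · exact allFrom_sound at75500 i (by omega) (by omega)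
  by_cases c75750 : i < 76000
  · exact allFrom_sound at75750 i (by omega) (by omega)
  by_cases c76000 : i < 76250
  · exact allFrom_sound at76000 i (by omega) (by omega)
  by_cases c76250 : i < 76500
  · exact allFrom_sound at76250 i (by omega) (by omega)
  by_cases c76500 : i < 76750
  · exact allFrom_sound at76500 i (by omega) (by omega)
  by_cases c76750 : i < 77000
  · exact allFrom_sound at76750 i (by omega) (by omega)
  by_cases c77000 : i < 77250
  · exact allFrom_sound at77000 i (by omega) (by omega)
  by_cases c77250 : i < 77500
  · exact allFrom_sound at77250 i (by omega) (by omega)
  by_cases c77500 : i < 77750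
  · exact allFrom_sound at77500 i (by omega) (by omega)
  by_cases c77750 : i < 78000
  · exact allFrom_sound at77750 i (by omega) (by omega)
  by_cases c78000 : i < 78250
  · exact allFrom_sound at78000 i (by omega) (by omega)
  by_cases c78250 : i < 78500
  · exact allFrom_sound at78250 i (by omega) (by omega)
  by_cases c78500 : i < 78750
  · exact allFrom_sound at78500 i (by omega) (by omega)
  by_cases c78750 : i < 79000
  · exact allFrom_sound at78750 i (by omega) (by omega)
  by_cases c79000 : i < 79250
  · exact allFrom_sound at79000 i (by omega) (by omega)
  by_cases c79250 : i < 79500
  · exact allFrom_sound at79250 i (by omega) (by omega)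
  by_cases c79500 : i < 79750
  · exact allFrom_sound at79500 i (by omega) (by omega)
  exact allFrom_sound at79750 i (by omega) (by omega)

end Cfsg.Agent.H96.Fi24Mult.Lab
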