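import Cfsg.Agent.H96.Fi24Mult.LabWords

/-!
Generated checks of the labels.
-/

set_option autoImplicit false
set_option Elab.async false

namespace Cfsg.Agent.H96.Fi24Mult.Lab

open Cfsg.Agent.H25.Fi24 (allFrom allFrom_sound)

set_option maxRecDepth 100000 in
theorem at80000 : allFrom ok 250 80000 = true := by decide +kernel

set_option maxRecDepth 100000 in
theorem at80250 : allFrom ok 250 80250 = true := by decide +kernel

set_option maxRecDepth 100000 in
theorem at80500 : allFrom ok 250 80500 = true := by decide +kernel

set_option maxRecDepth 100000 in
theorem at80750 : allFrom ok 250 80750 = true := by decide +kernel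

set_option maxRecDepth 100000 in
theorem at81000 : allFrom ok 250 81000 = true := by decide +kernel

set_option maxRecDepth 100000 in
theorem at81250 : allFrom ok 250 81250 = true := by decide +kernel

set_option maxRecDepth 100000 in
theorem at81500 : allFrom ok 250 81500 = true := by decide +kernel

set_option maxRecDepth 100000 in
theorem at81750 : allFrom ok 250 81750 = true := by decide +kernel

set_option maxRecDepth 100000 in
theorem at82000 : allFrom ok 250 82000 = true := by decide +kernel

set_option maxRecDepth 100000 in
theorem at82250 : allFrom ok 250 82250 = true := by decide +kernel

set_option maxRecDepth 100000 in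
theorem at82500 : allFrom ok 250 82500 = true := by decide +kernel

set_option maxRecDepth 100000 in
theorem at82750 : allFrom ok 250 82750 = true := by decide +kernel

set_option maxRecDepth 100000 in
theorem at83000 : allFrom ok 250 83000 = true := by decide +kernel

set_option maxRecDepth 100000 in
theorem at83250 : allFrom ok 250 83250 = true := by decide +kernel

set_option maxRecDepth 100000 in
theorem at83500 : allFrom ok 250 83500 = true := by decide +kernel

set_option maxRecDepth 100000 in
theorem at83750 : allFrom ok 250 83750 = true := by decide +kernel

set_option maxRecDepth 100000 in
theorem at84000 : allFrom ok 250 84000 = true := by decide +kernel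

set_option maxRecDepth 100000 in
theorem at84250 : allFrom ok 250 84250 = true := by decide +kernel

set_option maxRecDepth 100000 in
theorem at84500 : allFrom ok 250 84500 = true := by decide +kernel

set_option maxRecDepth 100000 in
theorem at84750 : allFrom ok 250 84750 = true := by decide +kernel

theorem range16 (i : ℕ) (h1 : 80000 ≤ i) (h2 : i < 85000) : ok i = true := by
  by_cases c80000 : i < 80250
  · exact allFrom_sound at80000 i (by omega) (by omega)
  by_cases c80250 : i < 80500
  · exact allFrom_sound at80250 i (by omega) (by omega)
  by_cases c80500 : i < 80750
  · exact allFrom_sound at80500 i (by omega) (by omega)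
  by_cases c80750 : i < 81000
  · exact allFrom_sound at80750 i (by omega) (by omega)
  by_cases c81000 : i < 81250
  · exact allFrom_sound at81000 i (by omega) (by omega)
  by_cases c81250 : i < 81500
  · exact allFrom_sound at81250 i (by omega) (by omega)
  by_cases c81500 : i < 81750
  · exact allFrom_sound at81500 i (by omega) (by omega)
  by_cases c81750 : i < 82000
  · exact allFrom_sound at81750 i (by omega) (by omega)
  by_cases c82000 : i < 82250
  · exact allFrom_sound at82000 i (by omega) (by omega)
  by_cases c82250 : i < 82500
  · exact allFrom_sound at82250 i (by omega) (by omega)
  by_cases c82500 : i < 82750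
  · exact allFrom_sound at82500 i (by omega) (by omega)
  by_cases c82750 : i < 83000
  · exact allFrom_sound at82750 i (by omega) (by omega)
  by_cases c83000 : i < 83250
  · exact allFrom_sound at83000 i (by omega) (by omega)
  by_cases c83250 : i < 83500
  · exact allFrom_sound at83250 i (by omega) (by omega)
  by_cases c83500 : i < 83750
  · exact allFrom_sound at83500 i (by omega) (by omega)
  by_cases c83750 : i < 84000
  · exact allFrom_sound at83750 i (by omega) (by omega)
  by_cases c84000 : i < 84250
  · exact allFrom_sound at84000 i (by omega) (by omega)
  by_cases c84250 : i < 84500
  · exact allFrom_sound at84250 i (by omega) (by omega)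
  by_cases c84500 : i < 84750
  · exact allFrom_sound at84500 i (by omega) (by omega)
  exact allFrom_sound at84750 i (by omega) (by omega)

end Cfsg.Agent.H96.Fi24Mult.Lab
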