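import Cfsg.Agent.H96.Fi24Mult.LabWords

/-!
Generated checks of the labels.
-/

set_option autoImplicit false
set_option Elab.async false

namespace Cfsg.Agent.H96.Fi24Mult.Lab

open Cfsg.Agent.H25.Fi24 (allFrom allFrom_sound)

set_option maxRecDepth 100000 in
theorem at85000 : allFrom ok 250 85000 = true := by decide +kernel

set_option maxRecDepth 100000 in
theorem at85250 : allFrom ok 250 85250 = true := by decide +kernel

set_option maxRecDepth 100000 in
theorem at85500 : allFrom ok 250 85500 = true := by decide +kernel

set_option maxRecDepth 100000 in
theorem at85750 : allFrom ok 250 85750 = true := by decide +kernel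

set_option maxRecDepth 100000 in
theorem at86000 : allFrom ok 250 86000 = true := by decide +kernel

set_option maxRecDepth 100000 in
theorem at86250 : allFrom ok 250 86250 = true := by decide +kernel

set_option maxRecDepth 100000 in
theorem at86500 : allFrom ok 250 86500 = true := by decide +kernel

set_option maxRecDepth 100000 in
theorem at86750 : allFrom ok 250 86750 = true := by decide +kernel

set_option maxRecDepth 100000 in
theorem at87000 : allFrom ok 250 87000 = true := by decide +kernel

set_option maxRecDepth 100000 in
theorem at87250 : allFrom ok 250 87250 = true := by decide +kernel

set_option maxRecDepth 100000 in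
theorem at87500 : allFrom ok 250 87500 = true := by decide +kernel

set_option maxRecDepth 100000 in
theorem at87750 : allFrom ok 250 87750 = true := by decide +kernel

set_option maxRecDepth 100000 in
theorem at88000 : allFrom ok 250 88000 = true := by decide +kernel

set_option maxRecDepth 100000 in
theorem at88250 : allFrom ok 250 88250 = true := by decide +kernel

set_option maxRecDepth 100000 in
theorem at88500 : allFrom ok 250 88500 = true := by decide +kernel

set_option maxRecDepth 100000 in
theorem at88750 : allFrom ok 250 88750 = true := by decide +kernel

set_option maxRecDepth 100000 in
theorem at89000 : allFrom ok 250 89000 = true := by decide +kernel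

set_option maxRecDepth 100000 in
theorem at89250 : allFrom ok 250 89250 = true := by decide +kernel

set_option maxRecDepth 100000 in
theorem at89500 : allFrom ok 250 89500 = true := by decide +kernel

set_option maxRecDepth 100000 in
theorem at89750 : allFrom ok 250 89750 = true := by decide +kernel

theorem range17 (i : ℕ) (h1 : 85000 ≤ i) (h2 : i < 90000) : ok i = true := by
  by_cases c85000 : i < 85250
  · exact allFrom_sound at85000 i (by omega) (by omega)
  by_cases c85250 : i < 85500
  · exact allFrom_sound at85250 i (by omega) (by omega)
  by_cases c85500 : i < 85750
  · exact allFrom_sound at85500 i (by omega) (by omega)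
  by_cases c85750 : i < 86000
  · exact allFrom_sound at85750 i (by omega) (by omega)
  by_cases c86000 : i < 86250
  · exact allFrom_sound at86000 i (by omega) (by omega)
  by_cases c86250 : i < 86500
  · exact allFrom_sound at86250 i (by omega) (by omega)
  by_cases c86500 : i < 86750
  · exact allFrom_sound at86500 i (by omega) (by omega)
  by_cases c86750 : i < 87000
  · exact allFrom_sound at86750 i (by omega) (by omega)
  by_cases c87000 : i < 87250
  · exact allFrom_sound at87000 i (by omega) (by omega)
  by_cases c87250 : i < 87500
  · exact allFrom_sound at87250 i (by omega) (by omega)
  by_cases c87500 : i < 87750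
  · exact allFrom_sound at87500 i (by omega) (by omega)
  by_cases c87750 : i < 88000
  · exact allFrom_sound at87750 i (by omega) (by omega)
  by_cases c88000 : i < 88250
  · exact allFrom_sound at88000 i (by omega) (by omega)
  by_cases c88250 : i < 88500
  · exact allFrom_sound at88250 i (by omega) (by omega)
  by_cases c88500 : i < 88750
  · exact allFrom_sound at88500 i (by omega) (by omega)
  by_cases c88750 : i < 89000
  · exact allFrom_sound at88750 i (by omega) (by omega)
  by_cases c89000 : i < 89250
  · exact allFrom_sound at89000 i (by omega) (by omega)
  by_cases c89250 : i < 89500
  · exact allFrom_sound at89250 i (by omega) (by omega)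
  by_cases c89500 : i < 89750
  · exact allFrom_sound at89500 i (by omega) (by omega)
  exact allFrom_sound at89750 i (by omega) (by omega)

end Cfsg.Agent.H96.Fi24Mult.Lab
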