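import Cfsg.Agent.H96.Fi24Mult.LabWords

/-!
Generated checks of the labels.
-/

set_option autoImplicit false
set_option Elab.async false

namespace Cfsg.Agent.H96.Fi24Mult.Lab

open Cfsg.Agent.H25.Fi24 (allFrom allFrom_sound)

set_option maxRecDepth 100000 in
theorem at90000 : allFrom ok 250 90000 = true := by decide +kernel

set_option maxRecDepth 100000 in
theorem at90250 : allFrom ok 250 90250 = true := by decide +kernel

set_option maxRecDepth 100000 in
theorem at90500 : allFrom ok 250 90500 = true := by decide +kernel

set_option maxRecDepth 100000 in
theorem at90750 : allFrom ok 250 90750 = true := by decide +kernel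

set_option maxRecDepth 100000 in
theorem at91000 : allFrom ok 250 91000 = true := by decide +kernel

set_option maxRecDepth 100000 in
theorem at91250 : allFrom ok 250 91250 = true := by decide +kernel

set_option maxRecDepth 100000 in
theorem at91500 : allFrom ok 250 91500 = true := by decide +kernel

set_option maxRecDepth 100000 in
theorem at91750 : allFrom ok 250 91750 = true := by decide +kernel

set_option maxRecDepth 100000 in
theorem at92000 : allFrom ok 250 92000 = true := by decide +kernel

set_option maxRecDepth 100000 in
theorem at92250 : allFrom ok 250 92250 = true := by decide +kernel

set_option maxRecDepth 100000 in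
theorem at92500 : allFrom ok 250 92500 = true := by decide +kernel

set_option maxRecDepth 100000 in
theorem at92750 : allFrom ok 250 92750 = true := by decide +kernel

set_option maxRecDepth 100000 in
theorem at93000 : allFrom ok 250 93000 = true := by decide +kernel

set_option maxRecDepth 100000 in
theorem at93250 : allFrom ok 250 93250 = true := by decide +kernel

set_option maxRecDepth 100000 in
theorem at93500 : allFrom ok 250 93500 = true := by decide +kernel

set_option maxRecDepth 100000 in
theorem at93750 : allFrom ok 250 93750 = true := by decide +kernel

set_option maxRecDepth 100000 in
theorem at94000 : allFrom ok 250 94000 = true := by decide +kernel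

set_option maxRecDepth 100000 in
theorem at94250 : allFrom ok 250 94250 = true := by decide +kernel

set_option maxRecDepth 100000 in
theorem at94500 : allFrom ok 250 94500 = true := by decide +kernel

set_option maxRecDepth 100000 in
theorem at94750 : allFrom ok 250 94750 = true := by decide +kernel

theorem range18 (i : ℕ) (h1 : 90000 ≤ i) (h2 : i < 95000) : ok i = true := by
  by_cases c90000 : i < 90250
  · exact allFrom_sound at90000 i (by omega) (by omega)
  by_cases c90250 : i < 90500
  · exact allFrom_sound at90250 i (by omega) (by omega)
  by_cases c90500 : i < 90750
  · exact allFrom_sound at90500 i (by omega) (by omega)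
  by_cases c90750 : i < 91000
  · exact allFrom_sound at90750 i (by omega) (by omega)
  by_cases c91000 : i < 91250
  · exact allFrom_sound at91000 i (by omega) (by omega)
  by_cases c91250 : i < 91500
  · exact allFrom_sound at91250 i (by omega) (by omega)
  by_cases c91500 : i < 91750
  · exact allFrom_sound at91500 i (by omega) (by omega)
  by_cases c91750 : i < 92000
  · exact allFrom_sound at91750 i (by omega) (by omega)
  by_cases c92000 : i < 92250
  · exact allFrom_sound at92000 i (by omega) (by omega)
  by_cases c92250 : i < 92500
  · exact allFrom_sound at92250 i (by omega) (by omega)
  by_cases c92500 : i < 92750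
  · exact allFrom_sound at92500 i (by omega) (by omega)
  by_cases c92750 : i < 93000
  · exact allFrom_sound at92750 i (by omega) (by omega)
  by_cases c93000 : i < 93250
  · exact allFrom_sound at93000 i (by omega) (by omega)
  by_cases c93250 : i < 93500
  · exact allFrom_sound at93250 i (by omega) (by omega)
  by_cases c93500 : i < 93750
  · exact allFrom_sound at93500 i (by omega) (by omega)
  by_cases c93750 : i < 94000
  · exact allFrom_sound at93750 i (by omega) (by omega)
  by_cases c94000 : i < 94250
  · exact allFrom_sound at94000 i (by omega) (by omega)
  by_cases c94250 : i < 94500
  · exact allFrom_sound at94250 i (by omega) (by omega)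
  by_cases c94500 : i < 94750
  · exact allFrom_sound at94500 i (by omega) (by omega)
  exact allFrom_sound at94750 i (by omega) (by omega)

end Cfsg.Agent.H96.Fi24Mult.Lab
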