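import Cfsg.Agent.H96.Fi24Mult.LabWords

/-!
Generated checks of the labels.
-/

set_option autoImplicit false
set_option Elab.async false

namespace Cfsg.Agent.H96.Fi24Mult.Lab

open Cfsg.Agent.H25.Fi24 (allFrom allFrom_sound)

set_option maxRecDepth 100000 in
theorem at95000 : allFrom ok 250 95000 = true := by decide +kernel

set_option maxRecDepth 100000 in
theorem at95250 : allFrom ok 250 95250 = true := by decide +kernel

set_option maxRecDepth 100000 in
theorem at95500 : allFrom ok 250 95500 = true := by decide +kernel

set_option maxRecDepth 100000 in
theorem at95750 : allFrom ok 250 95750 = true := by decide +kernel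

set_option maxRecDepth 100000 in
theorem at96000 : allFrom ok 250 96000 = true := by decide +kernel

set_option maxRecDepth 100000 in
theorem at96250 : allFrom ok 250 96250 = true := by decide +kernel

set_option maxRecDepth 100000 in
theorem at96500 : allFrom ok 250 96500 = true := by decide +kernel

set_option maxRecDepth 100000 in
theorem at96750 : allFrom ok 250 96750 = true := by decide +kernel

set_option maxRecDepth 100000 in
theorem at97000 : allFrom ok 250 97000 = true := by decide +kernel

set_option maxRecDepth 100000 in
theorem at97250 : allFrom ok 250 97250 = true := by decide +kernel

set_option maxRecDepth 100000 in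
theorem at97500 : allFrom ok 250 97500 = true := by decide +kernel

set_option maxRecDepth 100000 in
theorem at97750 : allFrom ok 250 97750 = true := by decide +kernel

set_option maxRecDepth 100000 in
theorem at98000 : allFrom ok 250 98000 = true := by decide +kernel

set_option maxRecDepth 100000 in
theorem at98250 : allFrom ok 250 98250 = true := by decide +kernel

set_option maxRecDepth 100000 in
theorem at98500 : allFrom ok 250 98500 = true := by decide +kernel

set_option maxRecDepth 100000 in
theorem at98750 : allFrom ok 250 98750 = true := by decide +kernel

set_option maxRecDepth 100000 in
theorem at99000 : allFrom ok 250 99000 = true := by decide +kernel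

set_option maxRecDepth 100000 in
theorem at99250 : allFrom ok 250 99250 = true := by decide +kernel

set_option maxRecDepth 100000 in
theorem at99500 : allFrom ok 250 99500 = true := by decide +kernel

set_option maxRecDepth 100000 in
theorem at99750 : allFrom ok 250 99750 = true := by decide +kernel

theorem range19 (i : ℕ) (h1 : 95000 ≤ i) (h2 : i < 100000) : ok i = true := by
  by_cases c95000 : i < 95250
  · exact allFrom_sound at95000 i (by omega) (by omega)
  by_cases c95250 : i < 95500
  · exact allFrom_sound at95250 i (by omega) (by omega)
  by_cases c95500 : i < 95750
  · exact allFrom_sound at95500 i (by omega) (by omega)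
  by_cases c95750 : i < 96000
  · exact allFrom_sound at95750 i (by omega) (by omega)
  by_cases c96000 : i < 96250
  · exact allFrom_sound at96000 i (by omega) (by omega)
  by_cases c96250 : i < 96500
  · exact allFrom_sound at96250 i (by omega) (by omega)
  by_cases c96500 : i < 96750
  · exact allFrom_sound at96500 i (by omega) (by omega)
  by_cases c96750 : i < 97000
  · exact allFrom_sound at96750 i (by omega) (by omega)
  by_cases c97000 : i < 97250
  · exact allFrom_sound at97000 i (by omega) (by omega)
  by_cases c97250 : i < 97500
  · exact allFrom_sound at97250 i (by omega) (by omega)
  by_cases c97500 : i < 97750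
  · exact allFrom_sound at97500 i (by omega) (by omega)
  by_cases c97750 : i < 98000
  · exact allFrom_sound at97750 i (by omega) (by omega)
  by_cases c98000 : i < 98250
  · exact allFrom_sound at98000 i (by omega) (by omega)
  by_cases c98250 : i < 98500
  · exact allFrom_sound at98250 i (by omega) (by omega)
  by_cases c98500 : i < 98750
  · exact allFrom_sound at98500 i (by omega) (by omega)
  by_cases c98750 : i < 99000
  · exact allFrom_sound at98750 i (by omega) (by omega)
  by_cases c99000 : i < 99250
  · exact allFrom_sound at99000 i (by omega) (by omega)
  by_cases c99250 : i < 99500
  · exact allFrom_sound at99250 i (by omega) (by omega)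
  by_cases c99500 : i < 99750
  · exact allFrom_sound at99500 i (by omega) (by omega)
  exact allFrom_sound at99750 i (by omega) (by omega)

end Cfsg.Agent.H96.Fi24Mult.Lab
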