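import Cfsg.Agent.H96.Fi24Mult.LabWords

/-!
Generated checks of the labels.
-/

set_option autoImplicit false
set_option Elab.async false

namespace Cfsg.Agent.H96.Fi24Mult.Lab

open Cfsg.Agent.H25.Fi24 (allFrom allFrom_sound)

set_option maxRecDepth 100000 in
theorem at10000 : allFrom ok 250 10000 = true := by decide +kernel

set_option maxRecDepth 100000 in
theorem at10250 : allFrom ok 250 10250 = true := by decide +kernel

set_option maxRecDepth 100000 in
theorem at10500 : allFrom ok 250 10500 = true := by decide +kernel

set_option maxRecDepth 100000 in
theorem at10750 : allFrom ok 250 10750 = true := by decide +kernel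

set_option maxRecDepth 100000 in
theorem at11000 : allFrom ok 250 11000 = true := by decide +kernel

set_option maxRecDepth 100000 in
theorem at11250 : allFrom ok 250 11250 = true := by decide +kernel

set_option maxRecDepth 100000 in
theorem at11500 : allFrom ok 250 11500 = true := by decide +kernel

set_option maxRecDepth 100000 in
theorem at11750 : allFrom ok 250 11750 = true := by decide +kernel

set_option maxRecDepth 100000 in
theorem at12000 : allFrom ok 250 12000 = true := by decide +kernel

set_option maxRecDepth 100000 in
theorem at12250 : allFrom ok 250 12250 = true := by decide +kernel

set_option maxRecDepth 100000 in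
theorem at12500 : allFrom ok 250 12500 = true := by decide +kernel

set_option maxRecDepth 100000 in
theorem at12750 : allFrom ok 250 12750 = true := by decide +kernel

set_option maxRecDepth 100000 in
theorem at13000 : allFrom ok 250 13000 = true := by decide +kernel

set_option maxRecDepth 100000 in
theorem at13250 : allFrom ok 250 13250 = true := by decide +kernel

set_option maxRecDepth 100000 in
theorem at13500 : allFrom ok 250 13500 = true := by decide +kernel

set_option maxRecDepth 100000 in
theorem at13750 : allFrom ok 250 13750 = true := by decide +kernel

set_option maxRecDepth 100000 in
theorem at14000 : allFrom ok 250 14000 = true := by decide +kernel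

set_option maxRecDepth 100000 in
theorem at14250 : allFrom ok 250 14250 = true := by decide +kernel

set_option maxRecDepth 100000 in
theorem at14500 : allFrom ok 250 14500 = true := by decide +kernel

set_option maxRecDepth 100000 in
theorem at14750 : allFrom ok 250 14750 = true := by decide +kernel

theorem range2 (i : ℕ) (h1 : 10000 ≤ i) (h2 : i < 15000) : ok i = true := by
  by_cases c10000 : i < 10250
  · exact allFrom_sound at10000 i (by omega) (by omega)
  by_cases c10250 : i < 10500
  · exact allFrom_sound at10250 i (by omega) (by omega)
  by_cases c10500 : i < 10750
  · exact allFrom_sound at10500 i (by omega) (by omega)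
  by_cases c10750 : i < 11000
  · exact allFrom_sound at10750 i (by omega) (by omega)
  by_cases c11000 : i < 11250
  · exact allFrom_sound at11000 i (by omega) (by omega)
  by_cases c11250 : i < 11500
  · exact allFrom_sound at11250 i (by omega) (by omega)
  by_cases c11500 : i < 11750
  · exact allFrom_sound at11500 i (by omega) (by omega)
  by_cases c11750 : i < 12000
  · exact allFrom_sound at11750 i (by omega) (by omega)
  by_cases c12000 : i < 12250
  · exact allFrom_sound at12000 i (by omega) (by omega)
  by_cases c12250 : i < 12500
  · exact allFrom_sound at12250 i (by omega) (by omega)
  by_cases c12500 : i < 12750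
  · exact allFrom_sound at12500 i (by omega) (by omega)
  by_cases c12750 : i < 13000
  · exact allFrom_sound at12750 i (by omega) (by omega)
  by_cases c13000 : i < 13250
  · exact allFrom_sound at13000 i (by omega) (by omega)
  by_cases c13250 : i < 13500
  · exact allFrom_sound at13250 i (by omega) (by omega)
  by_cases c13500 : i < 13750
  · exact allFrom_sound at13500 i (by omega) (by omega)
  by_cases c13750 : i < 14000
  · exact allFrom_sound at13750 i (by omega) (by omega)
  by_cases c14000 : i < 14250
  · exact allFrom_sound at14000 i (by omega) (by omega)
  by_cases c14250 : i < 14500
  · exact allFrom_sound at14250 i (by omega) (by omega)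
  by_cases c14500 : i < 14750
  · exact allFrom_sound at14500 i (by omega) (by omega)
  exact allFrom_sound at14750 i (by omega) (by omega)

end Cfsg.Agent.H96.Fi24Mult.Lab
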