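import Cfsg.Agent.H96.Fi24Mult.LabWords

/-!
Generated checks of the labels.
-/

set_option autoImplicit false
set_option Elab.async false

namespace Cfsg.Agent.H96.Fi24Mult.Lab

open Cfsg.Agent.H25.Fi24 (allFrom allFrom_sound)

set_option maxRecDepth 100000 in
theorem at100000 : allFrom ok 250 100000 = true := by decide +kernel

set_option maxRecDepth 100000 in
theorem at100250 : allFrom ok 250 100250 = true := by decide +kernel

set_option maxRecDepth 100000 in
theorem at100500 : allFrom ok 250 100500 = true := by decide +kernel

set_option maxRecDepth 100000 in
theorem at100750 : allFrom ok 250 100750 = true := by decide +kernel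

set_option maxRecDepth 100000 in
theorem at101000 : allFrom ok 250 101000 = true := by decide +kernel

set_option maxRecDepth 100000 in
theorem at101250 : allFrom ok 250 101250 = true := by decide +kernel

set_option maxRecDepth 100000 in
theorem at101500 : allFrom ok 250 101500 = true := by decide +kernel

set_option maxRecDepth 100000 in
theorem at101750 : allFrom ok 250 101750 = true := by decide +kernel

set_option maxRecDepth 100000 in
theorem at102000 : allFrom ok 250 102000 = true := by decide +kernel

set_option maxRecDepth 100000 in
theorem at102250 : allFrom ok 250 102250 = true := by decide +kernel

set_option maxRecDepth 100000 in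
theorem at102500 : allFrom ok 250 102500 = true := by decide +kernel

set_option maxRecDepth 100000 in
theorem at102750 : allFrom ok 250 102750 = true := by decide +kernel

set_option maxRecDepth 100000 in
theorem at103000 : allFrom ok 250 103000 = true := by decide +kernel

set_option maxRecDepth 100000 in
theorem at103250 : allFrom ok 250 103250 = true := by decide +kernel

set_option maxRecDepth 100000 in
theorem at103500 : allFrom ok 250 103500 = true := by decide +kernel

set_option maxRecDepth 100000 in
theorem at103750 : allFrom ok 250 103750 = true := by decide +kernel

set_option maxRecDepth 100000 in
theorem at104000 : allFrom ok 250 104000 = true := by decide +kernel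

set_option maxRecDepth 100000 in
theorem at104250 : allFrom ok 250 104250 = true := by decide +kernel

set_option maxRecDepth 100000 in
theorem at104500 : allFrom ok 250 104500 = true := by decide +kernel

set_option maxRecDepth 100000 in
theorem at104750 : allFrom ok 250 104750 = true := by decide +kernel

theorem range20 (i : ℕ) (h1 : 100000 ≤ i) (h2 : i < 105000) : ok i = true := by
  by_cases c100000 : i < 100250
  · exact allFrom_sound at100000 i (by omega) (by omega)
  by_cases c100250 : i < 100500
  · exact allFrom_sound at100250 i (by omega) (by omega)
  by_cases c100500 : i < 100750
  · exact allFrom_sound at100500 i (by omega) (by omega)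
  by_cases c100750 : i < 101000
  · exact allFrom_sound at100750 i (by omega) (by omega)
  by_cases c101000 : i < 101250
  · exact allFrom_sound at101000 i (by omega) (by omega)
  by_cases c101250 : i < 101500
  · exact allFrom_sound at101250 i (by omega) (by omega)
  by_cases c101500 : i < 101750
  · exact allFrom_sound at101500 i (by omega) (by omega)
  by_cases c101750 : i < 102000
  · exact allFrom_sound at101750 i (by omega) (by omega)
  by_cases c102000 : i < 102250
  · exact allFrom_sound at102000 i (by omega) (by omega)
  by_cases c102250 : i < 102500
  · exact allFrom_sound at102250 i (by omega) (by omega)
  by_cases c102500 : i < 102750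
  · exact allFrom_sound at102500 i (by omega) (by omega)
  by_cases c102750 : i < 103000
  · exact allFrom_sound at102750 i (by omega) (by omega)
  by_cases c103000 : i < 103250
  · exact allFrom_sound at103000 i (by omega) (by omega)
  by_cases c103250 : i < 103500
  · exact allFrom_sound at103250 i (by omega) (by omega)
  by_cases c103500 : i < 103750
  · exact allFrom_sound at103500 i (by omega) (by omega)
  by_cases c103750 : i < 104000
  · exact allFrom_sound at103750 i (by omega) (by omega)
  by_cases c104000 : i < 104250
  · exact allFrom_sound at104000 i (by omega) (by omega)
  by_cases c104250 : i < 104500
  · exact allFrom_sound at104250 i (by omega) (by omega)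
  by_cases c104500 : i < 104750
  · exact allFrom_sound at104500 i (by omega) (by omega)
  exact allFrom_sound at104750 i (by omega) (by omega)

end Cfsg.Agent.H96.Fi24Mult.Lab
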