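import Cfsg.Agent.H96.Fi24Mult.LabWords

/-!
Generated checks of the labels.
-/

set_option autoImplicit false
set_option Elab.async false

namespace Cfsg.Agent.H96.Fi24Mult.Lab

open Cfsg.Agent.H25.Fi24 (allFrom allFrom_sound)

set_option maxRecDepth 100000 in
theorem at105000 : allFrom ok 250 105000 = true := by decide +kernel

set_option maxRecDepth 100000 in
theorem at105250 : allFrom ok 250 105250 = true := by decide +kernel

set_option maxRecDepth 100000 in
theorem at105500 : allFrom ok 250 105500 = true := by decide +kernel

set_option maxRecDepth 100000 in
theorem at105750 : allFrom ok 250 105750 = true := by decide +kernel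

set_option maxRecDepth 100000 in
theorem at106000 : allFrom ok 250 106000 = true := by decide +kernel

set_option maxRecDepth 100000 in
theorem at106250 : allFrom ok 250 106250 = true := by decide +kernel

set_option maxRecDepth 100000 in
theorem at106500 : allFrom ok 250 106500 = true := by decide +kernel

set_option maxRecDepth 100000 in
theorem at106750 : allFrom ok 250 106750 = true := by decide +kernel

set_option maxRecDepth 100000 in
theorem at107000 : allFrom ok 250 107000 = true := by decide +kernel

set_option maxRecDepth 100000 in
theorem at107250 : allFrom ok 250 107250 = true := by decide +kernel

set_option maxRecDepth 100000 in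
theorem at107500 : allFrom ok 250 107500 = true := by decide +kernel

set_option maxRecDepth 100000 in
theorem at107750 : allFrom ok 250 107750 = true := by decide +kernel

set_option maxRecDepth 100000 in
theorem at108000 : allFrom ok 250 108000 = true := by decide +kernel

set_option maxRecDepth 100000 in
theorem at108250 : allFrom ok 250 108250 = true := by decide +kernel

set_option maxRecDepth 100000 in
theorem at108500 : allFrom ok 250 108500 = true := by decide +kernel

set_option maxRecDepth 100000 in
theorem at108750 : allFrom ok 250 108750 = true := by decide +kernel

set_option maxRecDepth 100000 in
theorem at109000 : allFrom ok 250 109000 = true := by decide +kernel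

set_option maxRecDepth 100000 in
theorem at109250 : allFrom ok 250 109250 = true := by decide +kernel

set_option maxRecDepth 100000 in
theorem at109500 : allFrom ok 250 109500 = true := by decide +kernel

set_option maxRecDepth 100000 in
theorem at109750 : allFrom ok 250 109750 = true := by decide +kernel

theorem range21 (i : ℕ) (h1 : 105000 ≤ i) (h2 : i < 110000) : ok i = true := by
  by_cases c105000 : i < 105250
  · exact allFrom_sound at105000 i (by omega) (by omega)
  by_cases c105250 : i < 105500
  · exact allFrom_sound at105250 i (by omega) (by omega)
  by_cases c105500 : i < 105750
  · exact allFrom_sound at105500 i (by omega) (by omega)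
  by_cases c105750 : i < 106000
  · exact allFrom_sound at105750 i (by omega) (by omega)
  by_cases c106000 : i < 106250
  · exact allFrom_sound at106000 i (by omega) (by omega)
  by_cases c106250 : i < 106500
  · exact allFrom_sound at106250 i (by omega) (by omega)
  by_cases c106500 : i < 106750
  · exact allFrom_sound at106500 i (by omega) (by omega)
  by_cases c106750 : i < 107000
  · exact allFrom_sound at106750 i (by omega) (by omega)
  by_cases c107000 : i < 107250
  · exact allFrom_sound at107000 i (by omega) (by omega)
  by_cases c107250 : i < 107500
  · exact allFrom_sound at107250 i (by omega) (by omega)
  by_cases c107500 : i < 107750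
  · exact allFrom_sound at107500 i (by omega) (by omega)
  by_cases c107750 : i < 108000
  · exact allFrom_sound at107750 i (by omega) (by omega)
  by_cases c108000 : i < 108250
  · exact allFrom_sound at108000 i (by omega) (by omega)
  by_cases c108250 : i < 108500
  · exact allFrom_sound at108250 i (by omega) (by omega)
  by_cases c108500 : i < 108750
  · exact allFrom_sound at108500 i (by omega) (by omega)
  by_cases c108750 : i < 109000
  · exact allFrom_sound at108750 i (by omega) (by omega)
  by_cases c109000 : i < 109250
  · exact allFrom_sound at109000 i (by omega) (by omega)
  by_cases c109250 : i < 109500
  · exact allFrom_sound at109250 i (by omega) (by omega)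
  by_cases c109500 : i < 109750
  · exact allFrom_sound at109500 i (by omega) (by omega)
  exact allFrom_sound at109750 i (by omega) (by omega)

end Cfsg.Agent.H96.Fi24Mult.Lab
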