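import Cfsg.Agent.H96.Fi24Mult.LabWords

/-!
Generated checks of the labels.
-/

set_option autoImplicit false
set_option Elab.async false

namespace Cfsg.Agent.H96.Fi24Mult.Lab

open Cfsg.Agent.H25.Fi24 (allFrom allFrom_sound)

set_option maxRecDepth 100000 in
theorem at110000 : allFrom ok 250 110000 = true := by decide +kernel

set_option maxRecDepth 100000 in
theorem at110250 : allFrom ok 250 110250 = true := by decide +kernel

set_option maxRecDepth 100000 in
theorem at110500 : allFrom ok 250 110500 = true := by decide +kernel

set_option maxRecDepth 100000 in
theorem at110750 : allFrom ok 250 110750 = true := by decide +kernel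

set_option maxRecDepth 100000 in
theorem at111000 : allFrom ok 250 111000 = true := by decide +kernel

set_option maxRecDepth 100000 in
theorem at111250 : allFrom ok 250 111250 = true := by decide +kernel

set_option maxRecDepth 100000 in
theorem at111500 : allFrom ok 250 111500 = true := by decide +kernel

set_option maxRecDepth 100000 in
theorem at111750 : allFrom ok 250 111750 = true := by decide +kernel

set_option maxRecDepth 100000 in
theorem at112000 : allFrom ok 250 112000 = true := by decide +kernel

set_option maxRecDepth 100000 in
theorem at112250 : allFrom ok 250 112250 = true := by decide +kernel

set_option maxRecDepth 100000 in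
theorem at112500 : allFrom ok 250 112500 = true := by decide +kernel

set_option maxRecDepth 100000 in
theorem at112750 : allFrom ok 250 112750 = true := by decide +kernel

set_option maxRecDepth 100000 in
theorem at113000 : allFrom ok 250 113000 = true := by decide +kernel

set_option maxRecDepth 100000 in
theorem at113250 : allFrom ok 250 113250 = true := by decide +kernel

set_option maxRecDepth 100000 in
theorem at113500 : allFrom ok 250 113500 = true := by decide +kernel

set_option maxRecDepth 100000 in
theorem at113750 : allFrom ok 250 113750 = true := by decide +kernel

set_option maxRecDepth 100000 in
theorem at114000 : allFrom ok 250 114000 = true := by decide +kernel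

set_option maxRecDepth 100000 in
theorem at114250 : allFrom ok 250 114250 = true := by decide +kernel

set_option maxRecDepth 100000 in
theorem at114500 : allFrom ok 250 114500 = true := by decide +kernel

set_option maxRecDepth 100000 in
theorem at114750 : allFrom ok 250 114750 = true := by decide +kernel

theorem range22 (i : ℕ) (h1 : 110000 ≤ i) (h2 : i < 115000) : ok i = true := by
  by_cases c110000 : i < 110250
  · exact allFrom_sound at110000 i (by omega) (by omega)
  by_cases c110250 : i < 110500
  · exact allFrom_sound at110250 i (by omega) (by omega)
  by_cases c110500 : i < 110750
  · exact allFrom_sound at110500 i (by omega) (by omega)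
  by_cases c110750 : i < 111000
  · exact allFrom_sound at110750 i (by omega) (by omega)
  by_cases c111000 : i < 111250
  · exact allFrom_sound at111000 i (by omega) (by omega)
  by_cases c111250 : i < 111500
  · exact allFrom_sound at111250 i (by omega) (by omega)
  by_cases c111500 : i < 111750
  · exact allFrom_sound at111500 i (by omega) (by omega)
  by_cases c111750 : i < 112000
  · exact allFrom_sound at111750 i (by omega) (by omega)
  by_cases c112000 : i < 112250
  · exact allFrom_sound at112000 i (by omega) (by omega)
  by_cases c112250 : i < 112500
  · exact allFrom_sound at112250 i (by omega) (by omega)
  by_cases c112500 : i < 112750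
  · exact allFrom_sound at112500 i (by omega) (by omega)
  by_cases c112750 : i < 113000
  · exact allFrom_sound at112750 i (by omega) (by omega)
  by_cases c113000 : i < 113250
  · exact allFrom_sound at113000 i (by omega) (by omega)
  by_cases c113250 : i < 113500
  · exact allFrom_sound at113250 i (by omega) (by omega)
  by_cases c113500 : i < 113750
  · exact allFrom_sound at113500 i (by omega) (by omega)
  by_cases c113750 : i < 114000
  · exact allFrom_sound at113750 i (by omega) (by omega)
  by_cases c114000 : i < 114250
  · exact allFrom_sound at114000 i (by omega) (by omega)
  by_cases c114250 : i < 114500
  · exact allFrom_sound at114250 i (by omega) (by omega)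
  by_cases c114500 : i < 114750
  · exact allFrom_sound at114500 i (by omega) (by omega)
  exact allFrom_sound at114750 i (by omega) (by omega)

end Cfsg.Agent.H96.Fi24Mult.Lab
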