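import Cfsg.Agent.H96.Fi24Mult.LabWords

/-!
Generated checks of the labels.
-/

set_option autoImplicit false
set_option Elab.async false

namespace Cfsg.Agent.H96.Fi24Mult.Lab

open Cfsg.Agent.H25.Fi24 (allFrom allFrom_sound)

set_option maxRecDepth 100000 in
theorem at115000 : allFrom ok 250 115000 = true := by decide +kernel

set_option maxRecDepth 100000 in
theorem at115250 : allFrom ok 250 115250 = true := by decide +kernel

set_option maxRecDepth 100000 in
theorem at115500 : allFrom ok 250 115500 = true := by decide +kernel

set_option maxRecDepth 100000 in
theorem at115750 : allFrom ok 250 115750 = true := by decide +kernel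

set_option maxRecDepth 100000 in
theorem at116000 : allFrom ok 250 116000 = true := by decide +kernel

set_option maxRecDepth 100000 in
theorem at116250 : allFrom ok 250 116250 = true := by decide +kernel

set_option maxRecDepth 100000 in
theorem at116500 : allFrom ok 250 116500 = true := by decide +kernel

set_option maxRecDepth 100000 in
theorem at116750 : allFrom ok 250 116750 = true := by decide +kernel

set_option maxRecDepth 100000 in
theorem at117000 : allFrom ok 250 117000 = true := by decide +kernel

set_option maxRecDepth 100000 in
theorem at117250 : allFrom ok 250 117250 = true := by decide +kernel

set_option maxRecDepth 100000 in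
theorem at117500 : allFrom ok 250 117500 = true := by decide +kernel

set_option maxRecDepth 100000 in
theorem at117750 : allFrom ok 250 117750 = true := by decide +kernel

set_option maxRecDepth 100000 in
theorem at118000 : allFrom ok 250 118000 = true := by decide +kernel

set_option maxRecDepth 100000 in
theorem at118250 : allFrom ok 250 118250 = true := by decide +kernel

set_option maxRecDepth 100000 in
theorem at118500 : allFrom ok 250 118500 = true := by decide +kernel

set_option maxRecDepth 100000 in
theorem at118750 : allFrom ok 250 118750 = true := by decide +kernel

set_option maxRecDepth 100000 in
theorem at119000 : allFrom ok 250 119000 = true := by decide +kernel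

set_option maxRecDepth 100000 in
theorem at119250 : allFrom ok 250 119250 = true := by decide +kernel

set_option maxRecDepth 100000 in
theorem at119500 : allFrom ok 250 119500 = true := by decide +kernel

set_option maxRecDepth 100000 in
theorem at119750 : allFrom ok 250 119750 = true := by decide +kernel

theorem range23 (i : ℕ) (h1 : 115000 ≤ i) (h2 : i < 120000) : ok i = true := by
  by_cases c115000 : i < 115250
  · exact allFrom_sound at115000 i (by omega) (by omega)
  by_cases c115250 : i < 115500
  · exact allFrom_sound at115250 i (by omega) (by omega)
  by_cases c115500 : i < 115750
  · exact allFrom_sound at115500 i (by omega) (by omega)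
  by_cases c115750 : i < 116000
  · exact allFrom_sound at115750 i (by omega) (by omega)
  by_cases c116000 : i < 116250
  · exact allFrom_sound at116000 i (by omega) (by omega)
  by_cases c116250 : i < 116500
  · exact allFrom_sound at116250 i (by omega) (by omega)
  by_cases c116500 : i < 116750
  · exact allFrom_sound at116500 i (by omega) (by omega)
  by_cases c116750 : i < 117000
  · exact allFrom_sound at116750 i (by omega) (by omega)
  by_cases c117000 : i < 117250
  · exact allFrom_sound at117000 i (by omega) (by omega)
  by_cases c117250 : i < 117500
  · exact allFrom_sound at117250 i (by omega) (by omega)
  by_cases c117500 : i < 117750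
  · exact allFrom_sound at117500 i (by omega) (by omega)
  by_cases c117750 : i < 118000
  · exact allFrom_sound at117750 i (by omega) (by omega)
  by_cases c118000 : i < 118250
  · exact allFrom_sound at118000 i (by omega) (by omega)
  by_cases c118250 : i < 118500
  · exact allFrom_sound at118250 i (by omega) (by omega)
  by_cases c118500 : i < 118750
  · exact allFrom_sound at118500 i (by omega) (by omega)
  by_cases c118750 : i < 119000
  · exact allFrom_sound at118750 i (by omega) (by omega)
  by_cases c119000 : i < 119250
  · exact allFrom_sound at119000 i (by omega) (by omega)
  by_cases c119250 : i < 119500
  · exact allFrom_sound at119250 i (by omega) (by omega)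
  by_cases c119500 : i < 119750
  · exact allFrom_sound at119500 i (by omega) (by omega)
  exact allFrom_sound at119750 i (by omega) (by omega)

end Cfsg.Agent.H96.Fi24Mult.Lab
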