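import Cfsg.Agent.H96.Fi24Mult.LabWords

/-!
Generated checks of the labels.
-/

set_option autoImplicit false
set_option Elab.async false

namespace Cfsg.Agent.H96.Fi24Mult.Lab

open Cfsg.Agent.H25.Fi24 (allFrom allFrom_sound)

set_option maxRecDepth 100000 in
theorem at120000 : allFrom ok 250 120000 = true := by decide +kernel

set_option maxRecDepth 100000 in
theorem at120250 : allFrom ok 250 120250 = true := by decide +kernel

set_option maxRecDepth 100000 in
theorem at120500 : allFrom ok 250 120500 = true := by decide +kernel

set_option maxRecDepth 100000 in
theorem at120750 : allFrom ok 250 120750 = true := by decide +kernel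

set_option maxRecDepth 100000 in
theorem at121000 : allFrom ok 250 121000 = true := by decide +kernel

set_option maxRecDepth 100000 in
theorem at121250 : allFrom ok 250 121250 = true := by decide +kernel

set_option maxRecDepth 100000 in
theorem at121500 : allFrom ok 250 121500 = true := by decide +kernel

set_option maxRecDepth 100000 in
theorem at121750 : allFrom ok 250 121750 = true := by decide +kernel

set_option maxRecDepth 100000 in
theorem at122000 : allFrom ok 250 122000 = true := by decide +kernel

set_option maxRecDepth 100000 in
theorem at122250 : allFrom ok 250 122250 = true := by decide +kernel

set_option maxRecDepth 100000 in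
theorem at122500 : allFrom ok 250 122500 = true := by decide +kernel

set_option maxRecDepth 100000 in
theorem at122750 : allFrom ok 250 122750 = true := by decide +kernel

set_option maxRecDepth 100000 in
theorem at123000 : allFrom ok 250 123000 = true := by decide +kernel

set_option maxRecDepth 100000 in
theorem at123250 : allFrom ok 250 123250 = true := by decide +kernel

set_option maxRecDepth 100000 in
theorem at123500 : allFrom ok 250 123500 = true := by decide +kernel

set_option maxRecDepth 100000 in
theorem at123750 : allFrom ok 250 123750 = true := by decide +kernel

set_option maxRecDepth 100000 in
theorem at124000 : allFrom ok 250 124000 = true := by decide +kernel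

set_option maxRecDepth 100000 in
theorem at124250 : allFrom ok 250 124250 = true := by decide +kernel

set_option maxRecDepth 100000 in
theorem at124500 : allFrom ok 250 124500 = true := by decide +kernel

set_option maxRecDepth 100000 in
theorem at124750 : allFrom ok 250 124750 = true := by decide +kernel

theorem range24 (i : ℕ) (h1 : 120000 ≤ i) (h2 : i < 125000) : ok i = true := by
  by_cases c120000 : i < 120250
  · exact allFrom_sound at120000 i (by omega) (by omega)
  by_cases c120250 : i < 120500
  · exact allFrom_sound at120250 i (by omega) (by omega)
  by_cases c120500 : i < 120750
  · exact allFrom_sound at120500 i (by omega) (by omega)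
  by_cases c120750 : i < 121000
  · exact allFrom_sound at120750 i (by omega) (by omega)
  by_cases c121000 : i < 121250
  · exact allFrom_sound at121000 i (by omega) (by omega)
  by_cases c121250 : i < 121500
  · exact allFrom_sound at121250 i (by omega) (by omega)
  by_cases c121500 : i < 121750
  · exact allFrom_sound at121500 i (by omega) (by omega)
  by_cases c121750 : i < 122000
  · exact allFrom_sound at121750 i (by omega) (by omega)
  by_cases c122000 : i < 122250
  · exact allFrom_sound at122000 i (by omega) (by omega)
  by_cases c122250 : i < 122500
  · exact allFrom_sound at122250 i (by omega) (by omega)
  by_cases c122500 : i < 122750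
  · exact allFrom_sound at122500 i (by omega) (by omega)
  by_cases c122750 : i < 123000
  · exact allFrom_sound at122750 i (by omega) (by omega)
  by_cases c123000 : i < 123250
  · exact allFrom_sound at123000 i (by omega) (by omega)
  by_cases c123250 : i < 123500
  · exact allFrom_sound at123250 i (by omega) (by omega)
  by_cases c123500 : i < 123750
  · exact allFrom_sound at123500 i (by omega) (by omega)
  by_cases c123750 : i < 124000
  · exact allFrom_sound at123750 i (by omega) (by omega)
  by_cases c124000 : i < 124250
  · exact allFrom_sound at124000 i (by omega) (by omega)
  by_cases c124250 : i < 124500
  · exact allFrom_sound at124250 i (by omega) (by omega)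
  by_cases c124500 : i < 124750
  · exact allFrom_sound at124500 i (by omega) (by omega)
  exact allFrom_sound at124750 i (by omega) (by omega)

end Cfsg.Agent.H96.Fi24Mult.Lab
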