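import Cfsg.Agent.H96.Fi24Mult.LabWords

/-!
Generated checks of the labels.
-/

set_option autoImplicit false
set_option Elab.async false

namespace Cfsg.Agent.H96.Fi24Mult.Lab

open Cfsg.Agent.H25.Fi24 (allFrom allFrom_sound)

set_option maxRecDepth 100000 in
theorem at125000 : allFrom ok 250 125000 = true := by decide +kernel

set_option maxRecDepth 100000 in
theorem at125250 : allFrom ok 250 125250 = true := by decide +kernel

set_option maxRecDepth 100000 in
theorem at125500 : allFrom ok 250 125500 = true := by decide +kernel

set_option maxRecDepth 100000 in
theorem at125750 : allFrom ok 250 125750 = true := by decide +kernel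

set_option maxRecDepth 100000 in
theorem at126000 : allFrom ok 250 126000 = true := by decide +kernel

set_option maxRecDepth 100000 in
theorem at126250 : allFrom ok 250 126250 = true := by decide +kernel

set_option maxRecDepth 100000 in
theorem at126500 : allFrom ok 250 126500 = true := by decide +kernel

set_option maxRecDepth 100000 in
theorem at126750 : allFrom ok 250 126750 = true := by decide +kernel

set_option maxRecDepth 100000 in
theorem at127000 : allFrom ok 250 127000 = true := by decide +kernel

set_option maxRecDepth 100000 in
theorem at127250 : allFrom ok 250 127250 = true := by decide +kernel

set_option maxRecDepth 100000 in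
theorem at127500 : allFrom ok 250 127500 = true := by decide +kernel

set_option maxRecDepth 100000 in
theorem at127750 : allFrom ok 250 127750 = true := by decide +kernel

set_option maxRecDepth 100000 in
theorem at128000 : allFrom ok 250 128000 = true := by decide +kernel

set_option maxRecDepth 100000 in
theorem at128250 : allFrom ok 250 128250 = true := by decide +kernel

set_option maxRecDepth 100000 in
theorem at128500 : allFrom ok 250 128500 = true := by decide +kernel

set_option maxRecDepth 100000 in
theorem at128750 : allFrom ok 250 128750 = true := by decide +kernel

set_option maxRecDepth 100000 in
theorem at129000 : allFrom ok 250 129000 = true := by decide +kernel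

set_option maxRecDepth 100000 in
theorem at129250 : allFrom ok 250 129250 = true := by decide +kernel

set_option maxRecDepth 100000 in
theorem at129500 : allFrom ok 250 129500 = true := by decide +kernel

set_option maxRecDepth 100000 in
theorem at129750 : allFrom ok 250 129750 = true := by decide +kernel

theorem range25 (i : ℕ) (h1 : 125000 ≤ i) (h2 : i < 130000) : ok i = true := by
  by_cases c125000 : i < 125250
  · exact allFrom_sound at125000 i (by omega) (by omega)
  by_cases c125250 : i < 125500
  · exact allFrom_sound at125250 i (by omega) (by omega)
  by_cases c125500 : i < 125750
  · exact allFrom_sound at125500 i (by omega) (by omega)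
  by_cases c125750 : i < 126000
  · exact allFrom_sound at125750 i (by omega) (by omega)
  by_cases c126000 : i < 126250
  · exact allFrom_sound at126000 i (by omega) (by omega)
  by_cases c126250 : i < 126500
  · exact allFrom_sound at126250 i (by omega) (by omega)
  by_cases c126500 : i < 126750
  · exact allFrom_sound at126500 i (by omega) (by omega)
  by_cases c126750 : i < 127000
  · exact allFrom_sound at126750 i (by omega) (by omega)
  by_cases c127000 : i < 127250
  · exact allFrom_sound at127000 i (by omega) (by omega)
  by_cases c127250 : i < 127500
  · exact allFrom_sound at127250 i (by omega) (by omega)
  by_cases c127500 : i < 127750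
  · exact allFrom_sound at127500 i (by omega) (by omega)
  by_cases c127750 : i < 128000
  · exact allFrom_sound at127750 i (by omega) (by omega)
  by_cases c128000 : i < 128250
  · exact allFrom_sound at128000 i (by omega) (by omega)
  by_cases c128250 : i < 128500
  · exact allFrom_sound at128250 i (by omega) (by omega)
  by_cases c128500 : i < 128750
  · exact allFrom_sound at128500 i (by omega) (by omega)
  by_cases c128750 : i < 129000
  · exact allFrom_sound at128750 i (by omega) (by omega)
  by_cases c129000 : i < 129250
  · exact allFrom_sound at129000 i (by omega) (by omega)
  by_cases c129250 : i < 129500
  · exact allFrom_sound at129250 i (by omega) (by omega)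
  by_cases c129500 : i < 129750
  · exact allFrom_sound at129500 i (by omega) (by omega)
  exact allFrom_sound at129750 i (by omega) (by omega)

end Cfsg.Agent.H96.Fi24Mult.Lab
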