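import Cfsg.Agent.H96.Fi24Mult.LabWords

/-!
Generated checks of the labels.
-/

set_option autoImplicit false
set_option Elab.async false

namespace Cfsg.Agent.H96.Fi24Mult.Lab

open Cfsg.Agent.H25.Fi24 (allFrom allFrom_sound)

set_option maxRecDepth 100000 in
theorem at130000 : allFrom ok 250 130000 = true := by decide +kernel

set_option maxRecDepth 100000 in
theorem at130250 : allFrom ok 250 130250 = true := by decide +kernel

set_option maxRecDepth 100000 in
theorem at130500 : allFrom ok 250 130500 = true := by decide +kernel

set_option maxRecDepth 100000 in
theorem at130750 : allFrom ok 250 130750 = true := by decide +kernel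

set_option maxRecDepth 100000 in
theorem at131000 : allFrom ok 250 131000 = true := by decide +kernel

set_option maxRecDepth 100000 in
theorem at131250 : allFrom ok 250 131250 = true := by decide +kernel

set_option maxRecDepth 100000 in
theorem at131500 : allFrom ok 250 131500 = true := by decide +kernel

set_option maxRecDepth 100000 in
theorem at131750 : allFrom ok 250 131750 = true := by decide +kernel

set_option maxRecDepth 100000 in
theorem at132000 : allFrom ok 250 132000 = true := by decide +kernel

set_option maxRecDepth 100000 in
theorem at132250 : allFrom ok 250 132250 = true := by decide +kernel

set_option maxRecDepth 100000 in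
theorem at132500 : allFrom ok 250 132500 = true := by decide +kernel

set_option maxRecDepth 100000 in
theorem at132750 : allFrom ok 250 132750 = true := by decide +kernel

set_option maxRecDepth 100000 in
theorem at133000 : allFrom ok 250 133000 = true := by decide +kernel

set_option maxRecDepth 100000 in
theorem at133250 : allFrom ok 250 133250 = true := by decide +kernel

set_option maxRecDepth 100000 in
theorem at133500 : allFrom ok 250 133500 = true := by decide +kernel

set_option maxRecDepth 100000 in
theorem at133750 : allFrom ok 250 133750 = true := by decide +kernel

set_option maxRecDepth 100000 in
theorem at134000 : allFrom ok 250 134000 = true := by decide +kernel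

set_option maxRecDepth 100000 in
theorem at134250 : allFrom ok 250 134250 = true := by decide +kernel

set_option maxRecDepth 100000 in
theorem at134500 : allFrom ok 250 134500 = true := by decide +kernel

set_option maxRecDepth 100000 in
theorem at134750 : allFrom ok 250 134750 = true := by decide +kernel

theorem range26 (i : ℕ) (h1 : 130000 ≤ i) (h2 : i < 135000) : ok i = true := by
  by_cases c130000 : i < 130250
  · exact allFrom_sound at130000 i (by omega) (by omega)
  by_cases c130250 : i < 130500
  · exact allFrom_sound at130250 i (by omega) (by omega)
  by_cases c130500 : i < 130750
  · exact allFrom_sound at130500 i (by omega) (by omega)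
  by_cases c130750 : i < 131000
  · exact allFrom_sound at130750 i (by omega) (by omega)
  by_cases c131000 : i < 131250
  · exact allFrom_sound at131000 i (by omega) (by omega)
  by_cases c131250 : i < 131500
  · exact allFrom_sound at131250 i (by omega) (by omega)
  by_cases c131500 : i < 131750
  · exact allFrom_sound at131500 i (by omega) (by omega)
  by_cases c131750 : i < 132000
  · exact allFrom_sound at131750 i (by omega) (by omega)
  by_cases c132000 : i < 132250
  · exact allFrom_sound at132000 i (by omega) (by omega)
  by_cases c132250 : i < 132500
  · exact allFrom_sound at132250 i (by omega) (by omega)
  by_cases c132500 : i < 132750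
  · exact allFrom_sound at132500 i (by omega) (by omega)
  by_cases c132750 : i < 133000
  · exact allFrom_sound at132750 i (by omega) (by omega)
  by_cases c133000 : i < 133250
  · exact allFrom_sound at133000 i (by omega) (by omega)
  by_cases c133250 : i < 133500
  · exact allFrom_sound at133250 i (by omega) (by omega)
  by_cases c133500 : i < 133750
  · exact allFrom_sound at133500 i (by omega) (by omega)
  by_cases c133750 : i < 134000
  · exact allFrom_sound at133750 i (by omega) (by omega)
  by_cases c134000 : i < 134250
  · exact allFrom_sound at134000 i (by omega) (by omega)
  by_cases c134250 : i < 134500
  · exact allFrom_sound at134250 i (by omega) (by omega)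
  by_cases c134500 : i < 134750
  · exact allFrom_sound at134500 i (by omega) (by omega)
  exact allFrom_sound at134750 i (by omega) (by omega)

end Cfsg.Agent.H96.Fi24Mult.Lab
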