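import Cfsg.Agent.H96.Fi24Mult.LabWords

/-!
Generated checks of the labels.
-/

set_option autoImplicit false
set_option Elab.async false

namespace Cfsg.Agent.H96.Fi24Mult.Lab

open Cfsg.Agent.H25.Fi24 (allFrom allFrom_sound)

set_option maxRecDepth 100000 in
theorem at135000 : allFrom ok 250 135000 = true := by decide +kernel

set_option maxRecDepth 100000 in
theorem at135250 : allFrom ok 250 135250 = true := by decide +kernel

set_option maxRecDepth 100000 in
theorem at135500 : allFrom ok 250 135500 = true := by decide +kernel

set_option maxRecDepth 100000 in
theorem at135750 : allFrom ok 250 135750 = true := by decide +kernel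

set_option maxRecDepth 100000 in
theorem at136000 : allFrom ok 250 136000 = true := by decide +kernel

set_option maxRecDepth 100000 in
theorem at136250 : allFrom ok 250 136250 = true := by decide +kernel

set_option maxRecDepth 100000 in
theorem at136500 : allFrom ok 250 136500 = true := by decide +kernel

set_option maxRecDepth 100000 in
theorem at136750 : allFrom ok 250 136750 = true := by decide +kernel

set_option maxRecDepth 100000 in
theorem at137000 : allFrom ok 250 137000 = true := by decide +kernel

set_option maxRecDepth 100000 in
theorem at137250 : allFrom ok 250 137250 = true := by decide +kernel

set_option maxRecDepth 100000 in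
theorem at137500 : allFrom ok 250 137500 = true := by decide +kernel

set_option maxRecDepth 100000 in
theorem at137750 : allFrom ok 250 137750 = true := by decide +kernel

set_option maxRecDepth 100000 in
theorem at138000 : allFrom ok 250 138000 = true := by decide +kernel

set_option maxRecDepth 100000 in
theorem at138250 : allFrom ok 250 138250 = true := by decide +kernel

set_option maxRecDepth 100000 in
theorem at138500 : allFrom ok 250 138500 = true := by decide +kernel

set_option maxRecDepth 100000 in
theorem at138750 : allFrom ok 250 138750 = true := by decide +kernel

set_option maxRecDepth 100000 in
theorem at139000 : allFrom ok 250 139000 = true := by decide +kernel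

set_option maxRecDepth 100000 in
theorem at139250 : allFrom ok 250 139250 = true := by decide +kernel

set_option maxRecDepth 100000 in
theorem at139500 : allFrom ok 250 139500 = true := by decide +kernel

set_option maxRecDepth 100000 in
theorem at139750 : allFrom ok 250 139750 = true := by decide +kernel

theorem range27 (i : ℕ) (h1 : 135000 ≤ i) (h2 : i < 140000) : ok i = true := by
  by_cases c135000 : i < 135250
  · exact allFrom_sound at135000 i (by omega) (by omega)
  by_cases c135250 : i < 135500
  · exact allFrom_sound at135250 i (by omega) (by omega)
  by_cases c135500 : i < 135750
  · exact allFrom_sound at135500 i (by omega) (by omega)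
  by_cases c135750 : i < 136000
  · exact allFrom_sound at135750 i (by omega) (by omega)
  by_cases c136000 : i < 136250
  · exact allFrom_sound at136000 i (by omega) (by omega)
  by_cases c136250 : i < 136500
  · exact allFrom_sound at136250 i (by omega) (by omega)
  by_cases c136500 : i < 136750
  · exact allFrom_sound at136500 i (by omega) (by omega)
  by_cases c136750 : i < 137000
  · exact allFrom_sound at136750 i (by omega) (by omega)
  by_cases c137000 : i < 137250
  · exact allFrom_sound at137000 i (by omega) (by omega)
  by_cases c137250 : i < 137500
  · exact allFrom_sound at137250 i (by omega) (by omega)
  by_cases c137500 : i < 137750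
  · exact allFrom_sound at137500 i (by omega) (by omega)
  by_cases c137750 : i < 138000
  · exact allFrom_sound at137750 i (by omega) (by omega)
  by_cases c138000 : i < 138250
  · exact allFrom_sound at138000 i (by omega) (by omega)
  by_cases c138250 : i < 138500
  · exact allFrom_sound at138250 i (by omega) (by omega)
  by_cases c138500 : i < 138750
  · exact allFrom_sound at138500 i (by omega) (by omega)
  by_cases c138750 : i < 139000
  · exact allFrom_sound at138750 i (by omega) (by omega)
  by_cases c139000 : i < 139250
  · exact allFrom_sound at139000 i (by omega) (by omega)
  by_cases c139250 : i < 139500
  · exact allFrom_sound at139250 i (by omega) (by omega)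
  by_cases c139500 : i < 139750
  · exact allFrom_sound at139500 i (by omega) (by omega)
  exact allFrom_sound at139750 i (by omega) (by omega)

end Cfsg.Agent.H96.Fi24Mult.Lab
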