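import Cfsg.Agent.H96.Fi24Mult.LabWords

/-!
Generated checks of the labels.
-/

set_option autoImplicit false
set_option Elab.async false

namespace Cfsg.Agent.H96.Fi24Mult.Lab

open Cfsg.Agent.H25.Fi24 (allFrom allFrom_sound)

set_option maxRecDepth 100000 in
theorem at140000 : allFrom ok 250 140000 = true := by decide +kernel

set_option maxRecDepth 100000 in
theorem at140250 : allFrom ok 250 140250 = true := by decide +kernel

set_option maxRecDepth 100000 in
theorem at140500 : allFrom ok 250 140500 = true := by decide +kernel

set_option maxRecDepth 100000 in
theorem at140750 : allFrom ok 250 140750 = true := by decide +kernel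

set_option maxRecDepth 100000 in
theorem at141000 : allFrom ok 250 141000 = true := by decide +kernel

set_option maxRecDepth 100000 in
theorem at141250 : allFrom ok 250 141250 = true := by decide +kernel

set_option maxRecDepth 100000 in
theorem at141500 : allFrom ok 250 141500 = true := by decide +kernel

set_option maxRecDepth 100000 in
theorem at141750 : allFrom ok 250 141750 = true := by decide +kernel

set_option maxRecDepth 100000 in
theorem at142000 : allFrom ok 250 142000 = true := by decide +kernel

set_option maxRecDepth 100000 in
theorem at142250 : allFrom ok 250 142250 = true := by decide +kernel

set_option maxRecDepth 100000 in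
theorem at142500 : allFrom ok 250 142500 = true := by decide +kernel

set_option maxRecDepth 100000 in
theorem at142750 : allFrom ok 250 142750 = true := by decide +kernel

set_option maxRecDepth 100000 in
theorem at143000 : allFrom ok 250 143000 = true := by decide +kernel

set_option maxRecDepth 100000 in
theorem at143250 : allFrom ok 250 143250 = true := by decide +kernel

set_option maxRecDepth 100000 in
theorem at143500 : allFrom ok 250 143500 = true := by decide +kernel

set_option maxRecDepth 100000 in
theorem at143750 : allFrom ok 250 143750 = true := by decide +kernel

set_option maxRecDepth 100000 in
theorem at144000 : allFrom ok 250 144000 = true := by decide +kernel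

set_option maxRecDepth 100000 in
theorem at144250 : allFrom ok 250 144250 = true := by decide +kernel

set_option maxRecDepth 100000 in
theorem at144500 : allFrom ok 250 144500 = true := by decide +kernel

set_option maxRecDepth 100000 in
theorem at144750 : allFrom ok 250 144750 = true := by decide +kernel

theorem range28 (i : ℕ) (h1 : 140000 ≤ i) (h2 : i < 145000) : ok i = true := by
  by_cases c140000 : i < 140250
  · exact allFrom_sound at140000 i (by omega) (by omega)
  by_cases c140250 : i < 140500
  · exact allFrom_sound at140250 i (by omega) (by omega)
  by_cases c140500 : i < 140750
  · exact allFrom_sound at140500 i (by omega) (by omega)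
  by_cases c140750 : i < 141000
  · exact allFrom_sound at140750 i (by omega) (by omega)
  by_cases c141000 : i < 141250
  · exact allFrom_sound at141000 i (by omega) (by omega)
  by_cases c141250 : i < 141500
  · exact allFrom_sound at141250 i (by omega) (by omega)
  by_cases c141500 : i < 141750
  · exact allFrom_sound at141500 i (by omega) (by omega)
  by_cases c141750 : i < 142000
  · exact allFrom_sound at141750 i (by omega) (by omega)
  by_cases c142000 : i < 142250
  · exact allFrom_sound at142000 i (by omega) (by omega)
  by_cases c142250 : i < 142500
  · exact allFrom_sound at142250 i (by omega) (by omega)
  by_cases c142500 : i < 142750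
  · exact allFrom_sound at142500 i (by omega) (by omega)
  by_cases c142750 : i < 143000
  · exact allFrom_sound at142750 i (by omega) (by omega)
  by_cases c143000 : i < 143250
  · exact allFrom_sound at143000 i (by omega) (by omega)
  by_cases c143250 : i < 143500
  · exact allFrom_sound at143250 i (by omega) (by omega)
  by_cases c143500 : i < 143750
  · exact allFrom_sound at143500 i (by omega) (by omega)
  by_cases c143750 : i < 144000
  · exact allFrom_sound at143750 i (by omega) (by omega)
  by_cases c144000 : i < 144250
  · exact allFrom_sound at144000 i (by omega) (by omega)
  by_cases c144250 : i < 144500
  · exact allFrom_sound at144250 i (by omega) (by omega)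
  by_cases c144500 : i < 144750
  · exact allFrom_sound at144500 i (by omega) (by omega)
  exact allFrom_sound at144750 i (by omega) (by omega)

end Cfsg.Agent.H96.Fi24Mult.Lab
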