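import Cfsg.Agent.H96.Fi24Mult.LabWords

/-!
Generated checks of the labels.
-/

set_option autoImplicit false
set_option Elab.async false

namespace Cfsg.Agent.H96.Fi24Mult.Lab

open Cfsg.Agent.H25.Fi24 (allFrom allFrom_sound)

set_option maxRecDepth 100000 in
theorem at145000 : allFrom ok 250 145000 = true := by decide +kernel

set_option maxRecDepth 100000 in
theorem at145250 : allFrom ok 250 145250 = true := by decide +kernel

set_option maxRecDepth 100000 in
theorem at145500 : allFrom ok 250 145500 = true := by decide +kernel

set_option maxRecDepth 100000 in
theorem at145750 : allFrom ok 250 145750 = true := by decide +kernel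

set_option maxRecDepth 100000 in
theorem at146000 : allFrom ok 250 146000 = true := by decide +kernel

set_option maxRecDepth 100000 in
theorem at146250 : allFrom ok 250 146250 = true := by decide +kernel

set_option maxRecDepth 100000 in
theorem at146500 : allFrom ok 250 146500 = true := by decide +kernel

set_option maxRecDepth 100000 in
theorem at146750 : allFrom ok 250 146750 = true := by decide +kernel

set_option maxRecDepth 100000 in
theorem at147000 : allFrom ok 250 147000 = true := by decide +kernel

set_option maxRecDepth 100000 in
theorem at147250 : allFrom ok 250 147250 = true := by decide +kernel

set_option maxRecDepth 100000 in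
theorem at147500 : allFrom ok 250 147500 = true := by decide +kernel

set_option maxRecDepth 100000 in
theorem at147750 : allFrom ok 250 147750 = true := by decide +kernel

set_option maxRecDepth 100000 in
theorem at148000 : allFrom ok 250 148000 = true := by decide +kernel

set_option maxRecDepth 100000 in
theorem at148250 : allFrom ok 250 148250 = true := by decide +kernel

set_option maxRecDepth 100000 in
theorem at148500 : allFrom ok 250 148500 = true := by decide +kernel

set_option maxRecDepth 100000 in
theorem at148750 : allFrom ok 250 148750 = true := by decide +kernel

set_option maxRecDepth 100000 in
theorem at149000 : allFrom ok 250 149000 = true := by decide +kernel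

set_option maxRecDepth 100000 in
theorem at149250 : allFrom ok 250 149250 = true := by decide +kernel

set_option maxRecDepth 100000 in
theorem at149500 : allFrom ok 250 149500 = true := by decide +kernel

set_option maxRecDepth 100000 in
theorem at149750 : allFrom ok 250 149750 = true := by decide +kernel

theorem range29 (i : ℕ) (h1 : 145000 ≤ i) (h2 : i < 150000) : ok i = true := by
  by_cases c145000 : i < 145250
  · exact allFrom_sound at145000 i (by omega) (by omega)
  by_cases c145250 : i < 145500
  · exact allFrom_sound at145250 i (by omega) (by omega)
  by_cases c145500 : i < 145750
  · exact allFrom_sound at145500 i (by omega) (by omega)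
  by_cases c145750 : i < 146000
  · exact allFrom_sound at145750 i (by omega) (by omega)
  by_cases c146000 : i < 146250
  · exact allFrom_sound at146000 i (by omega) (by omega)
  by_cases c146250 : i < 146500
  · exact allFrom_sound at146250 i (by omega) (by omega)
  by_cases c146500 : i < 146750
  · exact allFrom_sound at146500 i (by omega) (by omega)
  by_cases c146750 : i < 147000
  · exact allFrom_sound at146750 i (by omega) (by omega)
  by_cases c147000 : i < 147250
  · exact allFrom_sound at147000 i (by omega) (by omega)
  by_cases c147250 : i < 147500
  · exact allFrom_sound at147250 i (by omega) (by omega)
  by_cases c147500 : i < 147750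
  · exact allFrom_sound at147500 i (by omega) (by omega)
  by_cases c147750 : i < 148000
  · exact allFrom_sound at147750 i (by omega) (by omega)
  by_cases c148000 : i < 148250
  · exact allFrom_sound at148000 i (by omega) (by omega)
  by_cases c148250 : i < 148500
  · exact allFrom_sound at148250 i (by omega) (by omega)
  by_cases c148500 : i < 148750
  · exact allFrom_sound at148500 i (by omega) (by omega)
  by_cases c148750 : i < 149000
  · exact allFrom_sound at148750 i (by omega) (by omega)
  by_cases c149000 : i < 149250
  · exact allFrom_sound at149000 i (by omega) (by omega)
  by_cases c149250 : i < 149500
  · exact allFrom_sound at149250 i (by omega) (by omega)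
  by_cases c149500 : i < 149750
  · exact allFrom_sound at149500 i (by omega) (by omega)
  exact allFrom_sound at149750 i (by omega) (by omega)

end Cfsg.Agent.H96.Fi24Mult.Lab
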