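import Cfsg.Agent.H96.Fi24Mult.LabWords

/-!
Generated checks of the labels.
-/

set_option autoImplicit false
set_option Elab.async false

namespace Cfsg.Agent.H96.Fi24Mult.Lab

open Cfsg.Agent.H25.Fi24 (allFrom allFrom_sound)

set_option maxRecDepth 100000 in
theorem at15000 : allFrom ok 250 15000 = true := by decide +kernel

set_option maxRecDepth 100000 in
theorem at15250 : allFrom ok 250 15250 = true := by decide +kernel

set_option maxRecDepth 100000 in
theorem at15500 : allFrom ok 250 15500 = true := by decide +kernel

set_option maxRecDepth 100000 in
theorem at15750 : allFrom ok 250 15750 = true := by decide +kernel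

set_option maxRecDepth 100000 in
theorem at16000 : allFrom ok 250 16000 = true := by decide +kernel

set_option maxRecDepth 100000 in
theorem at16250 : allFrom ok 250 16250 = true := by decide +kernel

set_option maxRecDepth 100000 in
theorem at16500 : allFrom ok 250 16500 = true := by decide +kernel

set_option maxRecDepth 100000 in
theorem at16750 : allFrom ok 250 16750 = true := by decide +kernel

set_option maxRecDepth 100000 in
theorem at17000 : allFrom ok 250 17000 = true := by decide +kernel

set_option maxRecDepth 100000 in
theorem at17250 : allFrom ok 250 17250 = true := by decide +kernel

set_option maxRecDepth 100000 in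
theorem at17500 : allFrom ok 250 17500 = true := by decide +kernel

set_option maxRecDepth 100000 in
theorem at17750 : allFrom ok 250 17750 = true := by decide +kernel

set_option maxRecDepth 100000 in
theorem at18000 : allFrom ok 250 18000 = true := by decide +kernel

set_option maxRecDepth 100000 in
theorem at18250 : allFrom ok 250 18250 = true := by decide +kernel

set_option maxRecDepth 100000 in
theorem at18500 : allFrom ok 250 18500 = true := by decide +kernel

set_option maxRecDepth 100000 in
theorem at18750 : allFrom ok 250 18750 = true := by decide +kernel

set_option maxRecDepth 100000 in
theorem at19000 : allFrom ok 250 19000 = true := by decide +kernel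

set_option maxRecDepth 100000 in
theorem at19250 : allFrom ok 250 19250 = true := by decide +kernel

set_option maxRecDepth 100000 in
theorem at19500 : allFrom ok 250 19500 = true := by decide +kernel

set_option maxRecDepth 100000 in
theorem at19750 : allFrom ok 250 19750 = true := by decide +kernel

theorem range3 (i : ℕ) (h1 : 15000 ≤ i) (h2 : i < 20000) : ok i = true := by
  by_cases c15000 : i < 15250
  · exact allFrom_sound at15000 i (by omega) (by omega)
  by_cases c15250 : i < 15500
  · exact allFrom_sound at15250 i (by omega) (by omega)
  by_cases c15500 : i < 15750
  · exact allFrom_sound at15500 i (by omega) (by omega)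
  by_cases c15750 : i < 16000
  · exact allFrom_sound at15750 i (by omega) (by omega)
  by_cases c16000 : i < 16250
  · exact allFrom_sound at16000 i (by omega) (by omega)
  by_cases c16250 : i < 16500
  · exact allFrom_sound at16250 i (by omega) (by omega)
  by_cases c16500 : i < 16750
  · exact allFrom_sound at16500 i (by omega) (by omega)
  by_cases c16750 : i < 17000
  · exact allFrom_sound at16750 i (by omega) (by omega)
  by_cases c17000 : i < 17250
  · exact allFrom_sound at17000 i (by omega) (by omega)
  by_cases c17250 : i < 17500
  · exact allFrom_sound at17250 i (by omega) (by omega)
  by_cases c17500 : i < 17750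
  · exact allFrom_sound at17500 i (by omega) (by omega)
  by_cases c17750 : i < 18000
  · exact allFrom_sound at17750 i (by omega) (by omega)
  by_cases c18000 : i < 18250
  · exact allFrom_sound at18000 i (by omega) (by omega)
  by_cases c18250 : i < 18500
  · exact allFrom_sound at18250 i (by omega) (by omega)
  by_cases c18500 : i < 18750
  · exact allFrom_sound at18500 i (by omega) (by omega)
  by_cases c18750 : i < 19000
  · exact allFrom_sound at18750 i (by omega) (by omega)
  by_cases c19000 : i < 19250
  · exact allFrom_sound at19000 i (by omega) (by omega)
  by_cases c19250 : i < 19500
  · exact allFrom_sound at19250 i (by omega) (by omega)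
  by_cases c19500 : i < 19750
  · exact allFrom_sound at19500 i (by omega) (by omega)
  exact allFrom_sound at19750 i (by omega) (by omega)

end Cfsg.Agent.H96.Fi24Mult.Lab
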