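import Cfsg.Agent.H96.Fi24Mult.LabWords

/-!
Generated checks of the labels.
-/

set_option autoImplicit false
set_option Elab.async false

namespace Cfsg.Agent.H96.Fi24Mult.Lab

open Cfsg.Agent.H25.Fi24 (allFrom allFrom_sound)

set_option maxRecDepth 100000 in
theorem at150000 : allFrom ok 250 150000 = true := by decide +kernel

set_option maxRecDepth 100000 in
theorem at150250 : allFrom ok 250 150250 = true := by decide +kernel

set_option maxRecDepth 100000 in
theorem at150500 : allFrom ok 250 150500 = true := by decide +kernel

set_option maxRecDepth 100000 in
theorem at150750 : allFrom ok 250 150750 = true := by decide +kernel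

set_option maxRecDepth 100000 in
theorem at151000 : allFrom ok 250 151000 = true := by decide +kernel

set_option maxRecDepth 100000 in
theorem at151250 : allFrom ok 250 151250 = true := by decide +kernel

set_option maxRecDepth 100000 in
theorem at151500 : allFrom ok 250 151500 = true := by decide +kernel

set_option maxRecDepth 100000 in
theorem at151750 : allFrom ok 250 151750 = true := by decide +kernel

set_option maxRecDepth 100000 in
theorem at152000 : allFrom ok 250 152000 = true := by decide +kernel

set_option maxRecDepth 100000 in
theorem at152250 : allFrom ok 250 152250 = true := by decide +kernel

set_option maxRecDepth 100000 in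
theorem at152500 : allFrom ok 250 152500 = true := by decide +kernel

set_option maxRecDepth 100000 in
theorem at152750 : allFrom ok 250 152750 = true := by decide +kernel

set_option maxRecDepth 100000 in
theorem at153000 : allFrom ok 250 153000 = true := by decide +kernel

set_option maxRecDepth 100000 in
theorem at153250 : allFrom ok 250 153250 = true := by decide +kernel

set_option maxRecDepth 100000 in
theorem at153500 : allFrom ok 250 153500 = true := by decide +kernel

set_option maxRecDepth 100000 in
theorem at153750 : allFrom ok 250 153750 = true := by decide +kernel

set_option maxRecDepth 100000 in
theorem at154000 : allFrom ok 250 154000 = true := by decide +kernel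

set_option maxRecDepth 100000 in
theorem at154250 : allFrom ok 250 154250 = true := by decide +kernel

set_option maxRecDepth 100000 in
theorem at154500 : allFrom ok 250 154500 = true := by decide +kernel

set_option maxRecDepth 100000 in
theorem at154750 : allFrom ok 250 154750 = true := by decide +kernel

theorem range30 (i : ℕ) (h1 : 150000 ≤ i) (h2 : i < 155000) : ok i = true := by
  by_cases c150000 : i < 150250
  · exact allFrom_sound at150000 i (by omega) (by omega)
  by_cases c150250 : i < 150500
  · exact allFrom_sound at150250 i (by omega) (by omega)
  by_cases c150500 : i < 150750
  · exact allFrom_sound at150500 i (by omega) (by omega)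
  by_cases c150750 : i < 151000
  · exact allFrom_sound at150750 i (by omega) (by omega)
  by_cases c151000 : i < 151250
  · exact allFrom_sound at151000 i (by omega) (by omega)
  by_cases c151250 : i < 151500
  · exact allFrom_sound at151250 i (by omega) (by omega)
  by_cases c151500 : i < 151750
  · exact allFrom_sound at151500 i (by omega) (by omega)
  by_cases c151750 : i < 152000
  · exact allFrom_sound at151750 i (by omega) (by omega)
  by_cases c152000 : i < 152250
  · exact allFrom_sound at152000 i (by omega) (by omega)
  by_cases c152250 : i < 152500
  · exact allFrom_sound at152250 i (by omega) (by omega)
  by_cases c152500 : i < 152750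
  · exact allFrom_sound at152500 i (by omega) (by omega)
  by_cases c152750 : i < 153000
  · exact allFrom_sound at152750 i (by omega) (by omega)
  by_cases c153000 : i < 153250
  · exact allFrom_sound at153000 i (by omega) (by omega)
  by_cases c153250 : i < 153500
  · exact allFrom_sound at153250 i (by omega) (by omega)
  by_cases c153500 : i < 153750
  · exact allFrom_sound at153500 i (by omega) (by omega)
  by_cases c153750 : i < 154000
  · exact allFrom_sound at153750 i (by omega) (by omega)
  by_cases c154000 : i < 154250
  · exact allFrom_sound at154000 i (by omega) (by omega)
  by_cases c154250 : i < 154500
  · exact allFrom_sound at154250 i (by omega) (by omega)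
  by_cases c154500 : i < 154750
  · exact allFrom_sound at154500 i (by omega) (by omega)
  exact allFrom_sound at154750 i (by omega) (by omega)

end Cfsg.Agent.H96.Fi24Mult.Lab
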