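import Cfsg.Agent.H96.Fi24Mult.LabWords

/-!
Generated checks of the labels.
-/

set_option autoImplicit false
set_option Elab.async false

namespace Cfsg.Agent.H96.Fi24Mult.Lab

open Cfsg.Agent.H25.Fi24 (allFrom allFrom_sound)

set_option maxRecDepth 100000 in
theorem at155000 : allFrom ok 250 155000 = true := by decide +kernel

set_option maxRecDepth 100000 in
theorem at155250 : allFrom ok 250 155250 = true := by decide +kernel

set_option maxRecDepth 100000 in
theorem at155500 : allFrom ok 250 155500 = true := by decide +kernel

set_option maxRecDepth 100000 in
theorem at155750 : allFrom ok 250 155750 = true := by decide +kernel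

set_option maxRecDepth 100000 in
theorem at156000 : allFrom ok 250 156000 = true := by decide +kernel

set_option maxRecDepth 100000 in
theorem at156250 : allFrom ok 250 156250 = true := by decide +kernel

set_option maxRecDepth 100000 in
theorem at156500 : allFrom ok 250 156500 = true := by decide +kernel

set_option maxRecDepth 100000 in
theorem at156750 : allFrom ok 250 156750 = true := by decide +kernel

set_option maxRecDepth 100000 in
theorem at157000 : allFrom ok 250 157000 = true := by decide +kernel

set_option maxRecDepth 100000 in
theorem at157250 : allFrom ok 250 157250 = true := by decide +kernel

set_option maxRecDepth 100000 in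
theorem at157500 : allFrom ok 250 157500 = true := by decide +kernel

set_option maxRecDepth 100000 in
theorem at157750 : allFrom ok 250 157750 = true := by decide +kernel

set_option maxRecDepth 100000 in
theorem at158000 : allFrom ok 250 158000 = true := by decide +kernel

set_option maxRecDepth 100000 in
theorem at158250 : allFrom ok 250 158250 = true := by decide +kernel

set_option maxRecDepth 100000 in
theorem at158500 : allFrom ok 250 158500 = true := by decide +kernel

set_option maxRecDepth 100000 in
theorem at158750 : allFrom ok 250 158750 = true := by decide +kernel

set_option maxRecDepth 100000 in
theorem at159000 : allFrom ok 250 159000 = true := by decide +kernel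

set_option maxRecDepth 100000 in
theorem at159250 : allFrom ok 250 159250 = true := by decide +kernel

set_option maxRecDepth 100000 in
theorem at159500 : allFrom ok 250 159500 = true := by decide +kernel

set_option maxRecDepth 100000 in
theorem at159750 : allFrom ok 250 159750 = true := by decide +kernel

theorem range31 (i : ℕ) (h1 : 155000 ≤ i) (h2 : i < 160000) : ok i = true := by
  by_cases c155000 : i < 155250
  · exact allFrom_sound at155000 i (by omega) (by omega)
  by_cases c155250 : i < 155500
  · exact allFrom_sound at155250 i (by omega) (by omega)
  by_cases c155500 : i < 155750
  · exact allFrom_sound at155500 i (by omega) (by omega)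
  by_cases c155750 : i < 156000
  · exact allFrom_sound at155750 i (by omega) (by omega)
  by_cases c156000 : i < 156250
  · exact allFrom_sound at156000 i (by omega) (by omega)
  by_cases c156250 : i < 156500
  · exact allFrom_sound at156250 i (by omega) (by omega)
  by_cases c156500 : i < 156750
  · exact allFrom_sound at156500 i (by omega) (by omega)
  by_cases c156750 : i < 157000
  · exact allFrom_sound at156750 i (by omega) (by omega)
  by_cases c157000 : i < 157250
  · exact allFrom_sound at157000 i (by omega) (by omega)
  by_cases c157250 : i < 157500
  · exact allFrom_sound at157250 i (by omega) (by omega)
  by_cases c157500 : i < 157750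
  · exact allFrom_sound at157500 i (by omega) (by omega)
  by_cases c157750 : i < 158000
  · exact allFrom_sound at157750 i (by omega) (by omega)
  by_cases c158000 : i < 158250
  · exact allFrom_sound at158000 i (by omega) (by omega)
  by_cases c158250 : i < 158500
  · exact allFrom_sound at158250 i (by omega) (by omega)
  by_cases c158500 : i < 158750
  · exact allFrom_sound at158500 i (by omega) (by omega)
  by_cases c158750 : i < 159000
  · exact allFrom_sound at158750 i (by omega) (by omega)
  by_cases c159000 : i < 159250
  · exact allFrom_sound at159000 i (by omega) (by omega)
  by_cases c159250 : i < 159500
  · exact allFrom_sound at159250 i (by omega) (by omega)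
  by_cases c159500 : i < 159750
  · exact allFrom_sound at159500 i (by omega) (by omega)
  exact allFrom_sound at159750 i (by omega) (by omega)

end Cfsg.Agent.H96.Fi24Mult.Lab
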