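import Cfsg.Agent.H96.Fi24Mult.LabWords

/-!
Generated checks of the labels.
-/

set_option autoImplicit false
set_option Elab.async false

namespace Cfsg.Agent.H96.Fi24Mult.Lab

open Cfsg.Agent.H25.Fi24 (allFrom allFrom_sound)

set_option maxRecDepth 100000 in
theorem at160000 : allFrom ok 250 160000 = true := by decide +kernel

set_option maxRecDepth 100000 in
theorem at160250 : allFrom ok 250 160250 = true := by decide +kernel

set_option maxRecDepth 100000 in
theorem at160500 : allFrom ok 250 160500 = true := by decide +kernel

set_option maxRecDepth 100000 in
theorem at160750 : allFrom ok 250 160750 = true := by decide +kernel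

set_option maxRecDepth 100000 in
theorem at161000 : allFrom ok 250 161000 = true := by decide +kernel

set_option maxRecDepth 100000 in
theorem at161250 : allFrom ok 250 161250 = true := by decide +kernel

set_option maxRecDepth 100000 in
theorem at161500 : allFrom ok 250 161500 = true := by decide +kernel

set_option maxRecDepth 100000 in
theorem at161750 : allFrom ok 250 161750 = true := by decide +kernel

set_option maxRecDepth 100000 in
theorem at162000 : allFrom ok 250 162000 = true := by decide +kernel

set_option maxRecDepth 100000 in
theorem at162250 : allFrom ok 250 162250 = true := by decide +kernel

set_option maxRecDepth 100000 in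
theorem at162500 : allFrom ok 250 162500 = true := by decide +kernel

set_option maxRecDepth 100000 in
theorem at162750 : allFrom ok 250 162750 = true := by decide +kernel

set_option maxRecDepth 100000 in
theorem at163000 : allFrom ok 250 163000 = true := by decide +kernel

set_option maxRecDepth 100000 in
theorem at163250 : allFrom ok 250 163250 = true := by decide +kernel

set_option maxRecDepth 100000 in
theorem at163500 : allFrom ok 250 163500 = true := by decide +kernel

set_option maxRecDepth 100000 in
theorem at163750 : allFrom ok 250 163750 = true := by decide +kernel

set_option maxRecDepth 100000 in
theorem at164000 : allFrom ok 250 164000 = true := by decide +kernel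

set_option maxRecDepth 100000 in
theorem at164250 : allFrom ok 250 164250 = true := by decide +kernel

set_option maxRecDepth 100000 in
theorem at164500 : allFrom ok 250 164500 = true := by decide +kernel

set_option maxRecDepth 100000 in
theorem at164750 : allFrom ok 250 164750 = true := by decide +kernel

theorem range32 (i : ℕ) (h1 : 160000 ≤ i) (h2 : i < 165000) : ok i = true := by
  by_cases c160000 : i < 160250
  · exact allFrom_sound at160000 i (by omega) (by omega)
  by_cases c160250 : i < 160500
  · exact allFrom_sound at160250 i (by omega) (by omega)
  by_cases c160500 : i < 160750
  · exact allFrom_sound at160500 i (by omega) (by omega)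
  by_cases c160750 : i < 161000
  · exact allFrom_sound at160750 i (by omega) (by omega)
  by_cases c161000 : i < 161250
  · exact allFrom_sound at161000 i (by omega) (by omega)
  by_cases c161250 : i < 161500
  · exact allFrom_sound at161250 i (by omega) (by omega)
  by_cases c161500 : i < 161750
  · exact allFrom_sound at161500 i (by omega) (by omega)
  by_cases c161750 : i < 162000
  · exact allFrom_sound at161750 i (by omega) (by omega)
  by_cases c162000 : i < 162250
  · exact allFrom_sound at162000 i (by omega) (by omega)
  by_cases c162250 : i < 162500
  · exact allFrom_sound at162250 i (by omega) (by omega)
  by_cases c162500 : i < 162750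
  · exact allFrom_sound at162500 i (by omega) (by omega)
  by_cases c162750 : i < 163000
  · exact allFrom_sound at162750 i (by omega) (by omega)
  by_cases c163000 : i < 163250
  · exact allFrom_sound at163000 i (by omega) (by omega)
  by_cases c163250 : i < 163500
  · exact allFrom_sound at163250 i (by omega) (by omega)
  by_cases c163500 : i < 163750
  · exact allFrom_sound at163500 i (by omega) (by omega)
  by_cases c163750 : i < 164000
  · exact allFrom_sound at163750 i (by omega) (by omega)
  by_cases c164000 : i < 164250
  · exact allFrom_sound at164000 i (by omega) (by omega)
  by_cases c164250 : i < 164500
  · exact allFrom_sound at164250 i (by omega) (by omega)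
  by_cases c164500 : i < 164750
  · exact allFrom_sound at164500 i (by omega) (by omega)
  exact allFrom_sound at164750 i (by omega) (by omega)

end Cfsg.Agent.H96.Fi24Mult.Lab
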