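import Cfsg.Agent.H96.Fi24Mult.LabWords

/-!
Generated checks of the labels.
-/

set_option autoImplicit false
set_option Elab.async false

namespace Cfsg.Agent.H96.Fi24Mult.Lab

open Cfsg.Agent.H25.Fi24 (allFrom allFrom_sound)

set_option maxRecDepth 100000 in
theorem at165000 : allFrom ok 250 165000 = true := by decide +kernel

set_option maxRecDepth 100000 in
theorem at165250 : allFrom ok 250 165250 = true := by decide +kernel

set_option maxRecDepth 100000 in
theorem at165500 : allFrom ok 250 165500 = true := by decide +kernel

set_option maxRecDepth 100000 in
theorem at165750 : allFrom ok 250 165750 = true := by decide +kernel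

set_option maxRecDepth 100000 in
theorem at166000 : allFrom ok 250 166000 = true := by decide +kernel

set_option maxRecDepth 100000 in
theorem at166250 : allFrom ok 250 166250 = true := by decide +kernel

set_option maxRecDepth 100000 in
theorem at166500 : allFrom ok 250 166500 = true := by decide +kernel

set_option maxRecDepth 100000 in
theorem at166750 : allFrom ok 250 166750 = true := by decide +kernel

set_option maxRecDepth 100000 in
theorem at167000 : allFrom ok 250 167000 = true := by decide +kernel

set_option maxRecDepth 100000 in
theorem at167250 : allFrom ok 250 167250 = true := by decide +kernel

set_option maxRecDepth 100000 in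
theorem at167500 : allFrom ok 250 167500 = true := by decide +kernel

set_option maxRecDepth 100000 in
theorem at167750 : allFrom ok 250 167750 = true := by decide +kernel

set_option maxRecDepth 100000 in
theorem at168000 : allFrom ok 250 168000 = true := by decide +kernel

set_option maxRecDepth 100000 in
theorem at168250 : allFrom ok 250 168250 = true := by decide +kernel

set_option maxRecDepth 100000 in
theorem at168500 : allFrom ok 250 168500 = true := by decide +kernel

set_option maxRecDepth 100000 in
theorem at168750 : allFrom ok 250 168750 = true := by decide +kernel

set_option maxRecDepth 100000 in
theorem at169000 : allFrom ok 250 169000 = true := by decide +kernel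

set_option maxRecDepth 100000 in
theorem at169250 : allFrom ok 250 169250 = true := by decide +kernel

set_option maxRecDepth 100000 in
theorem at169500 : allFrom ok 250 169500 = true := by decide +kernel

set_option maxRecDepth 100000 in
theorem at169750 : allFrom ok 250 169750 = true := by decide +kernel

theorem range33 (i : ℕ) (h1 : 165000 ≤ i) (h2 : i < 170000) : ok i = true := by
  by_cases c165000 : i < 165250
  · exact allFrom_sound at165000 i (by omega) (by omega)
  by_cases c165250 : i < 165500
  · exact allFrom_sound at165250 i (by omega) (by omega)
  by_cases c165500 : i < 165750
  · exact allFrom_sound at165500 i (by omega) (by omega)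
  by_cases c165750 : i < 166000
  · exact allFrom_sound at165750 i (by omega) (by omega)
  by_cases c166000 : i < 166250
  · exact allFrom_sound at166000 i (by omega) (by omega)
  by_cases c166250 : i < 166500
  · exact allFrom_sound at166250 i (by omega) (by omega)
  by_cases c166500 : i < 166750
  · exact allFrom_sound at166500 i (by omega) (by omega)
  by_cases c166750 : i < 167000
  · exact allFrom_sound at166750 i (by omega) (by omega)
  by_cases c167000 : i < 167250
  · exact allFrom_sound at167000 i (by omega) (by omega)
  by_cases c167250 : i < 167500
  · exact allFrom_sound at167250 i (by omega) (by omega)
  by_cases c167500 : i < 167750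
  · exact allFrom_sound at167500 i (by omega) (by omega)
  by_cases c167750 : i < 168000
  · exact allFrom_sound at167750 i (by omega) (by omega)
  by_cases c168000 : i < 168250
  · exact allFrom_sound at168000 i (by omega) (by omega)
  by_cases c168250 : i < 168500
  · exact allFrom_sound at168250 i (by omega) (by omega)
  by_cases c168500 : i < 168750
  · exact allFrom_sound at168500 i (by omega) (by omega)
  by_cases c168750 : i < 169000
  · exact allFrom_sound at168750 i (by omega) (by omega)
  by_cases c169000 : i < 169250
  · exact allFrom_sound at169000 i (by omega) (by omega)
  by_cases c169250 : i < 169500
  · exact allFrom_sound at169250 i (by omega) (by omega)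
  by_cases c169500 : i < 169750
  · exact allFrom_sound at169500 i (by omega) (by omega)
  exact allFrom_sound at169750 i (by omega) (by omega)

end Cfsg.Agent.H96.Fi24Mult.Lab
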