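import Cfsg.Agent.H96.Fi24Mult.LabWords

/-!
Generated checks of the labels.
-/

set_option autoImplicit false
set_option Elab.async false

namespace Cfsg.Agent.H96.Fi24Mult.Lab

open Cfsg.Agent.H25.Fi24 (allFrom allFrom_sound)

set_option maxRecDepth 100000 in
theorem at170000 : allFrom ok 250 170000 = true := by decide +kernel

set_option maxRecDepth 100000 in
theorem at170250 : allFrom ok 250 170250 = true := by decide +kernel

set_option maxRecDepth 100000 in
theorem at170500 : allFrom ok 250 170500 = true := by decide +kernel

set_option maxRecDepth 100000 in
theorem at170750 : allFrom ok 250 170750 = true := by decide +kernel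

set_option maxRecDepth 100000 in
theorem at171000 : allFrom ok 250 171000 = true := by decide +kernel

set_option maxRecDepth 100000 in
theorem at171250 : allFrom ok 250 171250 = true := by decide +kernel

set_option maxRecDepth 100000 in
theorem at171500 : allFrom ok 250 171500 = true := by decide +kernel

set_option maxRecDepth 100000 in
theorem at171750 : allFrom ok 250 171750 = true := by decide +kernel

set_option maxRecDepth 100000 in
theorem at172000 : allFrom ok 250 172000 = true := by decide +kernel

set_option maxRecDepth 100000 in
theorem at172250 : allFrom ok 250 172250 = true := by decide +kernel

set_option maxRecDepth 100000 in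
theorem at172500 : allFrom ok 250 172500 = true := by decide +kernel

set_option maxRecDepth 100000 in
theorem at172750 : allFrom ok 250 172750 = true := by decide +kernel

set_option maxRecDepth 100000 in
theorem at173000 : allFrom ok 250 173000 = true := by decide +kernel

set_option maxRecDepth 100000 in
theorem at173250 : allFrom ok 250 173250 = true := by decide +kernel

set_option maxRecDepth 100000 in
theorem at173500 : allFrom ok 250 173500 = true := by decide +kernel

set_option maxRecDepth 100000 in
theorem at173750 : allFrom ok 250 173750 = true := by decide +kernel

set_option maxRecDepth 100000 in
theorem at174000 : allFrom ok 250 174000 = true := by decide +kernel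

set_option maxRecDepth 100000 in
theorem at174250 : allFrom ok 250 174250 = true := by decide +kernel

set_option maxRecDepth 100000 in
theorem at174500 : allFrom ok 250 174500 = true := by decide +kernel

set_option maxRecDepth 100000 in
theorem at174750 : allFrom ok 250 174750 = true := by decide +kernel

theorem range34 (i : ℕ) (h1 : 170000 ≤ i) (h2 : i < 175000) : ok i = true := by
  by_cases c170000 : i < 170250
  · exact allFrom_sound at170000 i (by omega) (by omega)
  by_cases c170250 : i < 170500
  · exact allFrom_sound at170250 i (by omega) (by omega)
  by_cases c170500 : i < 170750
  · exact allFrom_sound at170500 i (by omega) (by omega)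
  by_cases c170750 : i < 171000
  · exact allFrom_sound at170750 i (by omega) (by omega)
  by_cases c171000 : i < 171250
  · exact allFrom_sound at171000 i (by omega) (by omega)
  by_cases c171250 : i < 171500
  · exact allFrom_sound at171250 i (by omega) (by omega)
  by_cases c171500 : i < 171750
  · exact allFrom_sound at171500 i (by omega) (by omega)
  by_cases c171750 : i < 172000
  · exact allFrom_sound at171750 i (by omega) (by omega)
  by_cases c172000 : i < 172250
  · exact allFrom_sound at172000 i (by omega) (by omega)
  by_cases c172250 : i < 172500
  · exact allFrom_sound at172250 i (by omega) (by omega)
  by_cases c172500 : i < 172750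
  · exact allFrom_sound at172500 i (by omega) (by omega)
  by_cases c172750 : i < 173000
  · exact allFrom_sound at172750 i (by omega) (by omega)
  by_cases c173000 : i < 173250
  · exact allFrom_sound at173000 i (by omega) (by omega)
  by_cases c173250 : i < 173500
  · exact allFrom_sound at173250 i (by omega) (by omega)
  by_cases c173500 : i < 173750
  · exact allFrom_sound at173500 i (by omega) (by omega)
  by_cases c173750 : i < 174000
  · exact allFrom_sound at173750 i (by omega) (by omega)
  by_cases c174000 : i < 174250
  · exact allFrom_sound at174000 i (by omega) (by omega)
  by_cases c174250 : i < 174500
  · exact allFrom_sound at174250 i (by omega) (by omega)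
  by_cases c174500 : i < 174750
  · exact allFrom_sound at174500 i (by omega) (by omega)
  exact allFrom_sound at174750 i (by omega) (by omega)

end Cfsg.Agent.H96.Fi24Mult.Lab
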