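import Cfsg.Agent.H96.Fi24Mult.LabWords

/-!
Generated checks of the labels.
-/

set_option autoImplicit false
set_option Elab.async false

namespace Cfsg.Agent.H96.Fi24Mult.Lab

open Cfsg.Agent.H25.Fi24 (allFrom allFrom_sound)

set_option maxRecDepth 100000 in
theorem at175000 : allFrom ok 250 175000 = true := by decide +kernel

set_option maxRecDepth 100000 in
theorem at175250 : allFrom ok 250 175250 = true := by decide +kernel

set_option maxRecDepth 100000 in
theorem at175500 : allFrom ok 250 175500 = true := by decide +kernel

set_option maxRecDepth 100000 in
theorem at175750 : allFrom ok 250 175750 = true := by decide +kernel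

set_option maxRecDepth 100000 in
theorem at176000 : allFrom ok 250 176000 = true := by decide +kernel

set_option maxRecDepth 100000 in
theorem at176250 : allFrom ok 250 176250 = true := by decide +kernel

set_option maxRecDepth 100000 in
theorem at176500 : allFrom ok 250 176500 = true := by decide +kernel

set_option maxRecDepth 100000 in
theorem at176750 : allFrom ok 250 176750 = true := by decide +kernel

set_option maxRecDepth 100000 in
theorem at177000 : allFrom ok 250 177000 = true := by decide +kernel

set_option maxRecDepth 100000 in
theorem at177250 : allFrom ok 250 177250 = true := by decide +kernel

set_option maxRecDepth 100000 in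
theorem at177500 : allFrom ok 250 177500 = true := by decide +kernel

set_option maxRecDepth 100000 in
theorem at177750 : allFrom ok 250 177750 = true := by decide +kernel

set_option maxRecDepth 100000 in
theorem at178000 : allFrom ok 250 178000 = true := by decide +kernel

set_option maxRecDepth 100000 in
theorem at178250 : allFrom ok 250 178250 = true := by decide +kernel

set_option maxRecDepth 100000 in
theorem at178500 : allFrom ok 250 178500 = true := by decide +kernel

set_option maxRecDepth 100000 in
theorem at178750 : allFrom ok 250 178750 = true := by decide +kernel

set_option maxRecDepth 100000 in
theorem at179000 : allFrom ok 250 179000 = true := by decide +kernel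

set_option maxRecDepth 100000 in
theorem at179250 : allFrom ok 250 179250 = true := by decide +kernel

set_option maxRecDepth 100000 in
theorem at179500 : allFrom ok 250 179500 = true := by decide +kernel

set_option maxRecDepth 100000 in
theorem at179750 : allFrom ok 250 179750 = true := by decide +kernel

theorem range35 (i : ℕ) (h1 : 175000 ≤ i) (h2 : i < 180000) : ok i = true := by
  by_cases c175000 : i < 175250
  · exact allFrom_sound at175000 i (by omega) (by omega)
  by_cases c175250 : i < 175500
  · exact allFrom_sound at175250 i (by omega) (by omega)
  by_cases c175500 : i < 175750
  · exact allFrom_sound at175500 i (by omega) (by omega)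
  by_cases c175750 : i < 176000
  · exact allFrom_sound at175750 i (by omega) (by omega)
  by_cases c176000 : i < 176250
  · exact allFrom_sound at176000 i (by omega) (by omega)
  by_cases c176250 : i < 176500
  · exact allFrom_sound at176250 i (by omega) (by omega)
  by_cases c176500 : i < 176750
  · exact allFrom_sound at176500 i (by omega) (by omega)
  by_cases c176750 : i < 177000
  · exact allFrom_sound at176750 i (by omega) (by omega)
  by_cases c177000 : i < 177250
  · exact allFrom_sound at177000 i (by omega) (by omega)
  by_cases c177250 : i < 177500
  · exact allFrom_sound at177250 i (by omega) (by omega)
  by_cases c177500 : i < 177750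
  · exact allFrom_sound at177500 i (by omega) (by omega)
  by_cases c177750 : i < 178000
  · exact allFrom_sound at177750 i (by omega) (by omega)
  by_cases c178000 : i < 178250
  · exact allFrom_sound at178000 i (by omega) (by omega)
  by_cases c178250 : i < 178500
  · exact allFrom_sound at178250 i (by omega) (by omega)
  by_cases c178500 : i < 178750
  · exact allFrom_sound at178500 i (by omega) (by omega)
  by_cases c178750 : i < 179000
  · exact allFrom_sound at178750 i (by omega) (by omega)
  by_cases c179000 : i < 179250
  · exact allFrom_sound at179000 i (by omega) (by omega)
  by_cases c179250 : i < 179500
  · exact allFrom_sound at179250 i (by omega) (by omega)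
  by_cases c179500 : i < 179750
  · exact allFrom_sound at179500 i (by omega) (by omega)
  exact allFrom_sound at179750 i (by omega) (by omega)

end Cfsg.Agent.H96.Fi24Mult.Lab
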