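import Cfsg.Agent.H96.Fi24Mult.LabWords

/-!
Generated checks of the labels.
-/

set_option autoImplicit false
set_option Elab.async false

namespace Cfsg.Agent.H96.Fi24Mult.Lab

open Cfsg.Agent.H25.Fi24 (allFrom allFrom_sound)

set_option maxRecDepth 100000 in
theorem at180000 : allFrom ok 250 180000 = true := by decide +kernel

set_option maxRecDepth 100000 in
theorem at180250 : allFrom ok 250 180250 = true := by decide +kernel

set_option maxRecDepth 100000 in
theorem at180500 : allFrom ok 250 180500 = true := by decide +kernel

set_option maxRecDepth 100000 in
theorem at180750 : allFrom ok 250 180750 = true := by decide +kernel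

set_option maxRecDepth 100000 in
theorem at181000 : allFrom ok 250 181000 = true := by decide +kernel

set_option maxRecDepth 100000 in
theorem at181250 : allFrom ok 250 181250 = true := by decide +kernel

set_option maxRecDepth 100000 in
theorem at181500 : allFrom ok 250 181500 = true := by decide +kernel

set_option maxRecDepth 100000 in
theorem at181750 : allFrom ok 250 181750 = true := by decide +kernel

set_option maxRecDepth 100000 in
theorem at182000 : allFrom ok 250 182000 = true := by decide +kernel

set_option maxRecDepth 100000 in
theorem at182250 : allFrom ok 250 182250 = true := by decide +kernel

set_option maxRecDepth 100000 in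
theorem at182500 : allFrom ok 250 182500 = true := by decide +kernel

set_option maxRecDepth 100000 in
theorem at182750 : allFrom ok 250 182750 = true := by decide +kernel

set_option maxRecDepth 100000 in
theorem at183000 : allFrom ok 250 183000 = true := by decide +kernel

set_option maxRecDepth 100000 in
theorem at183250 : allFrom ok 250 183250 = true := by decide +kernel

set_option maxRecDepth 100000 in
theorem at183500 : allFrom ok 250 183500 = true := by decide +kernel

set_option maxRecDepth 100000 in
theorem at183750 : allFrom ok 250 183750 = true := by decide +kernel

set_option maxRecDepth 100000 in
theorem at184000 : allFrom ok 250 184000 = true := by decide +kernel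

set_option maxRecDepth 100000 in
theorem at184250 : allFrom ok 250 184250 = true := by decide +kernel

set_option maxRecDepth 100000 in
theorem at184500 : allFrom ok 250 184500 = true := by decide +kernel

set_option maxRecDepth 100000 in
theorem at184750 : allFrom ok 250 184750 = true := by decide +kernel

theorem range36 (i : ℕ) (h1 : 180000 ≤ i) (h2 : i < 185000) : ok i = true := by
  by_cases c180000 : i < 180250
  · exact allFrom_sound at180000 i (by omega) (by omega)
  by_cases c180250 : i < 180500
  · exact allFrom_sound at180250 i (by omega) (by omega)
  by_cases c180500 : i < 180750
  · exact allFrom_sound at180500 i (by omega) (by omega)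
  by_cases c180750 : i < 181000
  · exact allFrom_sound at180750 i (by omega) (by omega)
  by_cases c181000 : i < 181250
  · exact allFrom_sound at181000 i (by omega) (by omega)
  by_cases c181250 : i < 181500
  · exact allFrom_sound at181250 i (by omega) (by omega)
  by_cases c181500 : i < 181750
  · exact allFrom_sound at181500 i (by omega) (by omega)
  by_cases c181750 : i < 182000
  · exact allFrom_sound at181750 i (by omega) (by omega)
  by_cases c182000 : i < 182250
  · exact allFrom_sound at182000 i (by omega) (by omega)
  by_cases c182250 : i < 182500
  · exact allFrom_sound at182250 i (by omega) (by omega)
  by_cases c182500 : i < 182750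
  · exact allFrom_sound at182500 i (by omega) (by omega)
  by_cases c182750 : i < 183000
  · exact allFrom_sound at182750 i (by omega) (by omega)
  by_cases c183000 : i < 183250
  · exact allFrom_sound at183000 i (by omega) (by omega)
  by_cases c183250 : i < 183500
  · exact allFrom_sound at183250 i (by omega) (by omega)
  by_cases c183500 : i < 183750
  · exact allFrom_sound at183500 i (by omega) (by omega)
  by_cases c183750 : i < 184000
  · exact allFrom_sound at183750 i (by omega) (by omega)
  by_cases c184000 : i < 184250
  · exact allFrom_sound at184000 i (by omega) (by omega)
  by_cases c184250 : i < 184500
  · exact allFrom_sound at184250 i (by omega) (by omega)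
  by_cases c184500 : i < 184750
  · exact allFrom_sound at184500 i (by omega) (by omega)
  exact allFrom_sound at184750 i (by omega) (by omega)

end Cfsg.Agent.H96.Fi24Mult.Lab
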