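import Cfsg.Agent.H96.Fi24Mult.LabWords

/-!
Generated checks of the labels.
-/

set_option autoImplicit false
set_option Elab.async false

namespace Cfsg.Agent.H96.Fi24Mult.Lab

open Cfsg.Agent.H25.Fi24 (allFrom allFrom_sound)

set_option maxRecDepth 100000 in
theorem at185000 : allFrom ok 250 185000 = true := by decide +kernel

set_option maxRecDepth 100000 in
theorem at185250 : allFrom ok 250 185250 = true := by decide +kernel

set_option maxRecDepth 100000 in
theorem at185500 : allFrom ok 250 185500 = true := by decide +kernel

set_option maxRecDepth 100000 in
theorem at185750 : allFrom ok 250 185750 = true := by decide +kernel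

set_option maxRecDepth 100000 in
theorem at186000 : allFrom ok 250 186000 = true := by decide +kernel

set_option maxRecDepth 100000 in
theorem at186250 : allFrom ok 250 186250 = true := by decide +kernel

set_option maxRecDepth 100000 in
theorem at186500 : allFrom ok 250 186500 = true := by decide +kernel

set_option maxRecDepth 100000 in
theorem at186750 : allFrom ok 250 186750 = true := by decide +kernel

set_option maxRecDepth 100000 in
theorem at187000 : allFrom ok 250 187000 = true := by decide +kernel

set_option maxRecDepth 100000 in
theorem at187250 : allFrom ok 250 187250 = true := by decide +kernel

set_option maxRecDepth 100000 in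
theorem at187500 : allFrom ok 250 187500 = true := by decide +kernel

set_option maxRecDepth 100000 in
theorem at187750 : allFrom ok 250 187750 = true := by decide +kernel

set_option maxRecDepth 100000 in
theorem at188000 : allFrom ok 250 188000 = true := by decide +kernel

set_option maxRecDepth 100000 in
theorem at188250 : allFrom ok 250 188250 = true := by decide +kernel

set_option maxRecDepth 100000 in
theorem at188500 : allFrom ok 250 188500 = true := by decide +kernel

set_option maxRecDepth 100000 in
theorem at188750 : allFrom ok 250 188750 = true := by decide +kernel

set_option maxRecDepth 100000 in
theorem at189000 : allFrom ok 250 189000 = true := by decide +kernel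

set_option maxRecDepth 100000 in
theorem at189250 : allFrom ok 250 189250 = true := by decide +kernel

set_option maxRecDepth 100000 in
theorem at189500 : allFrom ok 250 189500 = true := by decide +kernel

set_option maxRecDepth 100000 in
theorem at189750 : allFrom ok 250 189750 = true := by decide +kernel

theorem range37 (i : ℕ) (h1 : 185000 ≤ i) (h2 : i < 190000) : ok i = true := by
  by_cases c185000 : i < 185250
  · exact allFrom_sound at185000 i (by omega) (by omega)
  by_cases c185250 : i < 185500
  · exact allFrom_sound at185250 i (by omega) (by omega)
  by_cases c185500 : i < 185750
  · exact allFrom_sound at185500 i (by omega) (by omega)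
  by_cases c185750 : i < 186000
  · exact allFrom_sound at185750 i (by omega) (by omega)
  by_cases c186000 : i < 186250
  · exact allFrom_sound at186000 i (by omega) (by omega)
  by_cases c186250 : i < 186500
  · exact allFrom_sound at186250 i (by omega) (by omega)
  by_cases c186500 : i < 186750
  · exact allFrom_sound at186500 i (by omega) (by omega)
  by_cases c186750 : i < 187000
  · exact allFrom_sound at186750 i (by omega) (by omega)
  by_cases c187000 : i < 187250
  · exact allFrom_sound at187000 i (by omega) (by omega)
  by_cases c187250 : i < 187500
  · exact allFrom_sound at187250 i (by omega) (by omega)
  by_cases c187500 : i < 187750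
  · exact allFrom_sound at187500 i (by omega) (by omega)
  by_cases c187750 : i < 188000
  · exact allFrom_sound at187750 i (by omega) (by omega)
  by_cases c188000 : i < 188250
  · exact allFrom_sound at188000 i (by omega) (by omega)
  by_cases c188250 : i < 188500
  · exact allFrom_sound at188250 i (by omega) (by omega)
  by_cases c188500 : i < 188750
  · exact allFrom_sound at188500 i (by omega) (by omega)
  by_cases c188750 : i < 189000
  · exact allFrom_sound at188750 i (by omega) (by omega)
  by_cases c189000 : i < 189250
  · exact allFrom_sound at189000 i (by omega) (by omega)
  by_cases c189250 : i < 189500
  · exact allFrom_sound at189250 i (by omega) (by omega)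
  by_cases c189500 : i < 189750
  · exact allFrom_sound at189500 i (by omega) (by omega)
  exact allFrom_sound at189750 i (by omega) (by omega)

end Cfsg.Agent.H96.Fi24Mult.Lab
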