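import Cfsg.Agent.H96.Fi24Mult.LabWords

/-!
Generated checks of the labels.
-/

set_option autoImplicit false
set_option Elab.async false

namespace Cfsg.Agent.H96.Fi24Mult.Lab

open Cfsg.Agent.H25.Fi24 (allFrom allFrom_sound)

set_option maxRecDepth 100000 in
theorem at190000 : allFrom ok 250 190000 = true := by decide +kernel

set_option maxRecDepth 100000 in
theorem at190250 : allFrom ok 250 190250 = true := by decide +kernel

set_option maxRecDepth 100000 in
theorem at190500 : allFrom ok 250 190500 = true := by decide +kernel

set_option maxRecDepth 100000 in
theorem at190750 : allFrom ok 250 190750 = true := by decide +kernel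

set_option maxRecDepth 100000 in
theorem at191000 : allFrom ok 250 191000 = true := by decide +kernel

set_option maxRecDepth 100000 in
theorem at191250 : allFrom ok 250 191250 = true := by decide +kernel

set_option maxRecDepth 100000 in
theorem at191500 : allFrom ok 250 191500 = true := by decide +kernel

set_option maxRecDepth 100000 in
theorem at191750 : allFrom ok 250 191750 = true := by decide +kernel

set_option maxRecDepth 100000 in
theorem at192000 : allFrom ok 250 192000 = true := by decide +kernel

set_option maxRecDepth 100000 in
theorem at192250 : allFrom ok 250 192250 = true := by decide +kernel

set_option maxRecDepth 100000 in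
theorem at192500 : allFrom ok 250 192500 = true := by decide +kernel

set_option maxRecDepth 100000 in
theorem at192750 : allFrom ok 250 192750 = true := by decide +kernel

set_option maxRecDepth 100000 in
theorem at193000 : allFrom ok 250 193000 = true := by decide +kernel

set_option maxRecDepth 100000 in
theorem at193250 : allFrom ok 250 193250 = true := by decide +kernel

set_option maxRecDepth 100000 in
theorem at193500 : allFrom ok 250 193500 = true := by decide +kernel

set_option maxRecDepth 100000 in
theorem at193750 : allFrom ok 250 193750 = true := by decide +kernel

set_option maxRecDepth 100000 in
theorem at194000 : allFrom ok 250 194000 = true := by decide +kernel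

set_option maxRecDepth 100000 in
theorem at194250 : allFrom ok 250 194250 = true := by decide +kernel

set_option maxRecDepth 100000 in
theorem at194500 : allFrom ok 250 194500 = true := by decide +kernel

set_option maxRecDepth 100000 in
theorem at194750 : allFrom ok 250 194750 = true := by decide +kernel

theorem range38 (i : ℕ) (h1 : 190000 ≤ i) (h2 : i < 195000) : ok i = true := by
  by_cases c190000 : i < 190250
  · exact allFrom_sound at190000 i (by omega) (by omega)
  by_cases c190250 : i < 190500
  · exact allFrom_sound at190250 i (by omega) (by omega)
  by_cases c190500 : i < 190750
  · exact allFrom_sound at190500 i (by omega) (by omega)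
  by_cases c190750 : i < 191000
  · exact allFrom_sound at190750 i (by omega) (by omega)
  by_cases c191000 : i < 191250
  · exact allFrom_sound at191000 i (by omega) (by omega)
  by_cases c191250 : i < 191500
  · exact allFrom_sound at191250 i (by omega) (by omega)
  by_cases c191500 : i < 191750
  · exact allFrom_sound at191500 i (by omega) (by omega)
  by_cases c191750 : i < 192000
  · exact allFrom_sound at191750 i (by omega) (by omega)
  by_cases c192000 : i < 192250
  · exact allFrom_sound at192000 i (by omega) (by omega)
  by_cases c192250 : i < 192500
  · exact allFrom_sound at192250 i (by omega) (by omega)
  by_cases c192500 : i < 192750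
  · exact allFrom_sound at192500 i (by omega) (by omega)
  by_cases c192750 : i < 193000
  · exact allFrom_sound at192750 i (by omega) (by omega)
  by_cases c193000 : i < 193250
  · exact allFrom_sound at193000 i (by omega) (by omega)
  by_cases c193250 : i < 193500
  · exact allFrom_sound at193250 i (by omega) (by omega)
  by_cases c193500 : i < 193750
  · exact allFrom_sound at193500 i (by omega) (by omega)
  by_cases c193750 : i < 194000
  · exact allFrom_sound at193750 i (by omega) (by omega)
  by_cases c194000 : i < 194250
  · exact allFrom_sound at194000 i (by omega) (by omega)
  by_cases c194250 : i < 194500
  · exact allFrom_sound at194250 i (by omega) (by omega)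
  by_cases c194500 : i < 194750
  · exact allFrom_sound at194500 i (by omega) (by omega)
  exact allFrom_sound at194750 i (by omega) (by omega)

end Cfsg.Agent.H96.Fi24Mult.Lab
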