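import Cfsg.Agent.H96.Fi24Mult.LabWords

/-!
Generated checks of the labels.
-/

set_option autoImplicit false
set_option Elab.async false

namespace Cfsg.Agent.H96.Fi24Mult.Lab

open Cfsg.Agent.H25.Fi24 (allFrom allFrom_sound)

set_option maxRecDepth 100000 in
theorem at195000 : allFrom ok 250 195000 = true := by decide +kernel

set_option maxRecDepth 100000 in
theorem at195250 : allFrom ok 250 195250 = true := by decide +kernel

set_option maxRecDepth 100000 in
theorem at195500 : allFrom ok 250 195500 = true := by decide +kernel

set_option maxRecDepth 100000 in
theorem at195750 : allFrom ok 250 195750 = true := by decide +kernel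

set_option maxRecDepth 100000 in
theorem at196000 : allFrom ok 250 196000 = true := by decide +kernel

set_option maxRecDepth 100000 in
theorem at196250 : allFrom ok 250 196250 = true := by decide +kernel

set_option maxRecDepth 100000 in
theorem at196500 : allFrom ok 250 196500 = true := by decide +kernel

set_option maxRecDepth 100000 in
theorem at196750 : allFrom ok 250 196750 = true := by decide +kernel

set_option maxRecDepth 100000 in
theorem at197000 : allFrom ok 250 197000 = true := by decide +kernel

set_option maxRecDepth 100000 in
theorem at197250 : allFrom ok 250 197250 = true := by decide +kernel

set_option maxRecDepth 100000 in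
theorem at197500 : allFrom ok 250 197500 = true := by decide +kernel

set_option maxRecDepth 100000 in
theorem at197750 : allFrom ok 250 197750 = true := by decide +kernel

set_option maxRecDepth 100000 in
theorem at198000 : allFrom ok 250 198000 = true := by decide +kernel

set_option maxRecDepth 100000 in
theorem at198250 : allFrom ok 250 198250 = true := by decide +kernel

set_option maxRecDepth 100000 in
theorem at198500 : allFrom ok 250 198500 = true := by decide +kernel

set_option maxRecDepth 100000 in
theorem at198750 : allFrom ok 250 198750 = true := by decide +kernel

set_option maxRecDepth 100000 in
theorem at199000 : allFrom ok 250 199000 = true := by decide +kernel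

set_option maxRecDepth 100000 in
theorem at199250 : allFrom ok 250 199250 = true := by decide +kernel

set_option maxRecDepth 100000 in
theorem at199500 : allFrom ok 250 199500 = true := by decide +kernel

set_option maxRecDepth 100000 in
theorem at199750 : allFrom ok 250 199750 = true := by decide +kernel

theorem range39 (i : ℕ) (h1 : 195000 ≤ i) (h2 : i < 200000) : ok i = true := by
  by_cases c195000 : i < 195250
  · exact allFrom_sound at195000 i (by omega) (by omega)
  by_cases c195250 : i < 195500
  · exact allFrom_sound at195250 i (by omega) (by omega)
  by_cases c195500 : i < 195750
  · exact allFrom_sound at195500 i (by omega) (by omega)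
  by_cases c195750 : i < 196000
  · exact allFrom_sound at195750 i (by omega) (by omega)
  by_cases c196000 : i < 196250
  · exact allFrom_sound at196000 i (by omega) (by omega)
  by_cases c196250 : i < 196500
  · exact allFrom_sound at196250 i (by omega) (by omega)
  by_cases c196500 : i < 196750
  · exact allFrom_sound at196500 i (by omega) (by omega)
  by_cases c196750 : i < 197000
  · exact allFrom_sound at196750 i (by omega) (by omega)
  by_cases c197000 : i < 197250
  · exact allFrom_sound at197000 i (by omega) (by omega)
  by_cases c197250 : i < 197500
  · exact allFrom_sound at197250 i (by omega) (by omega)
  by_cases c197500 : i < 197750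
  · exact allFrom_sound at197500 i (by omega) (by omega)
  by_cases c197750 : i < 198000
  · exact allFrom_sound at197750 i (by omega) (by omega)
  by_cases c198000 : i < 198250
  · exact allFrom_sound at198000 i (by omega) (by omega)
  by_cases c198250 : i < 198500
  · exact allFrom_sound at198250 i (by omega) (by omega)
  by_cases c198500 : i < 198750
  · exact allFrom_sound at198500 i (by omega) (by omega)
  by_cases c198750 : i < 199000
  · exact allFrom_sound at198750 i (by omega) (by omega)
  by_cases c199000 : i < 199250
  · exact allFrom_sound at199000 i (by omega) (by omega)
  by_cases c199250 : i < 199500
  · exact allFrom_sound at199250 i (by omega) (by omega)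
  by_cases c199500 : i < 199750
  · exact allFrom_sound at199500 i (by omega) (by omega)
  exact allFrom_sound at199750 i (by omega) (by omega)

end Cfsg.Agent.H96.Fi24Mult.Lab
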