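import Cfsg.Agent.H96.Fi24Mult.LabWords

/-!
Generated checks of the labels.
-/

set_option autoImplicit false
set_option Elab.async false

namespace Cfsg.Agent.H96.Fi24Mult.Lab

open Cfsg.Agent.H25.Fi24 (allFrom allFrom_sound)

set_option maxRecDepth 100000 in
theorem at20000 : allFrom ok 250 20000 = true := by decide +kernel

set_option maxRecDepth 100000 in
theorem at20250 : allFrom ok 250 20250 = true := by decide +kernel

set_option maxRecDepth 100000 in
theorem at20500 : allFrom ok 250 20500 = true := by decide +kernel

set_option maxRecDepth 100000 in
theorem at20750 : allFrom ok 250 20750 = true := by decide +kernel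

set_option maxRecDepth 100000 in
theorem at21000 : allFrom ok 250 21000 = true := by decide +kernel

set_option maxRecDepth 100000 in
theorem at21250 : allFrom ok 250 21250 = true := by decide +kernel

set_option maxRecDepth 100000 in
theorem at21500 : allFrom ok 250 21500 = true := by decide +kernel

set_option maxRecDepth 100000 in
theorem at21750 : allFrom ok 250 21750 = true := by decide +kernel

set_option maxRecDepth 100000 in
theorem at22000 : allFrom ok 250 22000 = true := by decide +kernel

set_option maxRecDepth 100000 in
theorem at22250 : allFrom ok 250 22250 = true := by decide +kernel

set_option maxRecDepth 100000 in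
theorem at22500 : allFrom ok 250 22500 = true := by decide +kernel

set_option maxRecDepth 100000 in
theorem at22750 : allFrom ok 250 22750 = true := by decide +kernel

set_option maxRecDepth 100000 in
theorem at23000 : allFrom ok 250 23000 = true := by decide +kernel

set_option maxRecDepth 100000 in
theorem at23250 : allFrom ok 250 23250 = true := by decide +kernel

set_option maxRecDepth 100000 in
theorem at23500 : allFrom ok 250 23500 = true := by decide +kernel

set_option maxRecDepth 100000 in
theorem at23750 : allFrom ok 250 23750 = true := by decide +kernel

set_option maxRecDepth 100000 in
theorem at24000 : allFrom ok 250 24000 = true := by decide +kernel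

set_option maxRecDepth 100000 in
theorem at24250 : allFrom ok 250 24250 = true := by decide +kernel

set_option maxRecDepth 100000 in
theorem at24500 : allFrom ok 250 24500 = true := by decide +kernel

set_option maxRecDepth 100000 in
theorem at24750 : allFrom ok 250 24750 = true := by decide +kernel

theorem range4 (i : ℕ) (h1 : 20000 ≤ i) (h2 : i < 25000) : ok i = true := by
  by_cases c20000 : i < 20250
  · exact allFrom_sound at20000 i (by omega) (by omega)
  by_cases c20250 : i < 20500
  · exact allFrom_sound at20250 i (by omega) (by omega)
  by_cases c20500 : i < 20750
  · exact allFrom_sound at20500 i (by omega) (by omega)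
  by_cases c20750 : i < 21000
  · exact allFrom_sound at20750 i (by omega) (by omega)
  by_cases c21000 : i < 21250
  · exact allFrom_sound at21000 i (by omega) (by omega)
  by_cases c21250 : i < 21500
  · exact allFrom_sound at21250 i (by omega) (by omega)
  by_cases c21500 : i < 21750
  · exact allFrom_sound at21500 i (by omega) (by omega)
  by_cases c21750 : i < 22000
  · exact allFrom_sound at21750 i (by omega) (by omega)
  by_cases c22000 : i < 22250
  · exact allFrom_sound at22000 i (by omega) (by omega)
  by_cases c22250 : i < 22500
  · exact allFrom_sound at22250 i (by omega) (by omega)
  by_cases c22500 : i < 22750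
  · exact allFrom_sound at22500 i (by omega) (by omega)
  by_cases c22750 : i < 23000
  · exact allFrom_sound at22750 i (by omega) (by omega)
  by_cases c23000 : i < 23250
  · exact allFrom_sound at23000 i (by omega) (by omega)
  by_cases c23250 : i < 23500
  · exact allFrom_sound at23250 i (by omega) (by omega)
  by_cases c23500 : i < 23750
  · exact allFrom_sound at23500 i (by omega) (by omega)
  by_cases c23750 : i < 24000
  · exact allFrom_sound at23750 i (by omega) (by omega)
  by_cases c24000 : i < 24250
  · exact allFrom_sound at24000 i (by omega) (by omega)
  by_cases c24250 : i < 24500
  · exact allFrom_sound at24250 i (by omega) (by omega)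
  by_cases c24500 : i < 24750
  · exact allFrom_sound at24500 i (by omega) (by omega)
  exact allFrom_sound at24750 i (by omega) (by omega)

end Cfsg.Agent.H96.Fi24Mult.Lab
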