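import Cfsg.Agent.H96.Fi24Mult.LabWords

/-!
Generated checks of the labels.
-/

set_option autoImplicit false
set_option Elab.async false

namespace Cfsg.Agent.H96.Fi24Mult.Lab

open Cfsg.Agent.H25.Fi24 (allFrom allFrom_sound)

set_option maxRecDepth 100000 in
theorem at200000 : allFrom ok 250 200000 = true := by decide +kernel

set_option maxRecDepth 100000 in
theorem at200250 : allFrom ok 250 200250 = true := by decide +kernel

set_option maxRecDepth 100000 in
theorem at200500 : allFrom ok 250 200500 = true := by decide +kernel

set_option maxRecDepth 100000 in
theorem at200750 : allFrom ok 250 200750 = true := by decide +kernel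

set_option maxRecDepth 100000 in
theorem at201000 : allFrom ok 250 201000 = true := by decide +kernel

set_option maxRecDepth 100000 in
theorem at201250 : allFrom ok 250 201250 = true := by decide +kernel

set_option maxRecDepth 100000 in
theorem at201500 : allFrom ok 250 201500 = true := by decide +kernel

set_option maxRecDepth 100000 in
theorem at201750 : allFrom ok 250 201750 = true := by decide +kernel

set_option maxRecDepth 100000 in
theorem at202000 : allFrom ok 250 202000 = true := by decide +kernel

set_option maxRecDepth 100000 in
theorem at202250 : allFrom ok 250 202250 = true := by decide +kernel

set_option maxRecDepth 100000 in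
theorem at202500 : allFrom ok 250 202500 = true := by decide +kernel

set_option maxRecDepth 100000 in
theorem at202750 : allFrom ok 250 202750 = true := by decide +kernel

set_option maxRecDepth 100000 in
theorem at203000 : allFrom ok 250 203000 = true := by decide +kernel

set_option maxRecDepth 100000 in
theorem at203250 : allFrom ok 250 203250 = true := by decide +kernel

set_option maxRecDepth 100000 in
theorem at203500 : allFrom ok 250 203500 = true := by decide +kernel

set_option maxRecDepth 100000 in
theorem at203750 : allFrom ok 250 203750 = true := by decide +kernel

set_option maxRecDepth 100000 in
theorem at204000 : allFrom ok 250 204000 = true := by decide +kernel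

set_option maxRecDepth 100000 in
theorem at204250 : allFrom ok 250 204250 = true := by decide +kernel

set_option maxRecDepth 100000 in
theorem at204500 : allFrom ok 250 204500 = true := by decide +kernel

set_option maxRecDepth 100000 in
theorem at204750 : allFrom ok 250 204750 = true := by decide +kernel

theorem range40 (i : ℕ) (h1 : 200000 ≤ i) (h2 : i < 205000) : ok i = true := by
  by_cases c200000 : i < 200250
  · exact allFrom_sound at200000 i (by omega) (by omega)
  by_cases c200250 : i < 200500
  · exact allFrom_sound at200250 i (by omega) (by omega)
  by_cases c200500 : i < 200750
  · exact allFrom_sound at200500 i (by omega) (by omega)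
  by_cases c200750 : i < 201000
  · exact allFrom_sound at200750 i (by omega) (by omega)
  by_cases c201000 : i < 201250
  · exact allFrom_sound at201000 i (by omega) (by omega)
  by_cases c201250 : i < 201500
  · exact allFrom_sound at201250 i (by omega) (by omega)
  by_cases c201500 : i < 201750
  · exact allFrom_sound at201500 i (by omega) (by omega)
  by_cases c201750 : i < 202000
  · exact allFrom_sound at201750 i (by omega) (by omega)
  by_cases c202000 : i < 202250
  · exact allFrom_sound at202000 i (by omega) (by omega)
  by_cases c202250 : i < 202500
  · exact allFrom_sound at202250 i (by omega) (by omega)
  by_cases c202500 : i < 202750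
  · exact allFrom_sound at202500 i (by omega) (by omega)
  by_cases c202750 : i < 203000
  · exact allFrom_sound at202750 i (by omega) (by omega)
  by_cases c203000 : i < 203250
  · exact allFrom_sound at203000 i (by omega) (by omega)
  by_cases c203250 : i < 203500
  · exact allFrom_sound at203250 i (by omega) (by omega)
  by_cases c203500 : i < 203750
  · exact allFrom_sound at203500 i (by omega) (by omega)
  by_cases c203750 : i < 204000
  · exact allFrom_sound at203750 i (by omega) (by omega)
  by_cases c204000 : i < 204250
  · exact allFrom_sound at204000 i (by omega) (by omega)
  by_cases c204250 : i < 204500
  · exact allFrom_sound at204250 i (by omega) (by omega)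
  by_cases c204500 : i < 204750
  · exact allFrom_sound at204500 i (by omega) (by omega)
  exact allFrom_sound at204750 i (by omega) (by omega)

end Cfsg.Agent.H96.Fi24Mult.Lab
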