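import Cfsg.Agent.H96.Fi24Mult.LabWords

/-!
Generated checks of the labels.
-/

set_option autoImplicit false
set_option Elab.async false

namespace Cfsg.Agent.H96.Fi24Mult.Lab

open Cfsg.Agent.H25.Fi24 (allFrom allFrom_sound)

set_option maxRecDepth 100000 in
theorem at205000 : allFrom ok 250 205000 = true := by decide +kernel

set_option maxRecDepth 100000 in
theorem at205250 : allFrom ok 250 205250 = true := by decide +kernel

set_option maxRecDepth 100000 in
theorem at205500 : allFrom ok 250 205500 = true := by decide +kernel

set_option maxRecDepth 100000 in
theorem at205750 : allFrom ok 250 205750 = true := by decide +kernel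

set_option maxRecDepth 100000 in
theorem at206000 : allFrom ok 250 206000 = true := by decide +kernel

set_option maxRecDepth 100000 in
theorem at206250 : allFrom ok 250 206250 = true := by decide +kernel

set_option maxRecDepth 100000 in
theorem at206500 : allFrom ok 250 206500 = true := by decide +kernel

set_option maxRecDepth 100000 in
theorem at206750 : allFrom ok 250 206750 = true := by decide +kernel

set_option maxRecDepth 100000 in
theorem at207000 : allFrom ok 250 207000 = true := by decide +kernel

set_option maxRecDepth 100000 in
theorem at207250 : allFrom ok 250 207250 = true := by decide +kernel

set_option maxRecDepth 100000 in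
theorem at207500 : allFrom ok 250 207500 = true := by decide +kernel

set_option maxRecDepth 100000 in
theorem at207750 : allFrom ok 250 207750 = true := by decide +kernel

set_option maxRecDepth 100000 in
theorem at208000 : allFrom ok 250 208000 = true := by decide +kernel

set_option maxRecDepth 100000 in
theorem at208250 : allFrom ok 250 208250 = true := by decide +kernel

set_option maxRecDepth 100000 in
theorem at208500 : allFrom ok 250 208500 = true := by decide +kernel

set_option maxRecDepth 100000 in
theorem at208750 : allFrom ok 250 208750 = true := by decide +kernel

set_option maxRecDepth 100000 in
theorem at209000 : allFrom ok 250 209000 = true := by decide +kernel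

set_option maxRecDepth 100000 in
theorem at209250 : allFrom ok 250 209250 = true := by decide +kernel

set_option maxRecDepth 100000 in
theorem at209500 : allFrom ok 250 209500 = true := by decide +kernel

set_option maxRecDepth 100000 in
theorem at209750 : allFrom ok 250 209750 = true := by decide +kernel

theorem range41 (i : ℕ) (h1 : 205000 ≤ i) (h2 : i < 210000) : ok i = true := by
  by_cases c205000 : i < 205250
  · exact allFrom_sound at205000 i (by omega) (by omega)
  by_cases c205250 : i < 205500
  · exact allFrom_sound at205250 i (by omega) (by omega)
  by_cases c205500 : i < 205750
  · exact allFrom_sound at205500 i (by omega) (by omega)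
  by_cases c205750 : i < 206000
  · exact allFrom_sound at205750 i (by omega) (by omega)
  by_cases c206000 : i < 206250
  · exact allFrom_sound at206000 i (by omega) (by omega)
  by_cases c206250 : i < 206500
  · exact allFrom_sound at206250 i (by omega) (by omega)
  by_cases c206500 : i < 206750
  · exact allFrom_sound at206500 i (by omega) (by omega)
  by_cases c206750 : i < 207000
  · exact allFrom_sound at206750 i (by omega) (by omega)
  by_cases c207000 : i < 207250
  · exact allFrom_sound at207000 i (by omega) (by omega)
  by_cases c207250 : i < 207500
  · exact allFrom_sound at207250 i (by omega) (by omega)
  by_cases c207500 : i < 207750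
  · exact allFrom_sound at207500 i (by omega) (by omega)
  by_cases c207750 : i < 208000
  · exact allFrom_sound at207750 i (by omega) (by omega)
  by_cases c208000 : i < 208250
  · exact allFrom_sound at208000 i (by omega) (by omega)
  by_cases c208250 : i < 208500
  · exact allFrom_sound at208250 i (by omega) (by omega)
  by_cases c208500 : i < 208750
  · exact allFrom_sound at208500 i (by omega) (by omega)
  by_cases c208750 : i < 209000
  · exact allFrom_sound at208750 i (by omega) (by omega)
  by_cases c209000 : i < 209250
  · exact allFrom_sound at209000 i (by omega) (by omega)
  by_cases c209250 : i < 209500
  · exact allFrom_sound at209250 i (by omega) (by omega)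
  by_cases c209500 : i < 209750
  · exact allFrom_sound at209500 i (by omega) (by omega)
  exact allFrom_sound at209750 i (by omega) (by omega)

end Cfsg.Agent.H96.Fi24Mult.Lab
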