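import Cfsg.Agent.H96.Fi24Mult.LabWords

/-!
Generated checks of the labels.
-/

set_option autoImplicit false
set_option Elab.async false

namespace Cfsg.Agent.H96.Fi24Mult.Lab

open Cfsg.Agent.H25.Fi24 (allFrom allFrom_sound)

set_option maxRecDepth 100000 in
theorem at210000 : allFrom ok 250 210000 = true := by decide +kernel

set_option maxRecDepth 100000 in
theorem at210250 : allFrom ok 250 210250 = true := by decide +kernel

set_option maxRecDepth 100000 in
theorem at210500 : allFrom ok 250 210500 = true := by decide +kernel

set_option maxRecDepth 100000 in
theorem at210750 : allFrom ok 250 210750 = true := by decide +kernel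

set_option maxRecDepth 100000 in
theorem at211000 : allFrom ok 250 211000 = true := by decide +kernel

set_option maxRecDepth 100000 in
theorem at211250 : allFrom ok 250 211250 = true := by decide +kernel

set_option maxRecDepth 100000 in
theorem at211500 : allFrom ok 250 211500 = true := by decide +kernel

set_option maxRecDepth 100000 in
theorem at211750 : allFrom ok 250 211750 = true := by decide +kernel

set_option maxRecDepth 100000 in
theorem at212000 : allFrom ok 250 212000 = true := by decide +kernel

set_option maxRecDepth 100000 in
theorem at212250 : allFrom ok 250 212250 = true := by decide +kernel

set_option maxRecDepth 100000 in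
theorem at212500 : allFrom ok 250 212500 = true := by decide +kernel

set_option maxRecDepth 100000 in
theorem at212750 : allFrom ok 250 212750 = true := by decide +kernel

set_option maxRecDepth 100000 in
theorem at213000 : allFrom ok 250 213000 = true := by decide +kernel

set_option maxRecDepth 100000 in
theorem at213250 : allFrom ok 250 213250 = true := by decide +kernel

set_option maxRecDepth 100000 in
theorem at213500 : allFrom ok 250 213500 = true := by decide +kernel

set_option maxRecDepth 100000 in
theorem at213750 : allFrom ok 250 213750 = true := by decide +kernel

set_option maxRecDepth 100000 in
theorem at214000 : allFrom ok 250 214000 = true := by decide +kernel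

set_option maxRecDepth 100000 in
theorem at214250 : allFrom ok 250 214250 = true := by decide +kernel

set_option maxRecDepth 100000 in
theorem at214500 : allFrom ok 250 214500 = true := by decide +kernel

set_option maxRecDepth 100000 in
theorem at214750 : allFrom ok 250 214750 = true := by decide +kernel

theorem range42 (i : ℕ) (h1 : 210000 ≤ i) (h2 : i < 215000) : ok i = true := by
  by_cases c210000 : i < 210250
  · exact allFrom_sound at210000 i (by omega) (by omega)
  by_cases c210250 : i < 210500
  · exact allFrom_sound at210250 i (by omega) (by omega)
  by_cases c210500 : i < 210750
  · exact allFrom_sound at210500 i (by omega) (by omega)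
  by_cases c210750 : i < 211000
  · exact allFrom_sound at210750 i (by omega) (by omega)
  by_cases c211000 : i < 211250
  · exact allFrom_sound at211000 i (by omega) (by omega)
  by_cases c211250 : i < 211500
  · exact allFrom_sound at211250 i (by omega) (by omega)
  by_cases c211500 : i < 211750
  · exact allFrom_sound at211500 i (by omega) (by omega)
  by_cases c211750 : i < 212000
  · exact allFrom_sound at211750 i (by omega) (by omega)
  by_cases c212000 : i < 212250
  · exact allFrom_sound at212000 i (by omega) (by omega)
  by_cases c212250 : i < 212500
  · exact allFrom_sound at212250 i (by omega) (by omega)
  by_cases c212500 : i < 212750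
  · exact allFrom_sound at212500 i (by omega) (by omega)
  by_cases c212750 : i < 213000
  · exact allFrom_sound at212750 i (by omega) (by omega)
  by_cases c213000 : i < 213250
  · exact allFrom_sound at213000 i (by omega) (by omega)
  by_cases c213250 : i < 213500
  · exact allFrom_sound at213250 i (by omega) (by omega)
  by_cases c213500 : i < 213750
  · exact allFrom_sound at213500 i (by omega) (by omega)
  by_cases c213750 : i < 214000
  · exact allFrom_sound at213750 i (by omega) (by omega)
  by_cases c214000 : i < 214250
  · exact allFrom_sound at214000 i (by omega) (by omega)
  by_cases c214250 : i < 214500
  · exact allFrom_sound at214250 i (by omega) (by omega)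
  by_cases c214500 : i < 214750
  · exact allFrom_sound at214500 i (by omega) (by omega)
  exact allFrom_sound at214750 i (by omega) (by omega)

end Cfsg.Agent.H96.Fi24Mult.Lab
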