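import Cfsg.Agent.H96.Fi24Mult.LabWords

/-!
Generated checks of the labels.
-/

set_option autoImplicit false
set_option Elab.async false

namespace Cfsg.Agent.H96.Fi24Mult.Lab

open Cfsg.Agent.H25.Fi24 (allFrom allFrom_sound)

set_option maxRecDepth 100000 in
theorem at215000 : allFrom ok 250 215000 = true := by decide +kernel

set_option maxRecDepth 100000 in
theorem at215250 : allFrom ok 250 215250 = true := by decide +kernel

set_option maxRecDepth 100000 in
theorem at215500 : allFrom ok 250 215500 = true := by decide +kernel

set_option maxRecDepth 100000 in
theorem at215750 : allFrom ok 250 215750 = true := by decide +kernel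

set_option maxRecDepth 100000 in
theorem at216000 : allFrom ok 250 216000 = true := by decide +kernel

set_option maxRecDepth 100000 in
theorem at216250 : allFrom ok 250 216250 = true := by decide +kernel

set_option maxRecDepth 100000 in
theorem at216500 : allFrom ok 250 216500 = true := by decide +kernel

set_option maxRecDepth 100000 in
theorem at216750 : allFrom ok 250 216750 = true := by decide +kernel

set_option maxRecDepth 100000 in
theorem at217000 : allFrom ok 250 217000 = true := by decide +kernel

set_option maxRecDepth 100000 in
theorem at217250 : allFrom ok 250 217250 = true := by decide +kernel

set_option maxRecDepth 100000 in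
theorem at217500 : allFrom ok 250 217500 = true := by decide +kernel

set_option maxRecDepth 100000 in
theorem at217750 : allFrom ok 250 217750 = true := by decide +kernel

set_option maxRecDepth 100000 in
theorem at218000 : allFrom ok 250 218000 = true := by decide +kernel

set_option maxRecDepth 100000 in
theorem at218250 : allFrom ok 250 218250 = true := by decide +kernel

set_option maxRecDepth 100000 in
theorem at218500 : allFrom ok 250 218500 = true := by decide +kernel

set_option maxRecDepth 100000 in
theorem at218750 : allFrom ok 250 218750 = true := by decide +kernel

set_option maxRecDepth 100000 in
theorem at219000 : allFrom ok 250 219000 = true := by decide +kernel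

set_option maxRecDepth 100000 in
theorem at219250 : allFrom ok 250 219250 = true := by decide +kernel

set_option maxRecDepth 100000 in
theorem at219500 : allFrom ok 250 219500 = true := by decide +kernel

set_option maxRecDepth 100000 in
theorem at219750 : allFrom ok 250 219750 = true := by decide +kernel

theorem range43 (i : ℕ) (h1 : 215000 ≤ i) (h2 : i < 220000) : ok i = true := by
  by_cases c215000 : i < 215250
  · exact allFrom_sound at215000 i (by omega) (by omega)
  by_cases c215250 : i < 215500
  · exact allFrom_sound at215250 i (by omega) (by omega)
  by_cases c215500 : i < 215750
  · exact allFrom_sound at215500 i (by omega) (by omega)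
  by_cases c215750 : i < 216000
  · exact allFrom_sound at215750 i (by omega) (by omega)
  by_cases c216000 : i < 216250
  · exact allFrom_sound at216000 i (by omega) (by omega)
  by_cases c216250 : i < 216500
  · exact allFrom_sound at216250 i (by omega) (by omega)
  by_cases c216500 : i < 216750
  · exact allFrom_sound at216500 i (by omega) (by omega)
  by_cases c216750 : i < 217000
  · exact allFrom_sound at216750 i (by omega) (by omega)
  by_cases c217000 : i < 217250
  · exact allFrom_sound at217000 i (by omega) (by omega)
  by_cases c217250 : i < 217500
  · exact allFrom_sound at217250 i (by omega) (by omega)
  by_cases c217500 : i < 217750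
  · exact allFrom_sound at217500 i (by omega) (by omega)
  by_cases c217750 : i < 218000
  · exact allFrom_sound at217750 i (by omega) (by omega)
  by_cases c218000 : i < 218250
  · exact allFrom_sound at218000 i (by omega) (by omega)
  by_cases c218250 : i < 218500
  · exact allFrom_sound at218250 i (by omega) (by omega)
  by_cases c218500 : i < 218750
  · exact allFrom_sound at218500 i (by omega) (by omega)
  by_cases c218750 : i < 219000
  · exact allFrom_sound at218750 i (by omega) (by omega)
  by_cases c219000 : i < 219250
  · exact allFrom_sound at219000 i (by omega) (by omega)
  by_cases c219250 : i < 219500
  · exact allFrom_sound at219250 i (by omega) (by omega)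
  by_cases c219500 : i < 219750
  · exact allFrom_sound at219500 i (by omega) (by omega)
  exact allFrom_sound at219750 i (by omega) (by omega)

end Cfsg.Agent.H96.Fi24Mult.Lab
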