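import Cfsg.Agent.H96.Fi24Mult.LabWords

/-!
Generated checks of the labels.
-/

set_option autoImplicit false
set_option Elab.async false

namespace Cfsg.Agent.H96.Fi24Mult.Lab

open Cfsg.Agent.H25.Fi24 (allFrom allFrom_sound)

set_option maxRecDepth 100000 in
theorem at220000 : allFrom ok 250 220000 = true := by decide +kernel

set_option maxRecDepth 100000 in
theorem at220250 : allFrom ok 250 220250 = true := by decide +kernel

set_option maxRecDepth 100000 in
theorem at220500 : allFrom ok 250 220500 = true := by decide +kernel

set_option maxRecDepth 100000 in
theorem at220750 : allFrom ok 250 220750 = true := by decide +kernel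

set_option maxRecDepth 100000 in
theorem at221000 : allFrom ok 250 221000 = true := by decide +kernel

set_option maxRecDepth 100000 in
theorem at221250 : allFrom ok 250 221250 = true := by decide +kernel

set_option maxRecDepth 100000 in
theorem at221500 : allFrom ok 250 221500 = true := by decide +kernel

set_option maxRecDepth 100000 in
theorem at221750 : allFrom ok 250 221750 = true := by decide +kernel

set_option maxRecDepth 100000 in
theorem at222000 : allFrom ok 250 222000 = true := by decide +kernel

set_option maxRecDepth 100000 in
theorem at222250 : allFrom ok 250 222250 = true := by decide +kernel

set_option maxRecDepth 100000 in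
theorem at222500 : allFrom ok 250 222500 = true := by decide +kernel

set_option maxRecDepth 100000 in
theorem at222750 : allFrom ok 250 222750 = true := by decide +kernel

set_option maxRecDepth 100000 in
theorem at223000 : allFrom ok 250 223000 = true := by decide +kernel

set_option maxRecDepth 100000 in
theorem at223250 : allFrom ok 250 223250 = true := by decide +kernel

set_option maxRecDepth 100000 in
theorem at223500 : allFrom ok 250 223500 = true := by decide +kernel

set_option maxRecDepth 100000 in
theorem at223750 : allFrom ok 250 223750 = true := by decide +kernel

set_option maxRecDepth 100000 in
theorem at224000 : allFrom ok 250 224000 = true := by decide +kernel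

set_option maxRecDepth 100000 in
theorem at224250 : allFrom ok 250 224250 = true := by decide +kernel

set_option maxRecDepth 100000 in
theorem at224500 : allFrom ok 250 224500 = true := by decide +kernel

set_option maxRecDepth 100000 in
theorem at224750 : allFrom ok 250 224750 = true := by decide +kernel

theorem range44 (i : ℕ) (h1 : 220000 ≤ i) (h2 : i < 225000) : ok i = true := by
  by_cases c220000 : i < 220250
  · exact allFrom_sound at220000 i (by omega) (by omega)
  by_cases c220250 : i < 220500
  · exact allFrom_sound at220250 i (by omega) (by omega)
  by_cases c220500 : i < 220750
  · exact allFrom_sound at220500 i (by omega) (by omega)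
  by_cases c220750 : i < 221000
  · exact allFrom_sound at220750 i (by omega) (by omega)
  by_cases c221000 : i < 221250
  · exact allFrom_sound at221000 i (by omega) (by omega)
  by_cases c221250 : i < 221500
  · exact allFrom_sound at221250 i (by omega) (by omega)
  by_cases c221500 : i < 221750
  · exact allFrom_sound at221500 i (by omega) (by omega)
  by_cases c221750 : i < 222000
  · exact allFrom_sound at221750 i (by omega) (by omega)
  by_cases c222000 : i < 222250
  · exact allFrom_sound at222000 i (by omega) (by omega)
  by_cases c222250 : i < 222500
  · exact allFrom_sound at222250 i (by omega) (by omega)
  by_cases c222500 : i < 222750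
  · exact allFrom_sound at222500 i (by omega) (by omega)
  by_cases c222750 : i < 223000
  · exact allFrom_sound at222750 i (by omega) (by omega)
  by_cases c223000 : i < 223250
  · exact allFrom_sound at223000 i (by omega) (by omega)
  by_cases c223250 : i < 223500
  · exact allFrom_sound at223250 i (by omega) (by omega)
  by_cases c223500 : i < 223750
  · exact allFrom_sound at223500 i (by omega) (by omega)
  by_cases c223750 : i < 224000
  · exact allFrom_sound at223750 i (by omega) (by omega)
  by_cases c224000 : i < 224250
  · exact allFrom_sound at224000 i (by omega) (by omega)
  by_cases c224250 : i < 224500
  · exact allFrom_sound at224250 i (by omega) (by omega)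
  by_cases c224500 : i < 224750
  · exact allFrom_sound at224500 i (by omega) (by omega)
  exact allFrom_sound at224750 i (by omega) (by omega)

end Cfsg.Agent.H96.Fi24Mult.Lab
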