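import Cfsg.Agent.H96.Fi24Mult.LabWords

/-!
Generated checks of the labels.
-/

set_option autoImplicit false
set_option Elab.async false

namespace Cfsg.Agent.H96.Fi24Mult.Lab

open Cfsg.Agent.H25.Fi24 (allFrom allFrom_sound)

set_option maxRecDepth 100000 in
theorem at225000 : allFrom ok 250 225000 = true := by decide +kernel

set_option maxRecDepth 100000 in
theorem at225250 : allFrom ok 250 225250 = true := by decide +kernel

set_option maxRecDepth 100000 in
theorem at225500 : allFrom ok 250 225500 = true := by decide +kernel

set_option maxRecDepth 100000 in
theorem at225750 : allFrom ok 250 225750 = true := by decide +kernel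

set_option maxRecDepth 100000 in
theorem at226000 : allFrom ok 250 226000 = true := by decide +kernel

set_option maxRecDepth 100000 in
theorem at226250 : allFrom ok 250 226250 = true := by decide +kernel

set_option maxRecDepth 100000 in
theorem at226500 : allFrom ok 250 226500 = true := by decide +kernel

set_option maxRecDepth 100000 in
theorem at226750 : allFrom ok 250 226750 = true := by decide +kernel

set_option maxRecDepth 100000 in
theorem at227000 : allFrom ok 250 227000 = true := by decide +kernel

set_option maxRecDepth 100000 in
theorem at227250 : allFrom ok 250 227250 = true := by decide +kernel

set_option maxRecDepth 100000 in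
theorem at227500 : allFrom ok 250 227500 = true := by decide +kernel

set_option maxRecDepth 100000 in
theorem at227750 : allFrom ok 250 227750 = true := by decide +kernel

set_option maxRecDepth 100000 in
theorem at228000 : allFrom ok 250 228000 = true := by decide +kernel

set_option maxRecDepth 100000 in
theorem at228250 : allFrom ok 250 228250 = true := by decide +kernel

set_option maxRecDepth 100000 in
theorem at228500 : allFrom ok 250 228500 = true := by decide +kernel

set_option maxRecDepth 100000 in
theorem at228750 : allFrom ok 250 228750 = true := by decide +kernel

set_option maxRecDepth 100000 in
theorem at229000 : allFrom ok 250 229000 = true := by decide +kernel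

set_option maxRecDepth 100000 in
theorem at229250 : allFrom ok 250 229250 = true := by decide +kernel

set_option maxRecDepth 100000 in
theorem at229500 : allFrom ok 250 229500 = true := by decide +kernel

set_option maxRecDepth 100000 in
theorem at229750 : allFrom ok 250 229750 = true := by decide +kernel

theorem range45 (i : ℕ) (h1 : 225000 ≤ i) (h2 : i < 230000) : ok i = true := by
  by_cases c225000 : i < 225250
  · exact allFrom_sound at225000 i (by omega) (by omega)
  by_cases c225250 : i < 225500
  · exact allFrom_sound at225250 i (by omega) (by omega)
  by_cases c225500 : i < 225750
  · exact allFrom_sound at225500 i (by omega) (by omega)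
  by_cases c225750 : i < 226000
  · exact allFrom_sound at225750 i (by omega) (by omega)
  by_cases c226000 : i < 226250
  · exact allFrom_sound at226000 i (by omega) (by omega)
  by_cases c226250 : i < 226500
  · exact allFrom_sound at226250 i (by omega) (by omega)
  by_cases c226500 : i < 226750
  · exact allFrom_sound at226500 i (by omega) (by omega)
  by_cases c226750 : i < 227000
  · exact allFrom_sound at226750 i (by omega) (by omega)
  by_cases c227000 : i < 227250
  · exact allFrom_sound at227000 i (by omega) (by omega)
  by_cases c227250 : i < 227500
  · exact allFrom_sound at227250 i (by omega) (by omega)
  by_cases c227500 : i < 227750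
  · exact allFrom_sound at227500 i (by omega) (by omega)
  by_cases c227750 : i < 228000
  · exact allFrom_sound at227750 i (by omega) (by omega)
  by_cases c228000 : i < 228250
  · exact allFrom_sound at228000 i (by omega) (by omega)
  by_cases c228250 : i < 228500
  · exact allFrom_sound at228250 i (by omega) (by omega)
  by_cases c228500 : i < 228750
  · exact allFrom_sound at228500 i (by omega) (by omega)
  by_cases c228750 : i < 229000
  · exact allFrom_sound at228750 i (by omega) (by omega)
  by_cases c229000 : i < 229250
  · exact allFrom_sound at229000 i (by omega) (by omega)
  by_cases c229250 : i < 229500
  · exact allFrom_sound at229250 i (by omega) (by omega)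
  by_cases c229500 : i < 229750
  · exact allFrom_sound at229500 i (by omega) (by omega)
  exact allFrom_sound at229750 i (by omega) (by omega)

end Cfsg.Agent.H96.Fi24Mult.Lab
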