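import Cfsg.Agent.H96.Fi24Mult.LabWords

/-!
Generated checks of the labels.
-/

set_option autoImplicit false
set_option Elab.async false

namespace Cfsg.Agent.H96.Fi24Mult.Lab

open Cfsg.Agent.H25.Fi24 (allFrom allFrom_sound)

set_option maxRecDepth 100000 in
theorem at230000 : allFrom ok 250 230000 = true := by decide +kernel

set_option maxRecDepth 100000 in
theorem at230250 : allFrom ok 250 230250 = true := by decide +kernel

set_option maxRecDepth 100000 in
theorem at230500 : allFrom ok 250 230500 = true := by decide +kernel

set_option maxRecDepth 100000 in
theorem at230750 : allFrom ok 250 230750 = true := by decide +kernel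

set_option maxRecDepth 100000 in
theorem at231000 : allFrom ok 250 231000 = true := by decide +kernel

set_option maxRecDepth 100000 in
theorem at231250 : allFrom ok 250 231250 = true := by decide +kernel

set_option maxRecDepth 100000 in
theorem at231500 : allFrom ok 250 231500 = true := by decide +kernel

set_option maxRecDepth 100000 in
theorem at231750 : allFrom ok 250 231750 = true := by decide +kernel

set_option maxRecDepth 100000 in
theorem at232000 : allFrom ok 250 232000 = true := by decide +kernel

set_option maxRecDepth 100000 in
theorem at232250 : allFrom ok 250 232250 = true := by decide +kernel

set_option maxRecDepth 100000 in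
theorem at232500 : allFrom ok 250 232500 = true := by decide +kernel

set_option maxRecDepth 100000 in
theorem at232750 : allFrom ok 250 232750 = true := by decide +kernel

set_option maxRecDepth 100000 in
theorem at233000 : allFrom ok 250 233000 = true := by decide +kernel

set_option maxRecDepth 100000 in
theorem at233250 : allFrom ok 250 233250 = true := by decide +kernel

set_option maxRecDepth 100000 in
theorem at233500 : allFrom ok 250 233500 = true := by decide +kernel

set_option maxRecDepth 100000 in
theorem at233750 : allFrom ok 250 233750 = true := by decide +kernel

set_option maxRecDepth 100000 in
theorem at234000 : allFrom ok 250 234000 = true := by decide +kernel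

set_option maxRecDepth 100000 in
theorem at234250 : allFrom ok 250 234250 = true := by decide +kernel

set_option maxRecDepth 100000 in
theorem at234500 : allFrom ok 250 234500 = true := by decide +kernel

set_option maxRecDepth 100000 in
theorem at234750 : allFrom ok 250 234750 = true := by decide +kernel

theorem range46 (i : ℕ) (h1 : 230000 ≤ i) (h2 : i < 235000) : ok i = true := by
  by_cases c230000 : i < 230250
  · exact allFrom_sound at230000 i (by omega) (by omega)
  by_cases c230250 : i < 230500
  · exact allFrom_sound at230250 i (by omega) (by omega)
  by_cases c230500 : i < 230750
  · exact allFrom_sound at230500 i (by omega) (by omega)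
  by_cases c230750 : i < 231000
  · exact allFrom_sound at230750 i (by omega) (by omega)
  by_cases c231000 : i < 231250
  · exact allFrom_sound at231000 i (by omega) (by omega)
  by_cases c231250 : i < 231500
  · exact allFrom_sound at231250 i (by omega) (by omega)
  by_cases c231500 : i < 231750
  · exact allFrom_sound at231500 i (by omega) (by omega)
  by_cases c231750 : i < 232000
  · exact allFrom_sound at231750 i (by omega) (by omega)
  by_cases c232000 : i < 232250
  · exact allFrom_sound at232000 i (by omega) (by omega)
  by_cases c232250 : i < 232500
  · exact allFrom_sound at232250 i (by omega) (by omega)
  by_cases c232500 : i < 232750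
  · exact allFrom_sound at232500 i (by omega) (by omega)
  by_cases c232750 : i < 233000
  · exact allFrom_sound at232750 i (by omega) (by omega)
  by_cases c233000 : i < 233250
  · exact allFrom_sound at233000 i (by omega) (by omega)
  by_cases c233250 : i < 233500
  · exact allFrom_sound at233250 i (by omega) (by omega)
  by_cases c233500 : i < 233750
  · exact allFrom_sound at233500 i (by omega) (by omega)
  by_cases c233750 : i < 234000
  · exact allFrom_sound at233750 i (by omega) (by omega)
  by_cases c234000 : i < 234250
  · exact allFrom_sound at234000 i (by omega) (by omega)
  by_cases c234250 : i < 234500
  · exact allFrom_sound at234250 i (by omega) (by omega)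
  by_cases c234500 : i < 234750
  · exact allFrom_sound at234500 i (by omega) (by omega)
  exact allFrom_sound at234750 i (by omega) (by omega)

end Cfsg.Agent.H96.Fi24Mult.Lab
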