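import Cfsg.Agent.H96.Fi24Mult.LabWords

/-!
Generated checks of the labels.
-/

set_option autoImplicit false
set_option Elab.async false

namespace Cfsg.Agent.H96.Fi24Mult.Lab

open Cfsg.Agent.H25.Fi24 (allFrom allFrom_sound)

set_option maxRecDepth 100000 in
theorem at235000 : allFrom ok 250 235000 = true := by decide +kernel

set_option maxRecDepth 100000 in
theorem at235250 : allFrom ok 250 235250 = true := by decide +kernel

set_option maxRecDepth 100000 in
theorem at235500 : allFrom ok 250 235500 = true := by decide +kernel

set_option maxRecDepth 100000 in
theorem at235750 : allFrom ok 250 235750 = true := by decide +kernel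

set_option maxRecDepth 100000 in
theorem at236000 : allFrom ok 250 236000 = true := by decide +kernel

set_option maxRecDepth 100000 in
theorem at236250 : allFrom ok 250 236250 = true := by decide +kernel

set_option maxRecDepth 100000 in
theorem at236500 : allFrom ok 250 236500 = true := by decide +kernel

set_option maxRecDepth 100000 in
theorem at236750 : allFrom ok 250 236750 = true := by decide +kernel

set_option maxRecDepth 100000 in
theorem at237000 : allFrom ok 250 237000 = true := by decide +kernel

set_option maxRecDepth 100000 in
theorem at237250 : allFrom ok 250 237250 = true := by decide +kernel

set_option maxRecDepth 100000 in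
theorem at237500 : allFrom ok 250 237500 = true := by decide +kernel

set_option maxRecDepth 100000 in
theorem at237750 : allFrom ok 250 237750 = true := by decide +kernel

set_option maxRecDepth 100000 in
theorem at238000 : allFrom ok 250 238000 = true := by decide +kernel

set_option maxRecDepth 100000 in
theorem at238250 : allFrom ok 250 238250 = true := by decide +kernel

set_option maxRecDepth 100000 in
theorem at238500 : allFrom ok 250 238500 = true := by decide +kernel

set_option maxRecDepth 100000 in
theorem at238750 : allFrom ok 250 238750 = true := by decide +kernel

set_option maxRecDepth 100000 in
theorem at239000 : allFrom ok 250 239000 = true := by decide +kernel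

set_option maxRecDepth 100000 in
theorem at239250 : allFrom ok 250 239250 = true := by decide +kernel

set_option maxRecDepth 100000 in
theorem at239500 : allFrom ok 250 239500 = true := by decide +kernel

set_option maxRecDepth 100000 in
theorem at239750 : allFrom ok 250 239750 = true := by decide +kernel

theorem range47 (i : ℕ) (h1 : 235000 ≤ i) (h2 : i < 240000) : ok i = true := by
  by_cases c235000 : i < 235250
  · exact allFrom_sound at235000 i (by omega) (by omega)
  by_cases c235250 : i < 235500
  · exact allFrom_sound at235250 i (by omega) (by omega)
  by_cases c235500 : i < 235750
  · exact allFrom_sound at235500 i (by omega) (by omega)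
  by_cases c235750 : i < 236000
  · exact allFrom_sound at235750 i (by omega) (by omega)
  by_cases c236000 : i < 236250
  · exact allFrom_sound at236000 i (by omega) (by omega)
  by_cases c236250 : i < 236500
  · exact allFrom_sound at236250 i (by omega) (by omega)
  by_cases c236500 : i < 236750
  · exact allFrom_sound at236500 i (by omega) (by omega)
  by_cases c236750 : i < 237000
  · exact allFrom_sound at236750 i (by omega) (by omega)
  by_cases c237000 : i < 237250
  · exact allFrom_sound at237000 i (by omega) (by omega)
  by_cases c237250 : i < 237500
  · exact allFrom_sound at237250 i (by omega) (by omega)
  by_cases c237500 : i < 237750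
  · exact allFrom_sound at237500 i (by omega) (by omega)
  by_cases c237750 : i < 238000
  · exact allFrom_sound at237750 i (by omega) (by omega)
  by_cases c238000 : i < 238250
  · exact allFrom_sound at238000 i (by omega) (by omega)
  by_cases c238250 : i < 238500
  · exact allFrom_sound at238250 i (by omega) (by omega)
  by_cases c238500 : i < 238750
  · exact allFrom_sound at238500 i (by omega) (by omega)
  by_cases c238750 : i < 239000
  · exact allFrom_sound at238750 i (by omega) (by omega)
  by_cases c239000 : i < 239250
  · exact allFrom_sound at239000 i (by omega) (by omega)
  by_cases c239250 : i < 239500
  · exact allFrom_sound at239250 i (by omega) (by omega)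
  by_cases c239500 : i < 239750
  · exact allFrom_sound at239500 i (by omega) (by omega)
  exact allFrom_sound at239750 i (by omega) (by omega)

end Cfsg.Agent.H96.Fi24Mult.Lab
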