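import Cfsg.Agent.H96.Fi24Mult.LabWords

/-!
Generated checks of the labels.
-/

set_option autoImplicit false
set_option Elab.async false

namespace Cfsg.Agent.H96.Fi24Mult.Lab

open Cfsg.Agent.H25.Fi24 (allFrom allFrom_sound)

set_option maxRecDepth 100000 in
theorem at240000 : allFrom ok 250 240000 = true := by decide +kernel

set_option maxRecDepth 100000 in
theorem at240250 : allFrom ok 250 240250 = true := by decide +kernel

set_option maxRecDepth 100000 in
theorem at240500 : allFrom ok 250 240500 = true := by decide +kernel

set_option maxRecDepth 100000 in
theorem at240750 : allFrom ok 250 240750 = true := by decide +kernel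

set_option maxRecDepth 100000 in
theorem at241000 : allFrom ok 250 241000 = true := by decide +kernel

set_option maxRecDepth 100000 in
theorem at241250 : allFrom ok 250 241250 = true := by decide +kernel

set_option maxRecDepth 100000 in
theorem at241500 : allFrom ok 250 241500 = true := by decide +kernel

set_option maxRecDepth 100000 in
theorem at241750 : allFrom ok 250 241750 = true := by decide +kernel

set_option maxRecDepth 100000 in
theorem at242000 : allFrom ok 250 242000 = true := by decide +kernel

set_option maxRecDepth 100000 in
theorem at242250 : allFrom ok 250 242250 = true := by decide +kernel

set_option maxRecDepth 100000 in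
theorem at242500 : allFrom ok 250 242500 = true := by decide +kernel

set_option maxRecDepth 100000 in
theorem at242750 : allFrom ok 250 242750 = true := by decide +kernel

set_option maxRecDepth 100000 in
theorem at243000 : allFrom ok 250 243000 = true := by decide +kernel

set_option maxRecDepth 100000 in
theorem at243250 : allFrom ok 250 243250 = true := by decide +kernel

set_option maxRecDepth 100000 in
theorem at243500 : allFrom ok 250 243500 = true := by decide +kernel

set_option maxRecDepth 100000 in
theorem at243750 : allFrom ok 250 243750 = true := by decide +kernel

set_option maxRecDepth 100000 in
theorem at244000 : allFrom ok 250 244000 = true := by decide +kernel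

set_option maxRecDepth 100000 in
theorem at244250 : allFrom ok 250 244250 = true := by decide +kernel

set_option maxRecDepth 100000 in
theorem at244500 : allFrom ok 250 244500 = true := by decide +kernel

set_option maxRecDepth 100000 in
theorem at244750 : allFrom ok 250 244750 = true := by decide +kernel

theorem range48 (i : ℕ) (h1 : 240000 ≤ i) (h2 : i < 245000) : ok i = true := by
  by_cases c240000 : i < 240250
  · exact allFrom_sound at240000 i (by omega) (by omega)
  by_cases c240250 : i < 240500
  · exact allFrom_sound at240250 i (by omega) (by omega)
  by_cases c240500 : i < 240750
  · exact allFrom_sound at240500 i (by omega) (by omega)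
  by_cases c240750 : i < 241000
  · exact allFrom_sound at240750 i (by omega) (by omega)
  by_cases c241000 : i < 241250
  · exact allFrom_sound at241000 i (by omega) (by omega)
  by_cases c241250 : i < 241500
  · exact allFrom_sound at241250 i (by omega) (by omega)
  by_cases c241500 : i < 241750
  · exact allFrom_sound at241500 i (by omega) (by omega)
  by_cases c241750 : i < 242000
  · exact allFrom_sound at241750 i (by omega) (by omega)
  by_cases c242000 : i < 242250
  · exact allFrom_sound at242000 i (by omega) (by omega)
  by_cases c242250 : i < 242500
  · exact allFrom_sound at242250 i (by omega) (by omega)
  by_cases c242500 : i < 242750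
  · exact allFrom_sound at242500 i (by omega) (by omega)
  by_cases c242750 : i < 243000
  · exact allFrom_sound at242750 i (by omega) (by omega)
  by_cases c243000 : i < 243250
  · exact allFrom_sound at243000 i (by omega) (by omega)
  by_cases c243250 : i < 243500
  · exact allFrom_sound at243250 i (by omega) (by omega)
  by_cases c243500 : i < 243750
  · exact allFrom_sound at243500 i (by omega) (by omega)
  by_cases c243750 : i < 244000
  · exact allFrom_sound at243750 i (by omega) (by omega)
  by_cases c244000 : i < 244250
  · exact allFrom_sound at244000 i (by omega) (by omega)
  by_cases c244250 : i < 244500
  · exact allFrom_sound at244250 i (by omega) (by omega)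
  by_cases c244500 : i < 244750
  · exact allFrom_sound at244500 i (by omega) (by omega)
  exact allFrom_sound at244750 i (by omega) (by omega)

end Cfsg.Agent.H96.Fi24Mult.Lab
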