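import Cfsg.Agent.H96.Fi24Mult.LabWords

/-!
Generated checks of the labels.
-/

set_option autoImplicit false
set_option Elab.async false

namespace Cfsg.Agent.H96.Fi24Mult.Lab

open Cfsg.Agent.H25.Fi24 (allFrom allFrom_sound)

set_option maxRecDepth 100000 in
theorem at245000 : allFrom ok 250 245000 = true := by decide +kernel

set_option maxRecDepth 100000 in
theorem at245250 : allFrom ok 250 245250 = true := by decide +kernel

set_option maxRecDepth 100000 in
theorem at245500 : allFrom ok 250 245500 = true := by decide +kernel

set_option maxRecDepth 100000 in
theorem at245750 : allFrom ok 250 245750 = true := by decide +kernel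

set_option maxRecDepth 100000 in
theorem at246000 : allFrom ok 250 246000 = true := by decide +kernel

set_option maxRecDepth 100000 in
theorem at246250 : allFrom ok 250 246250 = true := by decide +kernel

set_option maxRecDepth 100000 in
theorem at246500 : allFrom ok 250 246500 = true := by decide +kernel

set_option maxRecDepth 100000 in
theorem at246750 : allFrom ok 250 246750 = true := by decide +kernel

set_option maxRecDepth 100000 in
theorem at247000 : allFrom ok 250 247000 = true := by decide +kernel

set_option maxRecDepth 100000 in
theorem at247250 : allFrom ok 250 247250 = true := by decide +kernel

set_option maxRecDepth 100000 in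
theorem at247500 : allFrom ok 250 247500 = true := by decide +kernel

set_option maxRecDepth 100000 in
theorem at247750 : allFrom ok 250 247750 = true := by decide +kernel

set_option maxRecDepth 100000 in
theorem at248000 : allFrom ok 250 248000 = true := by decide +kernel

set_option maxRecDepth 100000 in
theorem at248250 : allFrom ok 250 248250 = true := by decide +kernel

set_option maxRecDepth 100000 in
theorem at248500 : allFrom ok 250 248500 = true := by decide +kernel

set_option maxRecDepth 100000 in
theorem at248750 : allFrom ok 250 248750 = true := by decide +kernel

set_option maxRecDepth 100000 in
theorem at249000 : allFrom ok 250 249000 = true := by decide +kernel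

set_option maxRecDepth 100000 in
theorem at249250 : allFrom ok 250 249250 = true := by decide +kernel

set_option maxRecDepth 100000 in
theorem at249500 : allFrom ok 250 249500 = true := by decide +kernel

set_option maxRecDepth 100000 in
theorem at249750 : allFrom ok 250 249750 = true := by decide +kernel

theorem range49 (i : ℕ) (h1 : 245000 ≤ i) (h2 : i < 250000) : ok i = true := by
  by_cases c245000 : i < 245250
  · exact allFrom_sound at245000 i (by omega) (by omega)
  by_cases c245250 : i < 245500
  · exact allFrom_sound at245250 i (by omega) (by omega)
  by_cases c245500 : i < 245750
  · exact allFrom_sound at245500 i (by omega) (by omega)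
  by_cases c245750 : i < 246000
  · exact allFrom_sound at245750 i (by omega) (by omega)
  by_cases c246000 : i < 246250
  · exact allFrom_sound at246000 i (by omega) (by omega)
  by_cases c246250 : i < 246500
  · exact allFrom_sound at246250 i (by omega) (by omega)
  by_cases c246500 : i < 246750
  · exact allFrom_sound at246500 i (by omega) (by omega)
  by_cases c246750 : i < 247000
  · exact allFrom_sound at246750 i (by omega) (by omega)
  by_cases c247000 : i < 247250
  · exact allFrom_sound at247000 i (by omega) (by omega)
  by_cases c247250 : i < 247500
  · exact allFrom_sound at247250 i (by omega) (by omega)
  by_cases c247500 : i < 247750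
  · exact allFrom_sound at247500 i (by omega) (by omega)
  by_cases c247750 : i < 248000
  · exact allFrom_sound at247750 i (by omega) (by omega)
  by_cases c248000 : i < 248250
  · exact allFrom_sound at248000 i (by omega) (by omega)
  by_cases c248250 : i < 248500
  · exact allFrom_sound at248250 i (by omega) (by omega)
  by_cases c248500 : i < 248750
  · exact allFrom_sound at248500 i (by omega) (by omega)
  by_cases c248750 : i < 249000
  · exact allFrom_sound at248750 i (by omega) (by omega)
  by_cases c249000 : i < 249250
  · exact allFrom_sound at249000 i (by omega) (by omega)
  by_cases c249250 : i < 249500
  · exact allFrom_sound at249250 i (by omega) (by omega)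
  by_cases c249500 : i < 249750
  · exact allFrom_sound at249500 i (by omega) (by omega)
  exact allFrom_sound at249750 i (by omega) (by omega)

end Cfsg.Agent.H96.Fi24Mult.Lab
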