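import Cfsg.Agent.H96.Fi24Mult.LabWords

/-!
Generated checks of the labels.
-/

set_option autoImplicit false
set_option Elab.async false

namespace Cfsg.Agent.H96.Fi24Mult.Lab

open Cfsg.Agent.H25.Fi24 (allFrom allFrom_sound)

set_option maxRecDepth 100000 in
theorem at25000 : allFrom ok 250 25000 = true := by decide +kernel

set_option maxRecDepth 100000 in
theorem at25250 : allFrom ok 250 25250 = true := by decide +kernel

set_option maxRecDepth 100000 in
theorem at25500 : allFrom ok 250 25500 = true := by decide +kernel

set_option maxRecDepth 100000 in
theorem at25750 : allFrom ok 250 25750 = true := by decide +kernel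

set_option maxRecDepth 100000 in
theorem at26000 : allFrom ok 250 26000 = true := by decide +kernel

set_option maxRecDepth 100000 in
theorem at26250 : allFrom ok 250 26250 = true := by decide +kernel

set_option maxRecDepth 100000 in
theorem at26500 : allFrom ok 250 26500 = true := by decide +kernel

set_option maxRecDepth 100000 in
theorem at26750 : allFrom ok 250 26750 = true := by decide +kernel

set_option maxRecDepth 100000 in
theorem at27000 : allFrom ok 250 27000 = true := by decide +kernel

set_option maxRecDepth 100000 in
theorem at27250 : allFrom ok 250 27250 = true := by decide +kernel

set_option maxRecDepth 100000 in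
theorem at27500 : allFrom ok 250 27500 = true := by decide +kernel

set_option maxRecDepth 100000 in
theorem at27750 : allFrom ok 250 27750 = true := by decide +kernel

set_option maxRecDepth 100000 in
theorem at28000 : allFrom ok 250 28000 = true := by decide +kernel

set_option maxRecDepth 100000 in
theorem at28250 : allFrom ok 250 28250 = true := by decide +kernel

set_option maxRecDepth 100000 in
theorem at28500 : allFrom ok 250 28500 = true := by decide +kernel

set_option maxRecDepth 100000 in
theorem at28750 : allFrom ok 250 28750 = true := by decide +kernel

set_option maxRecDepth 100000 in
theorem at29000 : allFrom ok 250 29000 = true := by decide +kernel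

set_option maxRecDepth 100000 in
theorem at29250 : allFrom ok 250 29250 = true := by decide +kernel

set_option maxRecDepth 100000 in
theorem at29500 : allFrom ok 250 29500 = true := by decide +kernel

set_option maxRecDepth 100000 in
theorem at29750 : allFrom ok 250 29750 = true := by decide +kernel

theorem range5 (i : ℕ) (h1 : 25000 ≤ i) (h2 : i < 30000) : ok i = true := by
  by_cases c25000 : i < 25250
  · exact allFrom_sound at25000 i (by omega) (by omega)
  by_cases c25250 : i < 25500
  · exact allFrom_sound at25250 i (by omega) (by omega)
  by_cases c25500 : i < 25750
  · exact allFrom_sound at25500 i (by omega) (by omega)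
  by_cases c25750 : i < 26000
  · exact allFrom_sound at25750 i (by omega) (by omega)
  by_cases c26000 : i < 26250
  · exact allFrom_sound at26000 i (by omega) (by omega)
  by_cases c26250 : i < 26500
  · exact allFrom_sound at26250 i (by omega) (by omega)
  by_cases c26500 : i < 26750
  · exact allFrom_sound at26500 i (by omega) (by omega)
  by_cases c26750 : i < 27000
  · exact allFrom_sound at26750 i (by omega) (by omega)
  by_cases c27000 : i < 27250
  · exact allFrom_sound at27000 i (by omega) (by omega)
  by_cases c27250 : i < 27500
  · exact allFrom_sound at27250 i (by omega) (by omega)
  by_cases c27500 : i < 27750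
  · exact allFrom_sound at27500 i (by omega) (by omega)
  by_cases c27750 : i < 28000
  · exact allFrom_sound at27750 i (by omega) (by omega)
  by_cases c28000 : i < 28250
  · exact allFrom_sound at28000 i (by omega) (by omega)
  by_cases c28250 : i < 28500
  · exact allFrom_sound at28250 i (by omega) (by omega)
  by_cases c28500 : i < 28750
  · exact allFrom_sound at28500 i (by omega) (by omega)
  by_cases c28750 : i < 29000
  · exact allFrom_sound at28750 i (by omega) (by omega)
  by_cases c29000 : i < 29250
  · exact allFrom_sound at29000 i (by omega) (by omega)
  by_cases c29250 : i < 29500
  · exact allFrom_sound at29250 i (by omega) (by omega)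
  by_cases c29500 : i < 29750
  · exact allFrom_sound at29500 i (by omega) (by omega)
  exact allFrom_sound at29750 i (by omega) (by omega)

end Cfsg.Agent.H96.Fi24Mult.Lab
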