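import Cfsg.Agent.H96.Fi24Mult.LabWords

/-!
Generated checks of the labels.
-/

set_option autoImplicit false
set_option Elab.async false

namespace Cfsg.Agent.H96.Fi24Mult.Lab

open Cfsg.Agent.H25.Fi24 (allFrom allFrom_sound)

set_option maxRecDepth 100000 in
theorem at250000 : allFrom ok 250 250000 = true := by decide +kernel

set_option maxRecDepth 100000 in
theorem at250250 : allFrom ok 250 250250 = true := by decide +kernel

set_option maxRecDepth 100000 in
theorem at250500 : allFrom ok 250 250500 = true := by decide +kernel

set_option maxRecDepth 100000 in
theorem at250750 : allFrom ok 250 250750 = true := by decide +kernel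

set_option maxRecDepth 100000 in
theorem at251000 : allFrom ok 250 251000 = true := by decide +kernel

set_option maxRecDepth 100000 in
theorem at251250 : allFrom ok 250 251250 = true := by decide +kernel

set_option maxRecDepth 100000 in
theorem at251500 : allFrom ok 250 251500 = true := by decide +kernel

set_option maxRecDepth 100000 in
theorem at251750 : allFrom ok 250 251750 = true := by decide +kernel

set_option maxRecDepth 100000 in
theorem at252000 : allFrom ok 250 252000 = true := by decide +kernel

set_option maxRecDepth 100000 in
theorem at252250 : allFrom ok 250 252250 = true := by decide +kernel

set_option maxRecDepth 100000 in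
theorem at252500 : allFrom ok 250 252500 = true := by decide +kernel

set_option maxRecDepth 100000 in
theorem at252750 : allFrom ok 250 252750 = true := by decide +kernel

set_option maxRecDepth 100000 in
theorem at253000 : allFrom ok 250 253000 = true := by decide +kernel

set_option maxRecDepth 100000 in
theorem at253250 : allFrom ok 250 253250 = true := by decide +kernel

set_option maxRecDepth 100000 in
theorem at253500 : allFrom ok 250 253500 = true := by decide +kernel

set_option maxRecDepth 100000 in
theorem at253750 : allFrom ok 250 253750 = true := by decide +kernel

set_option maxRecDepth 100000 in
theorem at254000 : allFrom ok 250 254000 = true := by decide +kernel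

set_option maxRecDepth 100000 in
theorem at254250 : allFrom ok 250 254250 = true := by decide +kernel

set_option maxRecDepth 100000 in
theorem at254500 : allFrom ok 250 254500 = true := by decide +kernel

set_option maxRecDepth 100000 in
theorem at254750 : allFrom ok 250 254750 = true := by decide +kernel

theorem range50 (i : ℕ) (h1 : 250000 ≤ i) (h2 : i < 255000) : ok i = true := by
  by_cases c250000 : i < 250250
  · exact allFrom_sound at250000 i (by omega) (by omega)
  by_cases c250250 : i < 250500
  · exact allFrom_sound at250250 i (by omega) (by omega)
  by_cases c250500 : i < 250750
  · exact allFrom_sound at250500 i (by omega) (by omega)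
  by_cases c250750 : i < 251000
  · exact allFrom_sound at250750 i (by omega) (by omega)
  by_cases c251000 : i < 251250
  · exact allFrom_sound at251000 i (by omega) (by omega)
  by_cases c251250 : i < 251500
  · exact allFrom_sound at251250 i (by omega) (by omega)
  by_cases c251500 : i < 251750
  · exact allFrom_sound at251500 i (by omega) (by omega)
  by_cases c251750 : i < 252000
  · exact allFrom_sound at251750 i (by omega) (by omega)
  by_cases c252000 : i < 252250
  · exact allFrom_sound at252000 i (by omega) (by omega)
  by_cases c252250 : i < 252500
  · exact allFrom_sound at252250 i (by omega) (by omega)
  by_cases c252500 : i < 252750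
  · exact allFrom_sound at252500 i (by omega) (by omega)
  by_cases c252750 : i < 253000
  · exact allFrom_sound at252750 i (by omega) (by omega)
  by_cases c253000 : i < 253250
  · exact allFrom_sound at253000 i (by omega) (by omega)
  by_cases c253250 : i < 253500
  · exact allFrom_sound at253250 i (by omega) (by omega)
  by_cases c253500 : i < 253750
  · exact allFrom_sound at253500 i (by omega) (by omega)
  by_cases c253750 : i < 254000
  · exact allFrom_sound at253750 i (by omega) (by omega)
  by_cases c254000 : i < 254250
  · exact allFrom_sound at254000 i (by omega) (by omega)
  by_cases c254250 : i < 254500
  · exact allFrom_sound at254250 i (by omega) (by omega)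
  by_cases c254500 : i < 254750
  · exact allFrom_sound at254500 i (by omega) (by omega)
  exact allFrom_sound at254750 i (by omega) (by omega)

end Cfsg.Agent.H96.Fi24Mult.Lab
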