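import Cfsg.Agent.H96.Fi24Mult.LabWords

/-!
Generated checks of the labels.
-/

set_option autoImplicit false
set_option Elab.async false

namespace Cfsg.Agent.H96.Fi24Mult.Lab

open Cfsg.Agent.H25.Fi24 (allFrom allFrom_sound)

set_option maxRecDepth 100000 in
theorem at255000 : allFrom ok 250 255000 = true := by decide +kernel

set_option maxRecDepth 100000 in
theorem at255250 : allFrom ok 250 255250 = true := by decide +kernel

set_option maxRecDepth 100000 in
theorem at255500 : allFrom ok 250 255500 = true := by decide +kernel

set_option maxRecDepth 100000 in
theorem at255750 : allFrom ok 250 255750 = true := by decide +kernel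

set_option maxRecDepth 100000 in
theorem at256000 : allFrom ok 250 256000 = true := by decide +kernel

set_option maxRecDepth 100000 in
theorem at256250 : allFrom ok 250 256250 = true := by decide +kernel

set_option maxRecDepth 100000 in
theorem at256500 : allFrom ok 250 256500 = true := by decide +kernel

set_option maxRecDepth 100000 in
theorem at256750 : allFrom ok 250 256750 = true := by decide +kernel

set_option maxRecDepth 100000 in
theorem at257000 : allFrom ok 250 257000 = true := by decide +kernel

set_option maxRecDepth 100000 in
theorem at257250 : allFrom ok 250 257250 = true := by decide +kernel

set_option maxRecDepth 100000 in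
theorem at257500 : allFrom ok 250 257500 = true := by decide +kernel

set_option maxRecDepth 100000 in
theorem at257750 : allFrom ok 250 257750 = true := by decide +kernel

set_option maxRecDepth 100000 in
theorem at258000 : allFrom ok 250 258000 = true := by decide +kernel

set_option maxRecDepth 100000 in
theorem at258250 : allFrom ok 250 258250 = true := by decide +kernel

set_option maxRecDepth 100000 in
theorem at258500 : allFrom ok 250 258500 = true := by decide +kernel

set_option maxRecDepth 100000 in
theorem at258750 : allFrom ok 250 258750 = true := by decide +kernel

set_option maxRecDepth 100000 in
theorem at259000 : allFrom ok 250 259000 = true := by decide +kernel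

set_option maxRecDepth 100000 in
theorem at259250 : allFrom ok 250 259250 = true := by decide +kernel

set_option maxRecDepth 100000 in
theorem at259500 : allFrom ok 250 259500 = true := by decide +kernel

set_option maxRecDepth 100000 in
theorem at259750 : allFrom ok 250 259750 = true := by decide +kernel

theorem range51 (i : ℕ) (h1 : 255000 ≤ i) (h2 : i < 260000) : ok i = true := by
  by_cases c255000 : i < 255250
  · exact allFrom_sound at255000 i (by omega) (by omega)
  by_cases c255250 : i < 255500
  · exact allFrom_sound at255250 i (by omega) (by omega)
  by_cases c255500 : i < 255750
  · exact allFrom_sound at255500 i (by omega) (by omega)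
  by_cases c255750 : i < 256000
  · exact allFrom_sound at255750 i (by omega) (by omega)
  by_cases c256000 : i < 256250
  · exact allFrom_sound at256000 i (by omega) (by omega)
  by_cases c256250 : i < 256500
  · exact allFrom_sound at256250 i (by omega) (by omega)
  by_cases c256500 : i < 256750
  · exact allFrom_sound at256500 i (by omega) (by omega)
  by_cases c256750 : i < 257000
  · exact allFrom_sound at256750 i (by omega) (by omega)
  by_cases c257000 : i < 257250
  · exact allFrom_sound at257000 i (by omega) (by omega)
  by_cases c257250 : i < 257500
  · exact allFrom_sound at257250 i (by omega) (by omega)
  by_cases c257500 : i < 257750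
  · exact allFrom_sound at257500 i (by omega) (by omega)
  by_cases c257750 : i < 258000
  · exact allFrom_sound at257750 i (by omega) (by omega)
  by_cases c258000 : i < 258250
  · exact allFrom_sound at258000 i (by omega) (by omega)
  by_cases c258250 : i < 258500
  · exact allFrom_sound at258250 i (by omega) (by omega)
  by_cases c258500 : i < 258750
  · exact allFrom_sound at258500 i (by omega) (by omega)
  by_cases c258750 : i < 259000
  · exact allFrom_sound at258750 i (by omega) (by omega)
  by_cases c259000 : i < 259250
  · exact allFrom_sound at259000 i (by omega) (by omega)
  by_cases c259250 : i < 259500
  · exact allFrom_sound at259250 i (by omega) (by omega)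
  by_cases c259500 : i < 259750
  · exact allFrom_sound at259500 i (by omega) (by omega)
  exact allFrom_sound at259750 i (by omega) (by omega)

end Cfsg.Agent.H96.Fi24Mult.Lab
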