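import Cfsg.Agent.H96.Fi24Mult.LabWords

/-!
Generated checks of the labels.
-/

set_option autoImplicit false
set_option Elab.async false

namespace Cfsg.Agent.H96.Fi24Mult.Lab

open Cfsg.Agent.H25.Fi24 (allFrom allFrom_sound)

set_option maxRecDepth 100000 in
theorem at260000 : allFrom ok 250 260000 = true := by decide +kernel

set_option maxRecDepth 100000 in
theorem at260250 : allFrom ok 250 260250 = true := by decide +kernel

set_option maxRecDepth 100000 in
theorem at260500 : allFrom ok 250 260500 = true := by decide +kernel

set_option maxRecDepth 100000 in
theorem at260750 : allFrom ok 250 260750 = true := by decide +kernel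

set_option maxRecDepth 100000 in
theorem at261000 : allFrom ok 250 261000 = true := by decide +kernel

set_option maxRecDepth 100000 in
theorem at261250 : allFrom ok 250 261250 = true := by decide +kernel

set_option maxRecDepth 100000 in
theorem at261500 : allFrom ok 250 261500 = true := by decide +kernel

set_option maxRecDepth 100000 in
theorem at261750 : allFrom ok 250 261750 = true := by decide +kernel

set_option maxRecDepth 100000 in
theorem at262000 : allFrom ok 250 262000 = true := by decide +kernel

set_option maxRecDepth 100000 in
theorem at262250 : allFrom ok 250 262250 = true := by decide +kernel

set_option maxRecDepth 100000 in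
theorem at262500 : allFrom ok 250 262500 = true := by decide +kernel

set_option maxRecDepth 100000 in
theorem at262750 : allFrom ok 250 262750 = true := by decide +kernel

set_option maxRecDepth 100000 in
theorem at263000 : allFrom ok 250 263000 = true := by decide +kernel

set_option maxRecDepth 100000 in
theorem at263250 : allFrom ok 250 263250 = true := by decide +kernel

set_option maxRecDepth 100000 in
theorem at263500 : allFrom ok 250 263500 = true := by decide +kernel

set_option maxRecDepth 100000 in
theorem at263750 : allFrom ok 250 263750 = true := by decide +kernel

set_option maxRecDepth 100000 in
theorem at264000 : allFrom ok 250 264000 = true := by decide +kernel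

set_option maxRecDepth 100000 in
theorem at264250 : allFrom ok 250 264250 = true := by decide +kernel

set_option maxRecDepth 100000 in
theorem at264500 : allFrom ok 250 264500 = true := by decide +kernel

set_option maxRecDepth 100000 in
theorem at264750 : allFrom ok 250 264750 = true := by decide +kernel

theorem range52 (i : ℕ) (h1 : 260000 ≤ i) (h2 : i < 265000) : ok i = true := by
  by_cases c260000 : i < 260250
  · exact allFrom_sound at260000 i (by omega) (by omega)
  by_cases c260250 : i < 260500
  · exact allFrom_sound at260250 i (by omega) (by omega)
  by_cases c260500 : i < 260750
  · exact allFrom_sound at260500 i (by omega) (by omega)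
  by_cases c260750 : i < 261000
  · exact allFrom_sound at260750 i (by omega) (by omega)
  by_cases c261000 : i < 261250
  · exact allFrom_sound at261000 i (by omega) (by omega)
  by_cases c261250 : i < 261500
  · exact allFrom_sound at261250 i (by omega) (by omega)
  by_cases c261500 : i < 261750
  · exact allFrom_sound at261500 i (by omega) (by omega)
  by_cases c261750 : i < 262000
  · exact allFrom_sound at261750 i (by omega) (by omega)
  by_cases c262000 : i < 262250
  · exact allFrom_sound at262000 i (by omega) (by omega)
  by_cases c262250 : i < 262500
  · exact allFrom_sound at262250 i (by omega) (by omega)
  by_cases c262500 : i < 262750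
  · exact allFrom_sound at262500 i (by omega) (by omega)
  by_cases c262750 : i < 263000
  · exact allFrom_sound at262750 i (by omega) (by omega)
  by_cases c263000 : i < 263250
  · exact allFrom_sound at263000 i (by omega) (by omega)
  by_cases c263250 : i < 263500
  · exact allFrom_sound at263250 i (by omega) (by omega)
  by_cases c263500 : i < 263750
  · exact allFrom_sound at263500 i (by omega) (by omega)
  by_cases c263750 : i < 264000
  · exact allFrom_sound at263750 i (by omega) (by omega)
  by_cases c264000 : i < 264250
  · exact allFrom_sound at264000 i (by omega) (by omega)
  by_cases c264250 : i < 264500
  · exact allFrom_sound at264250 i (by omega) (by omega)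
  by_cases c264500 : i < 264750
  · exact allFrom_sound at264500 i (by omega) (by omega)
  exact allFrom_sound at264750 i (by omega) (by omega)

end Cfsg.Agent.H96.Fi24Mult.Lab
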