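import Cfsg.Agent.H96.Fi24Mult.LabWords

/-!
Generated checks of the labels.
-/

set_option autoImplicit false
set_option Elab.async false

namespace Cfsg.Agent.H96.Fi24Mult.Lab

open Cfsg.Agent.H25.Fi24 (allFrom allFrom_sound)

set_option maxRecDepth 100000 in
theorem at265000 : allFrom ok 250 265000 = true := by decide +kernel

set_option maxRecDepth 100000 in
theorem at265250 : allFrom ok 250 265250 = true := by decide +kernel

set_option maxRecDepth 100000 in
theorem at265500 : allFrom ok 250 265500 = true := by decide +kernel

set_option maxRecDepth 100000 in
theorem at265750 : allFrom ok 250 265750 = true := by decide +kernel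

set_option maxRecDepth 100000 in
theorem at266000 : allFrom ok 250 266000 = true := by decide +kernel

set_option maxRecDepth 100000 in
theorem at266250 : allFrom ok 250 266250 = true := by decide +kernel

set_option maxRecDepth 100000 in
theorem at266500 : allFrom ok 250 266500 = true := by decide +kernel

set_option maxRecDepth 100000 in
theorem at266750 : allFrom ok 250 266750 = true := by decide +kernel

set_option maxRecDepth 100000 in
theorem at267000 : allFrom ok 250 267000 = true := by decide +kernel

set_option maxRecDepth 100000 in
theorem at267250 : allFrom ok 250 267250 = true := by decide +kernel

set_option maxRecDepth 100000 in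
theorem at267500 : allFrom ok 250 267500 = true := by decide +kernel

set_option maxRecDepth 100000 in
theorem at267750 : allFrom ok 250 267750 = true := by decide +kernel

set_option maxRecDepth 100000 in
theorem at268000 : allFrom ok 250 268000 = true := by decide +kernel

set_option maxRecDepth 100000 in
theorem at268250 : allFrom ok 250 268250 = true := by decide +kernel

set_option maxRecDepth 100000 in
theorem at268500 : allFrom ok 250 268500 = true := by decide +kernel

set_option maxRecDepth 100000 in
theorem at268750 : allFrom ok 250 268750 = true := by decide +kernel

set_option maxRecDepth 100000 in
theorem at269000 : allFrom ok 250 269000 = true := by decide +kernel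

set_option maxRecDepth 100000 in
theorem at269250 : allFrom ok 250 269250 = true := by decide +kernel

set_option maxRecDepth 100000 in
theorem at269500 : allFrom ok 250 269500 = true := by decide +kernel

set_option maxRecDepth 100000 in
theorem at269750 : allFrom ok 250 269750 = true := by decide +kernel

theorem range53 (i : ℕ) (h1 : 265000 ≤ i) (h2 : i < 270000) : ok i = true := by
  by_cases c265000 : i < 265250
  · exact allFrom_sound at265000 i (by omega) (by omega)
  by_cases c265250 : i < 265500
  · exact allFrom_sound at265250 i (by omega) (by omega)
  by_cases c265500 : i < 265750
  · exact allFrom_sound at265500 i (by omega) (by omega)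
  by_cases c265750 : i < 266000
  · exact allFrom_sound at265750 i (by omega) (by omega)
  by_cases c266000 : i < 266250
  · exact allFrom_sound at266000 i (by omega) (by omega)
  by_cases c266250 : i < 266500
  · exact allFrom_sound at266250 i (by omega) (by omega)
  by_cases c266500 : i < 266750
  · exact allFrom_sound at266500 i (by omega) (by omega)
  by_cases c266750 : i < 267000
  · exact allFrom_sound at266750 i (by omega) (by omega)
  by_cases c267000 : i < 267250
  · exact allFrom_sound at267000 i (by omega) (by omega)
  by_cases c267250 : i < 267500
  · exact allFrom_sound at267250 i (by omega) (by omega)
  by_cases c267500 : i < 267750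
  · exact allFrom_sound at267500 i (by omega) (by omega)
  by_cases c267750 : i < 268000
  · exact allFrom_sound at267750 i (by omega) (by omega)
  by_cases c268000 : i < 268250
  · exact allFrom_sound at268000 i (by omega) (by omega)
  by_cases c268250 : i < 268500
  · exact allFrom_sound at268250 i (by omega) (by omega)
  by_cases c268500 : i < 268750
  · exact allFrom_sound at268500 i (by omega) (by omega)
  by_cases c268750 : i < 269000
  · exact allFrom_sound at268750 i (by omega) (by omega)
  by_cases c269000 : i < 269250
  · exact allFrom_sound at269000 i (by omega) (by omega)
  by_cases c269250 : i < 269500
  · exact allFrom_sound at269250 i (by omega) (by omega)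
  by_cases c269500 : i < 269750
  · exact allFrom_sound at269500 i (by omega) (by omega)
  exact allFrom_sound at269750 i (by omega) (by omega)

end Cfsg.Agent.H96.Fi24Mult.Lab
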