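import Cfsg.Agent.H96.Fi24Mult.LabWords

/-!
Generated checks of the labels.
-/

set_option autoImplicit false
set_option Elab.async false

namespace Cfsg.Agent.H96.Fi24Mult.Lab

open Cfsg.Agent.H25.Fi24 (allFrom allFrom_sound)

set_option maxRecDepth 100000 in
theorem at270000 : allFrom ok 250 270000 = true := by decide +kernel

set_option maxRecDepth 100000 in
theorem at270250 : allFrom ok 250 270250 = true := by decide +kernel

set_option maxRecDepth 100000 in
theorem at270500 : allFrom ok 250 270500 = true := by decide +kernel

set_option maxRecDepth 100000 in
theorem at270750 : allFrom ok 250 270750 = true := by decide +kernel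

set_option maxRecDepth 100000 in
theorem at271000 : allFrom ok 250 271000 = true := by decide +kernel

set_option maxRecDepth 100000 in
theorem at271250 : allFrom ok 250 271250 = true := by decide +kernel

set_option maxRecDepth 100000 in
theorem at271500 : allFrom ok 250 271500 = true := by decide +kernel

set_option maxRecDepth 100000 in
theorem at271750 : allFrom ok 250 271750 = true := by decide +kernel

set_option maxRecDepth 100000 in
theorem at272000 : allFrom ok 250 272000 = true := by decide +kernel

set_option maxRecDepth 100000 in
theorem at272250 : allFrom ok 250 272250 = true := by decide +kernel

set_option maxRecDepth 100000 in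
theorem at272500 : allFrom ok 250 272500 = true := by decide +kernel

set_option maxRecDepth 100000 in
theorem at272750 : allFrom ok 250 272750 = true := by decide +kernel

set_option maxRecDepth 100000 in
theorem at273000 : allFrom ok 250 273000 = true := by decide +kernel

set_option maxRecDepth 100000 in
theorem at273250 : allFrom ok 250 273250 = true := by decide +kernel

set_option maxRecDepth 100000 in
theorem at273500 : allFrom ok 250 273500 = true := by decide +kernel

set_option maxRecDepth 100000 in
theorem at273750 : allFrom ok 250 273750 = true := by decide +kernel

set_option maxRecDepth 100000 in
theorem at274000 : allFrom ok 250 274000 = true := by decide +kernel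

set_option maxRecDepth 100000 in
theorem at274250 : allFrom ok 250 274250 = true := by decide +kernel

set_option maxRecDepth 100000 in
theorem at274500 : allFrom ok 250 274500 = true := by decide +kernel

set_option maxRecDepth 100000 in
theorem at274750 : allFrom ok 250 274750 = true := by decide +kernel

theorem range54 (i : ℕ) (h1 : 270000 ≤ i) (h2 : i < 275000) : ok i = true := by
  by_cases c270000 : i < 270250
  · exact allFrom_sound at270000 i (by omega) (by omega)
  by_cases c270250 : i < 270500
  · exact allFrom_sound at270250 i (by omega) (by omega)
  by_cases c270500 : i < 270750
  · exact allFrom_sound at270500 i (by omega) (by omega)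
  by_cases c270750 : i < 271000
  · exact allFrom_sound at270750 i (by omega) (by omega)
  by_cases c271000 : i < 271250
  · exact allFrom_sound at271000 i (by omega) (by omega)
  by_cases c271250 : i < 271500
  · exact allFrom_sound at271250 i (by omega) (by omega)
  by_cases c271500 : i < 271750
  · exact allFrom_sound at271500 i (by omega) (by omega)
  by_cases c271750 : i < 272000
  · exact allFrom_sound at271750 i (by omega) (by omega)
  by_cases c272000 : i < 272250
  · exact allFrom_sound at272000 i (by omega) (by omega)
  by_cases c272250 : i < 272500
  · exact allFrom_sound at272250 i (by omega) (by omega)
  by_cases c272500 : i < 272750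
  · exact allFrom_sound at272500 i (by omega) (by omega)
  by_cases c272750 : i < 273000
  · exact allFrom_sound at272750 i (by omega) (by omega)
  by_cases c273000 : i < 273250
  · exact allFrom_sound at273000 i (by omega) (by omega)
  by_cases c273250 : i < 273500
  · exact allFrom_sound at273250 i (by omega) (by omega)
  by_cases c273500 : i < 273750
  · exact allFrom_sound at273500 i (by omega) (by omega)
  by_cases c273750 : i < 274000
  · exact allFrom_sound at273750 i (by omega) (by omega)
  by_cases c274000 : i < 274250
  · exact allFrom_sound at274000 i (by omega) (by omega)
  by_cases c274250 : i < 274500
  · exact allFrom_sound at274250 i (by omega) (by omega)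
  by_cases c274500 : i < 274750
  · exact allFrom_sound at274500 i (by omega) (by omega)
  exact allFrom_sound at274750 i (by omega) (by omega)

end Cfsg.Agent.H96.Fi24Mult.Lab
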