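import Cfsg.Agent.H96.Fi24Mult.LabWords

/-!
Generated checks of the labels.
-/

set_option autoImplicit false
set_option Elab.async false

namespace Cfsg.Agent.H96.Fi24Mult.Lab

open Cfsg.Agent.H25.Fi24 (allFrom allFrom_sound)

set_option maxRecDepth 100000 in
theorem at275000 : allFrom ok 250 275000 = true := by decide +kernel

set_option maxRecDepth 100000 in
theorem at275250 : allFrom ok 250 275250 = true := by decide +kernel

set_option maxRecDepth 100000 in
theorem at275500 : allFrom ok 250 275500 = true := by decide +kernel

set_option maxRecDepth 100000 in
theorem at275750 : allFrom ok 250 275750 = true := by decide +kernel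

set_option maxRecDepth 100000 in
theorem at276000 : allFrom ok 250 276000 = true := by decide +kernel

set_option maxRecDepth 100000 in
theorem at276250 : allFrom ok 250 276250 = true := by decide +kernel

set_option maxRecDepth 100000 in
theorem at276500 : allFrom ok 250 276500 = true := by decide +kernel

set_option maxRecDepth 100000 in
theorem at276750 : allFrom ok 250 276750 = true := by decide +kernel

set_option maxRecDepth 100000 in
theorem at277000 : allFrom ok 250 277000 = true := by decide +kernel

set_option maxRecDepth 100000 in
theorem at277250 : allFrom ok 250 277250 = true := by decide +kernel

set_option maxRecDepth 100000 in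
theorem at277500 : allFrom ok 250 277500 = true := by decide +kernel

set_option maxRecDepth 100000 in
theorem at277750 : allFrom ok 250 277750 = true := by decide +kernel

set_option maxRecDepth 100000 in
theorem at278000 : allFrom ok 250 278000 = true := by decide +kernel

set_option maxRecDepth 100000 in
theorem at278250 : allFrom ok 250 278250 = true := by decide +kernel

set_option maxRecDepth 100000 in
theorem at278500 : allFrom ok 250 278500 = true := by decide +kernel

set_option maxRecDepth 100000 in
theorem at278750 : allFrom ok 250 278750 = true := by decide +kernel

set_option maxRecDepth 100000 in
theorem at279000 : allFrom ok 250 279000 = true := by decide +kernel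

set_option maxRecDepth 100000 in
theorem at279250 : allFrom ok 250 279250 = true := by decide +kernel

set_option maxRecDepth 100000 in
theorem at279500 : allFrom ok 250 279500 = true := by decide +kernel

set_option maxRecDepth 100000 in
theorem at279750 : allFrom ok 250 279750 = true := by decide +kernel

theorem range55 (i : ℕ) (h1 : 275000 ≤ i) (h2 : i < 280000) : ok i = true := by
  by_cases c275000 : i < 275250
  · exact allFrom_sound at275000 i (by omega) (by omega)
  by_cases c275250 : i < 275500
  · exact allFrom_sound at275250 i (by omega) (by omega)
  by_cases c275500 : i < 275750
  · exact allFrom_sound at275500 i (by omega) (by omega)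
  by_cases c275750 : i < 276000
  · exact allFrom_sound at275750 i (by omega) (by omega)
  by_cases c276000 : i < 276250
  · exact allFrom_sound at276000 i (by omega) (by omega)
  by_cases c276250 : i < 276500
  · exact allFrom_sound at276250 i (by omega) (by omega)
  by_cases c276500 : i < 276750
  · exact allFrom_sound at276500 i (by omega) (by omega)
  by_cases c276750 : i < 277000
  · exact allFrom_sound at276750 i (by omega) (by omega)
  by_cases c277000 : i < 277250
  · exact allFrom_sound at277000 i (by omega) (by omega)
  by_cases c277250 : i < 277500
  · exact allFrom_sound at277250 i (by omega) (by omega)
  by_cases c277500 : i < 277750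
  · exact allFrom_sound at277500 i (by omega) (by omega)
  by_cases c277750 : i < 278000
  · exact allFrom_sound at277750 i (by omega) (by omega)
  by_cases c278000 : i < 278250
  · exact allFrom_sound at278000 i (by omega) (by omega)
  by_cases c278250 : i < 278500
  · exact allFrom_sound at278250 i (by omega) (by omega)
  by_cases c278500 : i < 278750
  · exact allFrom_sound at278500 i (by omega) (by omega)
  by_cases c278750 : i < 279000
  · exact allFrom_sound at278750 i (by omega) (by omega)
  by_cases c279000 : i < 279250
  · exact allFrom_sound at279000 i (by omega) (by omega)
  by_cases c279250 : i < 279500
  · exact allFrom_sound at279250 i (by omega) (by omega)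
  by_cases c279500 : i < 279750
  · exact allFrom_sound at279500 i (by omega) (by omega)
  exact allFrom_sound at279750 i (by omega) (by omega)

end Cfsg.Agent.H96.Fi24Mult.Lab
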