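import Cfsg.Agent.H96.Fi24Mult.LabWords

/-!
Generated checks of the labels.
-/

set_option autoImplicit false
set_option Elab.async false

namespace Cfsg.Agent.H96.Fi24Mult.Lab

open Cfsg.Agent.H25.Fi24 (allFrom allFrom_sound)

set_option maxRecDepth 100000 in
theorem at280000 : allFrom ok 250 280000 = true := by decide +kernel

set_option maxRecDepth 100000 in
theorem at280250 : allFrom ok 250 280250 = true := by decide +kernel

set_option maxRecDepth 100000 in
theorem at280500 : allFrom ok 250 280500 = true := by decide +kernel

set_option maxRecDepth 100000 in
theorem at280750 : allFrom ok 250 280750 = true := by decide +kernel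

set_option maxRecDepth 100000 in
theorem at281000 : allFrom ok 250 281000 = true := by decide +kernel

set_option maxRecDepth 100000 in
theorem at281250 : allFrom ok 250 281250 = true := by decide +kernel

set_option maxRecDepth 100000 in
theorem at281500 : allFrom ok 250 281500 = true := by decide +kernel

set_option maxRecDepth 100000 in
theorem at281750 : allFrom ok 250 281750 = true := by decide +kernel

set_option maxRecDepth 100000 in
theorem at282000 : allFrom ok 250 282000 = true := by decide +kernel

set_option maxRecDepth 100000 in
theorem at282250 : allFrom ok 250 282250 = true := by decide +kernel

set_option maxRecDepth 100000 in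
theorem at282500 : allFrom ok 250 282500 = true := by decide +kernel

set_option maxRecDepth 100000 in
theorem at282750 : allFrom ok 250 282750 = true := by decide +kernel

set_option maxRecDepth 100000 in
theorem at283000 : allFrom ok 250 283000 = true := by decide +kernel

set_option maxRecDepth 100000 in
theorem at283250 : allFrom ok 250 283250 = true := by decide +kernel

set_option maxRecDepth 100000 in
theorem at283500 : allFrom ok 250 283500 = true := by decide +kernel

set_option maxRecDepth 100000 in
theorem at283750 : allFrom ok 250 283750 = true := by decide +kernel

set_option maxRecDepth 100000 in
theorem at284000 : allFrom ok 250 284000 = true := by decide +kernel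

set_option maxRecDepth 100000 in
theorem at284250 : allFrom ok 250 284250 = true := by decide +kernel

set_option maxRecDepth 100000 in
theorem at284500 : allFrom ok 250 284500 = true := by decide +kernel

set_option maxRecDepth 100000 in
theorem at284750 : allFrom ok 250 284750 = true := by decide +kernel

theorem range56 (i : ℕ) (h1 : 280000 ≤ i) (h2 : i < 285000) : ok i = true := by
  by_cases c280000 : i < 280250
  · exact allFrom_sound at280000 i (by omega) (by omega)
  by_cases c280250 : i < 280500
  · exact allFrom_sound at280250 i (by omega) (by omega)
  by_cases c280500 : i < 280750
  · exact allFrom_sound at280500 i (by omega) (by omega)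
  by_cases c280750 : i < 281000
  · exact allFrom_sound at280750 i (by omega) (by omega)
  by_cases c281000 : i < 281250
  · exact allFrom_sound at281000 i (by omega) (by omega)
  by_cases c281250 : i < 281500
  · exact allFrom_sound at281250 i (by omega) (by omega)
  by_cases c281500 : i < 281750
  · exact allFrom_sound at281500 i (by omega) (by omega)
  by_cases c281750 : i < 282000
  · exact allFrom_sound at281750 i (by omega) (by omega)
  by_cases c282000 : i < 282250
  · exact allFrom_sound at282000 i (by omega) (by omega)
  by_cases c282250 : i < 282500
  · exact allFrom_sound at282250 i (by omega) (by omega)
  by_cases c282500 : i < 282750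
  · exact allFrom_sound at282500 i (by omega) (by omega)
  by_cases c282750 : i < 283000
  · exact allFrom_sound at282750 i (by omega) (by omega)
  by_cases c283000 : i < 283250
  · exact allFrom_sound at283000 i (by omega) (by omega)
  by_cases c283250 : i < 283500
  · exact allFrom_sound at283250 i (by omega) (by omega)
  by_cases c283500 : i < 283750
  · exact allFrom_sound at283500 i (by omega) (by omega)
  by_cases c283750 : i < 284000
  · exact allFrom_sound at283750 i (by omega) (by omega)
  by_cases c284000 : i < 284250
  · exact allFrom_sound at284000 i (by omega) (by omega)
  by_cases c284250 : i < 284500
  · exact allFrom_sound at284250 i (by omega) (by omega)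
  by_cases c284500 : i < 284750
  · exact allFrom_sound at284500 i (by omega) (by omega)
  exact allFrom_sound at284750 i (by omega) (by omega)

end Cfsg.Agent.H96.Fi24Mult.Lab
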