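import Cfsg.Agent.H96.Fi24Mult.LabWords

/-!
Generated checks of the labels.
-/

set_option autoImplicit false
set_option Elab.async false

namespace Cfsg.Agent.H96.Fi24Mult.Lab

open Cfsg.Agent.H25.Fi24 (allFrom allFrom_sound)

set_option maxRecDepth 100000 in
theorem at285000 : allFrom ok 250 285000 = true := by decide +kernel

set_option maxRecDepth 100000 in
theorem at285250 : allFrom ok 250 285250 = true := by decide +kernel

set_option maxRecDepth 100000 in
theorem at285500 : allFrom ok 250 285500 = true := by decide +kernel

set_option maxRecDepth 100000 in
theorem at285750 : allFrom ok 250 285750 = true := by decide +kernel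

set_option maxRecDepth 100000 in
theorem at286000 : allFrom ok 250 286000 = true := by decide +kernel

set_option maxRecDepth 100000 in
theorem at286250 : allFrom ok 250 286250 = true := by decide +kernel

set_option maxRecDepth 100000 in
theorem at286500 : allFrom ok 250 286500 = true := by decide +kernel

set_option maxRecDepth 100000 in
theorem at286750 : allFrom ok 250 286750 = true := by decide +kernel

set_option maxRecDepth 100000 in
theorem at287000 : allFrom ok 250 287000 = true := by decide +kernel

set_option maxRecDepth 100000 in
theorem at287250 : allFrom ok 250 287250 = true := by decide +kernel

set_option maxRecDepth 100000 in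
theorem at287500 : allFrom ok 250 287500 = true := by decide +kernel

set_option maxRecDepth 100000 in
theorem at287750 : allFrom ok 250 287750 = true := by decide +kernel

set_option maxRecDepth 100000 in
theorem at288000 : allFrom ok 250 288000 = true := by decide +kernel

set_option maxRecDepth 100000 in
theorem at288250 : allFrom ok 250 288250 = true := by decide +kernel

set_option maxRecDepth 100000 in
theorem at288500 : allFrom ok 250 288500 = true := by decide +kernel

set_option maxRecDepth 100000 in
theorem at288750 : allFrom ok 250 288750 = true := by decide +kernel

set_option maxRecDepth 100000 in
theorem at289000 : allFrom ok 250 289000 = true := by decide +kernel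

set_option maxRecDepth 100000 in
theorem at289250 : allFrom ok 250 289250 = true := by decide +kernel

set_option maxRecDepth 100000 in
theorem at289500 : allFrom ok 250 289500 = true := by decide +kernel

set_option maxRecDepth 100000 in
theorem at289750 : allFrom ok 250 289750 = true := by decide +kernel

theorem range57 (i : ℕ) (h1 : 285000 ≤ i) (h2 : i < 290000) : ok i = true := by
  by_cases c285000 : i < 285250
  · exact allFrom_sound at285000 i (by omega) (by omega)
  by_cases c285250 : i < 285500
  · exact allFrom_sound at285250 i (by omega) (by omega)
  by_cases c285500 : i < 285750
  · exact allFrom_sound at285500 i (by omega) (by omega)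
  by_cases c285750 : i < 286000
  · exact allFrom_sound at285750 i (by omega) (by omega)
  by_cases c286000 : i < 286250
  · exact allFrom_sound at286000 i (by omega) (by omega)
  by_cases c286250 : i < 286500
  · exact allFrom_sound at286250 i (by omega) (by omega)
  by_cases c286500 : i < 286750
  · exact allFrom_sound at286500 i (by omega) (by omega)
  by_cases c286750 : i < 287000
  · exact allFrom_sound at286750 i (by omega) (by omega)
  by_cases c287000 : i < 287250
  · exact allFrom_sound at287000 i (by omega) (by omega)
  by_cases c287250 : i < 287500
  · exact allFrom_sound at287250 i (by omega) (by omega)
  by_cases c287500 : i < 287750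
  · exact allFrom_sound at287500 i (by omega) (by omega)
  by_cases c287750 : i < 288000
  · exact allFrom_sound at287750 i (by omega) (by omega)
  by_cases c288000 : i < 288250
  · exact allFrom_sound at288000 i (by omega) (by omega)
  by_cases c288250 : i < 288500
  · exact allFrom_sound at288250 i (by omega) (by omega)
  by_cases c288500 : i < 288750
  · exact allFrom_sound at288500 i (by omega) (by omega)
  by_cases c288750 : i < 289000
  · exact allFrom_sound at288750 i (by omega) (by omega)
  by_cases c289000 : i < 289250
  · exact allFrom_sound at289000 i (by omega) (by omega)
  by_cases c289250 : i < 289500
  · exact allFrom_sound at289250 i (by omega) (by omega)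
  by_cases c289500 : i < 289750
  · exact allFrom_sound at289500 i (by omega) (by omega)
  exact allFrom_sound at289750 i (by omega) (by omega)

end Cfsg.Agent.H96.Fi24Mult.Lab
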