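import Cfsg.Agent.H96.Fi24Mult.LabWords

/-!
Generated checks of the labels.
-/

set_option autoImplicit false
set_option Elab.async false

namespace Cfsg.Agent.H96.Fi24Mult.Lab

open Cfsg.Agent.H25.Fi24 (allFrom allFrom_sound)

set_option maxRecDepth 100000 in
theorem at290000 : allFrom ok 250 290000 = true := by decide +kernel

set_option maxRecDepth 100000 in
theorem at290250 : allFrom ok 250 290250 = true := by decide +kernel

set_option maxRecDepth 100000 in
theorem at290500 : allFrom ok 250 290500 = true := by decide +kernel

set_option maxRecDepth 100000 in
theorem at290750 : allFrom ok 250 290750 = true := by decide +kernel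

set_option maxRecDepth 100000 in
theorem at291000 : allFrom ok 250 291000 = true := by decide +kernel

set_option maxRecDepth 100000 in
theorem at291250 : allFrom ok 250 291250 = true := by decide +kernel

set_option maxRecDepth 100000 in
theorem at291500 : allFrom ok 250 291500 = true := by decide +kernel

set_option maxRecDepth 100000 in
theorem at291750 : allFrom ok 250 291750 = true := by decide +kernel

set_option maxRecDepth 100000 in
theorem at292000 : allFrom ok 250 292000 = true := by decide +kernel

set_option maxRecDepth 100000 in
theorem at292250 : allFrom ok 250 292250 = true := by decide +kernel

set_option maxRecDepth 100000 in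
theorem at292500 : allFrom ok 250 292500 = true := by decide +kernel

set_option maxRecDepth 100000 in
theorem at292750 : allFrom ok 250 292750 = true := by decide +kernel

set_option maxRecDepth 100000 in
theorem at293000 : allFrom ok 250 293000 = true := by decide +kernel

set_option maxRecDepth 100000 in
theorem at293250 : allFrom ok 250 293250 = true := by decide +kernel

set_option maxRecDepth 100000 in
theorem at293500 : allFrom ok 250 293500 = true := by decide +kernel

set_option maxRecDepth 100000 in
theorem at293750 : allFrom ok 250 293750 = true := by decide +kernel

set_option maxRecDepth 100000 in
theorem at294000 : allFrom ok 250 294000 = true := by decide +kernel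

set_option maxRecDepth 100000 in
theorem at294250 : allFrom ok 250 294250 = true := by decide +kernel

set_option maxRecDepth 100000 in
theorem at294500 : allFrom ok 250 294500 = true := by decide +kernel

set_option maxRecDepth 100000 in
theorem at294750 : allFrom ok 250 294750 = true := by decide +kernel

theorem range58 (i : ℕ) (h1 : 290000 ≤ i) (h2 : i < 295000) : ok i = true := by
  by_cases c290000 : i < 290250
  · exact allFrom_sound at290000 i (by omega) (by omega)
  by_cases c290250 : i < 290500
  · exact allFrom_sound at290250 i (by omega) (by omega)
  by_cases c290500 : i < 290750
  · exact allFrom_sound at290500 i (by omega) (by omega)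
  by_cases c290750 : i < 291000
  · exact allFrom_sound at290750 i (by omega) (by omega)
  by_cases c291000 : i < 291250
  · exact allFrom_sound at291000 i (by omega) (by omega)
  by_cases c291250 : i < 291500
  · exact allFrom_sound at291250 i (by omega) (by omega)
  by_cases c291500 : i < 291750
  · exact allFrom_sound at291500 i (by omega) (by omega)
  by_cases c291750 : i < 292000
  · exact allFrom_sound at291750 i (by omega) (by omega)
  by_cases c292000 : i < 292250
  · exact allFrom_sound at292000 i (by omega) (by omega)
  by_cases c292250 : i < 292500
  · exact allFrom_sound at292250 i (by omega) (by omega)
  by_cases c292500 : i < 292750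
  · exact allFrom_sound at292500 i (by omega) (by omega)
  by_cases c292750 : i < 293000
  · exact allFrom_sound at292750 i (by omega) (by omega)
  by_cases c293000 : i < 293250
  · exact allFrom_sound at293000 i (by omega) (by omega)
  by_cases c293250 : i < 293500
  · exact allFrom_sound at293250 i (by omega) (by omega)
  by_cases c293500 : i < 293750
  · exact allFrom_sound at293500 i (by omega) (by omega)
  by_cases c293750 : i < 294000
  · exact allFrom_sound at293750 i (by omega) (by omega)
  by_cases c294000 : i < 294250
  · exact allFrom_sound at294000 i (by omega) (by omega)
  by_cases c294250 : i < 294500
  · exact allFrom_sound at294250 i (by omega) (by omega)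
  by_cases c294500 : i < 294750
  · exact allFrom_sound at294500 i (by omega) (by omega)
  exact allFrom_sound at294750 i (by omega) (by omega)

end Cfsg.Agent.H96.Fi24Mult.Lab
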