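import Cfsg.Agent.H96.Fi24Mult.LabWords

/-!
Generated checks of the labels.
-/

set_option autoImplicit false
set_option Elab.async false

namespace Cfsg.Agent.H96.Fi24Mult.Lab

open Cfsg.Agent.H25.Fi24 (allFrom allFrom_sound)

set_option maxRecDepth 100000 in
theorem at295000 : allFrom ok 250 295000 = true := by decide +kernel

set_option maxRecDepth 100000 in
theorem at295250 : allFrom ok 250 295250 = true := by decide +kernel

set_option maxRecDepth 100000 in
theorem at295500 : allFrom ok 250 295500 = true := by decide +kernel

set_option maxRecDepth 100000 in
theorem at295750 : allFrom ok 250 295750 = true := by decide +kernel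

set_option maxRecDepth 100000 in
theorem at296000 : allFrom ok 250 296000 = true := by decide +kernel

set_option maxRecDepth 100000 in
theorem at296250 : allFrom ok 250 296250 = true := by decide +kernel

set_option maxRecDepth 100000 in
theorem at296500 : allFrom ok 250 296500 = true := by decide +kernel

set_option maxRecDepth 100000 in
theorem at296750 : allFrom ok 250 296750 = true := by decide +kernel

set_option maxRecDepth 100000 in
theorem at297000 : allFrom ok 250 297000 = true := by decide +kernel

set_option maxRecDepth 100000 in
theorem at297250 : allFrom ok 250 297250 = true := by decide +kernel

set_option maxRecDepth 100000 in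
theorem at297500 : allFrom ok 250 297500 = true := by decide +kernel

set_option maxRecDepth 100000 in
theorem at297750 : allFrom ok 250 297750 = true := by decide +kernel

set_option maxRecDepth 100000 in
theorem at298000 : allFrom ok 250 298000 = true := by decide +kernel

set_option maxRecDepth 100000 in
theorem at298250 : allFrom ok 250 298250 = true := by decide +kernel

set_option maxRecDepth 100000 in
theorem at298500 : allFrom ok 250 298500 = true := by decide +kernel

set_option maxRecDepth 100000 in
theorem at298750 : allFrom ok 250 298750 = true := by decide +kernel

set_option maxRecDepth 100000 in
theorem at299000 : allFrom ok 250 299000 = true := by decide +kernel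

set_option maxRecDepth 100000 in
theorem at299250 : allFrom ok 250 299250 = true := by decide +kernel

set_option maxRecDepth 100000 in
theorem at299500 : allFrom ok 250 299500 = true := by decide +kernel

set_option maxRecDepth 100000 in
theorem at299750 : allFrom ok 250 299750 = true := by decide +kernel

theorem range59 (i : ℕ) (h1 : 295000 ≤ i) (h2 : i < 300000) : ok i = true := by
  by_cases c295000 : i < 295250
  · exact allFrom_sound at295000 i (by omega) (by omega)
  by_cases c295250 : i < 295500
  · exact allFrom_sound at295250 i (by omega) (by omega)
  by_cases c295500 : i < 295750
  · exact allFrom_sound at295500 i (by omega) (by omega)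
  by_cases c295750 : i < 296000
  · exact allFrom_sound at295750 i (by omega) (by omega)
  by_cases c296000 : i < 296250
  · exact allFrom_sound at296000 i (by omega) (by omega)
  by_cases c296250 : i < 296500
  · exact allFrom_sound at296250 i (by omega) (by omega)
  by_cases c296500 : i < 296750
  · exact allFrom_sound at296500 i (by omega) (by omega)
  by_cases c296750 : i < 297000
  · exact allFrom_sound at296750 i (by omega) (by omega)
  by_cases c297000 : i < 297250
  · exact allFrom_sound at297000 i (by omega) (by omega)
  by_cases c297250 : i < 297500
  · exact allFrom_sound at297250 i (by omega) (by omega)
  by_cases c297500 : i < 297750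
  · exact allFrom_sound at297500 i (by omega) (by omega)
  by_cases c297750 : i < 298000
  · exact allFrom_sound at297750 i (by omega) (by omega)
  by_cases c298000 : i < 298250
  · exact allFrom_sound at298000 i (by omega) (by omega)
  by_cases c298250 : i < 298500
  · exact allFrom_sound at298250 i (by omega) (by omega)
  by_cases c298500 : i < 298750
  · exact allFrom_sound at298500 i (by omega) (by omega)
  by_cases c298750 : i < 299000
  · exact allFrom_sound at298750 i (by omega) (by omega)
  by_cases c299000 : i < 299250
  · exact allFrom_sound at299000 i (by omega) (by omega)
  by_cases c299250 : i < 299500
  · exact allFrom_sound at299250 i (by omega) (by omega)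
  by_cases c299500 : i < 299750
  · exact allFrom_sound at299500 i (by omega) (by omega)
  exact allFrom_sound at299750 i (by omega) (by omega)

end Cfsg.Agent.H96.Fi24Mult.Lab
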