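import Cfsg.Agent.H96.Fi24Mult.LabWords

/-!
Generated checks of the labels.
-/

set_option autoImplicit false
set_option Elab.async false

namespace Cfsg.Agent.H96.Fi24Mult.Lab

open Cfsg.Agent.H25.Fi24 (allFrom allFrom_sound)

set_option maxRecDepth 100000 in
theorem at30000 : allFrom ok 250 30000 = true := by decide +kernel

set_option maxRecDepth 100000 in
theorem at30250 : allFrom ok 250 30250 = true := by decide +kernel

set_option maxRecDepth 100000 in
theorem at30500 : allFrom ok 250 30500 = true := by decide +kernel

set_option maxRecDepth 100000 in
theorem at30750 : allFrom ok 250 30750 = true := by decide +kernel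

set_option maxRecDepth 100000 in
theorem at31000 : allFrom ok 250 31000 = true := by decide +kernel

set_option maxRecDepth 100000 in
theorem at31250 : allFrom ok 250 31250 = true := by decide +kernel

set_option maxRecDepth 100000 in
theorem at31500 : allFrom ok 250 31500 = true := by decide +kernel

set_option maxRecDepth 100000 in
theorem at31750 : allFrom ok 250 31750 = true := by decide +kernel

set_option maxRecDepth 100000 in
theorem at32000 : allFrom ok 250 32000 = true := by decide +kernel

set_option maxRecDepth 100000 in
theorem at32250 : allFrom ok 250 32250 = true := by decide +kernel

set_option maxRecDepth 100000 in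
theorem at32500 : allFrom ok 250 32500 = true := by decide +kernel

set_option maxRecDepth 100000 in
theorem at32750 : allFrom ok 250 32750 = true := by decide +kernel

set_option maxRecDepth 100000 in
theorem at33000 : allFrom ok 250 33000 = true := by decide +kernel

set_option maxRecDepth 100000 in
theorem at33250 : allFrom ok 250 33250 = true := by decide +kernel

set_option maxRecDepth 100000 in
theorem at33500 : allFrom ok 250 33500 = true := by decide +kernel

set_option maxRecDepth 100000 in
theorem at33750 : allFrom ok 250 33750 = true := by decide +kernel

set_option maxRecDepth 100000 in
theorem at34000 : allFrom ok 250 34000 = true := by decide +kernel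

set_option maxRecDepth 100000 in
theorem at34250 : allFrom ok 250 34250 = true := by decide +kernel

set_option maxRecDepth 100000 in
theorem at34500 : allFrom ok 250 34500 = true := by decide +kernel

set_option maxRecDepth 100000 in
theorem at34750 : allFrom ok 250 34750 = true := by decide +kernel

theorem range6 (i : ℕ) (h1 : 30000 ≤ i) (h2 : i < 35000) : ok i = true := by
  by_cases c30000 : i < 30250
  · exact allFrom_sound at30000 i (by omega) (by omega)
  by_cases c30250 : i < 30500
  · exact allFrom_sound at30250 i (by omega) (by omega)
  by_cases c30500 : i < 30750
  · exact allFrom_sound at30500 i (by omega) (by omega)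
  by_cases c30750 : i < 31000
  · exact allFrom_sound at30750 i (by omega) (by omega)
  by_cases c31000 : i < 31250
  · exact allFrom_sound at31000 i (by omega) (by omega)
  by_cases c31250 : i < 31500
  · exact allFrom_sound at31250 i (by omega) (by omega)
  by_cases c31500 : i < 31750
  · exact allFrom_sound at31500 i (by omega) (by omega)
  by_cases c31750 : i < 32000
  · exact allFrom_sound at31750 i (by omega) (by omega)
  by_cases c32000 : i < 32250
  · exact allFrom_sound at32000 i (by omega) (by omega)
  by_cases c32250 : i < 32500
  · exact allFrom_sound at32250 i (by omega) (by omega)
  by_cases c32500 : i < 32750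
  · exact allFrom_sound at32500 i (by omega) (by omega)
  by_cases c32750 : i < 33000
  · exact allFrom_sound at32750 i (by omega) (by omega)
  by_cases c33000 : i < 33250
  · exact allFrom_sound at33000 i (by omega) (by omega)
  by_cases c33250 : i < 33500
  · exact allFrom_sound at33250 i (by omega) (by omega)
  by_cases c33500 : i < 33750
  · exact allFrom_sound at33500 i (by omega) (by omega)
  by_cases c33750 : i < 34000
  · exact allFrom_sound at33750 i (by omega) (by omega)
  by_cases c34000 : i < 34250
  · exact allFrom_sound at34000 i (by omega) (by omega)
  by_cases c34250 : i < 34500
  · exact allFrom_sound at34250 i (by omega) (by omega)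
  by_cases c34500 : i < 34750
  · exact allFrom_sound at34500 i (by omega) (by omega)
  exact allFrom_sound at34750 i (by omega) (by omega)

end Cfsg.Agent.H96.Fi24Mult.Lab
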