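import Cfsg.Agent.H96.Fi24Mult.LabWords

/-!
Generated checks of the labels.
-/

set_option autoImplicit false
set_option Elab.async false

namespace Cfsg.Agent.H96.Fi24Mult.Lab

open Cfsg.Agent.H25.Fi24 (allFrom allFrom_sound)

set_option maxRecDepth 100000 in
theorem at300000 : allFrom ok 250 300000 = true := by decide +kernel

set_option maxRecDepth 100000 in
theorem at300250 : allFrom ok 250 300250 = true := by decide +kernel

set_option maxRecDepth 100000 in
theorem at300500 : allFrom ok 250 300500 = true := by decide +kernel

set_option maxRecDepth 100000 in
theorem at300750 : allFrom ok 250 300750 = true := by decide +kernel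

set_option maxRecDepth 100000 in
theorem at301000 : allFrom ok 250 301000 = true := by decide +kernel

set_option maxRecDepth 100000 in
theorem at301250 : allFrom ok 250 301250 = true := by decide +kernel

set_option maxRecDepth 100000 in
theorem at301500 : allFrom ok 250 301500 = true := by decide +kernel

set_option maxRecDepth 100000 in
theorem at301750 : allFrom ok 250 301750 = true := by decide +kernel

set_option maxRecDepth 100000 in
theorem at302000 : allFrom ok 250 302000 = true := by decide +kernel

set_option maxRecDepth 100000 in
theorem at302250 : allFrom ok 250 302250 = true := by decide +kernel

set_option maxRecDepth 100000 in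
theorem at302500 : allFrom ok 250 302500 = true := by decide +kernel

set_option maxRecDepth 100000 in
theorem at302750 : allFrom ok 250 302750 = true := by decide +kernel

set_option maxRecDepth 100000 in
theorem at303000 : allFrom ok 250 303000 = true := by decide +kernel

set_option maxRecDepth 100000 in
theorem at303250 : allFrom ok 250 303250 = true := by decide +kernel

set_option maxRecDepth 100000 in
theorem at303500 : allFrom ok 250 303500 = true := by decide +kernel

set_option maxRecDepth 100000 in
theorem at303750 : allFrom ok 250 303750 = true := by decide +kernel

set_option maxRecDepth 100000 in
theorem at304000 : allFrom ok 250 304000 = true := by decide +kernel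

set_option maxRecDepth 100000 in
theorem at304250 : allFrom ok 250 304250 = true := by decide +kernel

set_option maxRecDepth 100000 in
theorem at304500 : allFrom ok 250 304500 = true := by decide +kernel

set_option maxRecDepth 100000 in
theorem at304750 : allFrom ok 250 304750 = true := by decide +kernel

theorem range60 (i : ℕ) (h1 : 300000 ≤ i) (h2 : i < 305000) : ok i = true := by
  by_cases c300000 : i < 300250
  · exact allFrom_sound at300000 i (by omega) (by omega)
  by_cases c300250 : i < 300500
  · exact allFrom_sound at300250 i (by omega) (by omega)
  by_cases c300500 : i < 300750
  · exact allFrom_sound at300500 i (by omega) (by omega)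
  by_cases c300750 : i < 301000
  · exact allFrom_sound at300750 i (by omega) (by omega)
  by_cases c301000 : i < 301250
  · exact allFrom_sound at301000 i (by omega) (by omega)
  by_cases c301250 : i < 301500
  · exact allFrom_sound at301250 i (by omega) (by omega)
  by_cases c301500 : i < 301750
  · exact allFrom_sound at301500 i (by omega) (by omega)
  by_cases c301750 : i < 302000
  · exact allFrom_sound at301750 i (by omega) (by omega)
  by_cases c302000 : i < 302250
  · exact allFrom_sound at302000 i (by omega) (by omega)
  by_cases c302250 : i < 302500
  · exact allFrom_sound at302250 i (by omega) (by omega)
  by_cases c302500 : i < 302750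
  · exact allFrom_sound at302500 i (by omega) (by omega)
  by_cases c302750 : i < 303000
  · exact allFrom_sound at302750 i (by omega) (by omega)
  by_cases c303000 : i < 303250
  · exact allFrom_sound at303000 i (by omega) (by omega)
  by_cases c303250 : i < 303500
  · exact allFrom_sound at303250 i (by omega) (by omega)
  by_cases c303500 : i < 303750
  · exact allFrom_sound at303500 i (by omega) (by omega)
  by_cases c303750 : i < 304000
  · exact allFrom_sound at303750 i (by omega) (by omega)
  by_cases c304000 : i < 304250
  · exact allFrom_sound at304000 i (by omega) (by omega)
  by_cases c304250 : i < 304500
  · exact allFrom_sound at304250 i (by omega) (by omega)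
  by_cases c304500 : i < 304750
  · exact allFrom_sound at304500 i (by omega) (by omega)
  exact allFrom_sound at304750 i (by omega) (by omega)

end Cfsg.Agent.H96.Fi24Mult.Lab
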