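import Cfsg.Agent.H96.Fi24Mult.LabWords

/-!
Generated checks of the labels.
-/

set_option autoImplicit false
set_option Elab.async false

namespace Cfsg.Agent.H96.Fi24Mult.Lab

open Cfsg.Agent.H25.Fi24 (allFrom allFrom_sound)

set_option maxRecDepth 100000 in
theorem at305000 : allFrom ok 250 305000 = true := by decide +kernel

set_option maxRecDepth 100000 in
theorem at305250 : allFrom ok 250 305250 = true := by decide +kernel

set_option maxRecDepth 100000 in
theorem at305500 : allFrom ok 250 305500 = true := by decide +kernel

set_option maxRecDepth 100000 in
theorem at305750 : allFrom ok 250 305750 = true := by decide +kernel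

set_option maxRecDepth 100000 in
theorem at306000 : allFrom ok 250 306000 = true := by decide +kernel

set_option maxRecDepth 100000 in
theorem at306250 : allFrom ok 250 306250 = true := by decide +kernel

set_option maxRecDepth 100000 in
theorem at306500 : allFrom ok 250 306500 = true := by decide +kernel

set_option maxRecDepth 100000 in
theorem at306750 : allFrom ok 186 306750 = true := by decide +kernel

theorem range61 (i : ℕ) (h1 : 305000 ≤ i) (h2 : i < 306936) : ok i = true := by
  by_cases c305000 : i < 305250
  · exact allFrom_sound at305000 i (by omega) (by omega)
  by_cases c305250 : i < 305500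
  · exact allFrom_sound at305250 i (by omega) (by omega)
  by_cases c305500 : i < 305750
  · exact allFrom_sound at305500 i (by omega) (by omega)
  by_cases c305750 : i < 306000
  · exact allFrom_sound at305750 i (by omega) (by omega)
  by_cases c306000 : i < 306250
  · exact allFrom_sound at306000 i (by omega) (by omega)
  by_cases c306250 : i < 306500
  · exact allFrom_sound at306250 i (by omega) (by omega)
  by_cases c306500 : i < 306750
  · exact allFrom_sound at306500 i (by omega) (by omega)
  exact allFrom_sound at306750 i (by omega) (by omega)

end Cfsg.Agent.H96.Fi24Mult.Lab
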