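import Cfsg.Agent.H96.Fi24Mult.LabWords

/-!
Generated checks of the labels.
-/

set_option autoImplicit false
set_option Elab.async false

namespace Cfsg.Agent.H96.Fi24Mult.Lab

open Cfsg.Agent.H25.Fi24 (allFrom allFrom_sound)

set_option maxRecDepth 100000 in
theorem at35000 : allFrom ok 250 35000 = true := by decide +kernel

set_option maxRecDepth 100000 in
theorem at35250 : allFrom ok 250 35250 = true := by decide +kernel

set_option maxRecDepth 100000 in
theorem at35500 : allFrom ok 250 35500 = true := by decide +kernel

set_option maxRecDepth 100000 in
theorem at35750 : allFrom ok 250 35750 = true := by decide +kernel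

set_option maxRecDepth 100000 in
theorem at36000 : allFrom ok 250 36000 = true := by decide +kernel

set_option maxRecDepth 100000 in
theorem at36250 : allFrom ok 250 36250 = true := by decide +kernel

set_option maxRecDepth 100000 in
theorem at36500 : allFrom ok 250 36500 = true := by decide +kernel

set_option maxRecDepth 100000 in
theorem at36750 : allFrom ok 250 36750 = true := by decide +kernel

set_option maxRecDepth 100000 in
theorem at37000 : allFrom ok 250 37000 = true := by decide +kernel

set_option maxRecDepth 100000 in
theorem at37250 : allFrom ok 250 37250 = true := by decide +kernel

set_option maxRecDepth 100000 in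
theorem at37500 : allFrom ok 250 37500 = true := by decide +kernel

set_option maxRecDepth 100000 in
theorem at37750 : allFrom ok 250 37750 = true := by decide +kernel

set_option maxRecDepth 100000 in
theorem at38000 : allFrom ok 250 38000 = true := by decide +kernel

set_option maxRecDepth 100000 in
theorem at38250 : allFrom ok 250 38250 = true := by decide +kernel

set_option maxRecDepth 100000 in
theorem at38500 : allFrom ok 250 38500 = true := by decide +kernel

set_option maxRecDepth 100000 in
theorem at38750 : allFrom ok 250 38750 = true := by decide +kernel

set_option maxRecDepth 100000 in
theorem at39000 : allFrom ok 250 39000 = true := by decide +kernel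

set_option maxRecDepth 100000 in
theorem at39250 : allFrom ok 250 39250 = true := by decide +kernel

set_option maxRecDepth 100000 in
theorem at39500 : allFrom ok 250 39500 = true := by decide +kernel

set_option maxRecDepth 100000 in
theorem at39750 : allFrom ok 250 39750 = true := by decide +kernel

theorem range7 (i : ℕ) (h1 : 35000 ≤ i) (h2 : i < 40000) : ok i = true := by
  by_cases c35000 : i < 35250
  · exact allFrom_sound at35000 i (by omega) (by omega)
  by_cases c35250 : i < 35500
  · exact allFrom_sound at35250 i (by omega) (by omega)
  by_cases c35500 : i < 35750
  · exact allFrom_sound at35500 i (by omega) (by omega)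
  by_cases c35750 : i < 36000
  · exact allFrom_sound at35750 i (by omega) (by omega)
  by_cases c36000 : i < 36250
  · exact allFrom_sound at36000 i (by omega) (by omega)
  by_cases c36250 : i < 36500
  · exact allFrom_sound at36250 i (by omega) (by omega)
  by_cases c36500 : i < 36750
  · exact allFrom_sound at36500 i (by omega) (by omega)
  by_cases c36750 : i < 37000
  · exact allFrom_sound at36750 i (by omega) (by omega)
  by_cases c37000 : i < 37250
  · exact allFrom_sound at37000 i (by omega) (by omega)
  by_cases c37250 : i < 37500
  · exact allFrom_sound at37250 i (by omega) (by omega)
  by_cases c37500 : i < 37750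
  · exact allFrom_sound at37500 i (by omega) (by omega)
  by_cases c37750 : i < 38000
  · exact allFrom_sound at37750 i (by omega) (by omega)
  by_cases c38000 : i < 38250
  · exact allFrom_sound at38000 i (by omega) (by omega)
  by_cases c38250 : i < 38500
  · exact allFrom_sound at38250 i (by omega) (by omega)
  by_cases c38500 : i < 38750
  · exact allFrom_sound at38500 i (by omega) (by omega)
  by_cases c38750 : i < 39000
  · exact allFrom_sound at38750 i (by omega) (by omega)
  by_cases c39000 : i < 39250
  · exact allFrom_sound at39000 i (by omega) (by omega)
  by_cases c39250 : i < 39500
  · exact allFrom_sound at39250 i (by omega) (by omega)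
  by_cases c39500 : i < 39750
  · exact allFrom_sound at39500 i (by omega) (by omega)
  exact allFrom_sound at39750 i (by omega) (by omega)

end Cfsg.Agent.H96.Fi24Mult.Lab
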