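import Cfsg.Agent.H96.Fi24Mult.LabWords

/-!
Generated checks of the labels.
-/

set_option autoImplicit false
set_option Elab.async false

namespace Cfsg.Agent.H96.Fi24Mult.Lab

open Cfsg.Agent.H25.Fi24 (allFrom allFrom_sound)

set_option maxRecDepth 100000 in
theorem at40000 : allFrom ok 250 40000 = true := by decide +kernel

set_option maxRecDepth 100000 in
theorem at40250 : allFrom ok 250 40250 = true := by decide +kernel

set_option maxRecDepth 100000 in
theorem at40500 : allFrom ok 250 40500 = true := by decide +kernel

set_option maxRecDepth 100000 in
theorem at40750 : allFrom ok 250 40750 = true := by decide +kernel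

set_option maxRecDepth 100000 in
theorem at41000 : allFrom ok 250 41000 = true := by decide +kernel

set_option maxRecDepth 100000 in
theorem at41250 : allFrom ok 250 41250 = true := by decide +kernel

set_option maxRecDepth 100000 in
theorem at41500 : allFrom ok 250 41500 = true := by decide +kernel

set_option maxRecDepth 100000 in
theorem at41750 : allFrom ok 250 41750 = true := by decide +kernel

set_option maxRecDepth 100000 in
theorem at42000 : allFrom ok 250 42000 = true := by decide +kernel

set_option maxRecDepth 100000 in
theorem at42250 : allFrom ok 250 42250 = true := by decide +kernel

set_option maxRecDepth 100000 in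
theorem at42500 : allFrom ok 250 42500 = true := by decide +kernel

set_option maxRecDepth 100000 in
theorem at42750 : allFrom ok 250 42750 = true := by decide +kernel

set_option maxRecDepth 100000 in
theorem at43000 : allFrom ok 250 43000 = true := by decide +kernel

set_option maxRecDepth 100000 in
theorem at43250 : allFrom ok 250 43250 = true := by decide +kernel

set_option maxRecDepth 100000 in
theorem at43500 : allFrom ok 250 43500 = true := by decide +kernel

set_option maxRecDepth 100000 in
theorem at43750 : allFrom ok 250 43750 = true := by decide +kernel

set_option maxRecDepth 100000 in
theorem at44000 : allFrom ok 250 44000 = true := by decide +kernel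

set_option maxRecDepth 100000 in
theorem at44250 : allFrom ok 250 44250 = true := by decide +kernel

set_option maxRecDepth 100000 in
theorem at44500 : allFrom ok 250 44500 = true := by decide +kernel

set_option maxRecDepth 100000 in
theorem at44750 : allFrom ok 250 44750 = true := by decide +kernel

theorem range8 (i : ℕ) (h1 : 40000 ≤ i) (h2 : i < 45000) : ok i = true := by
  by_cases c40000 : i < 40250
  · exact allFrom_sound at40000 i (by omega) (by omega)
  by_cases c40250 : i < 40500
  · exact allFrom_sound at40250 i (by omega) (by omega)
  by_cases c40500 : i < 40750
  · exact allFrom_sound at40500 i (by omega) (by omega)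
  by_cases c40750 : i < 41000
  · exact allFrom_sound at40750 i (by omega) (by omega)
  by_cases c41000 : i < 41250
  · exact allFrom_sound at41000 i (by omega) (by omega)
  by_cases c41250 : i < 41500
  · exact allFrom_sound at41250 i (by omega) (by omega)
  by_cases c41500 : i < 41750
  · exact allFrom_sound at41500 i (by omega) (by omega)
  by_cases c41750 : i < 42000
  · exact allFrom_sound at41750 i (by omega) (by omega)
  by_cases c42000 : i < 42250
  · exact allFrom_sound at42000 i (by omega) (by omega)
  by_cases c42250 : i < 42500
  · exact allFrom_sound at42250 i (by omega) (by omega)
  by_cases c42500 : i < 42750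
  · exact allFrom_sound at42500 i (by omega) (by omega)
  by_cases c42750 : i < 43000
  · exact allFrom_sound at42750 i (by omega) (by omega)
  by_cases c43000 : i < 43250
  · exact allFrom_sound at43000 i (by omega) (by omega)
  by_cases c43250 : i < 43500
  · exact allFrom_sound at43250 i (by omega) (by omega)
  by_cases c43500 : i < 43750
  · exact allFrom_sound at43500 i (by omega) (by omega)
  by_cases c43750 : i < 44000
  · exact allFrom_sound at43750 i (by omega) (by omega)
  by_cases c44000 : i < 44250
  · exact allFrom_sound at44000 i (by omega) (by omega)
  by_cases c44250 : i < 44500
  · exact allFrom_sound at44250 i (by omega) (by omega)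
  by_cases c44500 : i < 44750
  · exact allFrom_sound at44500 i (by omega) (by omega)
  exact allFrom_sound at44750 i (by omega) (by omega)

end Cfsg.Agent.H96.Fi24Mult.Lab
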