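import Cfsg.Agent.H96.Fi24Mult.LabWords

/-!
Generated checks of the labels.
-/

set_option autoImplicit false
set_option Elab.async false

namespace Cfsg.Agent.H96.Fi24Mult.Lab

open Cfsg.Agent.H25.Fi24 (allFrom allFrom_sound)

set_option maxRecDepth 100000 in
theorem at45000 : allFrom ok 250 45000 = true := by decide +kernel

set_option maxRecDepth 100000 in
theorem at45250 : allFrom ok 250 45250 = true := by decide +kernel

set_option maxRecDepth 100000 in
theorem at45500 : allFrom ok 250 45500 = true := by decide +kernel

set_option maxRecDepth 100000 in
theorem at45750 : allFrom ok 250 45750 = true := by decide +kernel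

set_option maxRecDepth 100000 in
theorem at46000 : allFrom ok 250 46000 = true := by decide +kernel

set_option maxRecDepth 100000 in
theorem at46250 : allFrom ok 250 46250 = true := by decide +kernel

set_option maxRecDepth 100000 in
theorem at46500 : allFrom ok 250 46500 = true := by decide +kernel

set_option maxRecDepth 100000 in
theorem at46750 : allFrom ok 250 46750 = true := by decide +kernel

set_option maxRecDepth 100000 in
theorem at47000 : allFrom ok 250 47000 = true := by decide +kernel

set_option maxRecDepth 100000 in
theorem at47250 : allFrom ok 250 47250 = true := by decide +kernel

set_option maxRecDepth 100000 in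
theorem at47500 : allFrom ok 250 47500 = true := by decide +kernel

set_option maxRecDepth 100000 in
theorem at47750 : allFrom ok 250 47750 = true := by decide +kernel

set_option maxRecDepth 100000 in
theorem at48000 : allFrom ok 250 48000 = true := by decide +kernel

set_option maxRecDepth 100000 in
theorem at48250 : allFrom ok 250 48250 = true := by decide +kernel

set_option maxRecDepth 100000 in
theorem at48500 : allFrom ok 250 48500 = true := by decide +kernel

set_option maxRecDepth 100000 in
theorem at48750 : allFrom ok 250 48750 = true := by decide +kernel

set_option maxRecDepth 100000 in
theorem at49000 : allFrom ok 250 49000 = true := by decide +kernel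

set_option maxRecDepth 100000 in
theorem at49250 : allFrom ok 250 49250 = true := by decide +kernel

set_option maxRecDepth 100000 in
theorem at49500 : allFrom ok 250 49500 = true := by decide +kernel

set_option maxRecDepth 100000 in
theorem at49750 : allFrom ok 250 49750 = true := by decide +kernel

theorem range9 (i : ℕ) (h1 : 45000 ≤ i) (h2 : i < 50000) : ok i = true := by
  by_cases c45000 : i < 45250
  · exact allFrom_sound at45000 i (by omega) (by omega)
  by_cases c45250 : i < 45500
  · exact allFrom_sound at45250 i (by omega) (by omega)
  by_cases c45500 : i < 45750
  · exact allFrom_sound at45500 i (by omega) (by omega)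
  by_cases c45750 : i < 46000
  · exact allFrom_sound at45750 i (by omega) (by omega)
  by_cases c46000 : i < 46250
  · exact allFrom_sound at46000 i (by omega) (by omega)
  by_cases c46250 : i < 46500
  · exact allFrom_sound at46250 i (by omega) (by omega)
  by_cases c46500 : i < 46750
  · exact allFrom_sound at46500 i (by omega) (by omega)
  by_cases c46750 : i < 47000
  · exact allFrom_sound at46750 i (by omega) (by omega)
  by_cases c47000 : i < 47250
  · exact allFrom_sound at47000 i (by omega) (by omega)
  by_cases c47250 : i < 47500
  · exact allFrom_sound at47250 i (by omega) (by omega)
  by_cases c47500 : i < 47750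
  · exact allFrom_sound at47500 i (by omega) (by omega)
  by_cases c47750 : i < 48000
  · exact allFrom_sound at47750 i (by omega) (by omega)
  by_cases c48000 : i < 48250
  · exact allFrom_sound at48000 i (by omega) (by omega)
  by_cases c48250 : i < 48500
  · exact allFrom_sound at48250 i (by omega) (by omega)
  by_cases c48500 : i < 48750
  · exact allFrom_sound at48500 i (by omega) (by omega)
  by_cases c48750 : i < 49000
  · exact allFrom_sound at48750 i (by omega) (by omega)
  by_cases c49000 : i < 49250
  · exact allFrom_sound at49000 i (by omega) (by omega)
  by_cases c49250 : i < 49500
  · exact allFrom_sound at49250 i (by omega) (by omega)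
  by_cases c49500 : i < 49750
  · exact allFrom_sound at49500 i (by omega) (by omega)
  exact allFrom_sound at49750 i (by omega) (by omega)

end Cfsg.Agent.H96.Fi24Mult.Lab
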