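import Cfsg.Agent.H25.Fi24.Table

/-!
Generated labels.
-/

set_option autoImplicit false

namespace Cfsg.Agent.H96.Fi24Mult.Lab

open Cfsg.Agent.H25.Fi24 (Tr)

/-- part of the trie -/
def labPart20 : Tr :=
(.node 5248 (.node 5184 (.node 5152 (.node 5136 (.node 5128 (.node 5124 (.node 5122 (.node 5121 (.leaf 0x0)
(.leaf 0x0))
(.node 5123 (.leaf 0x0)
(.leaf 0x0)))
(.node 5126 (.node 5125 (.leaf 0x0)
(.leaf 0x0))
(.node 5127 (.leaf 0x0)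
(.leaf 0x0))))
(.node 5132 (.node 5130 (.node 5129 (.leaf 0x0)
(.leaf 0x0))
(.node 5131 (.leaf 0x0)
(.leaf 0x0)))
(.node 5134 (.node 5133 (.leaf 0x0)
(.leaf 0x0))
(.node 5135 (.leaf 0x0)
(.leaf 0x0)))))
(.node 5144 (.node 5140 (.node 5138 (.node 5137 (.leaf 0x0)
(.leaf 0x0))
(.node 5139 (.leaf 0x0)
(.leaf 0x0)))
(.node 5142 (.node 5141 (.leaf 0x0)
(.leaf 0x0))
(.node 5143 (.leaf 0x0)
(.leaf 0x0))))
(.node 5148 (.node 5146 (.node 5145 (.leaf 0x0)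
(.leaf 0x0))
(.node 5147 (.leaf 0x0)
(.leaf 0x0)))
(.node 5150 (.node 5149 (.leaf 0x0)
(.leaf 0x0))
(.node 5151 (.leaf 0x0)
(.leaf 0x0))))))
(.node 5168 (.node 5160 (.node 5156 (.node 5154 (.node 5153 (.leaf 0x0)
(.leaf 0x0))
(.node 5155 (.leaf 0x0)
(.leaf 0x0)))
(.node 5158 (.node 5157 (.leaf 0x0)
(.leaf 0x0))
(.node 5159 (.leaf 0x0)
(.leaf 0x0))))
(.node 5164 (.node 5162 (.node 5161 (.leaf 0x0)
(.leaf 0x0))
(.node 5163 (.leaf 0x0)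
(.leaf 0x0)))
(.node 5166 (.node 5165 (.leaf 0x0)
(.leaf 0x0))
(.node 5167 (.leaf 0x0)
(.leaf 0x0)))))
(.node 5176 (.node 5172 (.node 5170 (.node 5169 (.leaf 0x0)
(.leaf 0x0))
(.node 5171 (.leaf 0x0)
(.leaf 0x0)))
(.node 5174 (.node 5173 (.leaf 0x0)
(.leaf 0x0))
(.node 5175 (.leaf 0x0)
(.leaf 0x0))))
(.node 5180 (.node 5178 (.node 5177 (.leaf 0x0)
(.leaf 0x0))
(.node 5179 (.leaf 0x0)
(.leaf 0x0)))
(.node 5182 (.node 5181 (.leaf 0x0)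
(.leaf 0x0))
(.node 5183 (.leaf 0x0)
(.leaf 0x0)))))))
(.node 5216 (.node 5200 (.node 5192 (.node 5188 (.node 5186 (.node 5185 (.leaf 0x0)
(.leaf 0x0))
(.node 5187 (.leaf 0x0)
(.leaf 0x0)))
(.node 5190 (.node 5189 (.leaf 0x0)
(.leaf 0x0))
(.node 5191 (.leaf 0x0)
(.leaf 0x0))))
(.node 5196 (.node 5194 (.node 5193 (.leaf 0x0)
(.leaf 0x0))
(.node 5195 (.leaf 0x0)
(.leaf 0x0)))
(.node 5198 (.node 5197 (.leaf 0x0)
(.leaf 0x0))
(.node 5199 (.leaf 0x0)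
(.leaf 0x0)))))
(.node 5208 (.node 5204 (.node 5202 (.node 5201 (.leaf 0x0)
(.leaf 0x0))
(.node 5203 (.leaf 0x0)
(.leaf 0x0)))
(.node 5206 (.node 5205 (.leaf 0x0)
(.leaf 0x0))
(.node 5207 (.leaf 0x0)
(.leaf 0x0))))
(.node 5212 (.node 5210 (.node 5209 (.leaf 0x0)
(.leaf 0x0))
(.node 5211 (.leaf 0x0)
(.leaf 0x0)))
(.node 5214 (.node 5213 (.leaf 0x0)
(.leaf 0x0))
(.node 5215 (.leaf 0x0)
(.leaf 0x0))))))
(.node 5232 (.node 5224 (.node 5220 (.node 5218 (.node 5217 (.leaf 0x0)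
(.leaf 0x0))
(.node 5219 (.leaf 0x0)
(.leaf 0x0)))
(.node 5222 (.node 5221 (.leaf 0x0)
(.leaf 0x0))
(.node 5223 (.leaf 0x0)
(.leaf 0x0))))
(.node 5228 (.node 5226 (.node 5225 (.leaf 0x0)
(.leaf 0x0))
(.node 5227 (.leaf 0x0)
(.leaf 0x0)))
(.node 5230 (.node 5229 (.leaf 0x0)
(.leaf 0x0))
(.node 5231 (.leaf 0x0)
(.leaf 0x0)))))
(.node 5240 (.node 5236 (.node 5234 (.node 5233 (.leaf 0x0)
(.leaf 0x0))
(.node 5235 (.leaf 0x0)
(.leaf 0x0)))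
(.node 5238 (.node 5237 (.leaf 0x0)
(.leaf 0x0))
(.node 5239 (.leaf 0x0)
(.leaf 0x0))))
(.node 5244 (.node 5242 (.node 5241 (.leaf 0x0)
(.leaf 0x0))
(.node 5243 (.leaf 0x0)
(.leaf 0x0)))
(.node 5246 (.node 5245 (.leaf 0x0)
(.leaf 0x0))
(.node 5247 (.leaf 0x0)
(.leaf 0x0))))))))
(.node 5312 (.node 5280 (.node 5264 (.node 5256 (.node 5252 (.node 5250 (.node 5249 (.leaf 0x0)
(.leaf 0x0))
(.node 5251 (.leaf 0x0)
(.leaf 0x0)))
(.node 5254 (.node 5253 (.leaf 0x0)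
(.leaf 0x0))
(.node 5255 (.leaf 0x0)
(.leaf 0x0))))
(.node 5260 (.node 5258 (.node 5257 (.leaf 0x0)
(.leaf 0x0))
(.node 5259 (.leaf 0x0)
(.leaf 0x0)))
(.node 5262 (.node 5261 (.leaf 0x0)
(.leaf 0x0))
(.node 5263 (.leaf 0x0)
(.leaf 0x0)))))
(.node 5272 (.node 5268 (.node 5266 (.node 5265 (.leaf 0x0)
(.leaf 0x0))
(.node 5267 (.leaf 0x0)
(.leaf 0x0)))
(.node 5270 (.node 5269 (.leaf 0x0)
(.leaf 0x0))
(.node 5271 (.leaf 0x0)
(.leaf 0x0))))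
(.node 5276 (.node 5274 (.node 5273 (.leaf 0x0)
(.leaf 0x0))
(.node 5275 (.leaf 0x0)
(.leaf 0x0)))
(.node 5278 (.node 5277 (.leaf 0x0)
(.leaf 0x0))
(.node 5279 (.leaf 0x0)
(.leaf 0x0))))))
(.node 5296 (.node 5288 (.node 5284 (.node 5282 (.node 5281 (.leaf 0x0)
(.leaf 0x0))
(.node 5283 (.leaf 0x0)
(.leaf 0x0)))
(.node 5286 (.node 5285 (.leaf 0x0)
(.leaf 0x0))
(.node 5287 (.leaf 0x0)
(.leaf 0x0))))
(.node 5292 (.node 5290 (.node 5289 (.leaf 0x0)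
(.leaf 0x0))
(.node 5291 (.leaf 0x0)
(.leaf 0x0)))
(.node 5294 (.node 5293 (.leaf 0x0)
(.leaf 0x0))
(.node 5295 (.leaf 0x0)
(.leaf 0x0)))))
(.node 5304 (.node 5300 (.node 5298 (.node 5297 (.leaf 0x0)
(.leaf 0x0))
(.node 5299 (.leaf 0x0)
(.leaf 0x0)))
(.node 5302 (.node 5301 (.leaf 0x0)
(.leaf 0x0))
(.node 5303 (.leaf 0x0)
(.leaf 0x0))))
(.node 5308 (.node 5306 (.node 5305 (.leaf 0x0)
(.leaf 0x0))
(.node 5307 (.leaf 0x0)
(.leaf 0x0)))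
(.node 5310 (.node 5309 (.leaf 0x0)
(.leaf 0x0))
(.node 5311 (.leaf 0x0)
(.leaf 0x0)))))))
(.node 5344 (.node 5328 (.node 5320 (.node 5316 (.node 5314 (.node 5313 (.leaf 0x0)
(.leaf 0x0))
(.node 5315 (.leaf 0x0)
(.leaf 0x0)))
(.node 5318 (.node 5317 (.leaf 0x0)
(.leaf 0x0))
(.node 5319 (.leaf 0x0)
(.leaf 0x0))))
(.node 5324 (.node 5322 (.node 5321 (.leaf 0x0)
(.leaf 0x0))
(.node 5323 (.leaf 0x0)
(.leaf 0x0)))
(.node 5326 (.node 5325 (.leaf 0x0)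
(.leaf 0x0))
(.node 5327 (.leaf 0x0)
(.leaf 0x0)))))
(.node 5336 (.node 5332 (.node 5330 (.node 5329 (.leaf 0x0)
(.leaf 0x0))
(.node 5331 (.leaf 0x0)
(.leaf 0x0)))
(.node 5334 (.node 5333 (.leaf 0x0)
(.leaf 0x0))
(.node 5335 (.leaf 0x0)
(.leaf 0x0))))
(.node 5340 (.node 5338 (.node 5337 (.leaf 0x0)
(.leaf 0x0))
(.node 5339 (.leaf 0x0)
(.leaf 0x0)))
(.node 5342 (.node 5341 (.leaf 0x0)
(.leaf 0x0))
(.node 5343 (.leaf 0x0)
(.leaf 0x0))))))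
(.node 5360 (.node 5352 (.node 5348 (.node 5346 (.node 5345 (.leaf 0x0)
(.leaf 0x0))
(.node 5347 (.leaf 0x0)
(.leaf 0x0)))
(.node 5350 (.node 5349 (.leaf 0x0)
(.leaf 0x0))
(.node 5351 (.leaf 0x0)
(.leaf 0x0))))
(.node 5356 (.node 5354 (.node 5353 (.leaf 0x0)
(.leaf 0x0))
(.node 5355 (.leaf 0x0)
(.leaf 0x0)))
(.node 5358 (.node 5357 (.leaf 0x0)
(.leaf 0x0))
(.node 5359 (.leaf 0x0)
(.leaf 0x0)))))
(.node 5368 (.node 5364 (.node 5362 (.node 5361 (.leaf 0x0)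
(.leaf 0x0))
(.node 5363 (.leaf 0x0)
(.leaf 0x0)))
(.node 5366 (.node 5365 (.leaf 0x0)
(.leaf 0x0))
(.node 5367 (.leaf 0x0)
(.leaf 0x0))))
(.node 5372 (.node 5370 (.node 5369 (.leaf 0x0)
(.leaf 0x0))
(.node 5371 (.leaf 0x0)
(.leaf 0x0)))
(.node 5374 (.node 5373 (.leaf 0x0)
(.leaf 0x0))
(.node 5375 (.leaf 0x0)
(.leaf 0x0)))))))))

/-- part of the trie -/
def labPart21 : Tr :=
(.node 5504 (.node 5440 (.node 5408 (.node 5392 (.node 5384 (.node 5380 (.node 5378 (.node 5377 (.leaf 0x0)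
(.leaf 0x0))
(.node 5379 (.leaf 0x0)
(.leaf 0x0)))
(.node 5382 (.node 5381 (.leaf 0x0)
(.leaf 0x0))
(.node 5383 (.leaf 0x0)
(.leaf 0x0))))
(.node 5388 (.node 5386 (.node 5385 (.leaf 0x0)
(.leaf 0x0))
(.node 5387 (.leaf 0x0)
(.leaf 0x0)))
(.node 5390 (.node 5389 (.leaf 0x0)
(.leaf 0x0))
(.node 5391 (.leaf 0x0)
(.leaf 0x0)))))
(.node 5400 (.node 5396 (.node 5394 (.node 5393 (.leaf 0x0)
(.leaf 0x0))
(.node 5395 (.leaf 0x0)
(.leaf 0x0)))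
(.node 5398 (.node 5397 (.leaf 0x0)
(.leaf 0x0))
(.node 5399 (.leaf 0x0)
(.leaf 0x0))))
(.node 5404 (.node 5402 (.node 5401 (.leaf 0x0)
(.leaf 0x0))
(.node 5403 (.leaf 0x0)
(.leaf 0x0)))
(.node 5406 (.node 5405 (.leaf 0x0)
(.leaf 0x0))
(.node 5407 (.leaf 0x0)
(.leaf 0x0))))))
(.node 5424 (.node 5416 (.node 5412 (.node 5410 (.node 5409 (.leaf 0x0)
(.leaf 0x0))
(.node 5411 (.leaf 0x0)
(.leaf 0x0)))
(.node 5414 (.node 5413 (.leaf 0x0)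
(.leaf 0x0))
(.node 5415 (.leaf 0x0)
(.leaf 0x0))))
(.node 5420 (.node 5418 (.node 5417 (.leaf 0x0)
(.leaf 0x0))
(.node 5419 (.leaf 0x0)
(.leaf 0x0)))
(.node 5422 (.node 5421 (.leaf 0x0)
(.leaf 0x0))
(.node 5423 (.leaf 0x0)
(.leaf 0x0)))))
(.node 5432 (.node 5428 (.node 5426 (.node 5425 (.leaf 0x0)
(.leaf 0x0))
(.node 5427 (.leaf 0x0)
(.leaf 0x0)))
(.node 5430 (.node 5429 (.leaf 0x0)
(.leaf 0x0))
(.node 5431 (.leaf 0x0)
(.leaf 0x0))))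
(.node 5436 (.node 5434 (.node 5433 (.leaf 0x0)
(.leaf 0x0))
(.node 5435 (.leaf 0x0)
(.leaf 0x0)))
(.node 5438 (.node 5437 (.leaf 0x0)
(.leaf 0x0))
(.node 5439 (.leaf 0x0)
(.leaf 0x0)))))))
(.node 5472 (.node 5456 (.node 5448 (.node 5444 (.node 5442 (.node 5441 (.leaf 0x0)
(.leaf 0x0))
(.node 5443 (.leaf 0x0)
(.leaf 0x0)))
(.node 5446 (.node 5445 (.leaf 0x0)
(.leaf 0x0))
(.node 5447 (.leaf 0x0)
(.leaf 0x0))))
(.node 5452 (.node 5450 (.node 5449 (.leaf 0x0)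
(.leaf 0x0))
(.node 5451 (.leaf 0x0)
(.leaf 0x0)))
(.node 5454 (.node 5453 (.leaf 0x0)
(.leaf 0x0))
(.node 5455 (.leaf 0x0)
(.leaf 0x0)))))
(.node 5464 (.node 5460 (.node 5458 (.node 5457 (.leaf 0x0)
(.leaf 0x0))
(.node 5459 (.leaf 0x0)
(.leaf 0x0)))
(.node 5462 (.node 5461 (.leaf 0x0)
(.leaf 0x0))
(.node 5463 (.leaf 0x0)
(.leaf 0x0))))
(.node 5468 (.node 5466 (.node 5465 (.leaf 0x0)
(.leaf 0x0))
(.node 5467 (.leaf 0x0)
(.leaf 0x0)))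
(.node 5470 (.node 5469 (.leaf 0x0)
(.leaf 0x0))
(.node 5471 (.leaf 0x0)
(.leaf 0x0))))))
(.node 5488 (.node 5480 (.node 5476 (.node 5474 (.node 5473 (.leaf 0x0)
(.leaf 0x0))
(.node 5475 (.leaf 0x0)
(.leaf 0x0)))
(.node 5478 (.node 5477 (.leaf 0x0)
(.leaf 0x0))
(.node 5479 (.leaf 0x0)
(.leaf 0x0))))
(.node 5484 (.node 5482 (.node 5481 (.leaf 0x0)
(.leaf 0x0))
(.node 5483 (.leaf 0x0)
(.leaf 0x0)))
(.node 5486 (.node 5485 (.leaf 0x0)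
(.leaf 0x0))
(.node 5487 (.leaf 0x0)
(.leaf 0x0)))))
(.node 5496 (.node 5492 (.node 5490 (.node 5489 (.leaf 0x0)
(.leaf 0x0))
(.node 5491 (.leaf 0x0)
(.leaf 0x0)))
(.node 5494 (.node 5493 (.leaf 0x0)
(.leaf 0x0))
(.node 5495 (.leaf 0x0)
(.leaf 0x0))))
(.node 5500 (.node 5498 (.node 5497 (.leaf 0x0)
(.leaf 0x0))
(.node 5499 (.leaf 0x0)
(.leaf 0x0)))
(.node 5502 (.node 5501 (.leaf 0x0)
(.leaf 0x0))
(.node 5503 (.leaf 0x0)
(.leaf 0x0))))))))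
(.node 5568 (.node 5536 (.node 5520 (.node 5512 (.node 5508 (.node 5506 (.node 5505 (.leaf 0x0)
(.leaf 0x0))
(.node 5507 (.leaf 0x0)
(.leaf 0x0)))
(.node 5510 (.node 5509 (.leaf 0x0)
(.leaf 0x0))
(.node 5511 (.leaf 0x0)
(.leaf 0x0))))
(.node 5516 (.node 5514 (.node 5513 (.leaf 0x0)
(.leaf 0x0))
(.node 5515 (.leaf 0x0)
(.leaf 0x0)))
(.node 5518 (.node 5517 (.leaf 0x0)
(.leaf 0x0))
(.node 5519 (.leaf 0x0)
(.leaf 0x0)))))
(.node 5528 (.node 5524 (.node 5522 (.node 5521 (.leaf 0x0)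
(.leaf 0x0))
(.node 5523 (.leaf 0x0)
(.leaf 0x0)))
(.node 5526 (.node 5525 (.leaf 0x0)
(.leaf 0x0))
(.node 5527 (.leaf 0x0)
(.leaf 0x0))))
(.node 5532 (.node 5530 (.node 5529 (.leaf 0x0)
(.leaf 0x0))
(.node 5531 (.leaf 0x0)
(.leaf 0x0)))
(.node 5534 (.node 5533 (.leaf 0x0)
(.leaf 0x0))
(.node 5535 (.leaf 0x0)
(.leaf 0x0))))))
(.node 5552 (.node 5544 (.node 5540 (.node 5538 (.node 5537 (.leaf 0x0)
(.leaf 0x0))
(.node 5539 (.leaf 0x0)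
(.leaf 0x0)))
(.node 5542 (.node 5541 (.leaf 0x0)
(.leaf 0x0))
(.node 5543 (.leaf 0x0)
(.leaf 0x0))))
(.node 5548 (.node 5546 (.node 5545 (.leaf 0x0)
(.leaf 0x0))
(.node 5547 (.leaf 0x0)
(.leaf 0x0)))
(.node 5550 (.node 5549 (.leaf 0x0)
(.leaf 0x0))
(.node 5551 (.leaf 0x0)
(.leaf 0x0)))))
(.node 5560 (.node 5556 (.node 5554 (.node 5553 (.leaf 0x0)
(.leaf 0x0))
(.node 5555 (.leaf 0x0)
(.leaf 0x0)))
(.node 5558 (.node 5557 (.leaf 0x0)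
(.leaf 0x0))
(.node 5559 (.leaf 0x0)
(.leaf 0x0))))
(.node 5564 (.node 5562 (.node 5561 (.leaf 0x0)
(.leaf 0x0))
(.node 5563 (.leaf 0x0)
(.leaf 0x0)))
(.node 5566 (.node 5565 (.leaf 0x0)
(.leaf 0x0))
(.node 5567 (.leaf 0x0)
(.leaf 0x0)))))))
(.node 5600 (.node 5584 (.node 5576 (.node 5572 (.node 5570 (.node 5569 (.leaf 0x0)
(.leaf 0x0))
(.node 5571 (.leaf 0x0)
(.leaf 0x0)))
(.node 5574 (.node 5573 (.leaf 0x0)
(.leaf 0x0))
(.node 5575 (.leaf 0x0)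
(.leaf 0x0))))
(.node 5580 (.node 5578 (.node 5577 (.leaf 0x0)
(.leaf 0x0))
(.node 5579 (.leaf 0x0)
(.leaf 0x0)))
(.node 5582 (.node 5581 (.leaf 0x0)
(.leaf 0x0))
(.node 5583 (.leaf 0x0)
(.leaf 0x0)))))
(.node 5592 (.node 5588 (.node 5586 (.node 5585 (.leaf 0x0)
(.leaf 0x0))
(.node 5587 (.leaf 0x0)
(.leaf 0x0)))
(.node 5590 (.node 5589 (.leaf 0x0)
(.leaf 0x0))
(.node 5591 (.leaf 0x0)
(.leaf 0x0))))
(.node 5596 (.node 5594 (.node 5593 (.leaf 0x0)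
(.leaf 0x0))
(.node 5595 (.leaf 0x0)
(.leaf 0x0)))
(.node 5598 (.node 5597 (.leaf 0x0)
(.leaf 0x0))
(.node 5599 (.leaf 0x0)
(.leaf 0x0))))))
(.node 5616 (.node 5608 (.node 5604 (.node 5602 (.node 5601 (.leaf 0x0)
(.leaf 0x0))
(.node 5603 (.leaf 0x0)
(.leaf 0x0)))
(.node 5606 (.node 5605 (.leaf 0x0)
(.leaf 0x0))
(.node 5607 (.leaf 0x0)
(.leaf 0x0))))
(.node 5612 (.node 5610 (.node 5609 (.leaf 0x0)
(.leaf 0x0))
(.node 5611 (.leaf 0x0)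
(.leaf 0x0)))
(.node 5614 (.node 5613 (.leaf 0x0)
(.leaf 0x0))
(.node 5615 (.leaf 0x0)
(.leaf 0x0)))))
(.node 5624 (.node 5620 (.node 5618 (.node 5617 (.leaf 0x0)
(.leaf 0x0))
(.node 5619 (.leaf 0x0)
(.leaf 0x0)))
(.node 5622 (.node 5621 (.leaf 0x0)
(.leaf 0x0))
(.node 5623 (.leaf 0x0)
(.leaf 0x0))))
(.node 5628 (.node 5626 (.node 5625 (.leaf 0x0)
(.leaf 0x0))
(.node 5627 (.leaf 0x0)
(.leaf 0x0)))
(.node 5630 (.node 5629 (.leaf 0x0)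
(.leaf 0x0))
(.node 5631 (.leaf 0x0)
(.leaf 0x0)))))))))

/-- part of the trie -/
def labPart22 : Tr :=
(.node 5760 (.node 5696 (.node 5664 (.node 5648 (.node 5640 (.node 5636 (.node 5634 (.node 5633 (.leaf 0x0)
(.leaf 0x0))
(.node 5635 (.leaf 0x0)
(.leaf 0x0)))
(.node 5638 (.node 5637 (.leaf 0x0)
(.leaf 0x0))
(.node 5639 (.leaf 0x0)
(.leaf 0x0))))
(.node 5644 (.node 5642 (.node 5641 (.leaf 0x0)
(.leaf 0x0))
(.node 5643 (.leaf 0x0)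
(.leaf 0x0)))
(.node 5646 (.node 5645 (.leaf 0x0)
(.leaf 0x0))
(.node 5647 (.leaf 0x0)
(.leaf 0x0)))))
(.node 5656 (.node 5652 (.node 5650 (.node 5649 (.leaf 0x0)
(.leaf 0x0))
(.node 5651 (.leaf 0x0)
(.leaf 0x0)))
(.node 5654 (.node 5653 (.leaf 0x0)
(.leaf 0x0))
(.node 5655 (.leaf 0x0)
(.leaf 0x0))))
(.node 5660 (.node 5658 (.node 5657 (.leaf 0x0)
(.leaf 0x0))
(.node 5659 (.leaf 0x0)
(.leaf 0x0)))
(.node 5662 (.node 5661 (.leaf 0x0)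
(.leaf 0x0))
(.node 5663 (.leaf 0x0)
(.leaf 0x0))))))
(.node 5680 (.node 5672 (.node 5668 (.node 5666 (.node 5665 (.leaf 0x0)
(.leaf 0x0))
(.node 5667 (.leaf 0x0)
(.leaf 0x0)))
(.node 5670 (.node 5669 (.leaf 0x0)
(.leaf 0x0))
(.node 5671 (.leaf 0x0)
(.leaf 0x0))))
(.node 5676 (.node 5674 (.node 5673 (.leaf 0x0)
(.leaf 0x0))
(.node 5675 (.leaf 0x0)
(.leaf 0x0)))
(.node 5678 (.node 5677 (.leaf 0x0)
(.leaf 0x0))
(.node 5679 (.leaf 0x0)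
(.leaf 0x0)))))
(.node 5688 (.node 5684 (.node 5682 (.node 5681 (.leaf 0x0)
(.leaf 0x0))
(.node 5683 (.leaf 0x0)
(.leaf 0x0)))
(.node 5686 (.node 5685 (.leaf 0x0)
(.leaf 0x0))
(.node 5687 (.leaf 0x0)
(.leaf 0x0))))
(.node 5692 (.node 5690 (.node 5689 (.leaf 0x0)
(.leaf 0x0))
(.node 5691 (.leaf 0x0)
(.leaf 0x0)))
(.node 5694 (.node 5693 (.leaf 0x0)
(.leaf 0x0))
(.node 5695 (.leaf 0x0)
(.leaf 0x0)))))))
(.node 5728 (.node 5712 (.node 5704 (.node 5700 (.node 5698 (.node 5697 (.leaf 0x0)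
(.leaf 0x0))
(.node 5699 (.leaf 0x0)
(.leaf 0x0)))
(.node 5702 (.node 5701 (.leaf 0x0)
(.leaf 0x0))
(.node 5703 (.leaf 0x0)
(.leaf 0x0))))
(.node 5708 (.node 5706 (.node 5705 (.leaf 0x0)
(.leaf 0x0))
(.node 5707 (.leaf 0x0)
(.leaf 0x0)))
(.node 5710 (.node 5709 (.leaf 0x0)
(.leaf 0x0))
(.node 5711 (.leaf 0x0)
(.leaf 0x0)))))
(.node 5720 (.node 5716 (.node 5714 (.node 5713 (.leaf 0x0)
(.leaf 0x0))
(.node 5715 (.leaf 0x0)
(.leaf 0x0)))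
(.node 5718 (.node 5717 (.leaf 0x0)
(.leaf 0x0))
(.node 5719 (.leaf 0x0)
(.leaf 0x0))))
(.node 5724 (.node 5722 (.node 5721 (.leaf 0x0)
(.leaf 0x0))
(.node 5723 (.leaf 0x0)
(.leaf 0x0)))
(.node 5726 (.node 5725 (.leaf 0x0)
(.leaf 0x0))
(.node 5727 (.leaf 0x0)
(.leaf 0x0))))))
(.node 5744 (.node 5736 (.node 5732 (.node 5730 (.node 5729 (.leaf 0x0)
(.leaf 0x0))
(.node 5731 (.leaf 0x0)
(.leaf 0x0)))
(.node 5734 (.node 5733 (.leaf 0x0)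
(.leaf 0x0))
(.node 5735 (.leaf 0x0)
(.leaf 0x0))))
(.node 5740 (.node 5738 (.node 5737 (.leaf 0x0)
(.leaf 0x0))
(.node 5739 (.leaf 0x0)
(.leaf 0x0)))
(.node 5742 (.node 5741 (.leaf 0x0)
(.leaf 0x0))
(.node 5743 (.leaf 0x0)
(.leaf 0x0)))))
(.node 5752 (.node 5748 (.node 5746 (.node 5745 (.leaf 0x0)
(.leaf 0x0))
(.node 5747 (.leaf 0x0)
(.leaf 0x0)))
(.node 5750 (.node 5749 (.leaf 0x0)
(.leaf 0x0))
(.node 5751 (.leaf 0x0)
(.leaf 0x0))))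
(.node 5756 (.node 5754 (.node 5753 (.leaf 0x0)
(.leaf 0x0))
(.node 5755 (.leaf 0x0)
(.leaf 0x0)))
(.node 5758 (.node 5757 (.leaf 0x0)
(.leaf 0x0))
(.node 5759 (.leaf 0x0)
(.leaf 0x0))))))))
(.node 5824 (.node 5792 (.node 5776 (.node 5768 (.node 5764 (.node 5762 (.node 5761 (.leaf 0x0)
(.leaf 0x0))
(.node 5763 (.leaf 0x0)
(.leaf 0x0)))
(.node 5766 (.node 5765 (.leaf 0x0)
(.leaf 0x0))
(.node 5767 (.leaf 0x0)
(.leaf 0x0))))
(.node 5772 (.node 5770 (.node 5769 (.leaf 0x0)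
(.leaf 0x0))
(.node 5771 (.leaf 0x0)
(.leaf 0x0)))
(.node 5774 (.node 5773 (.leaf 0x0)
(.leaf 0x0))
(.node 5775 (.leaf 0x0)
(.leaf 0x0)))))
(.node 5784 (.node 5780 (.node 5778 (.node 5777 (.leaf 0x0)
(.leaf 0x0))
(.node 5779 (.leaf 0x0)
(.leaf 0x0)))
(.node 5782 (.node 5781 (.leaf 0x0)
(.leaf 0x0))
(.node 5783 (.leaf 0x0)
(.leaf 0x0))))
(.node 5788 (.node 5786 (.node 5785 (.leaf 0x0)
(.leaf 0x0))
(.node 5787 (.leaf 0x0)
(.leaf 0x0)))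
(.node 5790 (.node 5789 (.leaf 0x0)
(.leaf 0x0))
(.node 5791 (.leaf 0x0)
(.leaf 0x0))))))
(.node 5808 (.node 5800 (.node 5796 (.node 5794 (.node 5793 (.leaf 0x0)
(.leaf 0x0))
(.node 5795 (.leaf 0x0)
(.leaf 0x0)))
(.node 5798 (.node 5797 (.leaf 0x0)
(.leaf 0x0))
(.node 5799 (.leaf 0x0)
(.leaf 0x0))))
(.node 5804 (.node 5802 (.node 5801 (.leaf 0x0)
(.leaf 0x0))
(.node 5803 (.leaf 0x0)
(.leaf 0x0)))
(.node 5806 (.node 5805 (.leaf 0x0)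
(.leaf 0x0))
(.node 5807 (.leaf 0x0)
(.leaf 0x0)))))
(.node 5816 (.node 5812 (.node 5810 (.node 5809 (.leaf 0x0)
(.leaf 0x0))
(.node 5811 (.leaf 0x0)
(.leaf 0x0)))
(.node 5814 (.node 5813 (.leaf 0x0)
(.leaf 0x0))
(.node 5815 (.leaf 0x0)
(.leaf 0x0))))
(.node 5820 (.node 5818 (.node 5817 (.leaf 0x0)
(.leaf 0x0))
(.node 5819 (.leaf 0x0)
(.leaf 0x0)))
(.node 5822 (.node 5821 (.leaf 0x0)
(.leaf 0x0))
(.node 5823 (.leaf 0x0)
(.leaf 0x0)))))))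
(.node 5856 (.node 5840 (.node 5832 (.node 5828 (.node 5826 (.node 5825 (.leaf 0x0)
(.leaf 0x0))
(.node 5827 (.leaf 0x0)
(.leaf 0x0)))
(.node 5830 (.node 5829 (.leaf 0x0)
(.leaf 0x0))
(.node 5831 (.leaf 0x0)
(.leaf 0x0))))
(.node 5836 (.node 5834 (.node 5833 (.leaf 0x0)
(.leaf 0x0))
(.node 5835 (.leaf 0x0)
(.leaf 0x0)))
(.node 5838 (.node 5837 (.leaf 0x0)
(.leaf 0x0))
(.node 5839 (.leaf 0x0)
(.leaf 0x0)))))
(.node 5848 (.node 5844 (.node 5842 (.node 5841 (.leaf 0x0)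
(.leaf 0x0))
(.node 5843 (.leaf 0x0)
(.leaf 0x0)))
(.node 5846 (.node 5845 (.leaf 0x0)
(.leaf 0x0))
(.node 5847 (.leaf 0x0)
(.leaf 0x0))))
(.node 5852 (.node 5850 (.node 5849 (.leaf 0x0)
(.leaf 0x0))
(.node 5851 (.leaf 0x0)
(.leaf 0x0)))
(.node 5854 (.node 5853 (.leaf 0x0)
(.leaf 0x0))
(.node 5855 (.leaf 0x0)
(.leaf 0x0))))))
(.node 5872 (.node 5864 (.node 5860 (.node 5858 (.node 5857 (.leaf 0x0)
(.leaf 0x0))
(.node 5859 (.leaf 0x0)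
(.leaf 0x0)))
(.node 5862 (.node 5861 (.leaf 0x0)
(.leaf 0x0))
(.node 5863 (.leaf 0x0)
(.leaf 0x0))))
(.node 5868 (.node 5866 (.node 5865 (.leaf 0x0)
(.leaf 0x0))
(.node 5867 (.leaf 0x0)
(.leaf 0x0)))
(.node 5870 (.node 5869 (.leaf 0x0)
(.leaf 0x0))
(.node 5871 (.leaf 0x0)
(.leaf 0x0)))))
(.node 5880 (.node 5876 (.node 5874 (.node 5873 (.leaf 0x0)
(.leaf 0x0))
(.node 5875 (.leaf 0x0)
(.leaf 0x0)))
(.node 5878 (.node 5877 (.leaf 0x0)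
(.leaf 0x0))
(.node 5879 (.leaf 0x0)
(.leaf 0x0))))
(.node 5884 (.node 5882 (.node 5881 (.leaf 0x0)
(.leaf 0x0))
(.node 5883 (.leaf 0x0)
(.leaf 0x0)))
(.node 5886 (.node 5885 (.leaf 0x0)
(.leaf 0x0))
(.node 5887 (.leaf 0x0)
(.leaf 0x0)))))))))

/-- part of the trie -/
def labPart23 : Tr :=
(.node 6016 (.node 5952 (.node 5920 (.node 5904 (.node 5896 (.node 5892 (.node 5890 (.node 5889 (.leaf 0x0)
(.leaf 0x0))
(.node 5891 (.leaf 0x0)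
(.leaf 0x0)))
(.node 5894 (.node 5893 (.leaf 0x0)
(.leaf 0x0))
(.node 5895 (.leaf 0x0)
(.leaf 0x0))))
(.node 5900 (.node 5898 (.node 5897 (.leaf 0x0)
(.leaf 0x0))
(.node 5899 (.leaf 0x0)
(.leaf 0x0)))
(.node 5902 (.node 5901 (.leaf 0x0)
(.leaf 0x0))
(.node 5903 (.leaf 0x0)
(.leaf 0x0)))))
(.node 5912 (.node 5908 (.node 5906 (.node 5905 (.leaf 0x0)
(.leaf 0x0))
(.node 5907 (.leaf 0x0)
(.leaf 0x0)))
(.node 5910 (.node 5909 (.leaf 0x0)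
(.leaf 0x0))
(.node 5911 (.leaf 0x0)
(.leaf 0x0))))
(.node 5916 (.node 5914 (.node 5913 (.leaf 0x0)
(.leaf 0x0))
(.node 5915 (.leaf 0x0)
(.leaf 0x0)))
(.node 5918 (.node 5917 (.leaf 0x0)
(.leaf 0x0))
(.node 5919 (.leaf 0x0)
(.leaf 0x0))))))
(.node 5936 (.node 5928 (.node 5924 (.node 5922 (.node 5921 (.leaf 0x0)
(.leaf 0x0))
(.node 5923 (.leaf 0x0)
(.leaf 0x0)))
(.node 5926 (.node 5925 (.leaf 0x0)
(.leaf 0x0))
(.node 5927 (.leaf 0x0)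
(.leaf 0x0))))
(.node 5932 (.node 5930 (.node 5929 (.leaf 0x0)
(.leaf 0x0))
(.node 5931 (.leaf 0x0)
(.leaf 0x0)))
(.node 5934 (.node 5933 (.leaf 0x0)
(.leaf 0x0))
(.node 5935 (.leaf 0x0)
(.leaf 0x0)))))
(.node 5944 (.node 5940 (.node 5938 (.node 5937 (.leaf 0x0)
(.leaf 0x0))
(.node 5939 (.leaf 0x0)
(.leaf 0x0)))
(.node 5942 (.node 5941 (.leaf 0x0)
(.leaf 0x0))
(.node 5943 (.leaf 0x0)
(.leaf 0x0))))
(.node 5948 (.node 5946 (.node 5945 (.leaf 0x0)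
(.leaf 0x0))
(.node 5947 (.leaf 0x0)
(.leaf 0x0)))
(.node 5950 (.node 5949 (.leaf 0x0)
(.leaf 0x0))
(.node 5951 (.leaf 0x0)
(.leaf 0x0)))))))
(.node 5984 (.node 5968 (.node 5960 (.node 5956 (.node 5954 (.node 5953 (.leaf 0x0)
(.leaf 0x0))
(.node 5955 (.leaf 0x0)
(.leaf 0x0)))
(.node 5958 (.node 5957 (.leaf 0x0)
(.leaf 0x0))
(.node 5959 (.leaf 0x0)
(.leaf 0x0))))
(.node 5964 (.node 5962 (.node 5961 (.leaf 0x0)
(.leaf 0x0))
(.node 5963 (.leaf 0x0)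
(.leaf 0x0)))
(.node 5966 (.node 5965 (.leaf 0x0)
(.leaf 0x0))
(.node 5967 (.leaf 0x0)
(.leaf 0x0)))))
(.node 5976 (.node 5972 (.node 5970 (.node 5969 (.leaf 0x0)
(.leaf 0x0))
(.node 5971 (.leaf 0x0)
(.leaf 0x0)))
(.node 5974 (.node 5973 (.leaf 0x0)
(.leaf 0x0))
(.node 5975 (.leaf 0x0)
(.leaf 0x0))))
(.node 5980 (.node 5978 (.node 5977 (.leaf 0x0)
(.leaf 0x0))
(.node 5979 (.leaf 0x0)
(.leaf 0x0)))
(.node 5982 (.node 5981 (.leaf 0x0)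
(.leaf 0x0))
(.node 5983 (.leaf 0x0)
(.leaf 0x0))))))
(.node 6000 (.node 5992 (.node 5988 (.node 5986 (.node 5985 (.leaf 0x0)
(.leaf 0x0))
(.node 5987 (.leaf 0x0)
(.leaf 0x0)))
(.node 5990 (.node 5989 (.leaf 0x0)
(.leaf 0x0))
(.node 5991 (.leaf 0x0)
(.leaf 0x0))))
(.node 5996 (.node 5994 (.node 5993 (.leaf 0x0)
(.leaf 0x0))
(.node 5995 (.leaf 0x0)
(.leaf 0x0)))
(.node 5998 (.node 5997 (.leaf 0x0)
(.leaf 0x0))
(.node 5999 (.leaf 0x0)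
(.leaf 0x0)))))
(.node 6008 (.node 6004 (.node 6002 (.node 6001 (.leaf 0x0)
(.leaf 0x0))
(.node 6003 (.leaf 0x0)
(.leaf 0x0)))
(.node 6006 (.node 6005 (.leaf 0x0)
(.leaf 0x0))
(.node 6007 (.leaf 0x0)
(.leaf 0x0))))
(.node 6012 (.node 6010 (.node 6009 (.leaf 0x0)
(.leaf 0x0))
(.node 6011 (.leaf 0x0)
(.leaf 0x0)))
(.node 6014 (.node 6013 (.leaf 0x0)
(.leaf 0x0))
(.node 6015 (.leaf 0x0)
(.leaf 0x0))))))))
(.node 6080 (.node 6048 (.node 6032 (.node 6024 (.node 6020 (.node 6018 (.node 6017 (.leaf 0x0)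
(.leaf 0x0))
(.node 6019 (.leaf 0x0)
(.leaf 0x0)))
(.node 6022 (.node 6021 (.leaf 0x0)
(.leaf 0x0))
(.node 6023 (.leaf 0x0)
(.leaf 0x0))))
(.node 6028 (.node 6026 (.node 6025 (.leaf 0x0)
(.leaf 0x0))
(.node 6027 (.leaf 0x0)
(.leaf 0x0)))
(.node 6030 (.node 6029 (.leaf 0x0)
(.leaf 0x0))
(.node 6031 (.leaf 0x0)
(.leaf 0x0)))))
(.node 6040 (.node 6036 (.node 6034 (.node 6033 (.leaf 0x0)
(.leaf 0x0))
(.node 6035 (.leaf 0x0)
(.leaf 0x0)))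
(.node 6038 (.node 6037 (.leaf 0x0)
(.leaf 0x0))
(.node 6039 (.leaf 0x0)
(.leaf 0x0))))
(.node 6044 (.node 6042 (.node 6041 (.leaf 0x0)
(.leaf 0x0))
(.node 6043 (.leaf 0x0)
(.leaf 0x0)))
(.node 6046 (.node 6045 (.leaf 0x0)
(.leaf 0x0))
(.node 6047 (.leaf 0x0)
(.leaf 0x0))))))
(.node 6064 (.node 6056 (.node 6052 (.node 6050 (.node 6049 (.leaf 0x0)
(.leaf 0x0))
(.node 6051 (.leaf 0x0)
(.leaf 0x0)))
(.node 6054 (.node 6053 (.leaf 0x0)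
(.leaf 0x0))
(.node 6055 (.leaf 0x0)
(.leaf 0x0))))
(.node 6060 (.node 6058 (.node 6057 (.leaf 0x0)
(.leaf 0x0))
(.node 6059 (.leaf 0x0)
(.leaf 0x0)))
(.node 6062 (.node 6061 (.leaf 0x0)
(.leaf 0x0))
(.node 6063 (.leaf 0x0)
(.leaf 0x0)))))
(.node 6072 (.node 6068 (.node 6066 (.node 6065 (.leaf 0x0)
(.leaf 0x0))
(.node 6067 (.leaf 0x0)
(.leaf 0x0)))
(.node 6070 (.node 6069 (.leaf 0x0)
(.leaf 0x0))
(.node 6071 (.leaf 0x0)
(.leaf 0x0))))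
(.node 6076 (.node 6074 (.node 6073 (.leaf 0x0)
(.leaf 0x0))
(.node 6075 (.leaf 0x0)
(.leaf 0x0)))
(.node 6078 (.node 6077 (.leaf 0x0)
(.leaf 0x0))
(.node 6079 (.leaf 0x0)
(.leaf 0x0)))))))
(.node 6112 (.node 6096 (.node 6088 (.node 6084 (.node 6082 (.node 6081 (.leaf 0x0)
(.leaf 0x0))
(.node 6083 (.leaf 0x0)
(.leaf 0x0)))
(.node 6086 (.node 6085 (.leaf 0x0)
(.leaf 0x0))
(.node 6087 (.leaf 0x0)
(.leaf 0x0))))
(.node 6092 (.node 6090 (.node 6089 (.leaf 0x0)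
(.leaf 0x0))
(.node 6091 (.leaf 0x0)
(.leaf 0x0)))
(.node 6094 (.node 6093 (.leaf 0x0)
(.leaf 0x0))
(.node 6095 (.leaf 0x0)
(.leaf 0x0)))))
(.node 6104 (.node 6100 (.node 6098 (.node 6097 (.leaf 0x0)
(.leaf 0x0))
(.node 6099 (.leaf 0x0)
(.leaf 0x0)))
(.node 6102 (.node 6101 (.leaf 0x0)
(.leaf 0x0))
(.node 6103 (.leaf 0x0)
(.leaf 0x0))))
(.node 6108 (.node 6106 (.node 6105 (.leaf 0x0)
(.leaf 0x0))
(.node 6107 (.leaf 0x0)
(.leaf 0x0)))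
(.node 6110 (.node 6109 (.leaf 0x0)
(.leaf 0x0))
(.node 6111 (.leaf 0x0)
(.leaf 0x0))))))
(.node 6128 (.node 6120 (.node 6116 (.node 6114 (.node 6113 (.leaf 0x0)
(.leaf 0x0))
(.node 6115 (.leaf 0x0)
(.leaf 0x0)))
(.node 6118 (.node 6117 (.leaf 0x0)
(.leaf 0x0))
(.node 6119 (.leaf 0x0)
(.leaf 0x0))))
(.node 6124 (.node 6122 (.node 6121 (.leaf 0x0)
(.leaf 0x0))
(.node 6123 (.leaf 0x0)
(.leaf 0x0)))
(.node 6126 (.node 6125 (.leaf 0x0)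
(.leaf 0x0))
(.node 6127 (.leaf 0x0)
(.leaf 0x0)))))
(.node 6136 (.node 6132 (.node 6130 (.node 6129 (.leaf 0x0)
(.leaf 0x0))
(.node 6131 (.leaf 0x0)
(.leaf 0x0)))
(.node 6134 (.node 6133 (.leaf 0x0)
(.leaf 0x0))
(.node 6135 (.leaf 0x0)
(.leaf 0x0))))
(.node 6140 (.node 6138 (.node 6137 (.leaf 0x0)
(.leaf 0x0))
(.node 6139 (.leaf 0x0)
(.leaf 0x0)))
(.node 6142 (.node 6141 (.leaf 0x0)
(.leaf 0x0))
(.node 6143 (.leaf 0x0)
(.leaf 0x0)))))))))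

/-- part of the trie -/
def labPart24 : Tr :=
(.node 6272 (.node 6208 (.node 6176 (.node 6160 (.node 6152 (.node 6148 (.node 6146 (.node 6145 (.leaf 0x0)
(.leaf 0x0))
(.node 6147 (.leaf 0x0)
(.leaf 0x0)))
(.node 6150 (.node 6149 (.leaf 0x0)
(.leaf 0x0))
(.node 6151 (.leaf 0x0)
(.leaf 0x0))))
(.node 6156 (.node 6154 (.node 6153 (.leaf 0x0)
(.leaf 0x0))
(.node 6155 (.leaf 0x0)
(.leaf 0x0)))
(.node 6158 (.node 6157 (.leaf 0x0)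
(.leaf 0x0))
(.node 6159 (.leaf 0x0)
(.leaf 0x0)))))
(.node 6168 (.node 6164 (.node 6162 (.node 6161 (.leaf 0x0)
(.leaf 0x0))
(.node 6163 (.leaf 0x0)
(.leaf 0x0)))
(.node 6166 (.node 6165 (.leaf 0x0)
(.leaf 0x0))
(.node 6167 (.leaf 0x0)
(.leaf 0x0))))
(.node 6172 (.node 6170 (.node 6169 (.leaf 0x0)
(.leaf 0x0))
(.node 6171 (.leaf 0x0)
(.leaf 0x0)))
(.node 6174 (.node 6173 (.leaf 0x0)
(.leaf 0x0))
(.node 6175 (.leaf 0x0)
(.leaf 0x0))))))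
(.node 6192 (.node 6184 (.node 6180 (.node 6178 (.node 6177 (.leaf 0x0)
(.leaf 0x0))
(.node 6179 (.leaf 0x0)
(.leaf 0x0)))
(.node 6182 (.node 6181 (.leaf 0x0)
(.leaf 0x0))
(.node 6183 (.leaf 0x0)
(.leaf 0x0))))
(.node 6188 (.node 6186 (.node 6185 (.leaf 0x0)
(.leaf 0x0))
(.node 6187 (.leaf 0x0)
(.leaf 0x0)))
(.node 6190 (.node 6189 (.leaf 0x0)
(.leaf 0x0))
(.node 6191 (.leaf 0x0)
(.leaf 0x0)))))
(.node 6200 (.node 6196 (.node 6194 (.node 6193 (.leaf 0x0)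
(.leaf 0x0))
(.node 6195 (.leaf 0x0)
(.leaf 0x0)))
(.node 6198 (.node 6197 (.leaf 0x0)
(.leaf 0x0))
(.node 6199 (.leaf 0x0)
(.leaf 0x0))))
(.node 6204 (.node 6202 (.node 6201 (.leaf 0x0)
(.leaf 0x0))
(.node 6203 (.leaf 0x0)
(.leaf 0x0)))
(.node 6206 (.node 6205 (.leaf 0x0)
(.leaf 0x0))
(.node 6207 (.leaf 0x0)
(.leaf 0x0)))))))
(.node 6240 (.node 6224 (.node 6216 (.node 6212 (.node 6210 (.node 6209 (.leaf 0x0)
(.leaf 0x0))
(.node 6211 (.leaf 0x0)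
(.leaf 0x0)))
(.node 6214 (.node 6213 (.leaf 0x0)
(.leaf 0x0))
(.node 6215 (.leaf 0x0)
(.leaf 0x0))))
(.node 6220 (.node 6218 (.node 6217 (.leaf 0x0)
(.leaf 0x0))
(.node 6219 (.leaf 0x0)
(.leaf 0x0)))
(.node 6222 (.node 6221 (.leaf 0x0)
(.leaf 0x0))
(.node 6223 (.leaf 0x0)
(.leaf 0x0)))))
(.node 6232 (.node 6228 (.node 6226 (.node 6225 (.leaf 0x0)
(.leaf 0x0))
(.node 6227 (.leaf 0x0)
(.leaf 0x0)))
(.node 6230 (.node 6229 (.leaf 0x0)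
(.leaf 0x0))
(.node 6231 (.leaf 0x0)
(.leaf 0x0))))
(.node 6236 (.node 6234 (.node 6233 (.leaf 0x0)
(.leaf 0x0))
(.node 6235 (.leaf 0x0)
(.leaf 0x0)))
(.node 6238 (.node 6237 (.leaf 0x0)
(.leaf 0x0))
(.node 6239 (.leaf 0x0)
(.leaf 0x0))))))
(.node 6256 (.node 6248 (.node 6244 (.node 6242 (.node 6241 (.leaf 0x0)
(.leaf 0x0))
(.node 6243 (.leaf 0x0)
(.leaf 0x0)))
(.node 6246 (.node 6245 (.leaf 0x0)
(.leaf 0x0))
(.node 6247 (.leaf 0x0)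
(.leaf 0x0))))
(.node 6252 (.node 6250 (.node 6249 (.leaf 0x0)
(.leaf 0x0))
(.node 6251 (.leaf 0x0)
(.leaf 0x0)))
(.node 6254 (.node 6253 (.leaf 0x0)
(.leaf 0x0))
(.node 6255 (.leaf 0x0)
(.leaf 0x0)))))
(.node 6264 (.node 6260 (.node 6258 (.node 6257 (.leaf 0x0)
(.leaf 0x0))
(.node 6259 (.leaf 0x0)
(.leaf 0x0)))
(.node 6262 (.node 6261 (.leaf 0x0)
(.leaf 0x0))
(.node 6263 (.leaf 0x0)
(.leaf 0x0))))
(.node 6268 (.node 6266 (.node 6265 (.leaf 0x0)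
(.leaf 0x0))
(.node 6267 (.leaf 0x0)
(.leaf 0x0)))
(.node 6270 (.node 6269 (.leaf 0x0)
(.leaf 0x0))
(.node 6271 (.leaf 0x0)
(.leaf 0x0))))))))
(.node 6336 (.node 6304 (.node 6288 (.node 6280 (.node 6276 (.node 6274 (.node 6273 (.leaf 0x0)
(.leaf 0x0))
(.node 6275 (.leaf 0x0)
(.leaf 0x0)))
(.node 6278 (.node 6277 (.leaf 0x0)
(.leaf 0x0))
(.node 6279 (.leaf 0x0)
(.leaf 0x0))))
(.node 6284 (.node 6282 (.node 6281 (.leaf 0x0)
(.leaf 0x0))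
(.node 6283 (.leaf 0x0)
(.leaf 0x0)))
(.node 6286 (.node 6285 (.leaf 0x0)
(.leaf 0x0))
(.node 6287 (.leaf 0x0)
(.leaf 0x0)))))
(.node 6296 (.node 6292 (.node 6290 (.node 6289 (.leaf 0x0)
(.leaf 0x0))
(.node 6291 (.leaf 0x0)
(.leaf 0x0)))
(.node 6294 (.node 6293 (.leaf 0x0)
(.leaf 0x0))
(.node 6295 (.leaf 0x0)
(.leaf 0x0))))
(.node 6300 (.node 6298 (.node 6297 (.leaf 0x0)
(.leaf 0x0))
(.node 6299 (.leaf 0x0)
(.leaf 0x0)))
(.node 6302 (.node 6301 (.leaf 0x0)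
(.leaf 0x0))
(.node 6303 (.leaf 0x0)
(.leaf 0x0))))))
(.node 6320 (.node 6312 (.node 6308 (.node 6306 (.node 6305 (.leaf 0x0)
(.leaf 0x0))
(.node 6307 (.leaf 0x0)
(.leaf 0x0)))
(.node 6310 (.node 6309 (.leaf 0x0)
(.leaf 0x0))
(.node 6311 (.leaf 0x0)
(.leaf 0x0))))
(.node 6316 (.node 6314 (.node 6313 (.leaf 0x0)
(.leaf 0x0))
(.node 6315 (.leaf 0x0)
(.leaf 0x0)))
(.node 6318 (.node 6317 (.leaf 0x0)
(.leaf 0x0))
(.node 6319 (.leaf 0x0)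
(.leaf 0x0)))))
(.node 6328 (.node 6324 (.node 6322 (.node 6321 (.leaf 0x0)
(.leaf 0x0))
(.node 6323 (.leaf 0x0)
(.leaf 0x0)))
(.node 6326 (.node 6325 (.leaf 0x0)
(.leaf 0x0))
(.node 6327 (.leaf 0x0)
(.leaf 0x0))))
(.node 6332 (.node 6330 (.node 6329 (.leaf 0x0)
(.leaf 0x0))
(.node 6331 (.leaf 0x0)
(.leaf 0x0)))
(.node 6334 (.node 6333 (.leaf 0x0)
(.leaf 0x0))
(.node 6335 (.leaf 0x0)
(.leaf 0x0)))))))
(.node 6368 (.node 6352 (.node 6344 (.node 6340 (.node 6338 (.node 6337 (.leaf 0x0)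
(.leaf 0x0))
(.node 6339 (.leaf 0x0)
(.leaf 0x0)))
(.node 6342 (.node 6341 (.leaf 0x0)
(.leaf 0x0))
(.node 6343 (.leaf 0x0)
(.leaf 0x0))))
(.node 6348 (.node 6346 (.node 6345 (.leaf 0x0)
(.leaf 0x0))
(.node 6347 (.leaf 0x0)
(.leaf 0x0)))
(.node 6350 (.node 6349 (.leaf 0x0)
(.leaf 0x0))
(.node 6351 (.leaf 0x0)
(.leaf 0x0)))))
(.node 6360 (.node 6356 (.node 6354 (.node 6353 (.leaf 0x0)
(.leaf 0x0))
(.node 6355 (.leaf 0x0)
(.leaf 0x0)))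
(.node 6358 (.node 6357 (.leaf 0x0)
(.leaf 0x0))
(.node 6359 (.leaf 0x0)
(.leaf 0x0))))
(.node 6364 (.node 6362 (.node 6361 (.leaf 0x0)
(.leaf 0x0))
(.node 6363 (.leaf 0x0)
(.leaf 0x0)))
(.node 6366 (.node 6365 (.leaf 0x0)
(.leaf 0x0))
(.node 6367 (.leaf 0x0)
(.leaf 0x0))))))
(.node 6384 (.node 6376 (.node 6372 (.node 6370 (.node 6369 (.leaf 0x0)
(.leaf 0x0))
(.node 6371 (.leaf 0x0)
(.leaf 0x0)))
(.node 6374 (.node 6373 (.leaf 0x0)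
(.leaf 0x0))
(.node 6375 (.leaf 0x0)
(.leaf 0x0))))
(.node 6380 (.node 6378 (.node 6377 (.leaf 0x0)
(.leaf 0x0))
(.node 6379 (.leaf 0x0)
(.leaf 0x0)))
(.node 6382 (.node 6381 (.leaf 0x0)
(.leaf 0x0))
(.node 6383 (.leaf 0x0)
(.leaf 0x0)))))
(.node 6392 (.node 6388 (.node 6386 (.node 6385 (.leaf 0x0)
(.leaf 0x0))
(.node 6387 (.leaf 0x0)
(.leaf 0x0)))
(.node 6390 (.node 6389 (.leaf 0x0)
(.leaf 0x0))
(.node 6391 (.leaf 0x0)
(.leaf 0x0))))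
(.node 6396 (.node 6394 (.node 6393 (.leaf 0x0)
(.leaf 0x0))
(.node 6395 (.leaf 0x0)
(.leaf 0x0)))
(.node 6398 (.node 6397 (.leaf 0x0)
(.leaf 0x0))
(.node 6399 (.leaf 0x0)
(.leaf 0x0)))))))))

/-- part of the trie -/
def labPart25 : Tr :=
(.node 6528 (.node 6464 (.node 6432 (.node 6416 (.node 6408 (.node 6404 (.node 6402 (.node 6401 (.leaf 0x0)
(.leaf 0x0))
(.node 6403 (.leaf 0x0)
(.leaf 0x0)))
(.node 6406 (.node 6405 (.leaf 0x0)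
(.leaf 0x0))
(.node 6407 (.leaf 0x0)
(.leaf 0x0))))
(.node 6412 (.node 6410 (.node 6409 (.leaf 0x0)
(.leaf 0x0))
(.node 6411 (.leaf 0x0)
(.leaf 0x0)))
(.node 6414 (.node 6413 (.leaf 0x0)
(.leaf 0x0))
(.node 6415 (.leaf 0x0)
(.leaf 0x0)))))
(.node 6424 (.node 6420 (.node 6418 (.node 6417 (.leaf 0x0)
(.leaf 0x0))
(.node 6419 (.leaf 0x0)
(.leaf 0x0)))
(.node 6422 (.node 6421 (.leaf 0x0)
(.leaf 0x0))
(.node 6423 (.leaf 0x0)
(.leaf 0x0))))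
(.node 6428 (.node 6426 (.node 6425 (.leaf 0x0)
(.leaf 0x0))
(.node 6427 (.leaf 0x0)
(.leaf 0x0)))
(.node 6430 (.node 6429 (.leaf 0x0)
(.leaf 0x0))
(.node 6431 (.leaf 0x0)
(.leaf 0x0))))))
(.node 6448 (.node 6440 (.node 6436 (.node 6434 (.node 6433 (.leaf 0x0)
(.leaf 0x0))
(.node 6435 (.leaf 0x0)
(.leaf 0x0)))
(.node 6438 (.node 6437 (.leaf 0x0)
(.leaf 0x0))
(.node 6439 (.leaf 0x0)
(.leaf 0x0))))
(.node 6444 (.node 6442 (.node 6441 (.leaf 0x0)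
(.leaf 0x0))
(.node 6443 (.leaf 0x0)
(.leaf 0x0)))
(.node 6446 (.node 6445 (.leaf 0x0)
(.leaf 0x0))
(.node 6447 (.leaf 0x0)
(.leaf 0x0)))))
(.node 6456 (.node 6452 (.node 6450 (.node 6449 (.leaf 0x0)
(.leaf 0x0))
(.node 6451 (.leaf 0x0)
(.leaf 0x0)))
(.node 6454 (.node 6453 (.leaf 0x0)
(.leaf 0x0))
(.node 6455 (.leaf 0x0)
(.leaf 0x0))))
(.node 6460 (.node 6458 (.node 6457 (.leaf 0x0)
(.leaf 0x0))
(.node 6459 (.leaf 0x0)
(.leaf 0x0)))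
(.node 6462 (.node 6461 (.leaf 0x0)
(.leaf 0x0))
(.node 6463 (.leaf 0x0)
(.leaf 0x0)))))))
(.node 6496 (.node 6480 (.node 6472 (.node 6468 (.node 6466 (.node 6465 (.leaf 0x0)
(.leaf 0x0))
(.node 6467 (.leaf 0x0)
(.leaf 0x0)))
(.node 6470 (.node 6469 (.leaf 0x0)
(.leaf 0x0))
(.node 6471 (.leaf 0x0)
(.leaf 0x0))))
(.node 6476 (.node 6474 (.node 6473 (.leaf 0x0)
(.leaf 0x0))
(.node 6475 (.leaf 0x0)
(.leaf 0x0)))
(.node 6478 (.node 6477 (.leaf 0x0)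
(.leaf 0x0))
(.node 6479 (.leaf 0x0)
(.leaf 0x0)))))
(.node 6488 (.node 6484 (.node 6482 (.node 6481 (.leaf 0x0)
(.leaf 0x0))
(.node 6483 (.leaf 0x0)
(.leaf 0x0)))
(.node 6486 (.node 6485 (.leaf 0x0)
(.leaf 0x0))
(.node 6487 (.leaf 0x0)
(.leaf 0x0))))
(.node 6492 (.node 6490 (.node 6489 (.leaf 0x0)
(.leaf 0x0))
(.node 6491 (.leaf 0x0)
(.leaf 0x0)))
(.node 6494 (.node 6493 (.leaf 0x0)
(.leaf 0x0))
(.node 6495 (.leaf 0x0)
(.leaf 0x0))))))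
(.node 6512 (.node 6504 (.node 6500 (.node 6498 (.node 6497 (.leaf 0x0)
(.leaf 0x0))
(.node 6499 (.leaf 0x0)
(.leaf 0x0)))
(.node 6502 (.node 6501 (.leaf 0x0)
(.leaf 0x0))
(.node 6503 (.leaf 0x0)
(.leaf 0x0))))
(.node 6508 (.node 6506 (.node 6505 (.leaf 0x0)
(.leaf 0x0))
(.node 6507 (.leaf 0x0)
(.leaf 0x0)))
(.node 6510 (.node 6509 (.leaf 0x0)
(.leaf 0x0))
(.node 6511 (.leaf 0x0)
(.leaf 0x0)))))
(.node 6520 (.node 6516 (.node 6514 (.node 6513 (.leaf 0x0)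
(.leaf 0x0))
(.node 6515 (.leaf 0x0)
(.leaf 0x0)))
(.node 6518 (.node 6517 (.leaf 0x0)
(.leaf 0x0))
(.node 6519 (.leaf 0x0)
(.leaf 0x0))))
(.node 6524 (.node 6522 (.node 6521 (.leaf 0x0)
(.leaf 0x0))
(.node 6523 (.leaf 0x0)
(.leaf 0x0)))
(.node 6526 (.node 6525 (.leaf 0x0)
(.leaf 0x0))
(.node 6527 (.leaf 0x0)
(.leaf 0x0))))))))
(.node 6592 (.node 6560 (.node 6544 (.node 6536 (.node 6532 (.node 6530 (.node 6529 (.leaf 0x0)
(.leaf 0x0))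
(.node 6531 (.leaf 0x0)
(.leaf 0x0)))
(.node 6534 (.node 6533 (.leaf 0x0)
(.leaf 0x0))
(.node 6535 (.leaf 0x0)
(.leaf 0x0))))
(.node 6540 (.node 6538 (.node 6537 (.leaf 0x0)
(.leaf 0x0))
(.node 6539 (.leaf 0x0)
(.leaf 0x0)))
(.node 6542 (.node 6541 (.leaf 0x0)
(.leaf 0x0))
(.node 6543 (.leaf 0x0)
(.leaf 0x0)))))
(.node 6552 (.node 6548 (.node 6546 (.node 6545 (.leaf 0x0)
(.leaf 0x0))
(.node 6547 (.leaf 0x0)
(.leaf 0x0)))
(.node 6550 (.node 6549 (.leaf 0x0)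
(.leaf 0x0))
(.node 6551 (.leaf 0x0)
(.leaf 0x0))))
(.node 6556 (.node 6554 (.node 6553 (.leaf 0x0)
(.leaf 0x0))
(.node 6555 (.leaf 0x0)
(.leaf 0x0)))
(.node 6558 (.node 6557 (.leaf 0x0)
(.leaf 0x0))
(.node 6559 (.leaf 0x0)
(.leaf 0x0))))))
(.node 6576 (.node 6568 (.node 6564 (.node 6562 (.node 6561 (.leaf 0x0)
(.leaf 0x0))
(.node 6563 (.leaf 0x0)
(.leaf 0x0)))
(.node 6566 (.node 6565 (.leaf 0x0)
(.leaf 0x0))
(.node 6567 (.leaf 0x0)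
(.leaf 0x0))))
(.node 6572 (.node 6570 (.node 6569 (.leaf 0x0)
(.leaf 0x0))
(.node 6571 (.leaf 0x0)
(.leaf 0x0)))
(.node 6574 (.node 6573 (.leaf 0x0)
(.leaf 0x0))
(.node 6575 (.leaf 0x0)
(.leaf 0x0)))))
(.node 6584 (.node 6580 (.node 6578 (.node 6577 (.leaf 0x0)
(.leaf 0x0))
(.node 6579 (.leaf 0x0)
(.leaf 0x0)))
(.node 6582 (.node 6581 (.leaf 0x0)
(.leaf 0x0))
(.node 6583 (.leaf 0x0)
(.leaf 0x0))))
(.node 6588 (.node 6586 (.node 6585 (.leaf 0x0)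
(.leaf 0x0))
(.node 6587 (.leaf 0x0)
(.leaf 0x0)))
(.node 6590 (.node 6589 (.leaf 0x0)
(.leaf 0x0))
(.node 6591 (.leaf 0x0)
(.leaf 0x0)))))))
(.node 6624 (.node 6608 (.node 6600 (.node 6596 (.node 6594 (.node 6593 (.leaf 0x0)
(.leaf 0x0))
(.node 6595 (.leaf 0x0)
(.leaf 0x0)))
(.node 6598 (.node 6597 (.leaf 0x0)
(.leaf 0x0))
(.node 6599 (.leaf 0x0)
(.leaf 0x0))))
(.node 6604 (.node 6602 (.node 6601 (.leaf 0x0)
(.leaf 0x0))
(.node 6603 (.leaf 0x0)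
(.leaf 0x0)))
(.node 6606 (.node 6605 (.leaf 0x0)
(.leaf 0x0))
(.node 6607 (.leaf 0x0)
(.leaf 0x0)))))
(.node 6616 (.node 6612 (.node 6610 (.node 6609 (.leaf 0x0)
(.leaf 0x0))
(.node 6611 (.leaf 0x0)
(.leaf 0x0)))
(.node 6614 (.node 6613 (.leaf 0x0)
(.leaf 0x0))
(.node 6615 (.leaf 0x0)
(.leaf 0x0))))
(.node 6620 (.node 6618 (.node 6617 (.leaf 0x0)
(.leaf 0x0))
(.node 6619 (.leaf 0x0)
(.leaf 0x0)))
(.node 6622 (.node 6621 (.leaf 0x0)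
(.leaf 0x0))
(.node 6623 (.leaf 0x0)
(.leaf 0x0))))))
(.node 6640 (.node 6632 (.node 6628 (.node 6626 (.node 6625 (.leaf 0x0)
(.leaf 0x0))
(.node 6627 (.leaf 0x0)
(.leaf 0x0)))
(.node 6630 (.node 6629 (.leaf 0x0)
(.leaf 0x0))
(.node 6631 (.leaf 0x0)
(.leaf 0x0))))
(.node 6636 (.node 6634 (.node 6633 (.leaf 0x0)
(.leaf 0x0))
(.node 6635 (.leaf 0x0)
(.leaf 0x0)))
(.node 6638 (.node 6637 (.leaf 0x0)
(.leaf 0x0))
(.node 6639 (.leaf 0x0)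
(.leaf 0x0)))))
(.node 6648 (.node 6644 (.node 6642 (.node 6641 (.leaf 0x0)
(.leaf 0x0))
(.node 6643 (.leaf 0x0)
(.leaf 0x0)))
(.node 6646 (.node 6645 (.leaf 0x0)
(.leaf 0x0))
(.node 6647 (.leaf 0x0)
(.leaf 0x0))))
(.node 6652 (.node 6650 (.node 6649 (.leaf 0x0)
(.leaf 0x0))
(.node 6651 (.leaf 0x0)
(.leaf 0x0)))
(.node 6654 (.node 6653 (.leaf 0x0)
(.leaf 0x0))
(.node 6655 (.leaf 0x0)
(.leaf 0x0)))))))))

/-- part of the trie -/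
def labPart26 : Tr :=
(.node 6784 (.node 6720 (.node 6688 (.node 6672 (.node 6664 (.node 6660 (.node 6658 (.node 6657 (.leaf 0x0)
(.leaf 0x0))
(.node 6659 (.leaf 0x0)
(.leaf 0x0)))
(.node 6662 (.node 6661 (.leaf 0x0)
(.leaf 0x0))
(.node 6663 (.leaf 0x0)
(.leaf 0x0))))
(.node 6668 (.node 6666 (.node 6665 (.leaf 0x0)
(.leaf 0x0))
(.node 6667 (.leaf 0x0)
(.leaf 0x0)))
(.node 6670 (.node 6669 (.leaf 0x0)
(.leaf 0x0))
(.node 6671 (.leaf 0x0)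
(.leaf 0x0)))))
(.node 6680 (.node 6676 (.node 6674 (.node 6673 (.leaf 0x0)
(.leaf 0x0))
(.node 6675 (.leaf 0x0)
(.leaf 0x0)))
(.node 6678 (.node 6677 (.leaf 0x0)
(.leaf 0x0))
(.node 6679 (.leaf 0x0)
(.leaf 0x0))))
(.node 6684 (.node 6682 (.node 6681 (.leaf 0x0)
(.leaf 0x0))
(.node 6683 (.leaf 0x0)
(.leaf 0x0)))
(.node 6686 (.node 6685 (.leaf 0x0)
(.leaf 0x0))
(.node 6687 (.leaf 0x0)
(.leaf 0x0))))))
(.node 6704 (.node 6696 (.node 6692 (.node 6690 (.node 6689 (.leaf 0x0)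
(.leaf 0x0))
(.node 6691 (.leaf 0x0)
(.leaf 0x0)))
(.node 6694 (.node 6693 (.leaf 0x0)
(.leaf 0x0))
(.node 6695 (.leaf 0x0)
(.leaf 0x0))))
(.node 6700 (.node 6698 (.node 6697 (.leaf 0x0)
(.leaf 0x0))
(.node 6699 (.leaf 0x0)
(.leaf 0x0)))
(.node 6702 (.node 6701 (.leaf 0x0)
(.leaf 0x0))
(.node 6703 (.leaf 0x0)
(.leaf 0x0)))))
(.node 6712 (.node 6708 (.node 6706 (.node 6705 (.leaf 0x0)
(.leaf 0x0))
(.node 6707 (.leaf 0x0)
(.leaf 0x0)))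
(.node 6710 (.node 6709 (.leaf 0x0)
(.leaf 0x0))
(.node 6711 (.leaf 0x0)
(.leaf 0x0))))
(.node 6716 (.node 6714 (.node 6713 (.leaf 0x0)
(.leaf 0x0))
(.node 6715 (.leaf 0x0)
(.leaf 0x0)))
(.node 6718 (.node 6717 (.leaf 0x0)
(.leaf 0x0))
(.node 6719 (.leaf 0x0)
(.leaf 0x0)))))))
(.node 6752 (.node 6736 (.node 6728 (.node 6724 (.node 6722 (.node 6721 (.leaf 0x0)
(.leaf 0x0))
(.node 6723 (.leaf 0x0)
(.leaf 0x0)))
(.node 6726 (.node 6725 (.leaf 0x0)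
(.leaf 0x0))
(.node 6727 (.leaf 0x0)
(.leaf 0x0))))
(.node 6732 (.node 6730 (.node 6729 (.leaf 0x0)
(.leaf 0x0))
(.node 6731 (.leaf 0x0)
(.leaf 0x0)))
(.node 6734 (.node 6733 (.leaf 0x0)
(.leaf 0x0))
(.node 6735 (.leaf 0x0)
(.leaf 0x0)))))
(.node 6744 (.node 6740 (.node 6738 (.node 6737 (.leaf 0x0)
(.leaf 0x0))
(.node 6739 (.leaf 0x0)
(.leaf 0x0)))
(.node 6742 (.node 6741 (.leaf 0x0)
(.leaf 0x0))
(.node 6743 (.leaf 0x0)
(.leaf 0x0))))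
(.node 6748 (.node 6746 (.node 6745 (.leaf 0x0)
(.leaf 0x0))
(.node 6747 (.leaf 0x0)
(.leaf 0x0)))
(.node 6750 (.node 6749 (.leaf 0x0)
(.leaf 0x0))
(.node 6751 (.leaf 0x0)
(.leaf 0x0))))))
(.node 6768 (.node 6760 (.node 6756 (.node 6754 (.node 6753 (.leaf 0x0)
(.leaf 0x0))
(.node 6755 (.leaf 0x0)
(.leaf 0x0)))
(.node 6758 (.node 6757 (.leaf 0x0)
(.leaf 0x0))
(.node 6759 (.leaf 0x0)
(.leaf 0x0))))
(.node 6764 (.node 6762 (.node 6761 (.leaf 0x0)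
(.leaf 0x0))
(.node 6763 (.leaf 0x0)
(.leaf 0x0)))
(.node 6766 (.node 6765 (.leaf 0x0)
(.leaf 0x0))
(.node 6767 (.leaf 0x0)
(.leaf 0x0)))))
(.node 6776 (.node 6772 (.node 6770 (.node 6769 (.leaf 0x0)
(.leaf 0x0))
(.node 6771 (.leaf 0x0)
(.leaf 0x0)))
(.node 6774 (.node 6773 (.leaf 0x0)
(.leaf 0x0))
(.node 6775 (.leaf 0x0)
(.leaf 0x0))))
(.node 6780 (.node 6778 (.node 6777 (.leaf 0x0)
(.leaf 0x0))
(.node 6779 (.leaf 0x0)
(.leaf 0x0)))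
(.node 6782 (.node 6781 (.leaf 0x0)
(.leaf 0x0))
(.node 6783 (.leaf 0x0)
(.leaf 0x0))))))))
(.node 6848 (.node 6816 (.node 6800 (.node 6792 (.node 6788 (.node 6786 (.node 6785 (.leaf 0x0)
(.leaf 0x0))
(.node 6787 (.leaf 0x0)
(.leaf 0x0)))
(.node 6790 (.node 6789 (.leaf 0x0)
(.leaf 0x0))
(.node 6791 (.leaf 0x0)
(.leaf 0x0))))
(.node 6796 (.node 6794 (.node 6793 (.leaf 0x0)
(.leaf 0x0))
(.node 6795 (.leaf 0x0)
(.leaf 0x0)))
(.node 6798 (.node 6797 (.leaf 0x0)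
(.leaf 0x0))
(.node 6799 (.leaf 0x0)
(.leaf 0x0)))))
(.node 6808 (.node 6804 (.node 6802 (.node 6801 (.leaf 0x0)
(.leaf 0x0))
(.node 6803 (.leaf 0x0)
(.leaf 0x0)))
(.node 6806 (.node 6805 (.leaf 0x0)
(.leaf 0x0))
(.node 6807 (.leaf 0x0)
(.leaf 0x0))))
(.node 6812 (.node 6810 (.node 6809 (.leaf 0x0)
(.leaf 0x0))
(.node 6811 (.leaf 0x0)
(.leaf 0x0)))
(.node 6814 (.node 6813 (.leaf 0x0)
(.leaf 0x0))
(.node 6815 (.leaf 0x0)
(.leaf 0x0))))))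
(.node 6832 (.node 6824 (.node 6820 (.node 6818 (.node 6817 (.leaf 0x0)
(.leaf 0x0))
(.node 6819 (.leaf 0x0)
(.leaf 0x0)))
(.node 6822 (.node 6821 (.leaf 0x0)
(.leaf 0x0))
(.node 6823 (.leaf 0x0)
(.leaf 0x0))))
(.node 6828 (.node 6826 (.node 6825 (.leaf 0x0)
(.leaf 0x0))
(.node 6827 (.leaf 0x0)
(.leaf 0x0)))
(.node 6830 (.node 6829 (.leaf 0x0)
(.leaf 0x0))
(.node 6831 (.leaf 0x0)
(.leaf 0x0)))))
(.node 6840 (.node 6836 (.node 6834 (.node 6833 (.leaf 0x0)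
(.leaf 0x0))
(.node 6835 (.leaf 0x0)
(.leaf 0x0)))
(.node 6838 (.node 6837 (.leaf 0x0)
(.leaf 0x0))
(.node 6839 (.leaf 0x0)
(.leaf 0x0))))
(.node 6844 (.node 6842 (.node 6841 (.leaf 0x0)
(.leaf 0x0))
(.node 6843 (.leaf 0x0)
(.leaf 0x0)))
(.node 6846 (.node 6845 (.leaf 0x0)
(.leaf 0x0))
(.node 6847 (.leaf 0x0)
(.leaf 0x0)))))))
(.node 6880 (.node 6864 (.node 6856 (.node 6852 (.node 6850 (.node 6849 (.leaf 0x0)
(.leaf 0x0))
(.node 6851 (.leaf 0x0)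
(.leaf 0x0)))
(.node 6854 (.node 6853 (.leaf 0x0)
(.leaf 0x0))
(.node 6855 (.leaf 0x0)
(.leaf 0x0))))
(.node 6860 (.node 6858 (.node 6857 (.leaf 0x0)
(.leaf 0x0))
(.node 6859 (.leaf 0x0)
(.leaf 0x0)))
(.node 6862 (.node 6861 (.leaf 0x0)
(.leaf 0x0))
(.node 6863 (.leaf 0x0)
(.leaf 0x0)))))
(.node 6872 (.node 6868 (.node 6866 (.node 6865 (.leaf 0x0)
(.leaf 0x0))
(.node 6867 (.leaf 0x0)
(.leaf 0x0)))
(.node 6870 (.node 6869 (.leaf 0x0)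
(.leaf 0x0))
(.node 6871 (.leaf 0x0)
(.leaf 0x0))))
(.node 6876 (.node 6874 (.node 6873 (.leaf 0x0)
(.leaf 0x0))
(.node 6875 (.leaf 0x0)
(.leaf 0x0)))
(.node 6878 (.node 6877 (.leaf 0x0)
(.leaf 0x0))
(.node 6879 (.leaf 0x0)
(.leaf 0x0))))))
(.node 6896 (.node 6888 (.node 6884 (.node 6882 (.node 6881 (.leaf 0x0)
(.leaf 0x0))
(.node 6883 (.leaf 0x0)
(.leaf 0x0)))
(.node 6886 (.node 6885 (.leaf 0x0)
(.leaf 0x0))
(.node 6887 (.leaf 0x0)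
(.leaf 0x0))))
(.node 6892 (.node 6890 (.node 6889 (.leaf 0x0)
(.leaf 0x0))
(.node 6891 (.leaf 0x0)
(.leaf 0x0)))
(.node 6894 (.node 6893 (.leaf 0x0)
(.leaf 0x0))
(.node 6895 (.leaf 0x0)
(.leaf 0x0)))))
(.node 6904 (.node 6900 (.node 6898 (.node 6897 (.leaf 0x0)
(.leaf 0x0))
(.node 6899 (.leaf 0x0)
(.leaf 0x0)))
(.node 6902 (.node 6901 (.leaf 0x0)
(.leaf 0x0))
(.node 6903 (.leaf 0x0)
(.leaf 0x0))))
(.node 6908 (.node 6906 (.node 6905 (.leaf 0x0)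
(.leaf 0x0))
(.node 6907 (.leaf 0x0)
(.leaf 0x0)))
(.node 6910 (.node 6909 (.leaf 0x0)
(.leaf 0x0))
(.node 6911 (.leaf 0x0)
(.leaf 0x0)))))))))

/-- part of the trie -/
def labPart27 : Tr :=
(.node 7040 (.node 6976 (.node 6944 (.node 6928 (.node 6920 (.node 6916 (.node 6914 (.node 6913 (.leaf 0x0)
(.leaf 0x0))
(.node 6915 (.leaf 0x0)
(.leaf 0x0)))
(.node 6918 (.node 6917 (.leaf 0x0)
(.leaf 0x0))
(.node 6919 (.leaf 0x0)
(.leaf 0x0))))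
(.node 6924 (.node 6922 (.node 6921 (.leaf 0x0)
(.leaf 0x0))
(.node 6923 (.leaf 0x0)
(.leaf 0x0)))
(.node 6926 (.node 6925 (.leaf 0x0)
(.leaf 0x0))
(.node 6927 (.leaf 0x0)
(.leaf 0x0)))))
(.node 6936 (.node 6932 (.node 6930 (.node 6929 (.leaf 0x0)
(.leaf 0x0))
(.node 6931 (.leaf 0x0)
(.leaf 0x0)))
(.node 6934 (.node 6933 (.leaf 0x0)
(.leaf 0x0))
(.node 6935 (.leaf 0x0)
(.leaf 0x0))))
(.node 6940 (.node 6938 (.node 6937 (.leaf 0x0)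
(.leaf 0x0))
(.node 6939 (.leaf 0x0)
(.leaf 0x0)))
(.node 6942 (.node 6941 (.leaf 0x0)
(.leaf 0x0))
(.node 6943 (.leaf 0x0)
(.leaf 0x0))))))
(.node 6960 (.node 6952 (.node 6948 (.node 6946 (.node 6945 (.leaf 0x0)
(.leaf 0x0))
(.node 6947 (.leaf 0x0)
(.leaf 0x0)))
(.node 6950 (.node 6949 (.leaf 0x0)
(.leaf 0x0))
(.node 6951 (.leaf 0x0)
(.leaf 0x0))))
(.node 6956 (.node 6954 (.node 6953 (.leaf 0x0)
(.leaf 0x0))
(.node 6955 (.leaf 0x0)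
(.leaf 0x0)))
(.node 6958 (.node 6957 (.leaf 0x0)
(.leaf 0x0))
(.node 6959 (.leaf 0x0)
(.leaf 0x0)))))
(.node 6968 (.node 6964 (.node 6962 (.node 6961 (.leaf 0x0)
(.leaf 0x0))
(.node 6963 (.leaf 0x0)
(.leaf 0x0)))
(.node 6966 (.node 6965 (.leaf 0x0)
(.leaf 0x0))
(.node 6967 (.leaf 0x0)
(.leaf 0x0))))
(.node 6972 (.node 6970 (.node 6969 (.leaf 0x0)
(.leaf 0x0))
(.node 6971 (.leaf 0x0)
(.leaf 0x0)))
(.node 6974 (.node 6973 (.leaf 0x0)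
(.leaf 0x0))
(.node 6975 (.leaf 0x0)
(.leaf 0x0)))))))
(.node 7008 (.node 6992 (.node 6984 (.node 6980 (.node 6978 (.node 6977 (.leaf 0x0)
(.leaf 0x0))
(.node 6979 (.leaf 0x0)
(.leaf 0x0)))
(.node 6982 (.node 6981 (.leaf 0x0)
(.leaf 0x0))
(.node 6983 (.leaf 0x0)
(.leaf 0x0))))
(.node 6988 (.node 6986 (.node 6985 (.leaf 0x0)
(.leaf 0x0))
(.node 6987 (.leaf 0x0)
(.leaf 0x0)))
(.node 6990 (.node 6989 (.leaf 0x0)
(.leaf 0x0))
(.node 6991 (.leaf 0x0)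
(.leaf 0x0)))))
(.node 7000 (.node 6996 (.node 6994 (.node 6993 (.leaf 0x0)
(.leaf 0x0))
(.node 6995 (.leaf 0x0)
(.leaf 0x0)))
(.node 6998 (.node 6997 (.leaf 0x0)
(.leaf 0x0))
(.node 6999 (.leaf 0x0)
(.leaf 0x0))))
(.node 7004 (.node 7002 (.node 7001 (.leaf 0x0)
(.leaf 0x0))
(.node 7003 (.leaf 0x0)
(.leaf 0x0)))
(.node 7006 (.node 7005 (.leaf 0x0)
(.leaf 0x0))
(.node 7007 (.leaf 0x0)
(.leaf 0x0))))))
(.node 7024 (.node 7016 (.node 7012 (.node 7010 (.node 7009 (.leaf 0x0)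
(.leaf 0x0))
(.node 7011 (.leaf 0x0)
(.leaf 0x0)))
(.node 7014 (.node 7013 (.leaf 0x0)
(.leaf 0x0))
(.node 7015 (.leaf 0x0)
(.leaf 0x0))))
(.node 7020 (.node 7018 (.node 7017 (.leaf 0x0)
(.leaf 0x0))
(.node 7019 (.leaf 0x0)
(.leaf 0x0)))
(.node 7022 (.node 7021 (.leaf 0x0)
(.leaf 0x0))
(.node 7023 (.leaf 0x0)
(.leaf 0x0)))))
(.node 7032 (.node 7028 (.node 7026 (.node 7025 (.leaf 0x0)
(.leaf 0x0))
(.node 7027 (.leaf 0x0)
(.leaf 0x0)))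
(.node 7030 (.node 7029 (.leaf 0x0)
(.leaf 0x0))
(.node 7031 (.leaf 0x0)
(.leaf 0x0))))
(.node 7036 (.node 7034 (.node 7033 (.leaf 0x0)
(.leaf 0x0))
(.node 7035 (.leaf 0x0)
(.leaf 0x0)))
(.node 7038 (.node 7037 (.leaf 0x0)
(.leaf 0x0))
(.node 7039 (.leaf 0x0)
(.leaf 0x0))))))))
(.node 7104 (.node 7072 (.node 7056 (.node 7048 (.node 7044 (.node 7042 (.node 7041 (.leaf 0x0)
(.leaf 0x0))
(.node 7043 (.leaf 0x0)
(.leaf 0x0)))
(.node 7046 (.node 7045 (.leaf 0x0)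
(.leaf 0x0))
(.node 7047 (.leaf 0x0)
(.leaf 0x0))))
(.node 7052 (.node 7050 (.node 7049 (.leaf 0x0)
(.leaf 0x0))
(.node 7051 (.leaf 0x0)
(.leaf 0x0)))
(.node 7054 (.node 7053 (.leaf 0x0)
(.leaf 0x0))
(.node 7055 (.leaf 0x0)
(.leaf 0x0)))))
(.node 7064 (.node 7060 (.node 7058 (.node 7057 (.leaf 0x0)
(.leaf 0x0))
(.node 7059 (.leaf 0x0)
(.leaf 0x0)))
(.node 7062 (.node 7061 (.leaf 0x0)
(.leaf 0x0))
(.node 7063 (.leaf 0x0)
(.leaf 0x0))))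
(.node 7068 (.node 7066 (.node 7065 (.leaf 0x0)
(.leaf 0x0))
(.node 7067 (.leaf 0x0)
(.leaf 0x0)))
(.node 7070 (.node 7069 (.leaf 0x0)
(.leaf 0x0))
(.node 7071 (.leaf 0x0)
(.leaf 0x0))))))
(.node 7088 (.node 7080 (.node 7076 (.node 7074 (.node 7073 (.leaf 0x0)
(.leaf 0x0))
(.node 7075 (.leaf 0x0)
(.leaf 0x0)))
(.node 7078 (.node 7077 (.leaf 0x0)
(.leaf 0x0))
(.node 7079 (.leaf 0x0)
(.leaf 0x0))))
(.node 7084 (.node 7082 (.node 7081 (.leaf 0x0)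
(.leaf 0x0))
(.node 7083 (.leaf 0x0)
(.leaf 0x0)))
(.node 7086 (.node 7085 (.leaf 0x0)
(.leaf 0x0))
(.node 7087 (.leaf 0x0)
(.leaf 0x0)))))
(.node 7096 (.node 7092 (.node 7090 (.node 7089 (.leaf 0x0)
(.leaf 0x0))
(.node 7091 (.leaf 0x0)
(.leaf 0x0)))
(.node 7094 (.node 7093 (.leaf 0x0)
(.leaf 0x0))
(.node 7095 (.leaf 0x0)
(.leaf 0x0))))
(.node 7100 (.node 7098 (.node 7097 (.leaf 0x0)
(.leaf 0x0))
(.node 7099 (.leaf 0x0)
(.leaf 0x0)))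
(.node 7102 (.node 7101 (.leaf 0x0)
(.leaf 0x0))
(.node 7103 (.leaf 0x0)
(.leaf 0x0)))))))
(.node 7136 (.node 7120 (.node 7112 (.node 7108 (.node 7106 (.node 7105 (.leaf 0x0)
(.leaf 0x0))
(.node 7107 (.leaf 0x0)
(.leaf 0x0)))
(.node 7110 (.node 7109 (.leaf 0x0)
(.leaf 0x0))
(.node 7111 (.leaf 0x0)
(.leaf 0x0))))
(.node 7116 (.node 7114 (.node 7113 (.leaf 0x0)
(.leaf 0x0))
(.node 7115 (.leaf 0x0)
(.leaf 0x0)))
(.node 7118 (.node 7117 (.leaf 0x0)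
(.leaf 0x0))
(.node 7119 (.leaf 0x0)
(.leaf 0x0)))))
(.node 7128 (.node 7124 (.node 7122 (.node 7121 (.leaf 0x0)
(.leaf 0x0))
(.node 7123 (.leaf 0x0)
(.leaf 0x0)))
(.node 7126 (.node 7125 (.leaf 0x0)
(.leaf 0x0))
(.node 7127 (.leaf 0x0)
(.leaf 0x0))))
(.node 7132 (.node 7130 (.node 7129 (.leaf 0x0)
(.leaf 0x0))
(.node 7131 (.leaf 0x0)
(.leaf 0x0)))
(.node 7134 (.node 7133 (.leaf 0x0)
(.leaf 0x0))
(.node 7135 (.leaf 0x0)
(.leaf 0x0))))))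
(.node 7152 (.node 7144 (.node 7140 (.node 7138 (.node 7137 (.leaf 0x0)
(.leaf 0x0))
(.node 7139 (.leaf 0x0)
(.leaf 0x0)))
(.node 7142 (.node 7141 (.leaf 0x0)
(.leaf 0x0))
(.node 7143 (.leaf 0x0)
(.leaf 0x0))))
(.node 7148 (.node 7146 (.node 7145 (.leaf 0x0)
(.leaf 0x0))
(.node 7147 (.leaf 0x0)
(.leaf 0x0)))
(.node 7150 (.node 7149 (.leaf 0x0)
(.leaf 0x0))
(.node 7151 (.leaf 0x0)
(.leaf 0x0)))))
(.node 7160 (.node 7156 (.node 7154 (.node 7153 (.leaf 0x0)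
(.leaf 0x0))
(.node 7155 (.leaf 0x0)
(.leaf 0x0)))
(.node 7158 (.node 7157 (.leaf 0x0)
(.leaf 0x0))
(.node 7159 (.leaf 0x0)
(.leaf 0x0))))
(.node 7164 (.node 7162 (.node 7161 (.leaf 0x0)
(.leaf 0x0))
(.node 7163 (.leaf 0x0)
(.leaf 0x0)))
(.node 7166 (.node 7165 (.leaf 0x0)
(.leaf 0x0))
(.node 7167 (.leaf 0x0)
(.leaf 0x0)))))))))

/-- part of the trie -/
def labPart28 : Tr :=
(.node 7296 (.node 7232 (.node 7200 (.node 7184 (.node 7176 (.node 7172 (.node 7170 (.node 7169 (.leaf 0x0)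
(.leaf 0x0))
(.node 7171 (.leaf 0x0)
(.leaf 0x0)))
(.node 7174 (.node 7173 (.leaf 0x0)
(.leaf 0x0))
(.node 7175 (.leaf 0x0)
(.leaf 0x0))))
(.node 7180 (.node 7178 (.node 7177 (.leaf 0x0)
(.leaf 0x0))
(.node 7179 (.leaf 0x0)
(.leaf 0x0)))
(.node 7182 (.node 7181 (.leaf 0x0)
(.leaf 0x0))
(.node 7183 (.leaf 0x0)
(.leaf 0x0)))))
(.node 7192 (.node 7188 (.node 7186 (.node 7185 (.leaf 0x0)
(.leaf 0x0))
(.node 7187 (.leaf 0x0)
(.leaf 0x0)))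
(.node 7190 (.node 7189 (.leaf 0x0)
(.leaf 0x0))
(.node 7191 (.leaf 0x0)
(.leaf 0x0))))
(.node 7196 (.node 7194 (.node 7193 (.leaf 0x0)
(.leaf 0x0))
(.node 7195 (.leaf 0x0)
(.leaf 0x0)))
(.node 7198 (.node 7197 (.leaf 0x0)
(.leaf 0x0))
(.node 7199 (.leaf 0x0)
(.leaf 0x0))))))
(.node 7216 (.node 7208 (.node 7204 (.node 7202 (.node 7201 (.leaf 0x0)
(.leaf 0x0))
(.node 7203 (.leaf 0x0)
(.leaf 0x0)))
(.node 7206 (.node 7205 (.leaf 0x0)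
(.leaf 0x0))
(.node 7207 (.leaf 0x0)
(.leaf 0x0))))
(.node 7212 (.node 7210 (.node 7209 (.leaf 0x0)
(.leaf 0x0))
(.node 7211 (.leaf 0x0)
(.leaf 0x0)))
(.node 7214 (.node 7213 (.leaf 0x0)
(.leaf 0x0))
(.node 7215 (.leaf 0x0)
(.leaf 0x0)))))
(.node 7224 (.node 7220 (.node 7218 (.node 7217 (.leaf 0x0)
(.leaf 0x0))
(.node 7219 (.leaf 0x0)
(.leaf 0x0)))
(.node 7222 (.node 7221 (.leaf 0x0)
(.leaf 0x0))
(.node 7223 (.leaf 0x0)
(.leaf 0x0))))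
(.node 7228 (.node 7226 (.node 7225 (.leaf 0x0)
(.leaf 0x0))
(.node 7227 (.leaf 0x0)
(.leaf 0x0)))
(.node 7230 (.node 7229 (.leaf 0x0)
(.leaf 0x0))
(.node 7231 (.leaf 0x0)
(.leaf 0x0)))))))
(.node 7264 (.node 7248 (.node 7240 (.node 7236 (.node 7234 (.node 7233 (.leaf 0x0)
(.leaf 0x0))
(.node 7235 (.leaf 0x0)
(.leaf 0x0)))
(.node 7238 (.node 7237 (.leaf 0x0)
(.leaf 0x0))
(.node 7239 (.leaf 0x0)
(.leaf 0x0))))
(.node 7244 (.node 7242 (.node 7241 (.leaf 0x0)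
(.leaf 0x0))
(.node 7243 (.leaf 0x0)
(.leaf 0x0)))
(.node 7246 (.node 7245 (.leaf 0x0)
(.leaf 0x0))
(.node 7247 (.leaf 0x0)
(.leaf 0x0)))))
(.node 7256 (.node 7252 (.node 7250 (.node 7249 (.leaf 0x0)
(.leaf 0x0))
(.node 7251 (.leaf 0x0)
(.leaf 0x0)))
(.node 7254 (.node 7253 (.leaf 0x0)
(.leaf 0x0))
(.node 7255 (.leaf 0x0)
(.leaf 0x0))))
(.node 7260 (.node 7258 (.node 7257 (.leaf 0x0)
(.leaf 0x0))
(.node 7259 (.leaf 0x0)
(.leaf 0x0)))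
(.node 7262 (.node 7261 (.leaf 0x0)
(.leaf 0x0))
(.node 7263 (.leaf 0x0)
(.leaf 0x0))))))
(.node 7280 (.node 7272 (.node 7268 (.node 7266 (.node 7265 (.leaf 0x0)
(.leaf 0x0))
(.node 7267 (.leaf 0x0)
(.leaf 0x0)))
(.node 7270 (.node 7269 (.leaf 0x0)
(.leaf 0x0))
(.node 7271 (.leaf 0x0)
(.leaf 0x0))))
(.node 7276 (.node 7274 (.node 7273 (.leaf 0x0)
(.leaf 0x0))
(.node 7275 (.leaf 0x0)
(.leaf 0x0)))
(.node 7278 (.node 7277 (.leaf 0x0)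
(.leaf 0x0))
(.node 7279 (.leaf 0x0)
(.leaf 0x0)))))
(.node 7288 (.node 7284 (.node 7282 (.node 7281 (.leaf 0x0)
(.leaf 0x0))
(.node 7283 (.leaf 0x0)
(.leaf 0x0)))
(.node 7286 (.node 7285 (.leaf 0x0)
(.leaf 0x0))
(.node 7287 (.leaf 0x0)
(.leaf 0x0))))
(.node 7292 (.node 7290 (.node 7289 (.leaf 0x0)
(.leaf 0x0))
(.node 7291 (.leaf 0x0)
(.leaf 0x0)))
(.node 7294 (.node 7293 (.leaf 0x0)
(.leaf 0x0))
(.node 7295 (.leaf 0x0)
(.leaf 0x0))))))))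
(.node 7360 (.node 7328 (.node 7312 (.node 7304 (.node 7300 (.node 7298 (.node 7297 (.leaf 0x0)
(.leaf 0x0))
(.node 7299 (.leaf 0x0)
(.leaf 0x0)))
(.node 7302 (.node 7301 (.leaf 0x0)
(.leaf 0x0))
(.node 7303 (.leaf 0x0)
(.leaf 0x0))))
(.node 7308 (.node 7306 (.node 7305 (.leaf 0x0)
(.leaf 0x0))
(.node 7307 (.leaf 0x0)
(.leaf 0x0)))
(.node 7310 (.node 7309 (.leaf 0x0)
(.leaf 0x0))
(.node 7311 (.leaf 0x0)
(.leaf 0x0)))))
(.node 7320 (.node 7316 (.node 7314 (.node 7313 (.leaf 0x0)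
(.leaf 0x0))
(.node 7315 (.leaf 0x0)
(.leaf 0x0)))
(.node 7318 (.node 7317 (.leaf 0x0)
(.leaf 0x0))
(.node 7319 (.leaf 0x0)
(.leaf 0x0))))
(.node 7324 (.node 7322 (.node 7321 (.leaf 0x0)
(.leaf 0x0))
(.node 7323 (.leaf 0x0)
(.leaf 0x0)))
(.node 7326 (.node 7325 (.leaf 0x0)
(.leaf 0x0))
(.node 7327 (.leaf 0x0)
(.leaf 0x0))))))
(.node 7344 (.node 7336 (.node 7332 (.node 7330 (.node 7329 (.leaf 0x0)
(.leaf 0x0))
(.node 7331 (.leaf 0x0)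
(.leaf 0x0)))
(.node 7334 (.node 7333 (.leaf 0x0)
(.leaf 0x0))
(.node 7335 (.leaf 0x0)
(.leaf 0x0))))
(.node 7340 (.node 7338 (.node 7337 (.leaf 0x0)
(.leaf 0x0))
(.node 7339 (.leaf 0x0)
(.leaf 0x0)))
(.node 7342 (.node 7341 (.leaf 0x0)
(.leaf 0x0))
(.node 7343 (.leaf 0x0)
(.leaf 0x0)))))
(.node 7352 (.node 7348 (.node 7346 (.node 7345 (.leaf 0x0)
(.leaf 0x0))
(.node 7347 (.leaf 0x0)
(.leaf 0x0)))
(.node 7350 (.node 7349 (.leaf 0x0)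
(.leaf 0x0))
(.node 7351 (.leaf 0x0)
(.leaf 0x0))))
(.node 7356 (.node 7354 (.node 7353 (.leaf 0x0)
(.leaf 0x0))
(.node 7355 (.leaf 0x0)
(.leaf 0x0)))
(.node 7358 (.node 7357 (.leaf 0x0)
(.leaf 0x0))
(.node 7359 (.leaf 0x0)
(.leaf 0x0)))))))
(.node 7392 (.node 7376 (.node 7368 (.node 7364 (.node 7362 (.node 7361 (.leaf 0x0)
(.leaf 0x0))
(.node 7363 (.leaf 0x0)
(.leaf 0x0)))
(.node 7366 (.node 7365 (.leaf 0x0)
(.leaf 0x0))
(.node 7367 (.leaf 0x0)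
(.leaf 0x0))))
(.node 7372 (.node 7370 (.node 7369 (.leaf 0x0)
(.leaf 0x0))
(.node 7371 (.leaf 0x0)
(.leaf 0x0)))
(.node 7374 (.node 7373 (.leaf 0x0)
(.leaf 0x0))
(.node 7375 (.leaf 0x0)
(.leaf 0x0)))))
(.node 7384 (.node 7380 (.node 7378 (.node 7377 (.leaf 0x0)
(.leaf 0x0))
(.node 7379 (.leaf 0x0)
(.leaf 0x0)))
(.node 7382 (.node 7381 (.leaf 0x0)
(.leaf 0x0))
(.node 7383 (.leaf 0x0)
(.leaf 0x0))))
(.node 7388 (.node 7386 (.node 7385 (.leaf 0x0)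
(.leaf 0x0))
(.node 7387 (.leaf 0x0)
(.leaf 0x0)))
(.node 7390 (.node 7389 (.leaf 0x0)
(.leaf 0x0))
(.node 7391 (.leaf 0x0)
(.leaf 0x0))))))
(.node 7408 (.node 7400 (.node 7396 (.node 7394 (.node 7393 (.leaf 0x0)
(.leaf 0x0))
(.node 7395 (.leaf 0x0)
(.leaf 0x0)))
(.node 7398 (.node 7397 (.leaf 0x0)
(.leaf 0x0))
(.node 7399 (.leaf 0x0)
(.leaf 0x0))))
(.node 7404 (.node 7402 (.node 7401 (.leaf 0x0)
(.leaf 0x0))
(.node 7403 (.leaf 0x0)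
(.leaf 0x0)))
(.node 7406 (.node 7405 (.leaf 0x0)
(.leaf 0x0))
(.node 7407 (.leaf 0x0)
(.leaf 0x0)))))
(.node 7416 (.node 7412 (.node 7410 (.node 7409 (.leaf 0x0)
(.leaf 0x0))
(.node 7411 (.leaf 0x0)
(.leaf 0x0)))
(.node 7414 (.node 7413 (.leaf 0x0)
(.leaf 0x0))
(.node 7415 (.leaf 0x0)
(.leaf 0x0))))
(.node 7420 (.node 7418 (.node 7417 (.leaf 0x0)
(.leaf 0x0))
(.node 7419 (.leaf 0x0)
(.leaf 0x0)))
(.node 7422 (.node 7421 (.leaf 0x0)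
(.leaf 0x0))
(.node 7423 (.leaf 0x0)
(.leaf 0x0)))))))))

/-- part of the trie -/
def labPart29 : Tr :=
(.node 7552 (.node 7488 (.node 7456 (.node 7440 (.node 7432 (.node 7428 (.node 7426 (.node 7425 (.leaf 0x0)
(.leaf 0x0))
(.node 7427 (.leaf 0x0)
(.leaf 0x0)))
(.node 7430 (.node 7429 (.leaf 0x0)
(.leaf 0x0))
(.node 7431 (.leaf 0x0)
(.leaf 0x0))))
(.node 7436 (.node 7434 (.node 7433 (.leaf 0x0)
(.leaf 0x0))
(.node 7435 (.leaf 0x0)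
(.leaf 0x0)))
(.node 7438 (.node 7437 (.leaf 0x0)
(.leaf 0x0))
(.node 7439 (.leaf 0x0)
(.leaf 0x0)))))
(.node 7448 (.node 7444 (.node 7442 (.node 7441 (.leaf 0x0)
(.leaf 0x0))
(.node 7443 (.leaf 0x0)
(.leaf 0x0)))
(.node 7446 (.node 7445 (.leaf 0x0)
(.leaf 0x0))
(.node 7447 (.leaf 0x0)
(.leaf 0x0))))
(.node 7452 (.node 7450 (.node 7449 (.leaf 0x0)
(.leaf 0x0))
(.node 7451 (.leaf 0x0)
(.leaf 0x0)))
(.node 7454 (.node 7453 (.leaf 0x0)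
(.leaf 0x0))
(.node 7455 (.leaf 0x0)
(.leaf 0x0))))))
(.node 7472 (.node 7464 (.node 7460 (.node 7458 (.node 7457 (.leaf 0x0)
(.leaf 0x0))
(.node 7459 (.leaf 0x0)
(.leaf 0x0)))
(.node 7462 (.node 7461 (.leaf 0x0)
(.leaf 0x0))
(.node 7463 (.leaf 0x0)
(.leaf 0x0))))
(.node 7468 (.node 7466 (.node 7465 (.leaf 0x0)
(.leaf 0x0))
(.node 7467 (.leaf 0x0)
(.leaf 0x0)))
(.node 7470 (.node 7469 (.leaf 0x0)
(.leaf 0x0))
(.node 7471 (.leaf 0x0)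
(.leaf 0x0)))))
(.node 7480 (.node 7476 (.node 7474 (.node 7473 (.leaf 0x0)
(.leaf 0x0))
(.node 7475 (.leaf 0x0)
(.leaf 0x0)))
(.node 7478 (.node 7477 (.leaf 0x0)
(.leaf 0x0))
(.node 7479 (.leaf 0x0)
(.leaf 0x0))))
(.node 7484 (.node 7482 (.node 7481 (.leaf 0x0)
(.leaf 0x0))
(.node 7483 (.leaf 0x0)
(.leaf 0x0)))
(.node 7486 (.node 7485 (.leaf 0x0)
(.leaf 0x0))
(.node 7487 (.leaf 0x0)
(.leaf 0x0)))))))
(.node 7520 (.node 7504 (.node 7496 (.node 7492 (.node 7490 (.node 7489 (.leaf 0x0)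
(.leaf 0x0))
(.node 7491 (.leaf 0x0)
(.leaf 0x0)))
(.node 7494 (.node 7493 (.leaf 0x0)
(.leaf 0x0))
(.node 7495 (.leaf 0x0)
(.leaf 0x0))))
(.node 7500 (.node 7498 (.node 7497 (.leaf 0x0)
(.leaf 0x0))
(.node 7499 (.leaf 0x0)
(.leaf 0x0)))
(.node 7502 (.node 7501 (.leaf 0x0)
(.leaf 0x0))
(.node 7503 (.leaf 0x0)
(.leaf 0x0)))))
(.node 7512 (.node 7508 (.node 7506 (.node 7505 (.leaf 0x0)
(.leaf 0x0))
(.node 7507 (.leaf 0x0)
(.leaf 0x0)))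
(.node 7510 (.node 7509 (.leaf 0x0)
(.leaf 0x0))
(.node 7511 (.leaf 0x0)
(.leaf 0x0))))
(.node 7516 (.node 7514 (.node 7513 (.leaf 0x0)
(.leaf 0x0))
(.node 7515 (.leaf 0x0)
(.leaf 0x0)))
(.node 7518 (.node 7517 (.leaf 0x0)
(.leaf 0x0))
(.node 7519 (.leaf 0x0)
(.leaf 0x0))))))
(.node 7536 (.node 7528 (.node 7524 (.node 7522 (.node 7521 (.leaf 0x0)
(.leaf 0x0))
(.node 7523 (.leaf 0x0)
(.leaf 0x0)))
(.node 7526 (.node 7525 (.leaf 0x0)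
(.leaf 0x0))
(.node 7527 (.leaf 0x0)
(.leaf 0x0))))
(.node 7532 (.node 7530 (.node 7529 (.leaf 0x0)
(.leaf 0x0))
(.node 7531 (.leaf 0x0)
(.leaf 0x0)))
(.node 7534 (.node 7533 (.leaf 0x0)
(.leaf 0x0))
(.node 7535 (.leaf 0x0)
(.leaf 0x0)))))
(.node 7544 (.node 7540 (.node 7538 (.node 7537 (.leaf 0x0)
(.leaf 0x0))
(.node 7539 (.leaf 0x0)
(.leaf 0x0)))
(.node 7542 (.node 7541 (.leaf 0x0)
(.leaf 0x0))
(.node 7543 (.leaf 0x0)
(.leaf 0x0))))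
(.node 7548 (.node 7546 (.node 7545 (.leaf 0x0)
(.leaf 0x0))
(.node 7547 (.leaf 0x0)
(.leaf 0x0)))
(.node 7550 (.node 7549 (.leaf 0x0)
(.leaf 0x0))
(.node 7551 (.leaf 0x0)
(.leaf 0x0))))))))
(.node 7616 (.node 7584 (.node 7568 (.node 7560 (.node 7556 (.node 7554 (.node 7553 (.leaf 0x0)
(.leaf 0x0))
(.node 7555 (.leaf 0x0)
(.leaf 0x0)))
(.node 7558 (.node 7557 (.leaf 0x0)
(.leaf 0x0))
(.node 7559 (.leaf 0x0)
(.leaf 0x0))))
(.node 7564 (.node 7562 (.node 7561 (.leaf 0x0)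
(.leaf 0x0))
(.node 7563 (.leaf 0x0)
(.leaf 0x0)))
(.node 7566 (.node 7565 (.leaf 0x0)
(.leaf 0x0))
(.node 7567 (.leaf 0x0)
(.leaf 0x0)))))
(.node 7576 (.node 7572 (.node 7570 (.node 7569 (.leaf 0x0)
(.leaf 0x0))
(.node 7571 (.leaf 0x0)
(.leaf 0x0)))
(.node 7574 (.node 7573 (.leaf 0x0)
(.leaf 0x0))
(.node 7575 (.leaf 0x0)
(.leaf 0x0))))
(.node 7580 (.node 7578 (.node 7577 (.leaf 0x0)
(.leaf 0x0))
(.node 7579 (.leaf 0x0)
(.leaf 0x0)))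
(.node 7582 (.node 7581 (.leaf 0x0)
(.leaf 0x0))
(.node 7583 (.leaf 0x0)
(.leaf 0x0))))))
(.node 7600 (.node 7592 (.node 7588 (.node 7586 (.node 7585 (.leaf 0x0)
(.leaf 0x0))
(.node 7587 (.leaf 0x0)
(.leaf 0x0)))
(.node 7590 (.node 7589 (.leaf 0x0)
(.leaf 0x0))
(.node 7591 (.leaf 0x0)
(.leaf 0x0))))
(.node 7596 (.node 7594 (.node 7593 (.leaf 0x0)
(.leaf 0x0))
(.node 7595 (.leaf 0x0)
(.leaf 0x0)))
(.node 7598 (.node 7597 (.leaf 0x0)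
(.leaf 0x0))
(.node 7599 (.leaf 0x0)
(.leaf 0x0)))))
(.node 7608 (.node 7604 (.node 7602 (.node 7601 (.leaf 0x0)
(.leaf 0x0))
(.node 7603 (.leaf 0x0)
(.leaf 0x0)))
(.node 7606 (.node 7605 (.leaf 0x0)
(.leaf 0x0))
(.node 7607 (.leaf 0x0)
(.leaf 0x0))))
(.node 7612 (.node 7610 (.node 7609 (.leaf 0x0)
(.leaf 0x0))
(.node 7611 (.leaf 0x0)
(.leaf 0x0)))
(.node 7614 (.node 7613 (.leaf 0x0)
(.leaf 0x0))
(.node 7615 (.leaf 0x0)
(.leaf 0x0)))))))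
(.node 7648 (.node 7632 (.node 7624 (.node 7620 (.node 7618 (.node 7617 (.leaf 0x0)
(.leaf 0x0))
(.node 7619 (.leaf 0x0)
(.leaf 0x0)))
(.node 7622 (.node 7621 (.leaf 0x0)
(.leaf 0x0))
(.node 7623 (.leaf 0x0)
(.leaf 0x0))))
(.node 7628 (.node 7626 (.node 7625 (.leaf 0x0)
(.leaf 0x0))
(.node 7627 (.leaf 0x0)
(.leaf 0x0)))
(.node 7630 (.node 7629 (.leaf 0x0)
(.leaf 0x0))
(.node 7631 (.leaf 0x0)
(.leaf 0x0)))))
(.node 7640 (.node 7636 (.node 7634 (.node 7633 (.leaf 0x0)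
(.leaf 0x0))
(.node 7635 (.leaf 0x0)
(.leaf 0x0)))
(.node 7638 (.node 7637 (.leaf 0x0)
(.leaf 0x0))
(.node 7639 (.leaf 0x0)
(.leaf 0x0))))
(.node 7644 (.node 7642 (.node 7641 (.leaf 0x0)
(.leaf 0x0))
(.node 7643 (.leaf 0x0)
(.leaf 0x0)))
(.node 7646 (.node 7645 (.leaf 0x0)
(.leaf 0x0))
(.node 7647 (.leaf 0x0)
(.leaf 0x0))))))
(.node 7664 (.node 7656 (.node 7652 (.node 7650 (.node 7649 (.leaf 0x0)
(.leaf 0x0))
(.node 7651 (.leaf 0x0)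
(.leaf 0x0)))
(.node 7654 (.node 7653 (.leaf 0x0)
(.leaf 0x0))
(.node 7655 (.leaf 0x0)
(.leaf 0x0))))
(.node 7660 (.node 7658 (.node 7657 (.leaf 0x0)
(.leaf 0x0))
(.node 7659 (.leaf 0x0)
(.leaf 0x0)))
(.node 7662 (.node 7661 (.leaf 0x0)
(.leaf 0x0))
(.node 7663 (.leaf 0x0)
(.leaf 0x0)))))
(.node 7672 (.node 7668 (.node 7666 (.node 7665 (.leaf 0x0)
(.leaf 0x0))
(.node 7667 (.leaf 0x0)
(.leaf 0x0)))
(.node 7670 (.node 7669 (.leaf 0x0)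
(.leaf 0x0))
(.node 7671 (.leaf 0x0)
(.leaf 0x0))))
(.node 7676 (.node 7674 (.node 7673 (.leaf 0x0)
(.leaf 0x0))
(.node 7675 (.leaf 0x0)
(.leaf 0x0)))
(.node 7678 (.node 7677 (.leaf 0x0)
(.leaf 0x0))
(.node 7679 (.leaf 0x0)
(.leaf 0x0)))))))))

/-- part of the trie -/
def labPart30 : Tr :=
(.node 7808 (.node 7744 (.node 7712 (.node 7696 (.node 7688 (.node 7684 (.node 7682 (.node 7681 (.leaf 0x0)
(.leaf 0x0))
(.node 7683 (.leaf 0x0)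
(.leaf 0x0)))
(.node 7686 (.node 7685 (.leaf 0x0)
(.leaf 0x0))
(.node 7687 (.leaf 0x0)
(.leaf 0x0))))
(.node 7692 (.node 7690 (.node 7689 (.leaf 0x0)
(.leaf 0x0))
(.node 7691 (.leaf 0x0)
(.leaf 0x0)))
(.node 7694 (.node 7693 (.leaf 0x0)
(.leaf 0x0))
(.node 7695 (.leaf 0x0)
(.leaf 0x0)))))
(.node 7704 (.node 7700 (.node 7698 (.node 7697 (.leaf 0x0)
(.leaf 0x0))
(.node 7699 (.leaf 0x0)
(.leaf 0x0)))
(.node 7702 (.node 7701 (.leaf 0x0)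
(.leaf 0x0))
(.node 7703 (.leaf 0x0)
(.leaf 0x0))))
(.node 7708 (.node 7706 (.node 7705 (.leaf 0x0)
(.leaf 0x0))
(.node 7707 (.leaf 0x0)
(.leaf 0x0)))
(.node 7710 (.node 7709 (.leaf 0x0)
(.leaf 0x0))
(.node 7711 (.leaf 0x0)
(.leaf 0x0))))))
(.node 7728 (.node 7720 (.node 7716 (.node 7714 (.node 7713 (.leaf 0x0)
(.leaf 0x0))
(.node 7715 (.leaf 0x0)
(.leaf 0x0)))
(.node 7718 (.node 7717 (.leaf 0x0)
(.leaf 0x0))
(.node 7719 (.leaf 0x0)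
(.leaf 0x0))))
(.node 7724 (.node 7722 (.node 7721 (.leaf 0x0)
(.leaf 0x0))
(.node 7723 (.leaf 0x0)
(.leaf 0x0)))
(.node 7726 (.node 7725 (.leaf 0x0)
(.leaf 0x0))
(.node 7727 (.leaf 0x0)
(.leaf 0x0)))))
(.node 7736 (.node 7732 (.node 7730 (.node 7729 (.leaf 0x0)
(.leaf 0x0))
(.node 7731 (.leaf 0x0)
(.leaf 0x0)))
(.node 7734 (.node 7733 (.leaf 0x0)
(.leaf 0x0))
(.node 7735 (.leaf 0x0)
(.leaf 0x0))))
(.node 7740 (.node 7738 (.node 7737 (.leaf 0x0)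
(.leaf 0x0))
(.node 7739 (.leaf 0x0)
(.leaf 0x0)))
(.node 7742 (.node 7741 (.leaf 0x0)
(.leaf 0x0))
(.node 7743 (.leaf 0x0)
(.leaf 0x0)))))))
(.node 7776 (.node 7760 (.node 7752 (.node 7748 (.node 7746 (.node 7745 (.leaf 0x0)
(.leaf 0x0))
(.node 7747 (.leaf 0x0)
(.leaf 0x0)))
(.node 7750 (.node 7749 (.leaf 0x0)
(.leaf 0x0))
(.node 7751 (.leaf 0x0)
(.leaf 0x1000000400000000000000100000400000000000000000000000000000000000000000000000000000))))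
(.node 7756 (.node 7754 (.node 7753 (.leaf 0x100000000)
(.leaf 0x0))
(.node 7755 (.leaf 0x4000000000000000)
(.leaf 0x10000000000000000000000000000000000000000000000000000000000000000000000000000000000000000000000)))
(.node 7758 (.node 7757 (.leaf 0x0)
(.leaf 0x0))
(.node 7759 (.leaf 0x0)
(.leaf 0x0)))))
(.node 7768 (.node 7764 (.node 7762 (.node 7761 (.leaf 0x0)
(.leaf 0x0))
(.node 7763 (.leaf 0x0)
(.leaf 0x40000000000000000000000000)))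
(.node 7766 (.node 7765 (.leaf 0x0)
(.leaf 0x0))
(.node 7767 (.leaf 0x0)
(.leaf 0x0))))
(.node 7772 (.node 7770 (.node 7769 (.leaf 0x0)
(.leaf 0x0))
(.node 7771 (.leaf 0x0)
(.leaf 0x0)))
(.node 7774 (.node 7773 (.leaf 0x0)
(.leaf 0x10000000000000000000000000000000000000000000000000000000000000000000000000))
(.node 7775 (.leaf 0x0)
(.leaf 0x0))))))
(.node 7792 (.node 7784 (.node 7780 (.node 7778 (.node 7777 (.leaf 0x0)
(.leaf 0x0))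
(.node 7779 (.leaf 0x0)
(.leaf 0x0)))
(.node 7782 (.node 7781 (.leaf 0x0)
(.leaf 0x0))
(.node 7783 (.leaf 0x0)
(.leaf 0x0))))
(.node 7788 (.node 7786 (.node 7785 (.leaf 0x0)
(.leaf 0x0))
(.node 7787 (.leaf 0x0)
(.leaf 0x0)))
(.node 7790 (.node 7789 (.leaf 0x0)
(.leaf 0x0))
(.node 7791 (.leaf 0x0)
(.leaf 0x0)))))
(.node 7800 (.node 7796 (.node 7794 (.node 7793 (.leaf 0x0)
(.leaf 0x0))
(.node 7795 (.leaf 0x0)
(.leaf 0x0)))
(.node 7798 (.node 7797 (.leaf 0x0)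
(.leaf 0x0))
(.node 7799 (.leaf 0x0)
(.leaf 0x0))))
(.node 7804 (.node 7802 (.node 7801 (.leaf 0x0)
(.leaf 0x0))
(.node 7803 (.leaf 0x0)
(.leaf 0x0)))
(.node 7806 (.node 7805 (.leaf 0x0)
(.leaf 0x0))
(.node 7807 (.leaf 0x0)
(.leaf 0x0))))))))
(.node 7872 (.node 7840 (.node 7824 (.node 7816 (.node 7812 (.node 7810 (.node 7809 (.leaf 0x0)
(.leaf 0x0))
(.node 7811 (.leaf 0x0)
(.leaf 0x0)))
(.node 7814 (.node 7813 (.leaf 0x0)
(.leaf 0x0))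
(.node 7815 (.leaf 0x0)
(.leaf 0x0))))
(.node 7820 (.node 7818 (.node 7817 (.leaf 0x0)
(.leaf 0x0))
(.node 7819 (.leaf 0x0)
(.leaf 0x0)))
(.node 7822 (.node 7821 (.leaf 0x0)
(.leaf 0x0))
(.node 7823 (.leaf 0x0)
(.leaf 0x0)))))
(.node 7832 (.node 7828 (.node 7826 (.node 7825 (.leaf 0x0)
(.leaf 0x0))
(.node 7827 (.leaf 0x0)
(.leaf 0x0)))
(.node 7830 (.node 7829 (.leaf 0x0)
(.leaf 0x0))
(.node 7831 (.leaf 0x0)
(.leaf 0x0))))
(.node 7836 (.node 7834 (.node 7833 (.leaf 0x0)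
(.leaf 0x0))
(.node 7835 (.leaf 0x0)
(.leaf 0x0)))
(.node 7838 (.node 7837 (.leaf 0x0)
(.leaf 0x0))
(.node 7839 (.leaf 0x0)
(.leaf 0x0))))))
(.node 7856 (.node 7848 (.node 7844 (.node 7842 (.node 7841 (.leaf 0x0)
(.leaf 0x0))
(.node 7843 (.leaf 0x0)
(.leaf 0x0)))
(.node 7846 (.node 7845 (.leaf 0x0)
(.leaf 0x0))
(.node 7847 (.leaf 0x0)
(.leaf 0x0))))
(.node 7852 (.node 7850 (.node 7849 (.leaf 0x0)
(.leaf 0x0))
(.node 7851 (.leaf 0x0)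
(.leaf 0x0)))
(.node 7854 (.node 7853 (.leaf 0x0)
(.leaf 0x0))
(.node 7855 (.leaf 0x0)
(.leaf 0x0)))))
(.node 7864 (.node 7860 (.node 7858 (.node 7857 (.leaf 0x0)
(.leaf 0x0))
(.node 7859 (.leaf 0x0)
(.leaf 0x0)))
(.node 7862 (.node 7861 (.leaf 0x0)
(.leaf 0x0))
(.node 7863 (.leaf 0x0)
(.leaf 0x0))))
(.node 7868 (.node 7866 (.node 7865 (.leaf 0x0)
(.leaf 0x0))
(.node 7867 (.leaf 0x0)
(.leaf 0x0)))
(.node 7870 (.node 7869 (.leaf 0x0)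
(.leaf 0x0))
(.node 7871 (.leaf 0x0)
(.leaf 0x0)))))))
(.node 7904 (.node 7888 (.node 7880 (.node 7876 (.node 7874 (.node 7873 (.leaf 0x0)
(.leaf 0x0))
(.node 7875 (.leaf 0x0)
(.leaf 0x0)))
(.node 7878 (.node 7877 (.leaf 0x0)
(.leaf 0x0))
(.node 7879 (.leaf 0x0)
(.leaf 0x0))))
(.node 7884 (.node 7882 (.node 7881 (.leaf 0x0)
(.leaf 0x0))
(.node 7883 (.leaf 0x0)
(.leaf 0x0)))
(.node 7886 (.node 7885 (.leaf 0x0)
(.leaf 0x0))
(.node 7887 (.leaf 0x0)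
(.leaf 0x0)))))
(.node 7896 (.node 7892 (.node 7890 (.node 7889 (.leaf 0x0)
(.leaf 0x0))
(.node 7891 (.leaf 0x0)
(.leaf 0x0)))
(.node 7894 (.node 7893 (.leaf 0x0)
(.leaf 0x0))
(.node 7895 (.leaf 0x0)
(.leaf 0x0))))
(.node 7900 (.node 7898 (.node 7897 (.leaf 0x0)
(.leaf 0x0))
(.node 7899 (.leaf 0x0)
(.leaf 0x0)))
(.node 7902 (.node 7901 (.leaf 0x0)
(.leaf 0x0))
(.node 7903 (.leaf 0x0)
(.leaf 0x0))))))
(.node 7920 (.node 7912 (.node 7908 (.node 7906 (.node 7905 (.leaf 0x0)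
(.leaf 0x0))
(.node 7907 (.leaf 0x0)
(.leaf 0x0)))
(.node 7910 (.node 7909 (.leaf 0x0)
(.leaf 0x0))
(.node 7911 (.leaf 0x0)
(.leaf 0x0))))
(.node 7916 (.node 7914 (.node 7913 (.leaf 0x0)
(.leaf 0x40000000000000000000000000000000000000000000000000000000000000000000000000000))
(.node 7915 (.leaf 0x0)
(.leaf 0x0)))
(.node 7918 (.node 7917 (.leaf 0x0)
(.leaf 0x0))
(.node 7919 (.leaf 0x0)
(.leaf 0x0)))))
(.node 7928 (.node 7924 (.node 7922 (.node 7921 (.leaf 0x0)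
(.leaf 0x0))
(.node 7923 (.leaf 0x0)
(.leaf 0x0)))
(.node 7926 (.node 7925 (.leaf 0x0)
(.leaf 0x0))
(.node 7927 (.leaf 0x0)
(.leaf 0x0))))
(.node 7932 (.node 7930 (.node 7929 (.leaf 0x0)
(.leaf 0x0))
(.node 7931 (.leaf 0x0)
(.leaf 0x0)))
(.node 7934 (.node 7933 (.leaf 0x0)
(.leaf 0x0))
(.node 7935 (.leaf 0x0)
(.leaf 0x0)))))))))

/-- part of the trie -/
def labPart31 : Tr :=
(.node 8064 (.node 8000 (.node 7968 (.node 7952 (.node 7944 (.node 7940 (.node 7938 (.node 7937 (.leaf 0x0)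
(.leaf 0x0))
(.node 7939 (.leaf 0x0)
(.leaf 0x0)))
(.node 7942 (.node 7941 (.leaf 0x0)
(.leaf 0x0))
(.node 7943 (.leaf 0x0)
(.leaf 0x0))))
(.node 7948 (.node 7946 (.node 7945 (.leaf 0x0)
(.leaf 0x0))
(.node 7947 (.leaf 0x0)
(.leaf 0x0)))
(.node 7950 (.node 7949 (.leaf 0x0)
(.leaf 0x0))
(.node 7951 (.leaf 0x0)
(.leaf 0x0)))))
(.node 7960 (.node 7956 (.node 7954 (.node 7953 (.leaf 0x0)
(.leaf 0x0))
(.node 7955 (.leaf 0x0)
(.leaf 0x0)))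
(.node 7958 (.node 7957 (.leaf 0x0)
(.leaf 0x0))
(.node 7959 (.leaf 0x0)
(.leaf 0x0))))
(.node 7964 (.node 7962 (.node 7961 (.leaf 0x0)
(.leaf 0x0))
(.node 7963 (.leaf 0x0)
(.leaf 0x0)))
(.node 7966 (.node 7965 (.leaf 0x0)
(.leaf 0x0))
(.node 7967 (.leaf 0x0)
(.leaf 0x0))))))
(.node 7984 (.node 7976 (.node 7972 (.node 7970 (.node 7969 (.leaf 0x0)
(.leaf 0x0))
(.node 7971 (.leaf 0x0)
(.leaf 0x0)))
(.node 7974 (.node 7973 (.leaf 0x0)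
(.leaf 0x0))
(.node 7975 (.leaf 0x0)
(.leaf 0x0))))
(.node 7980 (.node 7978 (.node 7977 (.leaf 0x0)
(.leaf 0x0))
(.node 7979 (.leaf 0x0)
(.leaf 0x0)))
(.node 7982 (.node 7981 (.leaf 0x0)
(.leaf 0x0))
(.node 7983 (.leaf 0x0)
(.leaf 0x0)))))
(.node 7992 (.node 7988 (.node 7986 (.node 7985 (.leaf 0x0)
(.leaf 0x0))
(.node 7987 (.leaf 0x0)
(.leaf 0x0)))
(.node 7990 (.node 7989 (.leaf 0x0)
(.leaf 0x0))
(.node 7991 (.leaf 0x0)
(.leaf 0x0))))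
(.node 7996 (.node 7994 (.node 7993 (.leaf 0x0)
(.leaf 0x0))
(.node 7995 (.leaf 0x0)
(.leaf 0x0)))
(.node 7998 (.node 7997 (.leaf 0x0)
(.leaf 0x0))
(.node 7999 (.leaf 0x0)
(.leaf 0x0)))))))
(.node 8032 (.node 8016 (.node 8008 (.node 8004 (.node 8002 (.node 8001 (.leaf 0x0)
(.leaf 0x0))
(.node 8003 (.leaf 0x0)
(.leaf 0x0)))
(.node 8006 (.node 8005 (.leaf 0x0)
(.leaf 0x0))
(.node 8007 (.leaf 0x0)
(.leaf 0x0))))
(.node 8012 (.node 8010 (.node 8009 (.leaf 0x0)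
(.leaf 0x0))
(.node 8011 (.leaf 0x0)
(.leaf 0x0)))
(.node 8014 (.node 8013 (.leaf 0x0)
(.leaf 0x0))
(.node 8015 (.leaf 0x0)
(.leaf 0x0)))))
(.node 8024 (.node 8020 (.node 8018 (.node 8017 (.leaf 0x0)
(.leaf 0x0))
(.node 8019 (.leaf 0x0)
(.leaf 0x0)))
(.node 8022 (.node 8021 (.leaf 0x0)
(.leaf 0x0))
(.node 8023 (.leaf 0x0)
(.leaf 0x0))))
(.node 8028 (.node 8026 (.node 8025 (.leaf 0x0)
(.leaf 0x0))
(.node 8027 (.leaf 0x0)
(.leaf 0x0)))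
(.node 8030 (.node 8029 (.leaf 0x0)
(.leaf 0x0))
(.node 8031 (.leaf 0x0)
(.leaf 0x0))))))
(.node 8048 (.node 8040 (.node 8036 (.node 8034 (.node 8033 (.leaf 0x0)
(.leaf 0x0))
(.node 8035 (.leaf 0x0)
(.leaf 0x0)))
(.node 8038 (.node 8037 (.leaf 0x0)
(.leaf 0x0))
(.node 8039 (.leaf 0x0)
(.leaf 0x0))))
(.node 8044 (.node 8042 (.node 8041 (.leaf 0x0)
(.leaf 0x0))
(.node 8043 (.leaf 0x0)
(.leaf 0x0)))
(.node 8046 (.node 8045 (.leaf 0x0)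
(.leaf 0x0))
(.node 8047 (.leaf 0x0)
(.leaf 0x0)))))
(.node 8056 (.node 8052 (.node 8050 (.node 8049 (.leaf 0x0)
(.leaf 0x0))
(.node 8051 (.leaf 0x0)
(.leaf 0x0)))
(.node 8054 (.node 8053 (.leaf 0x0)
(.leaf 0x0))
(.node 8055 (.leaf 0x0)
(.leaf 0x0))))
(.node 8060 (.node 8058 (.node 8057 (.leaf 0x0)
(.leaf 0x0))
(.node 8059 (.leaf 0x0)
(.leaf 0x0)))
(.node 8062 (.node 8061 (.leaf 0x0)
(.leaf 0x0))
(.node 8063 (.leaf 0x0)
(.leaf 0x0))))))))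
(.node 8128 (.node 8096 (.node 8080 (.node 8072 (.node 8068 (.node 8066 (.node 8065 (.leaf 0x0)
(.leaf 0x0))
(.node 8067 (.leaf 0x0)
(.leaf 0x0)))
(.node 8070 (.node 8069 (.leaf 0x0)
(.leaf 0x0))
(.node 8071 (.leaf 0x0)
(.leaf 0x0))))
(.node 8076 (.node 8074 (.node 8073 (.leaf 0x0)
(.leaf 0x0))
(.node 8075 (.leaf 0x0)
(.leaf 0x0)))
(.node 8078 (.node 8077 (.leaf 0x0)
(.leaf 0x0))
(.node 8079 (.leaf 0x0)
(.leaf 0x0)))))
(.node 8088 (.node 8084 (.node 8082 (.node 8081 (.leaf 0x0)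
(.leaf 0x0))
(.node 8083 (.leaf 0x0)
(.leaf 0x0)))
(.node 8086 (.node 8085 (.leaf 0x0)
(.leaf 0x0))
(.node 8087 (.leaf 0x0)
(.leaf 0x0))))
(.node 8092 (.node 8090 (.node 8089 (.leaf 0x0)
(.leaf 0x0))
(.node 8091 (.leaf 0x0)
(.leaf 0x0)))
(.node 8094 (.node 8093 (.leaf 0x0)
(.leaf 0x0))
(.node 8095 (.leaf 0x0)
(.leaf 0x0))))))
(.node 8112 (.node 8104 (.node 8100 (.node 8098 (.node 8097 (.leaf 0x0)
(.leaf 0x0))
(.node 8099 (.leaf 0x0)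
(.leaf 0x0)))
(.node 8102 (.node 8101 (.leaf 0x0)
(.leaf 0x0))
(.node 8103 (.leaf 0x0)
(.leaf 0x0))))
(.node 8108 (.node 8106 (.node 8105 (.leaf 0x0)
(.leaf 0x0))
(.node 8107 (.leaf 0x0)
(.leaf 0x0)))
(.node 8110 (.node 8109 (.leaf 0x0)
(.leaf 0x0))
(.node 8111 (.leaf 0x0)
(.leaf 0x0)))))
(.node 8120 (.node 8116 (.node 8114 (.node 8113 (.leaf 0x0)
(.leaf 0x0))
(.node 8115 (.leaf 0x0)
(.leaf 0x0)))
(.node 8118 (.node 8117 (.leaf 0x0)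
(.leaf 0x0))
(.node 8119 (.leaf 0x0)
(.leaf 0x0))))
(.node 8124 (.node 8122 (.node 8121 (.leaf 0x0)
(.leaf 0x0))
(.node 8123 (.leaf 0x0)
(.leaf 0x0)))
(.node 8126 (.node 8125 (.leaf 0x0)
(.leaf 0x0))
(.node 8127 (.leaf 0x0)
(.leaf 0x0)))))))
(.node 8160 (.node 8144 (.node 8136 (.node 8132 (.node 8130 (.node 8129 (.leaf 0x0)
(.leaf 0x0))
(.node 8131 (.leaf 0x0)
(.leaf 0x0)))
(.node 8134 (.node 8133 (.leaf 0x0)
(.leaf 0x0))
(.node 8135 (.leaf 0x0)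
(.leaf 0x0))))
(.node 8140 (.node 8138 (.node 8137 (.leaf 0x0)
(.leaf 0x0))
(.node 8139 (.leaf 0x0)
(.leaf 0x0)))
(.node 8142 (.node 8141 (.leaf 0x0)
(.leaf 0x0))
(.node 8143 (.leaf 0x0)
(.leaf 0x0)))))
(.node 8152 (.node 8148 (.node 8146 (.node 8145 (.leaf 0x0)
(.leaf 0x0))
(.node 8147 (.leaf 0x0)
(.leaf 0x0)))
(.node 8150 (.node 8149 (.leaf 0x0)
(.leaf 0x0))
(.node 8151 (.leaf 0x0)
(.leaf 0x0))))
(.node 8156 (.node 8154 (.node 8153 (.leaf 0x0)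
(.leaf 0x0))
(.node 8155 (.leaf 0x0)
(.leaf 0x0)))
(.node 8158 (.node 8157 (.leaf 0x0)
(.leaf 0x0))
(.node 8159 (.leaf 0x0)
(.leaf 0x0))))))
(.node 8176 (.node 8168 (.node 8164 (.node 8162 (.node 8161 (.leaf 0x0)
(.leaf 0x0))
(.node 8163 (.leaf 0x0)
(.leaf 0x0)))
(.node 8166 (.node 8165 (.leaf 0x0)
(.leaf 0x0))
(.node 8167 (.leaf 0x0)
(.leaf 0x0))))
(.node 8172 (.node 8170 (.node 8169 (.leaf 0x0)
(.leaf 0x0))
(.node 8171 (.leaf 0x0)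
(.leaf 0x0)))
(.node 8174 (.node 8173 (.leaf 0x0)
(.leaf 0x0))
(.node 8175 (.leaf 0x0)
(.leaf 0x0)))))
(.node 8184 (.node 8180 (.node 8178 (.node 8177 (.leaf 0x0)
(.leaf 0x0))
(.node 8179 (.leaf 0x0)
(.leaf 0x0)))
(.node 8182 (.node 8181 (.leaf 0x0)
(.leaf 0x0))
(.node 8183 (.leaf 0x0)
(.leaf 0x0))))
(.node 8188 (.node 8186 (.node 8185 (.leaf 0x0)
(.leaf 0x0))
(.node 8187 (.leaf 0x0)
(.leaf 0x0)))
(.node 8190 (.node 8189 (.leaf 0x0)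
(.leaf 0x0))
(.node 8191 (.leaf 0x0)
(.leaf 0x0)))))))))

/-- part of the trie -/
def labPart32 : Tr :=
(.node 8320 (.node 8256 (.node 8224 (.node 8208 (.node 8200 (.node 8196 (.node 8194 (.node 8193 (.leaf 0x0)
(.leaf 0x0))
(.node 8195 (.leaf 0x0)
(.leaf 0x0)))
(.node 8198 (.node 8197 (.leaf 0x0)
(.leaf 0x0))
(.node 8199 (.leaf 0x0)
(.leaf 0x0))))
(.node 8204 (.node 8202 (.node 8201 (.leaf 0x0)
(.leaf 0x0))
(.node 8203 (.leaf 0x0)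
(.leaf 0x0)))
(.node 8206 (.node 8205 (.leaf 0x0)
(.leaf 0x0))
(.node 8207 (.leaf 0x0)
(.leaf 0x0)))))
(.node 8216 (.node 8212 (.node 8210 (.node 8209 (.leaf 0x0)
(.leaf 0x0))
(.node 8211 (.leaf 0x0)
(.leaf 0x0)))
(.node 8214 (.node 8213 (.leaf 0x0)
(.leaf 0x0))
(.node 8215 (.leaf 0x0)
(.leaf 0x0))))
(.node 8220 (.node 8218 (.node 8217 (.leaf 0x0)
(.leaf 0x0))
(.node 8219 (.leaf 0x0)
(.leaf 0x0)))
(.node 8222 (.node 8221 (.leaf 0x0)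
(.leaf 0x0))
(.node 8223 (.leaf 0x0)
(.leaf 0x0))))))
(.node 8240 (.node 8232 (.node 8228 (.node 8226 (.node 8225 (.leaf 0x0)
(.leaf 0x0))
(.node 8227 (.leaf 0x0)
(.leaf 0x0)))
(.node 8230 (.node 8229 (.leaf 0x0)
(.leaf 0x0))
(.node 8231 (.leaf 0x0)
(.leaf 0x0))))
(.node 8236 (.node 8234 (.node 8233 (.leaf 0x0)
(.leaf 0x0))
(.node 8235 (.leaf 0x0)
(.leaf 0x0)))
(.node 8238 (.node 8237 (.leaf 0x0)
(.leaf 0x0))
(.node 8239 (.leaf 0x0)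
(.leaf 0x0)))))
(.node 8248 (.node 8244 (.node 8242 (.node 8241 (.leaf 0x0)
(.leaf 0x0))
(.node 8243 (.leaf 0x0)
(.leaf 0x0)))
(.node 8246 (.node 8245 (.leaf 0x0)
(.leaf 0x0))
(.node 8247 (.leaf 0x0)
(.leaf 0x0))))
(.node 8252 (.node 8250 (.node 8249 (.leaf 0x0)
(.leaf 0x0))
(.node 8251 (.leaf 0x0)
(.leaf 0x0)))
(.node 8254 (.node 8253 (.leaf 0x0)
(.leaf 0x0))
(.node 8255 (.leaf 0x0)
(.leaf 0x0)))))))
(.node 8288 (.node 8272 (.node 8264 (.node 8260 (.node 8258 (.node 8257 (.leaf 0x0)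
(.leaf 0x0))
(.node 8259 (.leaf 0x0)
(.leaf 0x0)))
(.node 8262 (.node 8261 (.leaf 0x0)
(.leaf 0x0))
(.node 8263 (.leaf 0x0)
(.leaf 0x0))))
(.node 8268 (.node 8266 (.node 8265 (.leaf 0x0)
(.leaf 0x0))
(.node 8267 (.leaf 0x0)
(.leaf 0x0)))
(.node 8270 (.node 8269 (.leaf 0x0)
(.leaf 0x0))
(.node 8271 (.leaf 0x0)
(.leaf 0x0)))))
(.node 8280 (.node 8276 (.node 8274 (.node 8273 (.leaf 0x0)
(.leaf 0x0))
(.node 8275 (.leaf 0x0)
(.leaf 0x0)))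
(.node 8278 (.node 8277 (.leaf 0x0)
(.leaf 0x0))
(.node 8279 (.leaf 0x0)
(.leaf 0x0))))
(.node 8284 (.node 8282 (.node 8281 (.leaf 0x0)
(.leaf 0x0))
(.node 8283 (.leaf 0x0)
(.leaf 0x0)))
(.node 8286 (.node 8285 (.leaf 0x0)
(.leaf 0x0))
(.node 8287 (.leaf 0x0)
(.leaf 0x0))))))
(.node 8304 (.node 8296 (.node 8292 (.node 8290 (.node 8289 (.leaf 0x0)
(.leaf 0x0))
(.node 8291 (.leaf 0x0)
(.leaf 0x0)))
(.node 8294 (.node 8293 (.leaf 0x0)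
(.leaf 0x0))
(.node 8295 (.leaf 0x0)
(.leaf 0x0))))
(.node 8300 (.node 8298 (.node 8297 (.leaf 0x0)
(.leaf 0x0))
(.node 8299 (.leaf 0x0)
(.leaf 0x0)))
(.node 8302 (.node 8301 (.leaf 0x0)
(.leaf 0x0))
(.node 8303 (.leaf 0x0)
(.leaf 0x0)))))
(.node 8312 (.node 8308 (.node 8306 (.node 8305 (.leaf 0x0)
(.leaf 0x0))
(.node 8307 (.leaf 0x0)
(.leaf 0x0)))
(.node 8310 (.node 8309 (.leaf 0x0)
(.leaf 0x0))
(.node 8311 (.leaf 0x0)
(.leaf 0x0))))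
(.node 8316 (.node 8314 (.node 8313 (.leaf 0x0)
(.leaf 0x0))
(.node 8315 (.leaf 0x0)
(.leaf 0x0)))
(.node 8318 (.node 8317 (.leaf 0x0)
(.leaf 0x0))
(.node 8319 (.leaf 0x0)
(.leaf 0x0))))))))
(.node 8384 (.node 8352 (.node 8336 (.node 8328 (.node 8324 (.node 8322 (.node 8321 (.leaf 0x0)
(.leaf 0x0))
(.node 8323 (.leaf 0x0)
(.leaf 0x0)))
(.node 8326 (.node 8325 (.leaf 0x0)
(.leaf 0x0))
(.node 8327 (.leaf 0x0)
(.leaf 0x0))))
(.node 8332 (.node 8330 (.node 8329 (.leaf 0x0)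
(.leaf 0x0))
(.node 8331 (.leaf 0x0)
(.leaf 0x0)))
(.node 8334 (.node 8333 (.leaf 0x0)
(.leaf 0x0))
(.node 8335 (.leaf 0x0)
(.leaf 0x0)))))
(.node 8344 (.node 8340 (.node 8338 (.node 8337 (.leaf 0x0)
(.leaf 0x0))
(.node 8339 (.leaf 0x0)
(.leaf 0x0)))
(.node 8342 (.node 8341 (.leaf 0x0)
(.leaf 0x0))
(.node 8343 (.leaf 0x0)
(.leaf 0x0))))
(.node 8348 (.node 8346 (.node 8345 (.leaf 0x0)
(.leaf 0x0))
(.node 8347 (.leaf 0x0)
(.leaf 0x0)))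
(.node 8350 (.node 8349 (.leaf 0x0)
(.leaf 0x0))
(.node 8351 (.leaf 0x0)
(.leaf 0x0))))))
(.node 8368 (.node 8360 (.node 8356 (.node 8354 (.node 8353 (.leaf 0x0)
(.leaf 0x0))
(.node 8355 (.leaf 0x0)
(.leaf 0x0)))
(.node 8358 (.node 8357 (.leaf 0x0)
(.leaf 0x0))
(.node 8359 (.leaf 0x0)
(.leaf 0x0))))
(.node 8364 (.node 8362 (.node 8361 (.leaf 0x0)
(.leaf 0x0))
(.node 8363 (.leaf 0x0)
(.leaf 0x0)))
(.node 8366 (.node 8365 (.leaf 0x0)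
(.leaf 0x0))
(.node 8367 (.leaf 0x0)
(.leaf 0x0)))))
(.node 8376 (.node 8372 (.node 8370 (.node 8369 (.leaf 0x0)
(.leaf 0x0))
(.node 8371 (.leaf 0x0)
(.leaf 0x0)))
(.node 8374 (.node 8373 (.leaf 0x0)
(.leaf 0x0))
(.node 8375 (.leaf 0x0)
(.leaf 0x0))))
(.node 8380 (.node 8378 (.node 8377 (.leaf 0x0)
(.leaf 0x0))
(.node 8379 (.leaf 0x0)
(.leaf 0x0)))
(.node 8382 (.node 8381 (.leaf 0x0)
(.leaf 0x0))
(.node 8383 (.leaf 0x0)
(.leaf 0x0)))))))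
(.node 8416 (.node 8400 (.node 8392 (.node 8388 (.node 8386 (.node 8385 (.leaf 0x0)
(.leaf 0x0))
(.node 8387 (.leaf 0x0)
(.leaf 0x0)))
(.node 8390 (.node 8389 (.leaf 0x0)
(.leaf 0x0))
(.node 8391 (.leaf 0x0)
(.leaf 0x0))))
(.node 8396 (.node 8394 (.node 8393 (.leaf 0x0)
(.leaf 0x0))
(.node 8395 (.leaf 0x0)
(.leaf 0x0)))
(.node 8398 (.node 8397 (.leaf 0x0)
(.leaf 0x0))
(.node 8399 (.leaf 0x0)
(.leaf 0x0)))))
(.node 8408 (.node 8404 (.node 8402 (.node 8401 (.leaf 0x0)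
(.leaf 0x0))
(.node 8403 (.leaf 0x0)
(.leaf 0x0)))
(.node 8406 (.node 8405 (.leaf 0x0)
(.leaf 0x0))
(.node 8407 (.leaf 0x0)
(.leaf 0x0))))
(.node 8412 (.node 8410 (.node 8409 (.leaf 0x0)
(.leaf 0x0))
(.node 8411 (.leaf 0x200000800000000000000000000000000000000000000000000000000000000000000000000000000000000000)
(.leaf 0x200000000000000000000002000000800000000)))
(.node 8414 (.node 8413 (.leaf 0x0)
(.leaf 0x8000000000000000000000000000))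
(.node 8415 (.leaf 0x20000000000000000000000000000000000000000000000000000000000000000000000000000)
(.leaf 0x0))))))
(.node 8432 (.node 8424 (.node 8420 (.node 8418 (.node 8417 (.leaf 0x0)
(.leaf 0x0))
(.node 8419 (.leaf 0x0)
(.leaf 0x0)))
(.node 8422 (.node 8421 (.leaf 0x80)
(.leaf 0x0))
(.node 8423 (.leaf 0x0)
(.leaf 0x0))))
(.node 8428 (.node 8426 (.node 8425 (.leaf 0x0)
(.leaf 0x0))
(.node 8427 (.leaf 0x0)
(.leaf 0x0)))
(.node 8430 (.node 8429 (.leaf 0x20000000)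
(.leaf 0x0))
(.node 8431 (.leaf 0x0)
(.leaf 0x0)))))
(.node 8440 (.node 8436 (.node 8434 (.node 8433 (.leaf 0x0)
(.leaf 0x0))
(.node 8435 (.leaf 0x0)
(.leaf 0x0)))
(.node 8438 (.node 8437 (.leaf 0x0)
(.leaf 0x0))
(.node 8439 (.leaf 0x0)
(.leaf 0x0))))
(.node 8444 (.node 8442 (.node 8441 (.leaf 0x0)
(.leaf 0x0))
(.node 8443 (.leaf 0x0)
(.leaf 0x0)))
(.node 8446 (.node 8445 (.leaf 0x0)
(.leaf 0x0))
(.node 8447 (.leaf 0x0)
(.leaf 0x0)))))))))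

/-- part of the trie -/
def labPart33 : Tr :=
(.node 8576 (.node 8512 (.node 8480 (.node 8464 (.node 8456 (.node 8452 (.node 8450 (.node 8449 (.leaf 0x0)
(.leaf 0x0))
(.node 8451 (.leaf 0x0)
(.leaf 0x0)))
(.node 8454 (.node 8453 (.leaf 0x0)
(.leaf 0x0))
(.node 8455 (.leaf 0x0)
(.leaf 0x0))))
(.node 8460 (.node 8458 (.node 8457 (.leaf 0x0)
(.leaf 0x0))
(.node 8459 (.leaf 0x0)
(.leaf 0x0)))
(.node 8462 (.node 8461 (.leaf 0x0)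
(.leaf 0x0))
(.node 8463 (.leaf 0x0)
(.leaf 0x0)))))
(.node 8472 (.node 8468 (.node 8466 (.node 8465 (.leaf 0x0)
(.leaf 0x0))
(.node 8467 (.leaf 0x0)
(.leaf 0x0)))
(.node 8470 (.node 8469 (.leaf 0x0)
(.leaf 0x0))
(.node 8471 (.leaf 0x0)
(.leaf 0x0))))
(.node 8476 (.node 8474 (.node 8473 (.leaf 0x0)
(.leaf 0x0))
(.node 8475 (.leaf 0x0)
(.leaf 0x0)))
(.node 8478 (.node 8477 (.leaf 0x0)
(.leaf 0x0))
(.node 8479 (.leaf 0x0)
(.leaf 0x0))))))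
(.node 8496 (.node 8488 (.node 8484 (.node 8482 (.node 8481 (.leaf 0x0)
(.leaf 0x0))
(.node 8483 (.leaf 0x0)
(.leaf 0x0)))
(.node 8486 (.node 8485 (.leaf 0x0)
(.leaf 0x0))
(.node 8487 (.leaf 0x0)
(.leaf 0x0))))
(.node 8492 (.node 8490 (.node 8489 (.leaf 0x0)
(.leaf 0x0))
(.node 8491 (.leaf 0x0)
(.leaf 0x0)))
(.node 8494 (.node 8493 (.leaf 0x0)
(.leaf 0x0))
(.node 8495 (.leaf 0x0)
(.leaf 0x0)))))
(.node 8504 (.node 8500 (.node 8498 (.node 8497 (.leaf 0x0)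
(.leaf 0x0))
(.node 8499 (.leaf 0x0)
(.leaf 0x0)))
(.node 8502 (.node 8501 (.leaf 0x0)
(.leaf 0x0))
(.node 8503 (.leaf 0x0)
(.leaf 0x0))))
(.node 8508 (.node 8506 (.node 8505 (.leaf 0x0)
(.leaf 0x0))
(.node 8507 (.leaf 0x0)
(.leaf 0x0)))
(.node 8510 (.node 8509 (.leaf 0x0)
(.leaf 0x0))
(.node 8511 (.leaf 0x0)
(.leaf 0x0)))))))
(.node 8544 (.node 8528 (.node 8520 (.node 8516 (.node 8514 (.node 8513 (.leaf 0x0)
(.leaf 0x0))
(.node 8515 (.leaf 0x0)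
(.leaf 0x0)))
(.node 8518 (.node 8517 (.leaf 0x0)
(.leaf 0x0))
(.node 8519 (.leaf 0x0)
(.leaf 0x0))))
(.node 8524 (.node 8522 (.node 8521 (.leaf 0x0)
(.leaf 0x0))
(.node 8523 (.leaf 0x0)
(.leaf 0x0)))
(.node 8526 (.node 8525 (.leaf 0x0)
(.leaf 0x0))
(.node 8527 (.leaf 0x0)
(.leaf 0x0)))))
(.node 8536 (.node 8532 (.node 8530 (.node 8529 (.leaf 0x80000000000000000000000000000000000000000000000000000)
(.leaf 0x0))
(.node 8531 (.leaf 0x0)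
(.leaf 0x0)))
(.node 8534 (.node 8533 (.leaf 0x0)
(.leaf 0x0))
(.node 8535 (.leaf 0x0)
(.leaf 0x0))))
(.node 8540 (.node 8538 (.node 8537 (.leaf 0x0)
(.leaf 0x0))
(.node 8539 (.leaf 0x0)
(.leaf 0x0)))
(.node 8542 (.node 8541 (.leaf 0x0)
(.leaf 0x0))
(.node 8543 (.leaf 0x0)
(.leaf 0x0))))))
(.node 8560 (.node 8552 (.node 8548 (.node 8546 (.node 8545 (.leaf 0x0)
(.leaf 0x0))
(.node 8547 (.leaf 0x0)
(.leaf 0x0)))
(.node 8550 (.node 8549 (.leaf 0x0)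
(.leaf 0x0))
(.node 8551 (.leaf 0x0)
(.leaf 0x0))))
(.node 8556 (.node 8554 (.node 8553 (.leaf 0x0)
(.leaf 0x0))
(.node 8555 (.leaf 0x0)
(.leaf 0x0)))
(.node 8558 (.node 8557 (.leaf 0x0)
(.leaf 0x0))
(.node 8559 (.leaf 0x0)
(.leaf 0x0)))))
(.node 8568 (.node 8564 (.node 8562 (.node 8561 (.leaf 0x0)
(.leaf 0x0))
(.node 8563 (.leaf 0x0)
(.leaf 0x0)))
(.node 8566 (.node 8565 (.leaf 0x0)
(.leaf 0x0))
(.node 8567 (.leaf 0x0)
(.leaf 0x0))))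
(.node 8572 (.node 8570 (.node 8569 (.leaf 0x0)
(.leaf 0x0))
(.node 8571 (.leaf 0x0)
(.leaf 0x0)))
(.node 8574 (.node 8573 (.leaf 0x0)
(.leaf 0x0))
(.node 8575 (.leaf 0x0)
(.leaf 0x0))))))))
(.node 8640 (.node 8608 (.node 8592 (.node 8584 (.node 8580 (.node 8578 (.node 8577 (.leaf 0x0)
(.leaf 0x0))
(.node 8579 (.leaf 0x0)
(.leaf 0x0)))
(.node 8582 (.node 8581 (.leaf 0x0)
(.leaf 0x0))
(.node 8583 (.leaf 0x0)
(.leaf 0x0))))
(.node 8588 (.node 8586 (.node 8585 (.leaf 0x0)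
(.leaf 0x0))
(.node 8587 (.leaf 0x0)
(.leaf 0x0)))
(.node 8590 (.node 8589 (.leaf 0x0)
(.leaf 0x0))
(.node 8591 (.leaf 0x0)
(.leaf 0x0)))))
(.node 8600 (.node 8596 (.node 8594 (.node 8593 (.leaf 0x0)
(.leaf 0x0))
(.node 8595 (.leaf 0x0)
(.leaf 0x0)))
(.node 8598 (.node 8597 (.leaf 0x0)
(.leaf 0x0))
(.node 8599 (.leaf 0x0)
(.leaf 0x0))))
(.node 8604 (.node 8602 (.node 8601 (.leaf 0x0)
(.leaf 0x0))
(.node 8603 (.leaf 0x0)
(.leaf 0x0)))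
(.node 8606 (.node 8605 (.leaf 0x0)
(.leaf 0x0))
(.node 8607 (.leaf 0x0)
(.leaf 0x0))))))
(.node 8624 (.node 8616 (.node 8612 (.node 8610 (.node 8609 (.leaf 0x0)
(.leaf 0x0))
(.node 8611 (.leaf 0x0)
(.leaf 0x0)))
(.node 8614 (.node 8613 (.leaf 0x0)
(.leaf 0x0))
(.node 8615 (.leaf 0x0)
(.leaf 0x0))))
(.node 8620 (.node 8618 (.node 8617 (.leaf 0x0)
(.leaf 0x0))
(.node 8619 (.leaf 0x0)
(.leaf 0x0)))
(.node 8622 (.node 8621 (.leaf 0x0)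
(.leaf 0x0))
(.node 8623 (.leaf 0x0)
(.leaf 0x0)))))
(.node 8632 (.node 8628 (.node 8626 (.node 8625 (.leaf 0x200000000000000000000002000000800000000000000200000800000000000000000000000000000000000)
(.leaf 0x8000000000000000000000000000000000000000000000000000000000))
(.node 8627 (.leaf 0x20000000000000000000000000000000000000000000000000000000000000000)
(.leaf 0x0)))
(.node 8630 (.node 8629 (.leaf 0x0)
(.leaf 0x0))
(.node 8631 (.leaf 0x80000000000000000000000000000000000000000000)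
(.leaf 0x0))))
(.node 8636 (.node 8634 (.node 8633 (.leaf 0x20000000000000000000000000000000000000000000000000000000000000000000000000000000000000)
(.leaf 0x0))
(.node 8635 (.leaf 0x0)
(.leaf 0x0)))
(.node 8638 (.node 8637 (.leaf 0x0)
(.leaf 0x0))
(.node 8639 (.leaf 0x0)
(.leaf 0x0)))))))
(.node 8672 (.node 8656 (.node 8648 (.node 8644 (.node 8642 (.node 8641 (.leaf 0x0)
(.leaf 0x0))
(.node 8643 (.leaf 0x0)
(.leaf 0x0)))
(.node 8646 (.node 8645 (.leaf 0x0)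
(.leaf 0x0))
(.node 8647 (.leaf 0x0)
(.leaf 0x0))))
(.node 8652 (.node 8650 (.node 8649 (.leaf 0x0)
(.leaf 0x0))
(.node 8651 (.leaf 0x0)
(.leaf 0x0)))
(.node 8654 (.node 8653 (.leaf 0x0)
(.leaf 0x0))
(.node 8655 (.leaf 0x0)
(.leaf 0x0)))))
(.node 8664 (.node 8660 (.node 8658 (.node 8657 (.leaf 0x0)
(.leaf 0x0))
(.node 8659 (.leaf 0x0)
(.leaf 0x0)))
(.node 8662 (.node 8661 (.leaf 0x0)
(.leaf 0x0))
(.node 8663 (.leaf 0x0)
(.leaf 0x0))))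
(.node 8668 (.node 8666 (.node 8665 (.leaf 0x0)
(.leaf 0x0))
(.node 8667 (.leaf 0x0)
(.leaf 0x0)))
(.node 8670 (.node 8669 (.leaf 0x0)
(.leaf 0x0))
(.node 8671 (.leaf 0x0)
(.leaf 0x0))))))
(.node 8688 (.node 8680 (.node 8676 (.node 8674 (.node 8673 (.leaf 0x0)
(.leaf 0x0))
(.node 8675 (.leaf 0x0)
(.leaf 0x0)))
(.node 8678 (.node 8677 (.leaf 0x0)
(.leaf 0x0))
(.node 8679 (.leaf 0x0)
(.leaf 0x0))))
(.node 8684 (.node 8682 (.node 8681 (.leaf 0x0)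
(.leaf 0x0))
(.node 8683 (.leaf 0x0)
(.leaf 0x0)))
(.node 8686 (.node 8685 (.leaf 0x0)
(.leaf 0x0))
(.node 8687 (.leaf 0x0)
(.leaf 0x0)))))
(.node 8696 (.node 8692 (.node 8690 (.node 8689 (.leaf 0x0)
(.leaf 0x0))
(.node 8691 (.leaf 0x0)
(.leaf 0x0)))
(.node 8694 (.node 8693 (.leaf 0x0)
(.leaf 0x0))
(.node 8695 (.leaf 0x0)
(.leaf 0x0))))
(.node 8700 (.node 8698 (.node 8697 (.leaf 0x0)
(.leaf 0x0))
(.node 8699 (.leaf 0x0)
(.leaf 0x0)))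
(.node 8702 (.node 8701 (.leaf 0x0)
(.leaf 0x0))
(.node 8703 (.leaf 0x0)
(.leaf 0x0)))))))))

/-- part of the trie -/
def labPart34 : Tr :=
(.node 8832 (.node 8768 (.node 8736 (.node 8720 (.node 8712 (.node 8708 (.node 8706 (.node 8705 (.leaf 0x0)
(.leaf 0x0))
(.node 8707 (.leaf 0x0)
(.leaf 0x0)))
(.node 8710 (.node 8709 (.leaf 0x0)
(.leaf 0x0))
(.node 8711 (.leaf 0x0)
(.leaf 0x0))))
(.node 8716 (.node 8714 (.node 8713 (.leaf 0x0)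
(.leaf 0x0))
(.node 8715 (.leaf 0x0)
(.leaf 0x0)))
(.node 8718 (.node 8717 (.leaf 0x0)
(.leaf 0x0))
(.node 8719 (.leaf 0x0)
(.leaf 0x0)))))
(.node 8728 (.node 8724 (.node 8722 (.node 8721 (.leaf 0x0)
(.leaf 0x0))
(.node 8723 (.leaf 0x0)
(.leaf 0x0)))
(.node 8726 (.node 8725 (.leaf 0x0)
(.leaf 0x0))
(.node 8727 (.leaf 0x0)
(.leaf 0x0))))
(.node 8732 (.node 8730 (.node 8729 (.leaf 0x0)
(.leaf 0x0))
(.node 8731 (.leaf 0x0)
(.leaf 0x0)))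
(.node 8734 (.node 8733 (.leaf 0x0)
(.leaf 0x0))
(.node 8735 (.leaf 0x0)
(.leaf 0x0))))))
(.node 8752 (.node 8744 (.node 8740 (.node 8738 (.node 8737 (.leaf 0x0)
(.leaf 0x0))
(.node 8739 (.leaf 0x0)
(.leaf 0x0)))
(.node 8742 (.node 8741 (.leaf 0x0)
(.leaf 0x0))
(.node 8743 (.leaf 0x0)
(.leaf 0x0))))
(.node 8748 (.node 8746 (.node 8745 (.leaf 0x0)
(.leaf 0x0))
(.node 8747 (.leaf 0x0)
(.leaf 0x0)))
(.node 8750 (.node 8749 (.leaf 0x0)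
(.leaf 0x0))
(.node 8751 (.leaf 0x0)
(.leaf 0x0)))))
(.node 8760 (.node 8756 (.node 8754 (.node 8753 (.leaf 0x0)
(.leaf 0x0))
(.node 8755 (.leaf 0x0)
(.leaf 0x0)))
(.node 8758 (.node 8757 (.leaf 0x0)
(.leaf 0x0))
(.node 8759 (.leaf 0x0)
(.leaf 0x0))))
(.node 8764 (.node 8762 (.node 8761 (.leaf 0x0)
(.leaf 0x0))
(.node 8763 (.leaf 0x0)
(.leaf 0x0)))
(.node 8766 (.node 8765 (.leaf 0x0)
(.leaf 0x0))
(.node 8767 (.leaf 0x2000000800000000000000200000800000000000000000000000000000000000000000000000000000)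
(.leaf 0x200000000)))))))
(.node 8800 (.node 8784 (.node 8776 (.node 8772 (.node 8770 (.node 8769 (.leaf 0x0)
(.leaf 0x8000000000000000000000000000000000000000000000000000000000000000))
(.node 8771 (.leaf 0x0)
(.leaf 0x0)))
(.node 8774 (.node 8773 (.leaf 0x20000000000000000)
(.leaf 0x0))
(.node 8775 (.leaf 0x0)
(.leaf 0x0))))
(.node 8780 (.node 8778 (.node 8777 (.leaf 0x0)
(.leaf 0x0))
(.node 8779 (.leaf 0x0)
(.leaf 0x0)))
(.node 8782 (.node 8781 (.leaf 0x0)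
(.leaf 0x80000000000000000000000000000000000000000000000000000000000000))
(.node 8783 (.leaf 0x0)
(.leaf 0x0)))))
(.node 8792 (.node 8788 (.node 8786 (.node 8785 (.leaf 0x0)
(.leaf 0x0))
(.node 8787 (.leaf 0x0)
(.leaf 0x0)))
(.node 8790 (.node 8789 (.leaf 0x0)
(.leaf 0x0))
(.node 8791 (.leaf 0x0)
(.leaf 0x0))))
(.node 8796 (.node 8794 (.node 8793 (.leaf 0x0)
(.leaf 0x0))
(.node 8795 (.leaf 0x0)
(.leaf 0x20000000000000000000000000000000000000000000000000000000000000000000)))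
(.node 8798 (.node 8797 (.leaf 0x0)
(.leaf 0x0))
(.node 8799 (.leaf 0x0)
(.leaf 0x0))))))
(.node 8816 (.node 8808 (.node 8804 (.node 8802 (.node 8801 (.leaf 0x0)
(.leaf 0x0))
(.node 8803 (.leaf 0x0)
(.leaf 0x0)))
(.node 8806 (.node 8805 (.leaf 0x0)
(.leaf 0x0))
(.node 8807 (.leaf 0x0)
(.leaf 0x0))))
(.node 8812 (.node 8810 (.node 8809 (.leaf 0x0)
(.leaf 0x0))
(.node 8811 (.leaf 0x0)
(.leaf 0x0)))
(.node 8814 (.node 8813 (.leaf 0x0)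
(.leaf 0x0))
(.node 8815 (.leaf 0x0)
(.leaf 0x0)))))
(.node 8824 (.node 8820 (.node 8818 (.node 8817 (.leaf 0x0)
(.leaf 0x0))
(.node 8819 (.leaf 0x0)
(.leaf 0x0)))
(.node 8822 (.node 8821 (.leaf 0x0)
(.leaf 0x0))
(.node 8823 (.leaf 0x0)
(.leaf 0x0))))
(.node 8828 (.node 8826 (.node 8825 (.leaf 0x0)
(.leaf 0x0))
(.node 8827 (.leaf 0x0)
(.leaf 0x0)))
(.node 8830 (.node 8829 (.leaf 0x0)
(.leaf 0x0))
(.node 8831 (.leaf 0x0)
(.leaf 0x0))))))))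
(.node 8896 (.node 8864 (.node 8848 (.node 8840 (.node 8836 (.node 8834 (.node 8833 (.leaf 0x0)
(.leaf 0x0))
(.node 8835 (.leaf 0x0)
(.leaf 0x0)))
(.node 8838 (.node 8837 (.leaf 0x0)
(.leaf 0x0))
(.node 8839 (.leaf 0x0)
(.leaf 0x0))))
(.node 8844 (.node 8842 (.node 8841 (.leaf 0x0)
(.leaf 0x0))
(.node 8843 (.leaf 0x0)
(.leaf 0x0)))
(.node 8846 (.node 8845 (.leaf 0x0)
(.leaf 0x0))
(.node 8847 (.leaf 0x0)
(.leaf 0x0)))))
(.node 8856 (.node 8852 (.node 8850 (.node 8849 (.leaf 0x0)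
(.leaf 0x0))
(.node 8851 (.leaf 0x0)
(.leaf 0x0)))
(.node 8854 (.node 8853 (.leaf 0x0)
(.leaf 0x0))
(.node 8855 (.leaf 0x0)
(.leaf 0x0))))
(.node 8860 (.node 8858 (.node 8857 (.leaf 0x0)
(.leaf 0x0))
(.node 8859 (.leaf 0x0)
(.leaf 0x0)))
(.node 8862 (.node 8861 (.leaf 0x0)
(.leaf 0x0))
(.node 8863 (.leaf 0x0)
(.leaf 0x0))))))
(.node 8880 (.node 8872 (.node 8868 (.node 8866 (.node 8865 (.leaf 0x0)
(.leaf 0x0))
(.node 8867 (.leaf 0x0)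
(.leaf 0x0)))
(.node 8870 (.node 8869 (.leaf 0x0)
(.leaf 0x0))
(.node 8871 (.leaf 0x0)
(.leaf 0x0))))
(.node 8876 (.node 8874 (.node 8873 (.leaf 0x0)
(.leaf 0x0))
(.node 8875 (.leaf 0x0)
(.leaf 0x0)))
(.node 8878 (.node 8877 (.leaf 0x0)
(.leaf 0x0))
(.node 8879 (.leaf 0x0)
(.leaf 0x0)))))
(.node 8888 (.node 8884 (.node 8882 (.node 8881 (.leaf 0x0)
(.leaf 0x0))
(.node 8883 (.leaf 0x0)
(.leaf 0x0)))
(.node 8886 (.node 8885 (.leaf 0x0)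
(.leaf 0x0))
(.node 8887 (.leaf 0x0)
(.leaf 0x0))))
(.node 8892 (.node 8890 (.node 8889 (.leaf 0x0)
(.leaf 0x0))
(.node 8891 (.leaf 0x0)
(.leaf 0x0)))
(.node 8894 (.node 8893 (.leaf 0x0)
(.leaf 0x0))
(.node 8895 (.leaf 0x0)
(.leaf 0x0)))))))
(.node 8928 (.node 8912 (.node 8904 (.node 8900 (.node 8898 (.node 8897 (.leaf 0x0)
(.leaf 0x0))
(.node 8899 (.leaf 0x0)
(.leaf 0x0)))
(.node 8902 (.node 8901 (.leaf 0x0)
(.leaf 0x0))
(.node 8903 (.leaf 0x0)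
(.leaf 0x0))))
(.node 8908 (.node 8906 (.node 8905 (.leaf 0x0)
(.leaf 0x0))
(.node 8907 (.leaf 0x0)
(.leaf 0x0)))
(.node 8910 (.node 8909 (.leaf 0x0)
(.leaf 0x0))
(.node 8911 (.leaf 0x0)
(.leaf 0x0)))))
(.node 8920 (.node 8916 (.node 8914 (.node 8913 (.leaf 0x0)
(.leaf 0x0))
(.node 8915 (.leaf 0x200000800000000000000000000000000000000000000000000000000000000000000000000000000000000000000000)
(.leaf 0x200000000000000000000002000000800000000000000)))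
(.node 8918 (.node 8917 (.leaf 0x0)
(.leaf 0x8000000000000000000000000000000000000000000000000000000000000000000000))
(.node 8919 (.leaf 0x0)
(.leaf 0x20000000000000000000000000000000000))))
(.node 8924 (.node 8922 (.node 8921 (.leaf 0x0)
(.leaf 0x0))
(.node 8923 (.leaf 0x0)
(.leaf 0x0)))
(.node 8926 (.node 8925 (.leaf 0x0)
(.leaf 0x0))
(.node 8927 (.leaf 0x80000000000000000000000000000000000000000000000000000000000000000000000000000000)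
(.leaf 0x0))))))
(.node 8944 (.node 8936 (.node 8932 (.node 8930 (.node 8929 (.leaf 0x0)
(.leaf 0x0))
(.node 8931 (.leaf 0x0)
(.leaf 0x0)))
(.node 8934 (.node 8933 (.leaf 0x0)
(.leaf 0x0))
(.node 8935 (.leaf 0x0)
(.leaf 0x0))))
(.node 8940 (.node 8938 (.node 8937 (.leaf 0x20000000000000000000000000000000000000000000000000000000000000000000000000000000000000000000)
(.leaf 0x0))
(.node 8939 (.leaf 0x0)
(.leaf 0x0)))
(.node 8942 (.node 8941 (.leaf 0x0)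
(.leaf 0x0))
(.node 8943 (.leaf 0x0)
(.leaf 0x0)))))
(.node 8952 (.node 8948 (.node 8946 (.node 8945 (.leaf 0x0)
(.leaf 0x0))
(.node 8947 (.leaf 0x0)
(.leaf 0x0)))
(.node 8950 (.node 8949 (.leaf 0x0)
(.leaf 0x0))
(.node 8951 (.leaf 0x0)
(.leaf 0x0))))
(.node 8956 (.node 8954 (.node 8953 (.leaf 0x0)
(.leaf 0x0))
(.node 8955 (.leaf 0x0)
(.leaf 0x0)))
(.node 8958 (.node 8957 (.leaf 0x0)
(.leaf 0x0))
(.node 8959 (.leaf 0x0)
(.leaf 0x0)))))))))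

/-- part of the trie -/
def labPart35 : Tr :=
(.node 9088 (.node 9024 (.node 8992 (.node 8976 (.node 8968 (.node 8964 (.node 8962 (.node 8961 (.leaf 0x0)
(.leaf 0x0))
(.node 8963 (.leaf 0x0)
(.leaf 0x0)))
(.node 8966 (.node 8965 (.leaf 0x0)
(.leaf 0x0))
(.node 8967 (.leaf 0x0)
(.leaf 0x0))))
(.node 8972 (.node 8970 (.node 8969 (.leaf 0x0)
(.leaf 0x0))
(.node 8971 (.leaf 0x0)
(.leaf 0x0)))
(.node 8974 (.node 8973 (.leaf 0x0)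
(.leaf 0x0))
(.node 8975 (.leaf 0x0)
(.leaf 0x0)))))
(.node 8984 (.node 8980 (.node 8978 (.node 8977 (.leaf 0x0)
(.leaf 0x0))
(.node 8979 (.leaf 0x0)
(.leaf 0x0)))
(.node 8982 (.node 8981 (.leaf 0x0)
(.leaf 0x0))
(.node 8983 (.leaf 0x0)
(.leaf 0x0))))
(.node 8988 (.node 8986 (.node 8985 (.leaf 0x0)
(.leaf 0x0))
(.node 8987 (.leaf 0x0)
(.leaf 0x0)))
(.node 8990 (.node 8989 (.leaf 0x0)
(.leaf 0x0))
(.node 8991 (.leaf 0x0)
(.leaf 0x0))))))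
(.node 9008 (.node 9000 (.node 8996 (.node 8994 (.node 8993 (.leaf 0x0)
(.leaf 0x0))
(.node 8995 (.leaf 0x0)
(.leaf 0x0)))
(.node 8998 (.node 8997 (.leaf 0x0)
(.leaf 0x0))
(.node 8999 (.leaf 0x0)
(.leaf 0x0))))
(.node 9004 (.node 9002 (.node 9001 (.leaf 0x0)
(.leaf 0x0))
(.node 9003 (.leaf 0x0)
(.leaf 0x0)))
(.node 9006 (.node 9005 (.leaf 0x0)
(.leaf 0x0))
(.node 9007 (.leaf 0x0)
(.leaf 0x0)))))
(.node 9016 (.node 9012 (.node 9010 (.node 9009 (.leaf 0x0)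
(.leaf 0x0))
(.node 9011 (.leaf 0x0)
(.leaf 0x0)))
(.node 9014 (.node 9013 (.leaf 0x0)
(.leaf 0x0))
(.node 9015 (.leaf 0x0)
(.leaf 0x0))))
(.node 9020 (.node 9018 (.node 9017 (.leaf 0x0)
(.leaf 0x0))
(.node 9019 (.leaf 0x0)
(.leaf 0x0)))
(.node 9022 (.node 9021 (.leaf 0x200000000000000000000002000000800000000000000200000800000000000000000000000000000000000)
(.leaf 0x0))
(.node 9023 (.leaf 0x8000000000000000000000000000000000000000000000000000000000000000000000000000000000000000000000)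
(.leaf 0x0)))))))
(.node 9056 (.node 9040 (.node 9032 (.node 9028 (.node 9026 (.node 9025 (.leaf 0x20000000000000000000000000000000000000000)
(.leaf 0x0))
(.node 9027 (.leaf 0x0)
(.leaf 0x0)))
(.node 9030 (.node 9029 (.leaf 0x0)
(.leaf 0x0))
(.node 9031 (.leaf 0x0)
(.leaf 0x0))))
(.node 9036 (.node 9034 (.node 9033 (.leaf 0x80000000000000)
(.leaf 0x0))
(.node 9035 (.leaf 0x0)
(.leaf 0x0)))
(.node 9038 (.node 9037 (.leaf 0x0)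
(.leaf 0x0))
(.node 9039 (.leaf 0x0)
(.leaf 0x0)))))
(.node 9048 (.node 9044 (.node 9042 (.node 9041 (.leaf 0x0)
(.leaf 0x0))
(.node 9043 (.leaf 0x0)
(.leaf 0x0)))
(.node 9046 (.node 9045 (.leaf 0x0)
(.leaf 0x0))
(.node 9047 (.leaf 0x20000000000000000000000000000000000000000000000000000000000000)
(.leaf 0x0))))
(.node 9052 (.node 9050 (.node 9049 (.leaf 0x0)
(.leaf 0x0))
(.node 9051 (.leaf 0x0)
(.leaf 0x0)))
(.node 9054 (.node 9053 (.leaf 0x0)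
(.leaf 0x0))
(.node 9055 (.leaf 0x0)
(.leaf 0x0))))))
(.node 9072 (.node 9064 (.node 9060 (.node 9058 (.node 9057 (.leaf 0x0)
(.leaf 0x0))
(.node 9059 (.leaf 0x0)
(.leaf 0x0)))
(.node 9062 (.node 9061 (.leaf 0x0)
(.leaf 0x0))
(.node 9063 (.leaf 0x0)
(.leaf 0x0))))
(.node 9068 (.node 9066 (.node 9065 (.leaf 0x200000000000000002000000800000000000000200000800000)
(.leaf 0x8000000000000000000000000000000000000000000000000000000000000000))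
(.node 9067 (.leaf 0x20000000000000000000000000000000000000000000000000000000000000000)
(.leaf 0x80000000000000000000000000000000000000000000000000000000000000000000000000000000000000)))
(.node 9070 (.node 9069 (.leaf 0x0)
(.leaf 0x0))
(.node 9071 (.leaf 0x20000000000000000000)
(.leaf 0x0)))))
(.node 9080 (.node 9076 (.node 9074 (.node 9073 (.leaf 0x0)
(.leaf 0x0))
(.node 9075 (.leaf 0x0)
(.leaf 0x0)))
(.node 9078 (.node 9077 (.leaf 0x0)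
(.leaf 0x0))
(.node 9079 (.leaf 0x800000000000000000000000000000000000000000000000000000000000000000000000000000000000000000000000)
(.leaf 0x200000000000000000000002000000800000000000000200000))))
(.node 9084 (.node 9082 (.node 9081 (.leaf 0x8000000000000000000000000000000000000000000000000000000000000000000000)
(.leaf 0x20000000000000000000000000000000000000000000000000000000000000000000000000000000000))
(.node 9083 (.leaf 0x0)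
(.leaf 0x0)))
(.node 9086 (.node 9085 (.leaf 0x80000000000000000000000000000000000000000000000000000000000000000000)
(.leaf 0x0))
(.node 9087 (.leaf 0x0)
(.leaf 0x0))))))))
(.node 9152 (.node 9120 (.node 9104 (.node 9096 (.node 9092 (.node 9090 (.node 9089 (.leaf 0x0)
(.leaf 0x0))
(.node 9091 (.leaf 0x2000000800000000000000200000800000000000000000000000000000000000000000000000000000)
(.leaf 0x200000000)))
(.node 9094 (.node 9093 (.leaf 0x8000000000000000000000000000000000000000000000000000000000000000)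
(.leaf 0x0))
(.node 9095 (.leaf 0x200000800000000000000000000000020000000000000000000000000000000000000000000000000000)
(.leaf 0x200000800000000000000000000000000000000000000000000000000000000200000000000000000000002000000800))))
(.node 9100 (.node 9098 (.node 9097 (.leaf 0x200000000000000000800000000000000200000800000000000000000002000000800000000000000)
(.leaf 0x8000000000000000000000000000000000000000000000000000))
(.node 9099 (.leaf 0x8000000000000000000000000000000000000000000000000000000000000000000000000000000000000000)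
(.leaf 0x8000000000002000000000000000000000000000000000000000000000)))
(.node 9102 (.node 9101 (.leaf 0x0)
(.leaf 0x20000000000000000000000000000000000000000000000020000))
(.node 9103 (.leaf 0x0)
(.leaf 0x0)))))
(.node 9112 (.node 9108 (.node 9106 (.node 9105 (.leaf 0x0)
(.leaf 0x80000000000000000000000000000000000000000000000000))
(.node 9107 (.leaf 0x0)
(.leaf 0x80000000000000000000000000000000000000000000)))
(.node 9110 (.node 9109 (.leaf 0x200000000000000000000000000000000000000000000000000000000000000000000000000000000000000)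
(.leaf 0x80000000000000000080000000000000000000000000000000000000000000000000000000))
(.node 9111 (.leaf 0x0)
(.leaf 0x0))))
(.node 9116 (.node 9114 (.node 9113 (.leaf 0x0)
(.leaf 0x0))
(.node 9115 (.leaf 0x0)
(.leaf 0x0)))
(.node 9118 (.node 9117 (.leaf 0x20000000000000000000000000000000000000000000000000000000000000000000000000000000000000000000)
(.leaf 0x20000000000000000000000000000000000000000000000000000000000000000000000000000000))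
(.node 9119 (.leaf 0x0)
(.leaf 0x0))))))
(.node 9136 (.node 9128 (.node 9124 (.node 9122 (.node 9121 (.leaf 0x20000000000000000000000000000000000000000000000000000000000000000000000000)
(.leaf 0x20))
(.node 9123 (.leaf 0x0)
(.leaf 0x0)))
(.node 9126 (.node 9125 (.leaf 0x0)
(.leaf 0x0))
(.node 9127 (.leaf 0x0)
(.leaf 0x0))))
(.node 9132 (.node 9130 (.node 9129 (.leaf 0x0)
(.leaf 0x0))
(.node 9131 (.leaf 0x0)
(.leaf 0x0)))
(.node 9134 (.node 9133 (.leaf 0x0)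
(.leaf 0x0))
(.node 9135 (.leaf 0x0)
(.leaf 0x0)))))
(.node 9144 (.node 9140 (.node 9138 (.node 9137 (.leaf 0x0)
(.leaf 0x0))
(.node 9139 (.leaf 0x0)
(.leaf 0x0)))
(.node 9142 (.node 9141 (.leaf 0x0)
(.leaf 0x0))
(.node 9143 (.leaf 0x0)
(.leaf 0x0))))
(.node 9148 (.node 9146 (.node 9145 (.leaf 0x0)
(.leaf 0x0))
(.node 9147 (.leaf 0x0)
(.leaf 0x0)))
(.node 9150 (.node 9149 (.leaf 0x0)
(.leaf 0x0))
(.node 9151 (.leaf 0x0)
(.leaf 0x0)))))))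
(.node 9184 (.node 9168 (.node 9160 (.node 9156 (.node 9154 (.node 9153 (.leaf 0x0)
(.leaf 0x0))
(.node 9155 (.leaf 0x0)
(.leaf 0x0)))
(.node 9158 (.node 9157 (.leaf 0x0)
(.leaf 0x0))
(.node 9159 (.leaf 0x0)
(.leaf 0x0))))
(.node 9164 (.node 9162 (.node 9161 (.leaf 0x0)
(.leaf 0x0))
(.node 9163 (.leaf 0x0)
(.leaf 0x0)))
(.node 9166 (.node 9165 (.leaf 0x0)
(.leaf 0x0))
(.node 9167 (.leaf 0x0)
(.leaf 0x0)))))
(.node 9176 (.node 9172 (.node 9170 (.node 9169 (.leaf 0x0)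
(.leaf 0x0))
(.node 9171 (.leaf 0x0)
(.leaf 0x0)))
(.node 9174 (.node 9173 (.leaf 0x0)
(.leaf 0x0))
(.node 9175 (.leaf 0x0)
(.leaf 0x0))))
(.node 9180 (.node 9178 (.node 9177 (.leaf 0x0)
(.leaf 0x0))
(.node 9179 (.leaf 0x0)
(.leaf 0x0)))
(.node 9182 (.node 9181 (.leaf 0x0)
(.leaf 0x0))
(.node 9183 (.leaf 0x0)
(.leaf 0x0))))))
(.node 9200 (.node 9192 (.node 9188 (.node 9186 (.node 9185 (.leaf 0x0)
(.leaf 0x0))
(.node 9187 (.leaf 0x0)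
(.leaf 0x0)))
(.node 9190 (.node 9189 (.leaf 0x0)
(.leaf 0x0))
(.node 9191 (.leaf 0x0)
(.leaf 0x0))))
(.node 9196 (.node 9194 (.node 9193 (.leaf 0x0)
(.leaf 0x0))
(.node 9195 (.leaf 0x0)
(.leaf 0x0)))
(.node 9198 (.node 9197 (.leaf 0x0)
(.leaf 0x0))
(.node 9199 (.leaf 0x0)
(.leaf 0x0)))))
(.node 9208 (.node 9204 (.node 9202 (.node 9201 (.leaf 0x0)
(.leaf 0x0))
(.node 9203 (.leaf 0x0)
(.leaf 0x0)))
(.node 9206 (.node 9205 (.leaf 0x0)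
(.leaf 0x0))
(.node 9207 (.leaf 0x0)
(.leaf 0x0))))
(.node 9212 (.node 9210 (.node 9209 (.leaf 0x0)
(.leaf 0x0))
(.node 9211 (.leaf 0x0)
(.leaf 0x80000000000000000000000)))
(.node 9214 (.node 9213 (.leaf 0x0)
(.leaf 0x0))
(.node 9215 (.leaf 0x0)
(.leaf 0x0)))))))))

/-- part of the trie -/
def labPart36 : Tr :=
(.node 9344 (.node 9280 (.node 9248 (.node 9232 (.node 9224 (.node 9220 (.node 9218 (.node 9217 (.leaf 0x0)
(.leaf 0x0))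
(.node 9219 (.leaf 0x0)
(.leaf 0x0)))
(.node 9222 (.node 9221 (.leaf 0x0)
(.leaf 0x0))
(.node 9223 (.leaf 0x0)
(.leaf 0x0))))
(.node 9228 (.node 9226 (.node 9225 (.leaf 0x80000000000000000000000000000000000000000000000000000000000000000000000000000000000000000000000)
(.leaf 0x0))
(.node 9227 (.leaf 0x0)
(.leaf 0x0)))
(.node 9230 (.node 9229 (.leaf 0x0)
(.leaf 0x0))
(.node 9231 (.leaf 0x0)
(.leaf 0x0)))))
(.node 9240 (.node 9236 (.node 9234 (.node 9233 (.leaf 0x0)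
(.leaf 0x0))
(.node 9235 (.leaf 0x0)
(.leaf 0x0)))
(.node 9238 (.node 9237 (.leaf 0x0)
(.leaf 0x80000000000000000000000000000000000000000000000000000000000000000000000000000000000000000))
(.node 9239 (.leaf 0x0)
(.leaf 0x0))))
(.node 9244 (.node 9242 (.node 9241 (.leaf 0x0)
(.leaf 0x80000000000))
(.node 9243 (.leaf 0x0)
(.leaf 0x80000000000000000000000000000000000000000000000000000000000000000)))
(.node 9246 (.node 9245 (.leaf 0x0)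
(.leaf 0x80000000000000000000000000000000000000000000000000000000000000000000000000000000000000000000000))
(.node 9247 (.leaf 0x20000000000000000000000000000000000000000000000000000)
(.leaf 0x80000000000))))))
(.node 9264 (.node 9256 (.node 9252 (.node 9250 (.node 9249 (.leaf 0x80000000000000000000000000000000000000000000000080000000000000000000000000000)
(.leaf 0x0))
(.node 9251 (.leaf 0x0)
(.leaf 0x0)))
(.node 9254 (.node 9253 (.leaf 0x0)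
(.leaf 0x0))
(.node 9255 (.leaf 0x0)
(.leaf 0x0))))
(.node 9260 (.node 9258 (.node 9257 (.leaf 0x0)
(.leaf 0x0))
(.node 9259 (.leaf 0x0)
(.leaf 0x0)))
(.node 9262 (.node 9261 (.leaf 0x0)
(.leaf 0x0))
(.node 9263 (.leaf 0x0)
(.leaf 0x0)))))
(.node 9272 (.node 9268 (.node 9266 (.node 9265 (.leaf 0x0)
(.leaf 0x0))
(.node 9267 (.leaf 0x0)
(.leaf 0x0)))
(.node 9270 (.node 9269 (.leaf 0x0)
(.leaf 0x0))
(.node 9271 (.leaf 0x0)
(.leaf 0x0))))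
(.node 9276 (.node 9274 (.node 9273 (.leaf 0x0)
(.leaf 0x0))
(.node 9275 (.leaf 0x0)
(.leaf 0x0)))
(.node 9278 (.node 9277 (.leaf 0x0)
(.leaf 0x0))
(.node 9279 (.leaf 0x0)
(.leaf 0x0)))))))
(.node 9312 (.node 9296 (.node 9288 (.node 9284 (.node 9282 (.node 9281 (.leaf 0x0)
(.leaf 0x0))
(.node 9283 (.leaf 0x0)
(.leaf 0x0)))
(.node 9286 (.node 9285 (.leaf 0x0)
(.leaf 0x0))
(.node 9287 (.leaf 0x0)
(.leaf 0x0))))
(.node 9292 (.node 9290 (.node 9289 (.leaf 0x0)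
(.leaf 0x0))
(.node 9291 (.leaf 0x0)
(.leaf 0x0)))
(.node 9294 (.node 9293 (.leaf 0x0)
(.leaf 0x0))
(.node 9295 (.leaf 0x0)
(.leaf 0x0)))))
(.node 9304 (.node 9300 (.node 9298 (.node 9297 (.leaf 0x0)
(.leaf 0x0))
(.node 9299 (.leaf 0x0)
(.leaf 0x0)))
(.node 9302 (.node 9301 (.leaf 0x0)
(.leaf 0x0))
(.node 9303 (.leaf 0x0)
(.leaf 0x0))))
(.node 9308 (.node 9306 (.node 9305 (.leaf 0x0)
(.leaf 0x0))
(.node 9307 (.leaf 0x0)
(.leaf 0x0)))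
(.node 9310 (.node 9309 (.leaf 0x0)
(.leaf 0x0))
(.node 9311 (.leaf 0x0)
(.leaf 0x0))))))
(.node 9328 (.node 9320 (.node 9316 (.node 9314 (.node 9313 (.leaf 0x0)
(.leaf 0x0))
(.node 9315 (.leaf 0x0)
(.leaf 0x0)))
(.node 9318 (.node 9317 (.leaf 0x0)
(.leaf 0x0))
(.node 9319 (.leaf 0x0)
(.leaf 0x0))))
(.node 9324 (.node 9322 (.node 9321 (.leaf 0x0)
(.leaf 0x0))
(.node 9323 (.leaf 0x0)
(.leaf 0x0)))
(.node 9326 (.node 9325 (.leaf 0x0)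
(.leaf 0x0))
(.node 9327 (.leaf 0x0)
(.leaf 0x0)))))
(.node 9336 (.node 9332 (.node 9330 (.node 9329 (.leaf 0x0)
(.leaf 0x0))
(.node 9331 (.leaf 0x0)
(.leaf 0x0)))
(.node 9334 (.node 9333 (.leaf 0x0)
(.leaf 0x0))
(.node 9335 (.leaf 0x0)
(.leaf 0x0))))
(.node 9340 (.node 9338 (.node 9337 (.leaf 0x0)
(.leaf 0x0))
(.node 9339 (.leaf 0x0)
(.leaf 0x0)))
(.node 9342 (.node 9341 (.leaf 0x0)
(.leaf 0x0))
(.node 9343 (.leaf 0x0)
(.leaf 0x0))))))))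
(.node 9408 (.node 9376 (.node 9360 (.node 9352 (.node 9348 (.node 9346 (.node 9345 (.leaf 0x0)
(.leaf 0x0))
(.node 9347 (.leaf 0x0)
(.leaf 0x0)))
(.node 9350 (.node 9349 (.leaf 0x0)
(.leaf 0x0))
(.node 9351 (.leaf 0x0)
(.leaf 0x0))))
(.node 9356 (.node 9354 (.node 9353 (.leaf 0x0)
(.leaf 0x0))
(.node 9355 (.leaf 0x0)
(.leaf 0x0)))
(.node 9358 (.node 9357 (.leaf 0x0)
(.leaf 0x0))
(.node 9359 (.leaf 0x0)
(.leaf 0x0)))))
(.node 9368 (.node 9364 (.node 9362 (.node 9361 (.leaf 0x0)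
(.leaf 0x0))
(.node 9363 (.leaf 0x0)
(.leaf 0x0)))
(.node 9366 (.node 9365 (.leaf 0x0)
(.leaf 0x0))
(.node 9367 (.leaf 0x0)
(.leaf 0x0))))
(.node 9372 (.node 9370 (.node 9369 (.leaf 0x0)
(.leaf 0x0))
(.node 9371 (.leaf 0x0)
(.leaf 0x0)))
(.node 9374 (.node 9373 (.leaf 0x0)
(.leaf 0x0))
(.node 9375 (.leaf 0x0)
(.leaf 0x0))))))
(.node 9392 (.node 9384 (.node 9380 (.node 9378 (.node 9377 (.leaf 0x0)
(.leaf 0x0))
(.node 9379 (.leaf 0x0)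
(.leaf 0x0)))
(.node 9382 (.node 9381 (.leaf 0x0)
(.leaf 0x0))
(.node 9383 (.leaf 0x0)
(.leaf 0x0))))
(.node 9388 (.node 9386 (.node 9385 (.leaf 0x0)
(.leaf 0x0))
(.node 9387 (.leaf 0x0)
(.leaf 0x0)))
(.node 9390 (.node 9389 (.leaf 0x0)
(.leaf 0x0))
(.node 9391 (.leaf 0x0)
(.leaf 0x0)))))
(.node 9400 (.node 9396 (.node 9394 (.node 9393 (.leaf 0x0)
(.leaf 0x0))
(.node 9395 (.leaf 0x0)
(.leaf 0x0)))
(.node 9398 (.node 9397 (.leaf 0x0)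
(.leaf 0x0))
(.node 9399 (.leaf 0x0)
(.leaf 0x0))))
(.node 9404 (.node 9402 (.node 9401 (.leaf 0x0)
(.leaf 0x0))
(.node 9403 (.leaf 0x0)
(.leaf 0x0)))
(.node 9406 (.node 9405 (.leaf 0x0)
(.leaf 0x0))
(.node 9407 (.leaf 0x0)
(.leaf 0x0)))))))
(.node 9440 (.node 9424 (.node 9416 (.node 9412 (.node 9410 (.node 9409 (.leaf 0x0)
(.leaf 0x0))
(.node 9411 (.leaf 0x0)
(.leaf 0x0)))
(.node 9414 (.node 9413 (.leaf 0x0)
(.leaf 0x0))
(.node 9415 (.leaf 0x0)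
(.leaf 0x0))))
(.node 9420 (.node 9418 (.node 9417 (.leaf 0x0)
(.leaf 0x0))
(.node 9419 (.leaf 0x0)
(.leaf 0x0)))
(.node 9422 (.node 9421 (.leaf 0x0)
(.leaf 0x0))
(.node 9423 (.leaf 0x0)
(.leaf 0x0)))))
(.node 9432 (.node 9428 (.node 9426 (.node 9425 (.leaf 0x0)
(.leaf 0x0))
(.node 9427 (.leaf 0x0)
(.leaf 0x0)))
(.node 9430 (.node 9429 (.leaf 0x0)
(.leaf 0x0))
(.node 9431 (.leaf 0x0)
(.leaf 0x0))))
(.node 9436 (.node 9434 (.node 9433 (.leaf 0x0)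
(.leaf 0x0))
(.node 9435 (.leaf 0x0)
(.leaf 0x0)))
(.node 9438 (.node 9437 (.leaf 0x0)
(.leaf 0x0))
(.node 9439 (.leaf 0x0)
(.leaf 0x0))))))
(.node 9456 (.node 9448 (.node 9444 (.node 9442 (.node 9441 (.leaf 0x0)
(.leaf 0x0))
(.node 9443 (.leaf 0x0)
(.leaf 0x0)))
(.node 9446 (.node 9445 (.leaf 0x400000000000000100000400000000000000000000000000000000000000000000000000000000000000000000000)
(.leaf 0x4000000000000000000000000000000000000000000000000000000000000000000100000000000000000000001000))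
(.node 9447 (.leaf 0x0)
(.leaf 0x10000))))
(.node 9452 (.node 9450 (.node 9449 (.leaf 0x0)
(.leaf 0x0))
(.node 9451 (.leaf 0x40000000000000000000000000000000000000000000000000000000000000000000000000000000)
(.leaf 0x0)))
(.node 9454 (.node 9453 (.leaf 0x0)
(.leaf 0x10000000000000000000000000000000))
(.node 9455 (.leaf 0x0)
(.leaf 0x0)))))
(.node 9464 (.node 9460 (.node 9458 (.node 9457 (.leaf 0x0)
(.leaf 0x0))
(.node 9459 (.leaf 0x0)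
(.leaf 0x0)))
(.node 9462 (.node 9461 (.leaf 0x0)
(.leaf 0x0))
(.node 9463 (.leaf 0x0)
(.leaf 0x0))))
(.node 9468 (.node 9466 (.node 9465 (.leaf 0x0)
(.leaf 0x0))
(.node 9467 (.leaf 0x0)
(.leaf 0x0)))
(.node 9470 (.node 9469 (.leaf 0x0)
(.leaf 0x0))
(.node 9471 (.leaf 0x0)
(.leaf 0x0)))))))))

/-- part of the trie -/
def labPart37 : Tr :=
(.node 9600 (.node 9536 (.node 9504 (.node 9488 (.node 9480 (.node 9476 (.node 9474 (.node 9473 (.leaf 0x0)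
(.leaf 0x0))
(.node 9475 (.leaf 0x0)
(.leaf 0x0)))
(.node 9478 (.node 9477 (.leaf 0x0)
(.leaf 0x0))
(.node 9479 (.leaf 0x0)
(.leaf 0x0))))
(.node 9484 (.node 9482 (.node 9481 (.leaf 0x0)
(.leaf 0x0))
(.node 9483 (.leaf 0x0)
(.leaf 0x0)))
(.node 9486 (.node 9485 (.leaf 0x0)
(.leaf 0x0))
(.node 9487 (.leaf 0x0)
(.leaf 0x0)))))
(.node 9496 (.node 9492 (.node 9490 (.node 9489 (.leaf 0x0)
(.leaf 0x0))
(.node 9491 (.leaf 0x0)
(.leaf 0x0)))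
(.node 9494 (.node 9493 (.leaf 0x0)
(.leaf 0x0))
(.node 9495 (.leaf 0x0)
(.leaf 0x0))))
(.node 9500 (.node 9498 (.node 9497 (.leaf 0x0)
(.leaf 0x0))
(.node 9499 (.leaf 0x0)
(.leaf 0x0)))
(.node 9502 (.node 9501 (.leaf 0x0)
(.leaf 0x0))
(.node 9503 (.leaf 0x0)
(.leaf 0x0))))))
(.node 9520 (.node 9512 (.node 9508 (.node 9506 (.node 9505 (.leaf 0x0)
(.leaf 0x0))
(.node 9507 (.leaf 0x0)
(.leaf 0x0)))
(.node 9510 (.node 9509 (.leaf 0x0)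
(.leaf 0x0))
(.node 9511 (.leaf 0x0)
(.leaf 0x0))))
(.node 9516 (.node 9514 (.node 9513 (.leaf 0x0)
(.leaf 0x0))
(.node 9515 (.leaf 0x0)
(.leaf 0x0)))
(.node 9518 (.node 9517 (.leaf 0x0)
(.leaf 0x0))
(.node 9519 (.leaf 0x0)
(.leaf 0x0)))))
(.node 9528 (.node 9524 (.node 9522 (.node 9521 (.leaf 0x0)
(.leaf 0x0))
(.node 9523 (.leaf 0x0)
(.leaf 0x0)))
(.node 9526 (.node 9525 (.leaf 0x0)
(.leaf 0x0))
(.node 9527 (.leaf 0x0)
(.leaf 0x0))))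
(.node 9532 (.node 9530 (.node 9529 (.leaf 0x0)
(.leaf 0x0))
(.node 9531 (.leaf 0x0)
(.leaf 0x0)))
(.node 9534 (.node 9533 (.leaf 0x0)
(.leaf 0x0))
(.node 9535 (.leaf 0x0)
(.leaf 0x0)))))))
(.node 9568 (.node 9552 (.node 9544 (.node 9540 (.node 9538 (.node 9537 (.leaf 0x0)
(.leaf 0x0))
(.node 9539 (.leaf 0x0)
(.leaf 0x0)))
(.node 9542 (.node 9541 (.leaf 0x0)
(.leaf 0x0))
(.node 9543 (.leaf 0x0)
(.leaf 0x0))))
(.node 9548 (.node 9546 (.node 9545 (.leaf 0x0)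
(.leaf 0x0))
(.node 9547 (.leaf 0x0)
(.leaf 0x0)))
(.node 9550 (.node 9549 (.leaf 0x0)
(.leaf 0x0))
(.node 9551 (.leaf 0x0)
(.leaf 0x0)))))
(.node 9560 (.node 9556 (.node 9554 (.node 9553 (.leaf 0x0)
(.leaf 0x0))
(.node 9555 (.leaf 0x0)
(.leaf 0x0)))
(.node 9558 (.node 9557 (.leaf 0x0)
(.leaf 0x0))
(.node 9559 (.leaf 0x0)
(.leaf 0x0))))
(.node 9564 (.node 9562 (.node 9561 (.leaf 0x0)
(.leaf 0x0))
(.node 9563 (.leaf 0x0)
(.leaf 0x0)))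
(.node 9566 (.node 9565 (.leaf 0x0)
(.leaf 0x0))
(.node 9567 (.leaf 0x0)
(.leaf 0x0))))))
(.node 9584 (.node 9576 (.node 9572 (.node 9570 (.node 9569 (.leaf 0x0)
(.leaf 0x0))
(.node 9571 (.leaf 0x0)
(.leaf 0x0)))
(.node 9574 (.node 9573 (.leaf 0x0)
(.leaf 0x0))
(.node 9575 (.leaf 0x0)
(.leaf 0x0))))
(.node 9580 (.node 9578 (.node 9577 (.leaf 0x0)
(.leaf 0x0))
(.node 9579 (.leaf 0x0)
(.leaf 0x0)))
(.node 9582 (.node 9581 (.leaf 0x0)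
(.leaf 0x0))
(.node 9583 (.leaf 0x1000000400000000000000100000400000000000000000000000000000000000000000000000000000000000000000)
(.leaf 0x100000000000000000000)))))
(.node 9592 (.node 9588 (.node 9586 (.node 9585 (.leaf 0x0)
(.leaf 0x4000000000000000000000000000))
(.node 9587 (.leaf 0x0)
(.leaf 0x10000000000000000000000000000000000000000000000)))
(.node 9590 (.node 9589 (.leaf 0x0)
(.leaf 0x0))
(.node 9591 (.leaf 0x0)
(.leaf 0x0))))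
(.node 9596 (.node 9594 (.node 9593 (.leaf 0x0)
(.leaf 0x0))
(.node 9595 (.leaf 0x40000000000000)
(.leaf 0x0)))
(.node 9598 (.node 9597 (.leaf 0x0)
(.leaf 0x0))
(.node 9599 (.leaf 0x0)
(.leaf 0x0))))))))
(.node 9664 (.node 9632 (.node 9616 (.node 9608 (.node 9604 (.node 9602 (.node 9601 (.leaf 0x0)
(.leaf 0x0))
(.node 9603 (.leaf 0x0)
(.leaf 0x0)))
(.node 9606 (.node 9605 (.leaf 0x0)
(.leaf 0x10000000000000000000000000000000000000000000000000000000))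
(.node 9607 (.leaf 0x0)
(.leaf 0x0))))
(.node 9612 (.node 9610 (.node 9609 (.leaf 0x0)
(.leaf 0x0))
(.node 9611 (.leaf 0x0)
(.leaf 0x0)))
(.node 9614 (.node 9613 (.leaf 0x0)
(.leaf 0x0))
(.node 9615 (.leaf 0x0)
(.leaf 0x0)))))
(.node 9624 (.node 9620 (.node 9618 (.node 9617 (.leaf 0x0)
(.leaf 0x0))
(.node 9619 (.leaf 0x0)
(.leaf 0x0)))
(.node 9622 (.node 9621 (.leaf 0x0)
(.leaf 0x0))
(.node 9623 (.leaf 0x0)
(.leaf 0x0))))
(.node 9628 (.node 9626 (.node 9625 (.leaf 0x0)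
(.leaf 0x0))
(.node 9627 (.leaf 0x0)
(.leaf 0x0)))
(.node 9630 (.node 9629 (.leaf 0x0)
(.leaf 0x0))
(.node 9631 (.leaf 0x0)
(.leaf 0x0))))))
(.node 9648 (.node 9640 (.node 9636 (.node 9634 (.node 9633 (.leaf 0x0)
(.leaf 0x0))
(.node 9635 (.leaf 0x0)
(.leaf 0x0)))
(.node 9638 (.node 9637 (.leaf 0x0)
(.leaf 0x0))
(.node 9639 (.leaf 0x0)
(.leaf 0x0))))
(.node 9644 (.node 9642 (.node 9641 (.leaf 0x0)
(.leaf 0x0))
(.node 9643 (.leaf 0x0)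
(.leaf 0x0)))
(.node 9646 (.node 9645 (.leaf 0x0)
(.leaf 0x0))
(.node 9647 (.leaf 0x0)
(.leaf 0x0)))))
(.node 9656 (.node 9652 (.node 9650 (.node 9649 (.leaf 0x0)
(.leaf 0x0))
(.node 9651 (.leaf 0x0)
(.leaf 0x0)))
(.node 9654 (.node 9653 (.leaf 0x0)
(.leaf 0x0))
(.node 9655 (.leaf 0x0)
(.leaf 0x0))))
(.node 9660 (.node 9658 (.node 9657 (.leaf 0x0)
(.leaf 0x0))
(.node 9659 (.leaf 0x0)
(.leaf 0x0)))
(.node 9662 (.node 9661 (.leaf 0x0)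
(.leaf 0x0))
(.node 9663 (.leaf 0x0)
(.leaf 0x0)))))))
(.node 9696 (.node 9680 (.node 9672 (.node 9668 (.node 9666 (.node 9665 (.leaf 0x0)
(.leaf 0x100000400000000000000000000000000000000000000000000000000000000000000000000000000000000000000000))
(.node 9667 (.leaf 0x100000000000000000000001000000400000000000000)
(.leaf 0x4000000000000000000000000000000000000000000000000000000000000000000000000000000000000000000000)))
(.node 9670 (.node 9669 (.leaf 0x0)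
(.leaf 0x10000000000000000000000000000000000000000000000))
(.node 9671 (.leaf 0x0)
(.leaf 0x0))))
(.node 9676 (.node 9674 (.node 9673 (.leaf 0x0)
(.leaf 0x40000000000000000000000000000000000000000000))
(.node 9675 (.leaf 0x0)
(.leaf 0x0)))
(.node 9678 (.node 9677 (.leaf 0x0)
(.leaf 0x0))
(.node 9679 (.leaf 0x0)
(.leaf 0x0)))))
(.node 9688 (.node 9684 (.node 9682 (.node 9681 (.leaf 0x0)
(.leaf 0x0))
(.node 9683 (.leaf 0x10000000000000000000000000)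
(.leaf 0x0)))
(.node 9686 (.node 9685 (.leaf 0x0)
(.leaf 0x0))
(.node 9687 (.leaf 0x0)
(.leaf 0x0))))
(.node 9692 (.node 9690 (.node 9689 (.leaf 0x0)
(.leaf 0x0))
(.node 9691 (.leaf 0x0)
(.leaf 0x0)))
(.node 9694 (.node 9693 (.leaf 0x0)
(.leaf 0x0))
(.node 9695 (.leaf 0x0)
(.leaf 0x0))))))
(.node 9712 (.node 9704 (.node 9700 (.node 9698 (.node 9697 (.leaf 0x0)
(.leaf 0x0))
(.node 9699 (.leaf 0x0)
(.leaf 0x0)))
(.node 9702 (.node 9701 (.leaf 0x0)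
(.leaf 0x0))
(.node 9703 (.leaf 0x0)
(.leaf 0x0))))
(.node 9708 (.node 9706 (.node 9705 (.leaf 0x0)
(.leaf 0x0))
(.node 9707 (.leaf 0x0)
(.leaf 0x0)))
(.node 9710 (.node 9709 (.leaf 0x0)
(.leaf 0x0))
(.node 9711 (.leaf 0x0)
(.leaf 0x0)))))
(.node 9720 (.node 9716 (.node 9714 (.node 9713 (.leaf 0x0)
(.leaf 0x0))
(.node 9715 (.leaf 0x0)
(.leaf 0x0)))
(.node 9718 (.node 9717 (.leaf 0x0)
(.leaf 0x0))
(.node 9719 (.leaf 0x0)
(.leaf 0x0))))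
(.node 9724 (.node 9722 (.node 9721 (.leaf 0x0)
(.leaf 0x0))
(.node 9723 (.leaf 0x0)
(.leaf 0x0)))
(.node 9726 (.node 9725 (.leaf 0x0)
(.leaf 0x0))
(.node 9727 (.leaf 0x0)
(.leaf 0x0)))))))))

/-- part of the trie -/
def labPart38 : Tr :=
(.node 9856 (.node 9792 (.node 9760 (.node 9744 (.node 9736 (.node 9732 (.node 9730 (.node 9729 (.leaf 0x0)
(.leaf 0x0))
(.node 9731 (.leaf 0x0)
(.leaf 0x400000000000000000000000000000000000000000000000000000000000000000000000000000000000000000000000)))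
(.node 9734 (.node 9733 (.leaf 0x100000000000000000000001000000400000000000000100000)
(.leaf 0x0))
(.node 9735 (.leaf 0x4000000000000000000000000000000000000000000000000000000000000000000000000000000000000000000000)
(.leaf 0x0))))
(.node 9740 (.node 9738 (.node 9737 (.leaf 0x10000000000000000000000000000000000000000000000000000)
(.leaf 0x0))
(.node 9739 (.leaf 0x0)
(.leaf 0x0)))
(.node 9742 (.node 9741 (.leaf 0x0)
(.leaf 0x0))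
(.node 9743 (.leaf 0x0)
(.leaf 0x40000000000000000000000000000000000000000000000000000000000000000000)))))
(.node 9752 (.node 9748 (.node 9746 (.node 9745 (.leaf 0x0)
(.leaf 0x0))
(.node 9747 (.leaf 0x0)
(.leaf 0x0)))
(.node 9750 (.node 9749 (.leaf 0x0)
(.leaf 0x0))
(.node 9751 (.leaf 0x0)
(.leaf 0x0))))
(.node 9756 (.node 9754 (.node 9753 (.leaf 0x0)
(.leaf 0x0))
(.node 9755 (.leaf 0x0)
(.leaf 0x0)))
(.node 9758 (.node 9757 (.leaf 0x0)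
(.leaf 0x10000000000000000000))
(.node 9759 (.leaf 0x0)
(.leaf 0x0))))))
(.node 9776 (.node 9768 (.node 9764 (.node 9762 (.node 9761 (.leaf 0x0)
(.leaf 0x0))
(.node 9763 (.leaf 0x0)
(.leaf 0x0)))
(.node 9766 (.node 9765 (.leaf 0x100000000001000000400000000100000400000000000000000000000000000)
(.leaf 0x10000000000000000000000000000000000004000000000000000000000000000))
(.node 9767 (.leaf 0x40000000000000000000000000000000)
(.leaf 0x0))))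
(.node 9772 (.node 9770 (.node 9769 (.leaf 0x10000000000000000000000000)
(.leaf 0x0))
(.node 9771 (.leaf 0x0)
(.leaf 0x4000000000000000000100001000000400100000400000000000000000000000000000000000)))
(.node 9774 (.node 9773 (.leaf 0x40000000000000000000000000000000000000000000000000000000000000010000)
(.leaf 0x0))
(.node 9775 (.leaf 0x0)
(.leaf 0x0)))))
(.node 9784 (.node 9780 (.node 9778 (.node 9777 (.leaf 0x0)
(.leaf 0x0))
(.node 9779 (.leaf 0x100000000000000000000001000000400000000000000100000400000000000000000)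
(.leaf 0x0)))
(.node 9782 (.node 9781 (.leaf 0x4000000000)
(.leaf 0x100000400000000000000000010000000000000000000000000000000000000000000000000000000000000000000000))
(.node 9783 (.leaf 0x400000000000000000000000000000000000000000000000000000000100000000000000001000000400000000000000)
(.leaf 0x100000000000000000400000000100000400000000000000000001000000400000000000000100000))))
(.node 9788 (.node 9786 (.node 9785 (.leaf 0x4000000000000000000000000000000000000000000000)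
(.leaf 0x4000000000000000000000000000000000000000000000000000000000))
(.node 9787 (.leaf 0x4000001000000000)
(.leaf 0x10000000000000000000000000000010000000000000000000000000000000000)))
(.node 9790 (.node 9789 (.leaf 0x0)
(.leaf 0x0))
(.node 9791 (.leaf 0x40000000000000000000000000000000000000000000000000000000000000000000000000000000000000)
(.leaf 0x40000000000000000000000000000000000000000000000000000000000000000000000000000000000000000000)))))))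
(.node 9824 (.node 9808 (.node 9800 (.node 9796 (.node 9794 (.node 9793 (.leaf 0x0)
(.leaf 0x40000000000000000040000000000000000000000000000000000000000000000000000100000000))
(.node 9795 (.leaf 0x0)
(.leaf 0x0)))
(.node 9798 (.node 9797 (.leaf 0x0)
(.leaf 0x0))
(.node 9799 (.leaf 0x0)
(.leaf 0x10000000000000000000000000000000000000000000000000000000000010000000000000000000))))
(.node 9804 (.node 9802 (.node 9801 (.leaf 0x0)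
(.leaf 0x0))
(.node 9803 (.leaf 0x10000000000000000000000010000000000000000000000000000000)
(.leaf 0x0)))
(.node 9806 (.node 9805 (.leaf 0x0)
(.leaf 0x0))
(.node 9807 (.leaf 0x0)
(.leaf 0x0)))))
(.node 9816 (.node 9812 (.node 9810 (.node 9809 (.leaf 0x0)
(.leaf 0x0))
(.node 9811 (.leaf 0x0)
(.leaf 0x0)))
(.node 9814 (.node 9813 (.leaf 0x0)
(.leaf 0x0))
(.node 9815 (.leaf 0x0)
(.leaf 0x0))))
(.node 9820 (.node 9818 (.node 9817 (.leaf 0x0)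
(.leaf 0x0))
(.node 9819 (.leaf 0x0)
(.leaf 0x0)))
(.node 9822 (.node 9821 (.leaf 0x0)
(.leaf 0x0))
(.node 9823 (.leaf 0x0)
(.leaf 0x0))))))
(.node 9840 (.node 9832 (.node 9828 (.node 9826 (.node 9825 (.leaf 0x0)
(.leaf 0x0))
(.node 9827 (.leaf 0x0)
(.leaf 0x0)))
(.node 9830 (.node 9829 (.leaf 0x0)
(.leaf 0x0))
(.node 9831 (.leaf 0x0)
(.leaf 0x0))))
(.node 9836 (.node 9834 (.node 9833 (.leaf 0x0)
(.leaf 0x0))
(.node 9835 (.leaf 0x0)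
(.leaf 0x0)))
(.node 9838 (.node 9837 (.leaf 0x0)
(.leaf 0x0))
(.node 9839 (.leaf 0x0)
(.leaf 0x0)))))
(.node 9848 (.node 9844 (.node 9842 (.node 9841 (.leaf 0x0)
(.leaf 0x0))
(.node 9843 (.leaf 0x0)
(.leaf 0x0)))
(.node 9846 (.node 9845 (.leaf 0x0)
(.leaf 0x0))
(.node 9847 (.leaf 0x0)
(.leaf 0x0))))
(.node 9852 (.node 9850 (.node 9849 (.leaf 0x0)
(.leaf 0x0))
(.node 9851 (.leaf 0x0)
(.leaf 0x0)))
(.node 9854 (.node 9853 (.leaf 0x0)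
(.leaf 0x0))
(.node 9855 (.leaf 0x0)
(.leaf 0x0))))))))
(.node 9920 (.node 9888 (.node 9872 (.node 9864 (.node 9860 (.node 9858 (.node 9857 (.leaf 0x0)
(.leaf 0x0))
(.node 9859 (.leaf 0x0)
(.leaf 0x0)))
(.node 9862 (.node 9861 (.leaf 0x0)
(.leaf 0x0))
(.node 9863 (.leaf 0x0)
(.leaf 0x0))))
(.node 9868 (.node 9866 (.node 9865 (.leaf 0x0)
(.leaf 0x0))
(.node 9867 (.leaf 0x0)
(.leaf 0x0)))
(.node 9870 (.node 9869 (.leaf 0x0)
(.leaf 0x0))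
(.node 9871 (.leaf 0x0)
(.leaf 0x0)))))
(.node 9880 (.node 9876 (.node 9874 (.node 9873 (.leaf 0x0)
(.leaf 0x0))
(.node 9875 (.leaf 0x0)
(.leaf 0x40000000000000000000000000000000000000000000000000000000000000000000000000000000000000000)))
(.node 9878 (.node 9877 (.leaf 0x0)
(.leaf 0x0))
(.node 9879 (.leaf 0x0)
(.leaf 0x0))))
(.node 9884 (.node 9882 (.node 9881 (.leaf 0x0)
(.leaf 0x0))
(.node 9883 (.leaf 0x0)
(.leaf 0x0)))
(.node 9886 (.node 9885 (.leaf 0x0)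
(.leaf 0x40000000000000000000000000000000000000000000000000000000000000000000000000000000000000000000000))
(.node 9887 (.leaf 0x0)
(.leaf 0x0))))))
(.node 9904 (.node 9896 (.node 9892 (.node 9890 (.node 9889 (.leaf 0x0)
(.leaf 0x0))
(.node 9891 (.leaf 0x0)
(.leaf 0x40000000000000000000000000000000000000000)))
(.node 9894 (.node 9893 (.leaf 0x40000000000000000000000000000000000000000000000040000000000000000000000000000)
(.leaf 0x0))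
(.node 9895 (.leaf 0x0)
(.leaf 0x40000000000000000000000000000000000000000000000))))
(.node 9900 (.node 9898 (.node 9897 (.leaf 0x40000000000000000000000000000000000000000010000000000)
(.leaf 0x40000000000000000000000040000000000000000000000000000000000000000000000))
(.node 9899 (.leaf 0x0)
(.leaf 0x0)))
(.node 9902 (.node 9901 (.leaf 0x0)
(.leaf 0x0))
(.node 9903 (.leaf 0x0)
(.leaf 0x0)))))
(.node 9912 (.node 9908 (.node 9906 (.node 9905 (.leaf 0x0)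
(.leaf 0x0))
(.node 9907 (.leaf 0x0)
(.leaf 0x0)))
(.node 9910 (.node 9909 (.leaf 0x0)
(.leaf 0x0))
(.node 9911 (.leaf 0x0)
(.leaf 0x0))))
(.node 9916 (.node 9914 (.node 9913 (.leaf 0x0)
(.leaf 0x0))
(.node 9915 (.leaf 0x0)
(.leaf 0x0)))
(.node 9918 (.node 9917 (.leaf 0x0)
(.leaf 0x0))
(.node 9919 (.leaf 0x0)
(.leaf 0x0)))))))
(.node 9952 (.node 9936 (.node 9928 (.node 9924 (.node 9922 (.node 9921 (.leaf 0x0)
(.leaf 0x0))
(.node 9923 (.leaf 0x0)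
(.leaf 0x0)))
(.node 9926 (.node 9925 (.leaf 0x0)
(.leaf 0x0))
(.node 9927 (.leaf 0x0)
(.leaf 0x0))))
(.node 9932 (.node 9930 (.node 9929 (.leaf 0x0)
(.leaf 0x0))
(.node 9931 (.leaf 0x0)
(.leaf 0x0)))
(.node 9934 (.node 9933 (.leaf 0x100000000001000000400000000100000400000000000000000000000000000)
(.leaf 0x4000000000000000000000000000000000000000000000000000))
(.node 9935 (.leaf 0x10000000000000000000000000000)
(.leaf 0x0)))))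
(.node 9944 (.node 9940 (.node 9938 (.node 9937 (.leaf 0x0)
(.leaf 0x0))
(.node 9939 (.leaf 0x40000000)
(.leaf 0x0)))
(.node 9942 (.node 9941 (.leaf 0x0)
(.leaf 0x0))
(.node 9943 (.leaf 0x10000000000000000000000000000000)
(.leaf 0x0))))
(.node 9948 (.node 9946 (.node 9945 (.leaf 0x0)
(.leaf 0x0))
(.node 9947 (.leaf 0x0)
(.leaf 0x0)))
(.node 9950 (.node 9949 (.leaf 0x0)
(.leaf 0x0))
(.node 9951 (.leaf 0x0)
(.leaf 0x0))))))
(.node 9968 (.node 9960 (.node 9956 (.node 9954 (.node 9953 (.leaf 0x0)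
(.leaf 0x0))
(.node 9955 (.leaf 0x0)
(.leaf 0x0)))
(.node 9958 (.node 9957 (.leaf 0x0)
(.leaf 0x0))
(.node 9959 (.leaf 0x0)
(.leaf 0x0))))
(.node 9964 (.node 9962 (.node 9961 (.leaf 0x0)
(.leaf 0x0))
(.node 9963 (.leaf 0x0)
(.leaf 0x0)))
(.node 9966 (.node 9965 (.leaf 0x0)
(.leaf 0x1000000400000000000000100000400000000000000000000000000000000000000000000000000000))
(.node 9967 (.leaf 0x100000000)
(.leaf 0x4000000000000000000000000000000000000000000000000000)))))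
(.node 9976 (.node 9972 (.node 9970 (.node 9969 (.leaf 0x0)
(.leaf 0x10000000000000000000000000000000000000000000000000000000000000000))
(.node 9971 (.leaf 0x0)
(.leaf 0x0)))
(.node 9974 (.node 9973 (.leaf 0x0)
(.leaf 0x0))
(.node 9975 (.leaf 0x0)
(.leaf 0x0))))
(.node 9980 (.node 9978 (.node 9977 (.leaf 0x40000000)
(.leaf 0x0))
(.node 9979 (.leaf 0x0)
(.leaf 0x0)))
(.node 9982 (.node 9981 (.leaf 0x0)
(.leaf 0x0))
(.node 9983 (.leaf 0x0)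
(.leaf 0x10000000000000)))))))))

/-- part of the trie -/
def labPart39 : Tr :=
(.node 10112 (.node 10048 (.node 10016 (.node 10000 (.node 9992 (.node 9988 (.node 9986 (.node 9985 (.leaf 0x0)
(.leaf 0x0))
(.node 9987 (.leaf 0x0)
(.leaf 0x0)))
(.node 9990 (.node 9989 (.leaf 0x0)
(.leaf 0x100000000000000001000000400000000000000100000400000000000000000000000000000000000000000000000))
(.node 9991 (.leaf 0x4000000000000000000000000000000000000000000000000000)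
(.leaf 0x10000000000000000))))
(.node 9996 (.node 9994 (.node 9993 (.leaf 0x40000000000000000000000000000000)
(.leaf 0x0))
(.node 9995 (.leaf 0x0)
(.leaf 0x100000400000000000000000000000000000000000000000000000000000000000000000000000000000)))
(.node 9998 (.node 9997 (.leaf 0x4000000000000000000000000000000000000000000000000000000000000100000000000000001000000400)
(.leaf 0x10000000000000000000000000000000000000000000000000000000000000000000000000000))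
(.node 9999 (.leaf 0x100000000000000000400000000000000100000400000000000)
(.leaf 0x4000000000001000000000000000000000000000000000)))))
(.node 10008 (.node 10004 (.node 10002 (.node 10001 (.leaf 0x10000000000000000000000000000000000000000000000000000000000000000000000)
(.leaf 0x0))
(.node 10003 (.leaf 0x0)
(.leaf 0x0)))
(.node 10006 (.node 10005 (.leaf 0x40000000000000000000000000000040000000000000000000000000000000000000000000000000000000)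
(.leaf 0x0))
(.node 10007 (.leaf 0x10000000000000000000000000000000000000000000000000000000000000000000000000000000000000000000)
(.leaf 0x10000000000000000000000000))))
(.node 10012 (.node 10010 (.node 10009 (.leaf 0x0)
(.leaf 0x0))
(.node 10011 (.leaf 0x0)
(.leaf 0x0)))
(.node 10014 (.node 10013 (.leaf 0x0)
(.leaf 0x0))
(.node 10015 (.leaf 0x0)
(.leaf 0x0))))))
(.node 10032 (.node 10024 (.node 10020 (.node 10018 (.node 10017 (.leaf 0x0)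
(.leaf 0x0))
(.node 10019 (.leaf 0x0)
(.leaf 0x0)))
(.node 10022 (.node 10021 (.leaf 0x0)
(.leaf 0x0))
(.node 10023 (.leaf 0x0)
(.leaf 0x0))))
(.node 10028 (.node 10026 (.node 10025 (.leaf 0x0)
(.leaf 0x0))
(.node 10027 (.leaf 0x0)
(.leaf 0x0)))
(.node 10030 (.node 10029 (.leaf 0x0)
(.leaf 0x0))
(.node 10031 (.leaf 0x0)
(.leaf 0x0)))))
(.node 10040 (.node 10036 (.node 10034 (.node 10033 (.leaf 0x0)
(.leaf 0x0))
(.node 10035 (.leaf 0x0)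
(.leaf 0x0)))
(.node 10038 (.node 10037 (.leaf 0x0)
(.leaf 0x0))
(.node 10039 (.leaf 0x0)
(.leaf 0x0))))
(.node 10044 (.node 10042 (.node 10041 (.leaf 0x0)
(.leaf 0x0))
(.node 10043 (.leaf 0x0)
(.leaf 0x0)))
(.node 10046 (.node 10045 (.leaf 0x100000000000000000000001000000400000000000000100000400000000000000000)
(.leaf 0x4000000000000000000000000000000000000000000000000000000000000000000000000000000000000000))
(.node 10047 (.leaf 0x0)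
(.leaf 0x10000000000)))))))
(.node 10080 (.node 10064 (.node 10056 (.node 10052 (.node 10050 (.node 10049 (.leaf 0x0)
(.leaf 0x0))
(.node 10051 (.leaf 0x0)
(.leaf 0x0)))
(.node 10054 (.node 10053 (.leaf 0x0)
(.leaf 0x40000000000000000000))
(.node 10055 (.leaf 0x0)
(.leaf 0x0))))
(.node 10060 (.node 10058 (.node 10057 (.leaf 0x0)
(.leaf 0x0))
(.node 10059 (.leaf 0x0)
(.leaf 0x0)))
(.node 10062 (.node 10061 (.leaf 0x0)
(.leaf 0x0))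
(.node 10063 (.leaf 0x10000000000000000000000000000000000000000000)
(.leaf 0x0)))))
(.node 10072 (.node 10068 (.node 10066 (.node 10065 (.leaf 0x0)
(.leaf 0x0))
(.node 10067 (.leaf 0x0)
(.leaf 0x0)))
(.node 10070 (.node 10069 (.leaf 0x0)
(.leaf 0x0))
(.node 10071 (.leaf 0x0)
(.leaf 0x0))))
(.node 10076 (.node 10074 (.node 10073 (.leaf 0x0)
(.leaf 0x0))
(.node 10075 (.leaf 0x0)
(.leaf 0x0)))
(.node 10078 (.node 10077 (.leaf 0x0)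
(.leaf 0x0))
(.node 10079 (.leaf 0x0)
(.leaf 0x0))))))
(.node 10096 (.node 10088 (.node 10084 (.node 10082 (.node 10081 (.leaf 0x0)
(.leaf 0x0))
(.node 10083 (.leaf 0x0)
(.leaf 0x0)))
(.node 10086 (.node 10085 (.leaf 0x0)
(.leaf 0x0))
(.node 10087 (.leaf 0x0)
(.leaf 0x0))))
(.node 10092 (.node 10090 (.node 10089 (.leaf 0x0)
(.leaf 0x0))
(.node 10091 (.leaf 0x0)
(.leaf 0x0)))
(.node 10094 (.node 10093 (.leaf 0x0)
(.leaf 0x0))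
(.node 10095 (.leaf 0x0)
(.leaf 0x0)))))
(.node 10104 (.node 10100 (.node 10098 (.node 10097 (.leaf 0x0)
(.leaf 0x1000000400000000000000100000400000000000000000000000000000000000000000000000))
(.node 10099 (.leaf 0x100)
(.leaf 0x0)))
(.node 10102 (.node 10101 (.leaf 0x4000000000000000000000000000000000000000000000000000000000000000)
(.leaf 0x0))
(.node 10103 (.leaf 0x10000000000000000000000000000000000000000000000000000000000000000000000000000)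
(.leaf 0x0))))
(.node 10108 (.node 10106 (.node 10105 (.leaf 0x0)
(.leaf 0x0))
(.node 10107 (.leaf 0x0)
(.leaf 0x0)))
(.node 10110 (.node 10109 (.leaf 0x0)
(.leaf 0x0))
(.node 10111 (.leaf 0x0)
(.leaf 0x0))))))))
(.node 10176 (.node 10144 (.node 10128 (.node 10120 (.node 10116 (.node 10114 (.node 10113 (.leaf 0x0)
(.leaf 0x0))
(.node 10115 (.leaf 0x40000000000000000000000000000000000000)
(.leaf 0x0)))
(.node 10118 (.node 10117 (.leaf 0x0)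
(.leaf 0x0))
(.node 10119 (.leaf 0x0)
(.leaf 0x0))))
(.node 10124 (.node 10122 (.node 10121 (.leaf 0x0)
(.leaf 0x0))
(.node 10123 (.leaf 0x0)
(.leaf 0x0)))
(.node 10126 (.node 10125 (.leaf 0x0)
(.leaf 0x0))
(.node 10127 (.leaf 0x0)
(.leaf 0x0)))))
(.node 10136 (.node 10132 (.node 10130 (.node 10129 (.leaf 0x0)
(.leaf 0x0))
(.node 10131 (.leaf 0x0)
(.leaf 0x10000000000000000000)))
(.node 10134 (.node 10133 (.leaf 0x0)
(.leaf 0x0))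
(.node 10135 (.leaf 0x0)
(.leaf 0x0))))
(.node 10140 (.node 10138 (.node 10137 (.leaf 0x0)
(.leaf 0x0))
(.node 10139 (.leaf 0x0)
(.leaf 0x0)))
(.node 10142 (.node 10141 (.leaf 0x0)
(.leaf 0x0))
(.node 10143 (.leaf 0x0)
(.leaf 0x0))))))
(.node 10160 (.node 10152 (.node 10148 (.node 10146 (.node 10145 (.leaf 0x0)
(.leaf 0x0))
(.node 10147 (.leaf 0x100000000000000000000001000000400000000000000100000400000)
(.leaf 0x10000000000000000000000000000000000000000000000000000000000000000000000004000000000000000000000)))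
(.node 10150 (.node 10149 (.leaf 0x0)
(.leaf 0x0))
(.node 10151 (.leaf 0x40000000000000000000000000000000000000000000)
(.leaf 0x0))))
(.node 10156 (.node 10154 (.node 10153 (.leaf 0x0)
(.leaf 0x0))
(.node 10155 (.leaf 0x0)
(.leaf 0x100000000000000000000001000000400000000000000100000400000000000000000000000000000000000000000)))
(.node 10158 (.node 10157 (.leaf 0x0)
(.leaf 0x4000000000000000000000000000000000000000000000000000000000000000))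
(.node 10159 (.leaf 0x0)
(.leaf 0x10000000000000000000000000000000000000000000000)))))
(.node 10168 (.node 10164 (.node 10162 (.node 10161 (.leaf 0x1000000400000000000000100000400000000000000000000000000000000000000000000000000000000000000000)
(.leaf 0x100000400000000000000000000000000000000000000000000000000000000000000100000000000000000000))
(.node 10163 (.leaf 0x100000000000000000400000000000000100000400000000000000000001000000400000000)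
(.leaf 0x4000000000000000000000000000000000000000000000000000000000000000000000000000)))
(.node 10166 (.node 10165 (.leaf 0x0)
(.leaf 0x4000000000000000000000000000000000000000000000000000))
(.node 10167 (.leaf 0x4000000000001000000000000000000000000000000000)
(.leaf 0x0))))
(.node 10172 (.node 10170 (.node 10169 (.leaf 0x10000000000000000000000000000000000000000000000000000)
(.leaf 0x10000000000000000000000000000000000000000000000))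
(.node 10171 (.leaf 0x0)
(.leaf 0x0)))
(.node 10174 (.node 10173 (.leaf 0x0)
(.leaf 0x0))
(.node 10175 (.leaf 0x0)
(.leaf 0x0)))))))
(.node 10208 (.node 10192 (.node 10184 (.node 10180 (.node 10178 (.node 10177 (.leaf 0x40)
(.leaf 0x0))
(.node 10179 (.leaf 0x40000000000000000000000000000000000000000000000000000000)
(.leaf 0x0)))
(.node 10182 (.node 10181 (.leaf 0x40000000000000000000000000000000000000000000000000000000000000000100000000000000)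
(.leaf 0x40))
(.node 10183 (.leaf 0x0)
(.leaf 0x0))))
(.node 10188 (.node 10186 (.node 10185 (.leaf 0x0)
(.leaf 0x0))
(.node 10187 (.leaf 0x0)
(.leaf 0x0)))
(.node 10190 (.node 10189 (.leaf 0x0)
(.leaf 0x0))
(.node 10191 (.leaf 0x0)
(.leaf 0x10000000000000000000000000000000000000000000000000000000000000)))))
(.node 10200 (.node 10196 (.node 10194 (.node 10193 (.leaf 0x0)
(.leaf 0x10000000000000000000000000000000000000000000000000000000000000))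
(.node 10195 (.leaf 0x0)
(.leaf 0x0)))
(.node 10198 (.node 10197 (.leaf 0x10000000000000000000000010000000000000000000000000000000000000000000000000000000000000)
(.leaf 0x0))
(.node 10199 (.leaf 0x0)
(.leaf 0x0))))
(.node 10204 (.node 10202 (.node 10201 (.leaf 0x0)
(.leaf 0x0))
(.node 10203 (.leaf 0x0)
(.leaf 0x0)))
(.node 10206 (.node 10205 (.leaf 0x0)
(.leaf 0x0))
(.node 10207 (.leaf 0x0)
(.leaf 0x0))))))
(.node 10224 (.node 10216 (.node 10212 (.node 10210 (.node 10209 (.leaf 0x0)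
(.leaf 0x0))
(.node 10211 (.leaf 0x0)
(.leaf 0x0)))
(.node 10214 (.node 10213 (.leaf 0x0)
(.leaf 0x0))
(.node 10215 (.leaf 0x0)
(.leaf 0x0))))
(.node 10220 (.node 10218 (.node 10217 (.leaf 0x0)
(.leaf 0x0))
(.node 10219 (.leaf 0x0)
(.leaf 0x0)))
(.node 10222 (.node 10221 (.leaf 0x0)
(.leaf 0x0))
(.node 10223 (.leaf 0x0)
(.leaf 0x0)))))
(.node 10232 (.node 10228 (.node 10226 (.node 10225 (.leaf 0x0)
(.leaf 0x0))
(.node 10227 (.leaf 0x0)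
(.leaf 0x0)))
(.node 10230 (.node 10229 (.leaf 0x0)
(.leaf 0x0))
(.node 10231 (.leaf 0x0)
(.leaf 0x0))))
(.node 10236 (.node 10234 (.node 10233 (.leaf 0x0)
(.leaf 0x0))
(.node 10235 (.leaf 0x0)
(.leaf 0x0)))
(.node 10238 (.node 10237 (.leaf 0x0)
(.leaf 0x0))
(.node 10239 (.leaf 0x0)
(.leaf 0x0)))))))))

end Cfsg.Agent.H96.Fi24Mult.Lab
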