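import Cfsg.Agent.H96.Fi24Mult.LabCheckPart0
import Cfsg.Agent.H96.Fi24Mult.LabCheckPart1
import Cfsg.Agent.H96.Fi24Mult.LabCheckPart2
import Cfsg.Agent.H96.Fi24Mult.LabCheckPart3
import Cfsg.Agent.H96.Fi24Mult.LabCheckPart4
import Cfsg.Agent.H96.Fi24Mult.LabCheckPart5
import Cfsg.Agent.H96.Fi24Mult.LabCheckPart6
import Cfsg.Agent.H96.Fi24Mult.LabCheckPart7
import Cfsg.Agent.H96.Fi24Mult.LabCheckPart8
import Cfsg.Agent.H96.Fi24Mult.LabCheckPart9
import Cfsg.Agent.H96.Fi24Mult.LabCheckPart10
import Cfsg.Agent.H96.Fi24Mult.LabCheckPart11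
import Cfsg.Agent.H96.Fi24Mult.LabCheckPart12
import Cfsg.Agent.H96.Fi24Mult.LabCheckPart13
import Cfsg.Agent.H96.Fi24Mult.LabCheckPart14
import Cfsg.Agent.H96.Fi24Mult.LabCheckPart15
import Cfsg.Agent.H96.Fi24Mult.LabCheckPart16
import Cfsg.Agent.H96.Fi24Mult.LabCheckPart17
import Cfsg.Agent.H96.Fi24Mult.LabCheckPart18
import Cfsg.Agent.H96.Fi24Mult.LabCheckPart19
import Cfsg.Agent.H96.Fi24Mult.LabCheckPart20
import Cfsg.Agent.H96.Fi24Mult.LabCheckPart21
import Cfsg.Agent.H96.Fi24Mult.LabCheckPart22
import Cfsg.Agent.H96.Fi24Mult.LabCheckPart23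
import Cfsg.Agent.H96.Fi24Mult.LabCheckPart24
import Cfsg.Agent.H96.Fi24Mult.LabCheckPart25
import Cfsg.Agent.H96.Fi24Mult.LabCheckPart26
import Cfsg.Agent.H96.Fi24Mult.LabCheckPart27
import Cfsg.Agent.H96.Fi24Mult.LabCheckPart28
import Cfsg.Agent.H96.Fi24Mult.LabCheckPart29
import Cfsg.Agent.H96.Fi24Mult.LabCheckPart30
import Cfsg.Agent.H96.Fi24Mult.LabCheckPart31
import Cfsg.Agent.H96.Fi24Mult.LabCheckPart32
import Cfsg.Agent.H96.Fi24Mult.LabCheckPart33
import Cfsg.Agent.H96.Fi24Mult.LabCheckPart34
import Cfsg.Agent.H96.Fi24Mult.LabCheckPart35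
import Cfsg.Agent.H96.Fi24Mult.LabCheckPart36
import Cfsg.Agent.H96.Fi24Mult.LabCheckPart37
import Cfsg.Agent.H96.Fi24Mult.LabCheckPart38
import Cfsg.Agent.H96.Fi24Mult.LabCheckPart39
import Cfsg.Agent.H96.Fi24Mult.LabCheckPart40
import Cfsg.Agent.H96.Fi24Mult.LabCheckPart41
import Cfsg.Agent.H96.Fi24Mult.LabCheckPart42
import Cfsg.Agent.H96.Fi24Mult.LabCheckPart43
import Cfsg.Agent.H96.Fi24Mult.LabCheckPart44
import Cfsg.Agent.H96.Fi24Mult.LabCheckPart45
import Cfsg.Agent.H96.Fi24Mult.LabCheckPart46
import Cfsg.Agent.H96.Fi24Mult.LabCheckPart47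
import Cfsg.Agent.H96.Fi24Mult.LabCheckPart48
import Cfsg.Agent.H96.Fi24Mult.LabCheckPart49
import Cfsg.Agent.H96.Fi24Mult.LabCheckPart50
import Cfsg.Agent.H96.Fi24Mult.LabCheckPart51
import Cfsg.Agent.H96.Fi24Mult.LabCheckPart52
import Cfsg.Agent.H96.Fi24Mult.LabCheckPart53
import Cfsg.Agent.H96.Fi24Mult.LabCheckPart54
import Cfsg.Agent.H96.Fi24Mult.LabCheckPart55
import Cfsg.Agent.H96.Fi24Mult.LabCheckPart56
import Cfsg.Agent.H96.Fi24Mult.LabCheckPart57
import Cfsg.Agent.H96.Fi24Mult.LabCheckPart58
import Cfsg.Agent.H96.Fi24Mult.LabCheckPart59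
import Cfsg.Agent.H96.Fi24Mult.LabCheckPart60
import Cfsg.Agent.H96.Fi24Mult.LabCheckPart61
import Cfsg.Agent.H25.Fi24.T306936OK
import Cfsg.Agent.H25.Fi24.T306936PermOK

/-!
The checked labels.
-/

set_option autoImplicit false

namespace Cfsg.Agent.H96.Fi24Mult.Lab

theorem ok_all (i : ℕ) (hi : i < 306936) : ok i = true := by
  by_cases c0 : i < 5000
  · exact range0 i (by omega) (by omega)
  by_cases c1 : i < 10000
  · exact range1 i (by omega) (by omega)
  by_cases c2 : i < 15000
  · exact range2 i (by omega) (by omega)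
  by_cases c3 : i < 20000
  · exact range3 i (by omega) (by omega)
  by_cases c4 : i < 25000
  · exact range4 i (by omega) (by omega)
  by_cases c5 : i < 30000
  · exact range5 i (by omega) (by omega)
  by_cases c6 : i < 35000
  · exact range6 i (by omega) (by omega)
  by_cases c7 : i < 40000
  · exact range7 i (by omega) (by omega)
  by_cases c8 : i < 45000
  · exact range8 i (by omega) (by omega)
  by_cases c9 : i < 50000
  · exact range9 i (by omega) (by omega)
  by_cases c10 : i < 55000
  · exact range10 i (by omega) (by omega)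
  by_cases c11 : i < 60000
  · exact range11 i (by omega) (by omega)
  by_cases c12 : i < 65000
  · exact range12 i (by omega) (by omega)
  by_cases c13 : i < 70000
  · exact range13 i (by omega) (by omega)
  by_cases c14 : i < 75000
  · exact range14 i (by omega) (by omega)
  by_cases c15 : i < 80000
  · exact range15 i (by omega) (by omega)
  by_cases c16 : i < 85000
  · exact range16 i (by omega) (by omega)
  by_cases c17 : i < 90000
  · exact range17 i (by omega) (by omega)
  by_cases c18 : i < 95000
  · exact range18 i (by omega) (by omega)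
  by_cases c19 : i < 100000
  · exact range19 i (by omega) (by omega)
  by_cases c20 : i < 105000
  · exact range20 i (by omega) (by omega)
  by_cases c21 : i < 110000
  · exact range21 i (by omega) (by omega)
  by_cases c22 : i < 115000
  · exact range22 i (by omega) (by omega)
  by_cases c23 : i < 120000
  · exact range23 i (by omega) (by omega)
  by_cases c24 : i < 125000
  · exact range24 i (by omega) (by omega)
  by_cases c25 : i < 130000
  · exact range25 i (by omega) (by omega)
  by_cases c26 : i < 135000
  · exact range26 i (by omega) (by omega)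
  by_cases c27 : i < 140000
  · exact range27 i (by omega) (by omega)
  by_cases c28 : i < 145000
  · exact range28 i (by omega) (by omega)
  by_cases c29 : i < 150000
  · exact range29 i (by omega) (by omega)
  by_cases c30 : i < 155000
  · exact range30 i (by omega) (by omega)
  by_cases c31 : i < 160000
  · exact range31 i (by omega) (by omega)
  by_cases c32 : i < 165000
  · exact range32 i (by omega) (by omega)
  by_cases c33 : i < 170000
  · exact range33 i (by omega) (by omega)
  by_cases c34 : i < 175000
  · exact range34 i (by omega) (by omega)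
  by_cases c35 : i < 180000
  · exact range35 i (by omega) (by omega)
  by_cases c36 : i < 185000
  · exact range36 i (by omega) (by omega)
  by_cases c37 : i < 190000
  · exact range37 i (by omega) (by omega)
  by_cases c38 : i < 195000
  · exact range38 i (by omega) (by omega)
  by_cases c39 : i < 200000
  · exact range39 i (by omega) (by omega)
  by_cases c40 : i < 205000
  · exact range40 i (by omega) (by omega)
  by_cases c41 : i < 210000
  · exact range41 i (by omega) (by omega)
  by_cases c42 : i < 215000
  · exact range42 i (by omega) (by omega)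
  by_cases c43 : i < 220000
  · exact range43 i (by omega) (by omega)
  by_cases c44 : i < 225000
  · exact range44 i (by omega) (by omega)
  by_cases c45 : i < 230000
  · exact range45 i (by omega) (by omega)
  by_cases c46 : i < 235000
  · exact range46 i (by omega) (by omega)
  by_cases c47 : i < 240000
  · exact range47 i (by omega) (by omega)
  by_cases c48 : i < 245000
  · exact range48 i (by omega) (by omega)
  by_cases c49 : i < 250000
  · exact range49 i (by omega) (by omega)
  by_cases c50 : i < 255000
  · exact range50 i (by omega) (by omega)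
  by_cases c51 : i < 260000
  · exact range51 i (by omega) (by omega)
  by_cases c52 : i < 265000
  · exact range52 i (by omega) (by omega)
  by_cases c53 : i < 270000
  · exact range53 i (by omega) (by omega)
  by_cases c54 : i < 275000
  · exact range54 i (by omega) (by omega)
  by_cases c55 : i < 280000
  · exact range55 i (by omega) (by omega)
  by_cases c56 : i < 285000
  · exact range56 i (by omega) (by omega)
  by_cases c57 : i < 290000
  · exact range57 i (by omega) (by omega)
  by_cases c58 : i < 295000
  · exact range58 i (by omega) (by omega)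
  by_cases c59 : i < 300000
  · exact range59 i (by omega) (by omega)
  by_cases c60 : i < 305000
  · exact range60 i (by omega) (by omega)
  exact range61 i (by omega) (by omega)

theorem facts : Nonempty (LabFacts Cfsg.Agent.H25.Fi24.T306936.cert_ok.inv labs commC braidC
    Cfsg.Agent.H25.Fi24.T306936.wordB Cfsg.Agent.H25.Fi24.T306936.wordZ) := by
  have hcol : ∀ i, i < Cfsg.Agent.H25.Fi24.T306936.cert.n →
      Cfsg.Agent.H25.Fi24.uget Cfsg.Agent.H25.Fi24.T306936.colB i =
          Cfsg.Agent.H25.Fi24.walkV Cfsg.Agent.H25.Fi24.T306936.cert.t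
            Cfsg.Agent.H25.Fi24.T306936.wordB i ∧
        Cfsg.Agent.H25.Fi24.uget Cfsg.Agent.H25.Fi24.T306936.colZ i =
          Cfsg.Agent.H25.Fi24.walkV Cfsg.Agent.H25.Fi24.T306936.cert.t
            Cfsg.Agent.H25.Fi24.T306936.wordZ i := by
    intro i hi
    have h := Cfsg.Agent.H25.Fi24.T306936.relOK_all i hi
    simp only [Cfsg.Agent.H25.Fi24.T306936.relOK, Cfsg.Agent.H25.Fi24.powColOK,
      Cfsg.Agent.H25.Fi24.powOK, Cfsg.Agent.H25.Fi24.andB_eq, Cfsg.Agent.H25.Fi24.walk_eq,
      Bool.and_eq_true, Nat.beq_eq] at h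
    exact ⟨h.2.1.1, h.2.2.1⟩
  exact labFacts_of (colB := Cfsg.Agent.H25.Fi24.T306936.colB)
    (colZ := Cfsg.Agent.H25.Fi24.T306936.colZ) (wBB := wordBB) (wZZ := wordZZ)
    Cfsg.Agent.H25.Fi24.T306936.cert_ok.inv rfl (by decide +kernel) (by decide +kernel)
    (by decide +kernel) (by decide +kernel) (by decide +kernel) (by decide +kernel)
    (by decide +kernel) (by decide +kernel) (by decide +kernel)
    (fun i hi => (hcol i hi).1) (fun i hi => (hcol i hi).2) ok_all

end Cfsg.Agent.H96.Fi24Mult.Lab
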