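import Cfsg.Agent.H96.Fi24Mult.LabCheck
import Cfsg.Agent.H25.Fi24.T306936Words
import Cfsg.Agent.H96.Fi24Mult.LabData0
import Cfsg.Agent.H96.Fi24Mult.LabData1
import Cfsg.Agent.H96.Fi24Mult.LabData2
import Cfsg.Agent.H96.Fi24Mult.LabData3

/-!
The labels of the table of `Fi24`.
-/

set_option autoImplicit false

namespace Cfsg.Agent.H96.Fi24Mult.Lab

open Cfsg.Agent.H25.Fi24 (Tr)

/-- the labels -/
def labs : Tr :=
(.node 9472 (.node 4608 (.node 2304 (.node 1024 (.node 512 (.node 256 labPart0 labPart1) (.node 768 labPart2 labPart3)) (.node 1536 (.node 1280 labPart4 labPart5) (.node 1792 labPart6 (.node 2048 labPart7 labPart8)))) (.node 3328 (.node 2816 (.node 2560 labPart9 labPart10) (.node 3072 labPart11 labPart12)) (.node 3840 (.node 3584 labPart13 labPart14) (.node 4096 labPart15 (.node 4352 labPart16 labPart17))))) (.node 6912 (.node 5632 (.node 5120 (.node 4864 labPart18 labPart19) (.node 5376 labPart20 labPart21))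 (.node 6144 (.node 5888 labPart22 labPart23) (.node 6400 labPart24 (.node 6656 labPart25 labPart26)))) (.node 8192 (.node 7424 (.node 7168 labPart27 labPart28) (.node 7680 labPart29 (.node 7936 labPart30 labPart31))) (.node 8704 (.node 8448 labPart32 labPart33) (.node 8960 labPart34 (.node 9216 labPart35 labPart36)))))) (.node 14336 (.node 11776 (.node 10496 (.node 9984 (.node 9728 labPart37 labPart38) (.node 10240 labPart39 labPart40)) (.node 11008 (.node 10752 labPart41 labPart42) (.node 11264 labPart43 (.node 11520 labPart44 labPart45)))) (.node 13056 (.node 12288 (.node 12032 labPart46 labPart47) (.node 12544 labPart48 (.node 12800 labPart49 labPart50))) (.node 13568 (.node 13312 labPart51 labPart52) (.node 13824 labPart53 (.node 14080 labPart54 labPart55))))) (.node 16640 (.node 15360 (.node 14848 (.node 14592 labPart56 labPart57) (.node 15104 labPart58 labPart59)) (.node 15872 (.node 15616 labPart60 labPart61)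 (.node 16128 labPart62 (.node 16384 labPart63 labPart64)))) (.node 17920 (.node 17152 (.node 16896 labPart65 labPart66) (.node 17408 labPart67 (.node 17664 labPart68 labPart69))) (.node 18432 (.node 18176 labPart70 labPart71) (.node 18688 labPart72 (.node 18944 labPart73 labPart74)))))))

/-- commutation codes -/
def commC : List ℕ := [1312, 2352, 4416, 8528, 16736, 33136, 65920, 131472, 262560, 524720, 5442, 9554, 17762, 34162, 66946, 132498, 263586, 525746, 10579, 18787, 35187, 67971, 133523, 264611, 526771, 21860, 38260, 71044, 136596, 267684, 529844, 44405, 77189, 142741, 535989, 89478, 155030, 286118, 548278, 179607, 302503, 572855, 351656, 622008, 449961, 720313, 2609, 4673, 10833, 23137, 47729, 96897, 195217, 514721, 785073]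

/-- braid codes -/
def braidC : List ℕ := [1047312, 1046049, 1043762, 1039171, 767828, 749413, 503717, 974710, 900999, 1015704, 1040314]

/-- the ninth power -/
def wordBB : List ℕ := [2, 3, 4, 5, 6, 7, 10, 2, 3, 4, 5, 6, 7, 10, 2, 3, 4, 5, 6, 7, 10, 2, 3, 4, 5, 6, 7, 10, 2, 3, 4, 5, 6, 7, 10, 2, 3, 4, 5, 6, 7, 10, 2, 3, 4, 5, 6, 7, 10, 2, 3, 4, 5, 6, 7, 10, 2, 3, 4, 5, 6, 7, 10]

/-- the seventeenth power -/
def wordZZ : List ℕ := [5, 4, 3, 2, 1, 0, 5, 6, 7, 8, 9, 5, 10, 11, 5, 4, 3, 2, 1, 0, 5, 6, 7, 8, 9, 5, 10, 11, 5, 4, 3, 2, 1, 0, 5, 6, 7, 8, 9, 5, 10, 11, 5, 4, 3, 2, 1, 0, 5, 6, 7, 8, 9, 5, 10, 11, 5, 4, 3, 2, 1, 0, 5, 6, 7, 8, 9, 5, 10, 11, 5, 4, 3, 2, 1, 0, 5, 6, 7, 8, 9, 5, 10, 11, 5, 4, 3, 2, 1, 0, 5, 6, 7, 8, 9, 5, 10, 11, 5, 4, 3, 2, 1, 0, 5, 6, 7, 8, 9, 5, 10, 11, 5, 4, 3, 2, 1, 0, 5, 6, 7, 8, 9, 5, 10, 11, 5, 4, 3, 2, 1, 0, 5, 6, 7, 8, 9, 5, 10, 11, 5, 4, 3, 2, 1, 0, 5, 6, 7, 8, 9, 5, 10, 11, 5, 4, 3,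 2, 1, 0, 5, 6, 7, 8, 9, 5, 10, 11, 5, 4, 3, 2, 1, 0, 5, 6, 7, 8, 9, 5, 10, 11, 5, 4, 3, 2, 1, 0, 5, 6, 7, 8, 9, 5, 10, 11, 5, 4, 3, 2, 1, 0, 5, 6, 7, 8, 9, 5, 10, 11, 5, 4, 3, 2, 1, 0, 5, 6, 7, 8, 9, 5, 10, 11, 5, 4, 3, 2, 1, 0, 5, 6, 7, 8, 9, 5, 10, 11]

/-- all labelled relators at a coset -/
noncomputable def ok (i : ℕ) : Bool :=
  labOK Cfsg.Agent.H25.Fi24.T306936.cert.t labs Cfsg.Agent.H25.Fi24.T306936.colB
    Cfsg.Agent.H25.Fi24.T306936.colZ commC braidC wordBB wordZZ i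

end Cfsg.Agent.H96.Fi24Mult.Lab
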