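import Cfsg.Agent.H96.Fi24Mult.Basic
import Cfsg.Agent.H96.Fi24Mult.Cert
import Cfsg.Agent.H83.Fi23Mult.Main

/-!
Lifting the embedded `Fi23`, and the subgroup used by the certificates.
-/

set_option autoImplicit false

namespace Cfsg.Agent.H96.Fi24Mult

open Cfsg.Agent.H45 (evalW evalW_nil evalW_cons evalW_append eOf ixOf)
open scoped commutatorElement

/-- the presented `Fi23` -/
abbrev X3 : Type := Cfsg.Agent.H25.Fi23.X

/-- the embedding -/
noncomputable abbrev emb3 : X3 →* Q := Cfsg.Agent.H25.Fi24.phi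

theorem x3_perfect : commutator X3 = ⊤ := by
  have : IsSimpleGroup X3 := Cfsg.Agent.H25.Fi23.isSimple
  rcases (inferInstance : (commutator X3).Normal).eq_bot_or_eq_top with h | h
  · exfalso
    have hcomm : ∀ a b : X3, a * b = b * a := fun a b => by
      have hm : ⁅a, b⁆ ∈ commutator X3 :=
        Subgroup.commutator_mem_commutator (Subgroup.mem_top a) (Subgroup.mem_top b)
      rw [h, Subgroup.mem_bot, commutatorElement_eq_one_iff_mul_comm] at hm
      exact hm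
    obtain ⟨a, ha⟩ := exists_ne (1 : X3)
    exact ha (Cfsg.Agent.H25.Fi24.fi23_center fun z => hcomm a z)
  · exact h

theorem emb3_even (x : X3) : emb3 x ∈ evenQ :=
  Cfsg.Agent.H25.Fi24.K_le_commutator ⟨x, rfl⟩

theorem emb3_of (l : ℕ) (hl : l < Cfsg.Agent.H25.Fi23.pres.gl.length) :
    emb3 (PresentedGroup.of (Cfsg.Agent.H25.Fi23.pres.gl[l]'hl)) = qe (l + 2) * qe 0 := by
  rw [Cfsg.Agent.H25.Fi24.phi_of, Cfsg.Agent.H25.Fi24.emb,
    Cfsg.Agent.H25.Fi24.gl_getElem Cfsg.Agent.H25.Fi23.pres_ok]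

variable {E : Type} [Group E] (D : Ext E)

theorem exists_lift23 [Finite E] (hc : D.π.ker ≤ Subgroup.center E) :
    ∃ ψ : X3 →* E, ∀ x, D.π (ψ x) = emb3 x := by
  let S : Subgroup (X3 × E) :=
    (emb3.comp (MonoidHom.fst X3 E)).eqLocus (D.π.comp (MonoidHom.snd X3 E))
  let p : S →* X3 := (MonoidHom.fst X3 E).comp S.subtype
  have hp : Function.Surjective p := fun x => by
    obtain ⟨y, hy⟩ := D.surj (emb3 x)
    exact ⟨⟨(x, y), hy.symm⟩, rfl⟩
  have hS : ∀ x : S, emb3 x.1.1 = D.π x.1.2 := fun x => x.2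
  have hpc : p.ker ≤ Subgroup.center S := by
    intro x hx
    have h1 : x.1.1 = 1 := hx
    have h2 : x.1.2 ∈ Subgroup.center E := hc (by
      rw [MonoidHom.mem_ker, ← hS x, h1, map_one])
    rw [Subgroup.mem_center_iff]
    intro y
    apply Subtype.ext
    apply Prod.ext
    · change y.1.1 * x.1.1 = x.1.1 * y.1.1
      rw [h1, mul_one, one_mul]
    · exact Subgroup.mem_center_iff.1 h2 y.1.2
  obtain ⟨hmap, hperf⟩ := Cfsg.Agent.H74.Schur.commutator_perfect hp hpc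
    (Group.isPerfect_def.2 x3_perfect)
  let Γ : Subgroup S := commutator S
  let σ : Γ →* X3 := p.comp Γ.subtype
  have hσs : Function.Surjective σ := fun x => by
    obtain ⟨d, hd, hdx⟩ : x ∈ Γ.map p := hmap ▸ Subgroup.mem_top x
    exact ⟨⟨d, hd⟩, hdx⟩
  have : Finite X3 := Cfsg.Agent.H25.Fi23.order_facts.1
  have hstem : Cfsg.IsStemExtension σ := by
    refine ⟨hσs, fun z hz => ?_, ?_⟩
    · rw [Subgroup.mem_center_iff]
      intro y
      exact Subtype.ext (Subgroup.mem_center_iff.1 (hpc hz) y.1)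
    · rw [Group.isPerfect_def.1 hperf]; exact le_top
  have hσi : Function.Injective σ := (injective_iff_map_eq_one σ).2
    (Cfsg.Agent.H83.Fi23Mult.ker_trivial hstem)
  refine ⟨((MonoidHom.snd X3 E).comp (S.subtype.comp Γ.subtype)).comp
    (MulEquiv.ofBijective σ ⟨hσi, hσs⟩).symm.toMonoidHom, fun x => ?_⟩
  simp only [MonoidHom.comp_apply, MulEquiv.coe_toMonoidHom]
  set y := (MulEquiv.ofBijective σ ⟨hσi, hσs⟩).symm x
  have : σ y = x := (MulEquiv.ofBijective σ ⟨hσi, hσs⟩).apply_symm_apply x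
  rw [← this]
  exact (hS y.1).symm

/-- A lift of the embedded `Fi23` commuting with the involution. -/
structure Lift3 where
  ψ : X3 →* E
  π_ψ : ∀ x, D.π (ψ x) = emb3 x
  comm : ∀ x, Commute (ψ x) D.T

variable {D}

/-- the subgroup generated by the lift and the involution -/
def Lift3.hH (L : Lift3 D) : Subgroup E where
  carrier := {y | ∃ x, y = L.ψ x ∨ y = L.ψ x * D.T}
  one_mem' := ⟨1, Or.inl (map_one _).symm⟩
  mul_mem' := by
    rintro _ _ ⟨x, rfl | rfl⟩ ⟨x', rfl | rfl⟩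
    · exact ⟨x * x', Or.inl (map_mul _ _ _).symm⟩
    · exact ⟨x * x', Or.inr (by rw [map_mul, mul_assoc])⟩
    · exact ⟨x * x', Or.inr (by rw [map_mul, mul_assoc, ← (L.comm x').eq, mul_assoc])⟩
    · exact ⟨x * x', Or.inl (by
        rw [map_mul, mul_assoc, ← mul_assoc D.T, ← (L.comm x').eq, mul_assoc (L.ψ x'), D.T_sq,
          mul_one])⟩
  inv_mem' := by
    rintro _ ⟨x, rfl | rfl⟩
    · exact ⟨x⁻¹, Or.inl (map_inv _ _).symm⟩
    · exact ⟨x⁻¹, Or.inr (by rw [map_inv, mul_inv_rev, D.T_inv, ((L.comm x).inv_left).eq])⟩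

theorem Lift3.disj (L : Lift3 D) {y : E} (hy : y ∈ L.hH) (h1 : D.π y = 1) : y = 1 := by
  obtain ⟨x, rfl | rfl⟩ := hy
  · rw [L.π_ψ] at h1
    rw [Cfsg.Agent.H25.Fi24.phi_injective (h1.trans (map_one emb3).symm), map_one]
  · exfalso
    rw [map_mul, L.π_ψ, D.π_T] at h1
    apply qe0_notMem
    rw [← inv_eq_of_mul_eq_one_right h1]
    exact evenQ.inv_mem (emb3_even x)

theorem Lift3.T_mem (L : Lift3 D) : D.T ∈ L.hH :=
  ⟨1, Or.inr (by rw [map_one, one_mul])⟩

/-- the hypotheses of a certificate -/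
theorem Lift3.hyp (L : Lift3 D) {C : Cfg} {g : ℕ → E} {m : E} (hsq : ∀ l, g l * g l = 1)
    (hconj : ∀ l, l < 16 → ∀ k : ℤ, g l * m ^ k = m ^ (cond C.sg (-k) k) * g l)
    (hm : D.π m = 1) (hrel : ∀ w ∈ C.R, evalW g w.1 = m ^ (w.2 : ℤ))
    (hseed : ∀ x ∈ C.S, ∃ h ∈ L.hH, g (x % 16) = h * m ^ ((x / 16 : ℤ) - 1024)) :
    Hyp C g m L.hH :=
  ⟨hsq, hconj, hrel, hseed, fun k hk => L.disj hk (by rw [map_zpow, hm, one_zpow])⟩

end Cfsg.Agent.H96.Fi24Mult
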