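import Cfsg.Agent.H96.Fi24Mult.Basic
import Cfsg.Agent.H96.Fi24Mult.Helpers
import Cfsg.Agent.H96.Fi24Mult.LabOK
import Cfsg.Prelude.Def_KGroupFacts

/-!
The triple cover of `Fi24'` from the labelled table.
-/

set_option autoImplicit false

namespace Cfsg.Agent.H96.Fi24Mult

open Cfsg.Agent.H45 (evalW evalW_nil evalW_cons evalW_append eOf ixOf)
open scoped commutatorElement

theorem equal_of_braid_comm {G : Type*} [Group G] {x y : G} (hx : x * x = 1)
    (hb : x * y * x = y * x * y) (hc : x * y = y * x) (hy : y * y = 1) : x = y := by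
  have h1 : x * y * x = y := by rw [hc, mul_assoc, hx, mul_one]
  have h2 : y * x * y = x := by rw [← hc, mul_assoc, hy, mul_one]
  rw [← h2, ← hb, h1]

/-- Coxeter relations of the diagram force a perfect derived subgroup. -/
theorem derived_perfect {W : Type*} [Group W] (g : ℕ → W)
    (hgen : Subgroup.closure {x : W | ∃ l < 12, g l = x} = ⊤) (hsq : ∀ l, g l * g l = 1)
    (hc : ∀ x < 12, ∀ y < 12, adj x y = false → g x * g y = g y * g x)
    (hb : ∀ x y, (x, y) ∈ braidP → g x * g y * g x = g y * g x * g y) :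
    commutator W ≤ ⁅commutator W, commutator W⁆ := by
  set N := ⁅commutator W, commutator W⁆
  set m := QuotientGroup.mk' N with hm
  have hab : ∀ a ∈ commutator W, ∀ b ∈ commutator W, m a * m b = m b * m a := by
    intro a ha b hb'
    rw [← commutatorElement_eq_one_iff_mul_comm, ← map_commutatorElement]
    exact (QuotientGroup.eq_one_iff _).2 (Subgroup.commutator_mem_commutator ha hb')
  set a := m (g 0)
  set b := m (g 1)
  set c := m (g 2)
  set d := m (g 3)
  have msq : ∀ l, m (g l) * m (g l) = 1 := fun l => by rw [← map_mul, hsq, map_one]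
  have mc : ∀ x < 12, ∀ y < 12, adj x y = false → m (g x) * m (g y) = m (g y) * m (g x) :=
    fun x hx y hy h => by rw [← map_mul, hc x hx y hy h, map_mul]
  have mb : ∀ x y, (x, y) ∈ braidP →
      m (g x) * m (g y) * m (g x) = m (g y) * m (g x) * m (g y) := fun x y h => by
    simp only [← map_mul, hb x y h]
  have hmem : ∀ x y, (x, y) ∈ braidP → g x * g y ∈ commutator W := by
    intro x y h
    have e : ⁅g y, g x⁆ = g x * g y := by
      rw [commutatorElement_def, inv_eq_of_mul_eq_one_right (hsq x),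
        inv_eq_of_mul_eq_one_right (hsq y), ← hb x y h, mul_assoc, hsq, mul_one]
    rw [← e]
    exact Subgroup.commutator_mem_commutator (Subgroup.mem_top _) (Subgroup.mem_top _)
  have huv : a * b * (b * c) = b * c * (a * b) := by
    have h := hab _ (hmem 0 1 (by decide)) _ (hmem 1 2 (by decide))
    simpa only [map_mul] using h
  have cube : ∀ x y, (x, y) ∈ braidP → (m (g x) * m (g y)) ^ 3 = 1 := by
    intro x y h
    calc (m (g x) * m (g y)) ^ 3
        = m (g x) * m (g y) * m (g x) * (m (g y) * m (g x) * m (g y)) := by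
          simp only [pow_succ, pow_zero, one_mul, mul_assoc]
      _ = m (g y) * m (g x) * m (g y) * (m (g y) * m (g x) * m (g y)) := by rw [mb x y h]
      _ = 1 := by
          simp only [mul_assoc]
          rw [← mul_assoc (m (g y)) (m (g y)), msq, one_mul, ← mul_assoc (m (g x)) (m (g x)), msq,
            one_mul, msq]
  have hac : a * b * (b * c) = a * c := by rw [mul_assoc a, ← mul_assoc b b, msq, one_mul]
  have h3 : (a * c) ^ 3 = 1 := by
    rw [← hac, Commute.mul_pow huv, cube 0 1 (by decide), cube 1 2 (by decide), one_mul]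
  have h2 : (a * c) ^ 2 = 1 := by
    rw [pow_two, mul_assoc, ← mul_assoc c, ← mc 0 (by norm_num) 2 (by norm_num) (by decide),
      mul_assoc a c c, msq, mul_one, msq]
  have hAC : a = c := by
    rw [pow_succ, h2, one_mul] at h3
    rw [eq_inv_of_mul_eq_one_left h3]
    exact inv_eq_of_mul_eq_one_right (msq 2)
  have hstep : ∀ x y, (x, y) ∈ braidP → m (g x) = a → adj 0 y = false → y < 12 → m (g y) = a := by
    intro x y h hx h0 hy
    have hbr := mb x y h
    rw [hx] at hbr
    exact (equal_of_braid_comm (msq 0) hbr (mc 0 (by norm_num) y hy h0) (msq y)).symm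
  have e2 : m (g 2) = a := hAC.symm
  have e3 := hstep 2 3 (by decide) e2 (by decide) (by norm_num)
  have e4 := hstep 3 4 (by decide) e3 (by decide) (by norm_num)
  have e5 := hstep 4 5 (by decide) e4 (by decide) (by norm_num)
  have e6 := hstep 5 6 (by decide) e5 (by decide) (by norm_num)
  have e7 := hstep 6 7 (by decide) e6 (by decide) (by norm_num)
  have e8 := hstep 7 8 (by decide) e7 (by decide) (by norm_num)
  have e9 := hstep 8 9 (by decide) e8 (by decide) (by norm_num)
  have e10 := hstep 5 10 (by decide) e5 (by decide) (by norm_num)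
  have e11 := hstep 10 11 (by decide) e10 (by decide) (by norm_num)
  have e1 : m (g 1) = a := by
    have hbr := mb 1 2 (by decide)
    rw [e2] at hbr
    have hcm := mc 1 (by norm_num) 3 (by norm_num) (by decide)
    rw [e3] at hcm
    exact equal_of_braid_comm (msq 1) hbr hcm (msq 0)
  have hall : ∀ l < 12, m (g l) = a := by
    intro l hl
    interval_cases l
    exacts [rfl, e1, e2, e3, e4, e5, e6, e7, e8, e9, e10, e11]
  have hcyc : ∀ x : W, m x ∈ Subgroup.zpowers a := by
    intro x
    have hx : x ∈ Subgroup.closure {x : W | ∃ l < 12, g l = x} := by rw [hgen]; trivial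
    induction hx using Subgroup.closure_induction with
    | mem x hx => obtain ⟨l, hl, rfl⟩ := hx; rw [hall l hl]; exact Subgroup.mem_zpowers a
    | one => rw [map_one]; exact one_mem _
    | mul x y _ _ ihx ihy => rw [map_mul]; exact mul_mem ihx ihy
    | inv x _ ih => rw [map_inv]; exact inv_mem ih
  rw [commutator_def, Subgroup.commutator_le]
  intro x _ y _
  obtain ⟨i, hi⟩ := hcyc x
  obtain ⟨j, hj⟩ := hcyc y
  rw [← QuotientGroup.eq_one_iff]
  change m ⁅x, y⁆ = 1
  rw [map_commutatorElement, ← hi, ← hj, commutatorElement_eq_one_iff_mul_comm]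
  exact ((Commute.refl a).zpow_zpow i j).eq

/-- the table -/
abbrev CT : Cfsg.Agent.H25.Fi24.Cert := Cfsg.Agent.H25.Fi24.T306936.cert

theorem CT_n : CT.n = 306936 := rfl

theorem lower :
    ∃ (Γ : Type) (_ : Group Γ) (_ : Finite Γ) (σ : Γ →* ↥evenQ), Cfsg.IsStemExtension σ ∧
      Nonempty (σ.ker ≃* Multiplicative (ZMod 3)) := by
  obtain ⟨F⟩ := Lab.facts
  set p := lsg Cfsg.Agent.H25.Fi24.T306936.cert_ok.inv F.sym with hp
  have psq : ∀ l, p l * p l = 1 := lsg_sq _ _
  have pinv : ∀ l, (p l)⁻¹ = p l := lsg_inv _ _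
  have hcodes : ((List.range 12).all fun x => (List.range 12).all fun y => decide (x = y) || adj x y ||
      Lab.commC.any fun c => (decide (c % 16 = x) && decide (c / 16 % 16 = y)) ||
        (decide (c % 16 = y) && decide (c / 16 % 16 = x))) = true := by decide +kernel
  have hbcodes : (braidP.all fun q => Lab.braidC.any fun c =>
      decide (c % 16 = q.1) && decide (c / 16 % 16 = q.2)) = true := by decide +kernel
  have pc : ∀ x < 12, ∀ y < 12, adj x y = false → p x * p y = p y * p x := by
    intro x hx y hy hxy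
    have h := List.all_eq_true.mp (List.all_eq_true.mp hcodes x (List.mem_range.2 hx)) y
      (List.mem_range.2 hy)
    simp only [hxy, Bool.or_eq_true, Bool.or_false, Bool.and_eq_true, decide_eq_true_eq,
      List.any_eq_true] at h
    rcases h with rfl | ⟨c, hc, ⟨e1, e2⟩ | ⟨e1, e2⟩⟩
    · rfl
    · have := F.commRel c hc; rwa [e1, e2] at this
    · have := F.commRel c hc; rw [e1, e2] at this; exact this.symm
  have pb : ∀ x y, (x, y) ∈ braidP → p x * p y * p x = p y * p x * p y := by
    intro x y h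
    have h' := List.all_eq_true.mp hbcodes _ h
    simp only [List.any_eq_true, Bool.and_eq_true, decide_eq_true_eq] at h'
    obtain ⟨c, hc, e1, e2⟩ := h'
    have := F.braidRel c hc; rwa [e1, e2] at this
  let f : Cfsg.Spor.Fi24.Gen → Q × Equiv.Perm (Fin CT.n × ZMod 3) :=
    fun x => (PresentedGroup.of x, p (ixOf Cfsg.Agent.H25.Fi24.pres.gl x))
  let Φ := FreeGroup.lift f
  let W := Φ.range
  let r : ℕ → Q × Equiv.Perm (Fin CT.n × ZMod 3) := eOf Cfsg.Agent.H25.Fi24.pres.gl f
  have hlen : Cfsg.Agent.H25.Fi24.pres.gl.length = 12 := rfl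
  have hr : ∀ l < 12, r l = (qe l, p l) := by
    intro l hl
    simp only [r, eOf, List.getElem?_eq_getElem (show l < Cfsg.Agent.H25.Fi24.pres.gl.length by omega),
      Option.elim_some, f, Cfsg.Agent.H25.Fi24.gl_getElem Cfsg.Agent.H25.Fi24.pres_ok]
    simp [qe, Cfsg.Agent.H45.Pres.e, eOf, hl, hlen]
  have hrW : ∀ l, r l ∈ W := by
    intro l
    simp only [r, eOf]
    cases Cfsg.Agent.H25.Fi24.pres.gl[l]? with
    | none => exact one_mem _
    | some x => exact ⟨FreeGroup.of x, FreeGroup.lift_apply_of⟩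
  have rsq : ∀ l, r l * r l = 1 := by
    intro l
    by_cases hl : l < 12
    · rw [hr l hl, Prod.mk_mul_mk, qe_sq, psq]; rfl
    · simp [r, eOf, List.getElem?_eq_none (show Cfsg.Agent.H25.Fi24.pres.gl.length ≤ l by omega)]
  have rinv : ∀ x, (f x)⁻¹ = f x := fun x => by
    refine inv_eq_of_mul_eq_one_right ?_
    refine Prod.ext ?_ (psq _)
    exact Cfsg.Agent.H25.Fi24.pres_ok.sq x
  have reval : ∀ w : List ℕ, (∀ l ∈ w, l < 12) →
      evalW r w = (evalW qe w, evalW p w) := by
    intro w
    induction w with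
    | nil => intro _; rfl
    | cons a w ih =>
      intro hw
      rw [evalW_cons, evalW_cons, evalW_cons, hr a (hw a List.mem_cons_self),
        ih fun l hl => hw l (List.mem_cons_of_mem _ hl)]
      rfl
  have pw1 : evalW p w1 = 1 := by
    rw [w1, evalW_append, show (List.replicate 9 [10, 7, 6, 5, 4, 3, 2]).flatten =
      ((List.replicate 9 Cfsg.Agent.H25.Fi24.T306936.wordB).flatten).reverse by decide +kernel]
    have hrev : ∀ w : List ℕ, evalW p w.reverse = (evalW p w)⁻¹ := by
      intro w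
      induction w with
      | nil => simp [evalW]
      | cons x w ih =>
        rw [List.reverse_cons, evalW_append, ih, evalW_cons p x w, mul_inv_rev, pinv]
        simp [evalW]
    rw [hrev, F.powB, ← hp]
    simp [evalW, pinv, psq]
  set S : Equiv.Perm (Fin CT.n × ZMod 3) := evalW p wz with hS
  have hSshift : S⁻¹ = shiftP CT.n := F.powZ
  have hSconj : ∀ l < 12, p l * S * p l = S⁻¹ := by
    intro l hl
    have h : p l * shiftP CT.n * p l = (shiftP CT.n)⁻¹ := by
      refine Equiv.ext fun x => ?_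
      rw [Equiv.Perm.mul_apply, Equiv.Perm.mul_apply]
      have hl' : l < CT.L := hl
      have hs := F.sym x.1 x.1.isLt l hl'
      simp only [hp, lsg, hl', dif_pos, Equiv.coe_fn_mk]
      refine Prod.ext ?_ ?_
      · change _ = x.1
        simp [shiftP, ← Equiv.Perm.mul_apply, Cfsg.Agent.H25.Fi24.sg_sq]
      · change _ = x.2 - 1
        simp only [shiftP, Equiv.coe_fn_mk, Cfsg.Agent.H25.Fi24.sg_apply _ hl', hs]
        ring
    rw [hSshift]
    have : S = (shiftP CT.n)⁻¹ := by rw [← hSshift, inv_inv]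
    rw [this]
    have h2 := congrArg (fun z => z⁻¹) h
    simpa [mul_inv_rev, pinv, mul_assoc] using h2
  let τ : Q × Equiv.Perm (Fin CT.n × ZMod 3) := (1, S)
  have hτW : τ ∈ W := by
    have : evalW r wz = τ := by
      rw [reval wz (by decide +kernel)]
      exact Prod.ext (qe_rel (List.mem_append_right _ (by rw [rx_eq]; simp))) rfl
    rw [← this]
    exact list_prod_mem fun y hy => by
      obtain ⟨l, -, rfl⟩ := List.mem_map.mp hy
      exact hrW l
  have hτinv : ∀ y ∈ W, y * τ * y⁻¹ = τ ∨ y * τ * y⁻¹ = τ⁻¹ := by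
    rintro _ ⟨w, rfl⟩
    induction w using FreeGroup.induction_on with
    | C1 => left; simp
    | of x =>
      right
      rw [FreeGroup.lift_apply_of, rinv]
      refine Prod.ext ?_ ?_
      · simp [τ, f, Cfsg.Agent.H25.Fi24.pres_ok.sq x]
      · exact hSconj _ (by cases x <;> decide)
    | inv_of x h =>
      simp only [map_inv, inv_inv, FreeGroup.lift_apply_of, rinv, Φ] at *
      exact h
    | mul x y hx hy =>
      rw [map_mul]
      have e : Φ x * Φ y * τ * (Φ x * Φ y)⁻¹ = Φ x * (Φ y * τ * (Φ y)⁻¹) * (Φ x)⁻¹ := by group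
      rw [e]
      rcases hy with hy | hy <;> rw [hy] <;> rcases hx with hx | hx
      · exact Or.inl hx
      · exact Or.inr hx
      · exact Or.inr (by rw [← conj_inv, hx])
      · exact Or.inl (by rw [← conj_inv, hx, inv_inv])
  have hN : ∀ x, PresentedGroup.mk (Cfsg.Spor.coxRelators Cfsg.Agent.H25.Fi24.pres.edges ∪
      {r | r ∈ Cfsg.Agent.H25.Fi24.pres.extra}) x = (1 : Q) → Φ x ∈ Subgroup.zpowers τ := by
    intro x hx
    rw [PresentedGroup.mk_eq_one_iff] at hx
    let K := (Subgroup.zpowers τ).comap Φ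
    have hK : K.Normal := ⟨fun a ha y => by
      obtain ⟨k, hk⟩ := Subgroup.mem_comap.1 ha
      rw [Subgroup.mem_comap, map_mul, map_mul, map_inv, ← hk, ← conj_zpow]
      rcases hτinv (Φ y) ⟨y, rfl⟩ with h | h <;> rw [h]
      · exact Subgroup.zpow_mem _ (Subgroup.mem_zpowers τ) k
      · exact Subgroup.zpow_mem _ (Subgroup.inv_mem _ (Subgroup.mem_zpowers τ)) k⟩
    refine (Subgroup.normalClosure_le_normal (N := K) ?_) hx
    have hcox : Cfsg.Agent.H45.CoxHolds Cfsg.Agent.H25.Fi24.pres.edges f := by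
      refine Cfsg.Agent.H45.coxHolds_of_words Cfsg.Agent.H25.Fi24.pres_ok.all
        Cfsg.Agent.H25.Fi24.pres_ok.check fun w hw => ?_
      have hl : (Cfsg.Agent.H25.Fi24.pres.Rc.all fun w => w.all fun l => decide (l < 12)) = true := by
        decide +kernel
      have hl' := List.all_eq_true.mp hl w hw
      simp only [List.all_eq_true, decide_eq_true_eq] at hl'
      change evalW r w = 1
      rw [reval w hl']
      refine Prod.ext (qe_rel (List.mem_append_left _ hw)) ?_
      have h : (Cfsg.Agent.H25.Fi24.pres.Rc.all fun w =>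
          (List.range 12).any (fun x => decide (w = [x, x])) ||
          (List.range 12).any (fun x => (List.range 12).any fun y =>
            !adj x y && decide (w = [x, y, x, y])) ||
          braidP.any (fun q => decide (w = [q.1, q.2, q.1, q.2, q.1, q.2]))) = true := by decide +kernel
      have h' := List.all_eq_true.mp h w hw
      simp only [Bool.or_eq_true, List.any_eq_true, Bool.and_eq_true, Bool.not_eq_true',
        decide_eq_true_eq, List.mem_range] at h'
      rcases h' with (⟨x, -, rfl⟩ | ⟨x, hx, y, hy, hxy, rfl⟩) | ⟨⟨x, y⟩, hq, rfl⟩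
      · simp [evalW, psq]
      · simp only [evalW_cons, evalW_nil, mul_one]
        rw [← mul_assoc (p x)]
        nth_rw 1 [pc x hx y hy hxy]
        rw [mul_assoc, ← mul_assoc (p x) (p x), psq, one_mul, psq]
        rfl
      · simp only [evalW_cons, evalW_nil, mul_one]
        rw [← mul_assoc (p x) (p y), ← mul_assoc (p x * p y) (p x), pb x y hq]
        simp only [mul_assoc]
        rw [← mul_assoc (p y) (p y) (p x * p y), psq, one_mul, ← mul_assoc (p x) (p x) (p y), psq,
          one_mul, psq]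
        rfl
    rintro z (⟨a, ha, b, hb, rfl⟩ | hz)
    · rw [SetLike.mem_coe, Subgroup.mem_comap, map_pow, map_mul, FreeGroup.lift_apply_of,
        FreeGroup.lift_apply_of, hcox a ha b hb]
      exact one_mem _
    · have h2 : Φ z ∈ Cfsg.Agent.H25.Fi24.pres.Rx.map (evalW r) := by
        have h1 : Cfsg.Agent.H25.Fi24.pres.extra.map Φ =
            Cfsg.Agent.H25.Fi24.pres.Rx.map (evalW r) :=
          Cfsg.Agent.H25.Fi24.pres_ok.extra_eval _ f rinv
        rw [← h1]; exact List.mem_map.mpr ⟨z, hz, rfl⟩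
      obtain ⟨w, hw, hwz⟩ := List.mem_map.mp h2
      rw [SetLike.mem_coe, Subgroup.mem_comap, ← hwz]
      have hq := qe_rel (List.mem_append_right Cfsg.Agent.H25.Fi24.pres.Rc hw)
      rw [rx_eq, List.mem_cons, List.mem_singleton] at hw
      rcases hw with rfl | rfl
      · rw [reval w1 (by decide +kernel), hq, pw1]; exact one_mem _
      · rw [reval wz (by decide +kernel), hq]; exact Subgroup.mem_zpowers τ
  let π : W →* Q := (MonoidHom.fst Q (Equiv.Perm (Fin CT.n × ZMod 3))).comp W.subtype
  have hπs : Function.Surjective π := fun q => by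
    obtain ⟨x, rfl⟩ := PresentedGroup.mk_surjective _ q
    refine ⟨⟨Φ x, ⟨x, rfl⟩⟩, ?_⟩
    exact DFunLike.congr_fun (FreeGroup.ext_hom
      ((MonoidHom.fst Q (Equiv.Perm (Fin CT.n × ZMod 3))).comp Φ) (PresentedGroup.mk _) fun y => by
        rw [MonoidHom.comp_apply, FreeGroup.lift_apply_of]; rfl) x
  have hπk : ∀ y : W, π y = 1 → (y : Q × _) ∈ Subgroup.zpowers τ := by
    rintro ⟨_, x, rfl⟩ hy
    refine hN x ?_
    rw [← hy]
    exact (DFunLike.congr_fun (FreeGroup.ext_hom
      ((MonoidHom.fst Q (Equiv.Perm (Fin CT.n × ZMod 3))).comp Φ) (PresentedGroup.mk _) fun y => by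
        rw [MonoidHom.comp_apply, FreeGroup.lift_apply_of]; rfl) x).symm
  have hfinQ : Finite Q := finite_Q
  have : Finite W := Subtype.finite
  let τ' : W := ⟨τ, hτW⟩
  have hτ3 : τ' ^ 3 = 1 := by
    apply Subtype.ext
    change τ ^ 3 = 1
    refine Prod.ext (by simp [τ]) ?_
    change S ^ 3 = 1
    rw [← inv_inj, inv_one, ← inv_pow, hSshift]
    refine Equiv.ext fun x => Prod.ext rfl ?_
    change x.2 + 1 + 1 + 1 = x.2
    rw [add_assoc, add_assoc, show (1 : ZMod 3) + (1 + 1) = 0 from rfl, add_zero]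
  have hτne : τ' ≠ 1 := by
    intro h
    have h2 : S = 1 := congrArg Prod.snd (congrArg Subtype.val h)
    rw [h2, inv_one] at hSshift
    have h3 := congrArg Prod.snd (Equiv.ext_iff.mp hSshift (⟨0, by rw [CT_n]; norm_num⟩, 0))
    exact absurd h3 (by decide)
  let g : ℕ → W := fun l => ⟨r l, hrW l⟩
  have hgen : Subgroup.closure {x : W | ∃ l < 12, g l = x} = ⊤ := by
    apply Subgroup.map_injective W.subtype_injective
    rw [MonoidHom.map_closure, ← MonoidHom.range_eq_map, Subgroup.range_subtype]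
    refine le_antisymm ((Subgroup.closure_le _).2 ?_) ?_
    · rintro _ ⟨x, -, rfl⟩; exact x.2
    · conv_lhs => rw [show W = Φ.range from rfl, MonoidHom.range_eq_map, ← FreeGroup.closure_range_of,
        MonoidHom.map_closure]
      rw [Subgroup.closure_le]
      rintro _ ⟨_, ⟨x, rfl⟩, rfl⟩
      refine Subgroup.subset_closure ⟨g (ixOf Cfsg.Agent.H25.Fi24.pres.gl x),
        ⟨_, by cases x <;> decide, rfl⟩, ?_⟩
      change r _ = _
      rw [FreeGroup.lift_apply_of]
      exact Cfsg.Agent.H45.eOf_ix (Cfsg.Agent.H25.Fi24.pres_ok.all x)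
  have hperf : commutator W ≤ ⁅commutator W, commutator W⁆ :=
    derived_perfect g hgen (fun l => Subtype.ext (rsq l))
      (fun x hx y hy h => Subtype.ext (by
        change r x * r y = r y * r x
        rw [hr x hx, hr y hy, Prod.mk_mul_mk, Prod.mk_mul_mk, qe_comm hx hy h, pc x hx y hy h]))
      (fun x y h => Subtype.ext (by
        have hxy : x < 12 ∧ y < 12 := by
          revert h
          simp only [braidP, List.mem_cons, List.not_mem_nil, or_false, Prod.mk.injEq]
          omega
        change r x * r y * r x = r y * r x * r y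
        rw [hr x hxy.1, hr y hxy.2]
        simp only [Prod.mk_mul_mk]
        rw [qe_braid h, pb x y h]))
  let Γ := commutator W
  let σ : Γ →* ↥evenQ := (π.comp Γ.subtype).codRestrict evenQ fun y => by
    have h : (commutator W).map π = evenQ := map_commutator_top π hπs
    rw [← h]
    exact Subgroup.mem_map_of_mem π y.2
  have hσv : ∀ y : Γ, ((σ y : ↥evenQ) : Q) = π y.1 := fun y => rfl
  have hτΓ : τ' ∈ commutator W := by
    have h : ⁅g 0, τ'⁆ = τ'⁻¹ * τ'⁻¹ := by
      rw [commutatorElement_def]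
      apply Subtype.ext
      change r 0 * τ * (r 0)⁻¹ * τ⁻¹ = τ⁻¹ * τ⁻¹
      rw [inv_eq_of_mul_eq_one_right (rsq 0), hr 0 (by norm_num)]
      refine Prod.ext ?_ ?_
      · simp [τ, qe_sq]
      · change p 0 * S * p 0 * S⁻¹ = S⁻¹ * S⁻¹
        rw [hSconj 0 (by norm_num)]
    have e : τ'⁻¹ * τ'⁻¹ = τ' := by
      rw [← mul_inv_rev]
      exact inv_eq_of_mul_eq_one_left (by rw [← hτ3]; simp [pow_succ, mul_assoc])
    rw [← e, ← h]
    exact Subgroup.commutator_mem_commutator (Subgroup.mem_top _) (Subgroup.mem_top _)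
  have hkerσ : ∀ y : Γ, σ y = 1 → ∃ k : ℤ, τ' ^ k = y.1 := by
    intro y hy
    obtain ⟨k, hk⟩ := hπk y.1 (by rw [← hσv, hy]; rfl)
    exact ⟨k, Subtype.ext hk⟩
  have hcen : ∀ y : W, y ∈ commutator W → Commute y τ' := by
    intro y hy
    have hle : commutator W ≤ Subgroup.centralizer {τ'} := by
      rw [commutator_def, Subgroup.commutator_le]
      intro a _ b _
      rw [Subgroup.mem_centralizer_singleton_iff]
      have conj : ∀ c : W, c * τ' * c⁻¹ = τ' ∨ c * τ' * c⁻¹ = τ'⁻¹ := fun c => by
        rcases hτinv c.1 c.2 with h | h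
        · exact Or.inl (Subtype.ext h)
        · exact Or.inr (Subtype.ext h)
      have key : ⁅a, b⁆ * τ' * ⁅a, b⁆⁻¹ = τ' := by
        have e : ⁅a, b⁆ * τ' * ⁅a, b⁆⁻¹ =
            a * (b * (a⁻¹ * (b⁻¹ * τ' * b⁻¹⁻¹) * a⁻¹⁻¹) * b⁻¹) * a⁻¹ := by
          rw [commutatorElement_def]; group
        rw [e]
        have flip : ∀ c : W, c⁻¹ * τ' * c⁻¹⁻¹ = c * τ' * c⁻¹ := by
          intro c
          rcases conj c with h | h
          · rw [h]
            calc c⁻¹ * τ' * c⁻¹⁻¹ = c⁻¹ * (c * τ' * c⁻¹) * c := by rw [h, inv_inv]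
              _ = τ' := by group
          · rw [h]
            calc c⁻¹ * τ' * c⁻¹⁻¹ = (c⁻¹ * τ'⁻¹ * c)⁻¹ := by group
              _ = (c⁻¹ * (c * τ' * c⁻¹) * c)⁻¹ := by rw [h]
              _ = τ'⁻¹ := by group
        rw [flip b]
        rcases conj a with ha | ha <;> rcases conj b with hb | hb
        · rw [hb, flip a, ha, hb, ha]
        · rw [hb, ← conj_inv, flip a, ha, ← conj_inv, hb, inv_inv, ha]
        · rw [hb, flip a, ha, ← conj_inv, hb, ← conj_inv, ha, inv_inv]
        · rw [hb, ← conj_inv, flip a, ha, inv_inv, hb, ← conj_inv, ha, inv_inv]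
      exact (mul_inv_eq_iff_eq_mul.1 key)
    exact Subgroup.mem_centralizer_singleton_iff.1 (hle hy)
  have hstem : Cfsg.IsStemExtension σ := by
    refine ⟨fun q => ?_, fun y hy => ?_, ?_⟩
    · have h : (commutator W).map π = evenQ := map_commutator_top π hπs
      obtain ⟨y, hy, hyq⟩ : (q : Q) ∈ (commutator W).map π := by rw [h]; exact q.2
      exact ⟨⟨y, hy⟩, Subtype.ext hyq⟩
    · obtain ⟨k, hk⟩ := hkerσ y hy
      rw [Subgroup.mem_center_iff]
      intro z
      apply Subtype.ext
      change z.1 * y.1 = y.1 * z.1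
      rw [← hk]
      exact ((hcen z.1 z.2).zpow_right k).eq
    · intro y _
      have h : y.1 ∈ (commutator Γ).map Γ.subtype := by
        rw [commutator_def Γ, Subgroup.map_commutator, ← MonoidHom.range_eq_map,
          Subgroup.range_subtype]
        exact hperf y.2
      obtain ⟨z, hz, hzy⟩ := h
      rwa [← Subtype.ext (p := fun x => x ∈ Γ) (show z.1 = y.1 from hzy)]
  have hτk : (⟨τ', hτΓ⟩ : Γ) ∈ σ.ker := by
    rw [MonoidHom.mem_ker]
    apply Subtype.ext
    rfl
  let t : σ.ker := ⟨⟨τ', hτΓ⟩, hτk⟩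
  have ht3 : t ^ 3 = 1 := Subtype.ext (Subtype.ext hτ3)
  refine ⟨Γ, inferInstance, inferInstance, σ, hstem, ⟨(MulEquiv.ofBijective (zmodHom 3 t ht3) ⟨?_, ?_⟩).symm⟩⟩
  · rw [injective_iff_map_eq_one]
    intro a ha
    have key : ∀ b : ZMod 3, b = 0 ∨ b = ((1 : ℤ) : ZMod 3) ∨ b = ((2 : ℤ) : ZMod 3) := by decide
    have hto : a = Multiplicative.ofAdd (Multiplicative.toAdd a) := rfl
    rcases key (Multiplicative.toAdd a) with h | h | h
    · rw [hto, h]; rfl
    · exfalso
      rw [hto, h, zmodHom_int, zpow_one] at ha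
      exact hτne (congrArg Subtype.val (congrArg Subtype.val ha))
    · exfalso
      rw [hto, h, zmodHom_int] at ha
      have h3 : t ^ (2 : ℤ) * t = t ^ 3 := by
        rw [← zpow_add_one]; rfl
      rw [ha, one_mul, ht3] at h3
      exact hτne (congrArg Subtype.val (congrArg Subtype.val h3))
  · intro y
    obtain ⟨k, hk⟩ := hkerσ y.1 y.2
    obtain ⟨a, ha⟩ := zmodHom_range 3 t ht3 k
    exact ⟨a, ha.trans (Subtype.ext (Subtype.ext hk))⟩

end Cfsg.Agent.H96.Fi24Mult
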