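import Cfsg.Agent.H96.Fi24Mult.Upper
import Cfsg.Agent.H96.Fi24Mult.Lower

/-!
The Schur multiplier of `Fi24'`.
-/

set_option autoImplicit false

namespace Cfsg.Agent.H96.Fi24Mult

theorem multiplier : Cfsg.HasCyclicSchurMultiplier Cfsg.Spor.Fi24' 3 :=
  ⟨lower, fun _ _ _ _ hσ => upper hσ⟩

end Cfsg.Agent.H96.Fi24Mult
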