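import Cfsg.Agent.H96.Fi24Mult.SignData

/-!
Generated checks of a scan certificate.
-/

set_option Elab.async false
set_option autoImplicit false

namespace Cfsg.Agent.H96.Fi24Mult.Sign

open Cfsg.Agent.H25.Fi24 (allFrom)

set_option maxRecDepth 100000 in
theorem chunk0 : allFrom (factOK cfg) 500 0 = true := by decide +kernel

set_option maxRecDepth 100000 in
theorem chunk1 : allFrom (factOK cfg) 500 500 = true := by decide +kernel

set_option maxRecDepth 100000 in
theorem chunk2 : allFrom (factOK cfg) 500 1000 = true := by decide +kernel

set_option maxRecDepth 100000 in
theorem chunk3 : allFrom (factOK cfg) 500 1500 = true := by decide +kernel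

set_option maxRecDepth 100000 in
theorem chunk4 : allFrom (factOK cfg) 500 2000 = true := by decide +kernel

set_option maxRecDepth 100000 in
theorem chunk5 : allFrom (factOK cfg) 500 2500 = true := by decide +kernel

set_option maxRecDepth 100000 in
theorem chunk6 : allFrom (factOK cfg) 500 3000 = true := by decide +kernel

set_option maxRecDepth 100000 in
theorem chunk7 : allFrom (factOK cfg) 500 3500 = true := by decide +kernel

end Cfsg.Agent.H96.Fi24Mult.Sign
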