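import Cfsg.Agent.H96.Fi24Mult.SignData

/-!
Generated checks of a scan certificate.
-/

set_option Elab.async false
set_option autoImplicit false

namespace Cfsg.Agent.H96.Fi24Mult.Sign

open Cfsg.Agent.H25.Fi24 (allFrom)

set_option maxRecDepth 100000 in
theorem chunk8 : allFrom (factOK cfg) 500 4000 = true := by decide +kernel

set_option maxRecDepth 100000 in
theorem chunk9 : allFrom (factOK cfg) 500 4500 = true := by decide +kernel

set_option maxRecDepth 100000 in
theorem chunk10 : allFrom (factOK cfg) 500 5000 = true := by decide +kernel

set_option maxRecDepth 100000 in
theorem chunk11 : allFrom (factOK cfg) 500 5500 = true := by decide +kernel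

set_option maxRecDepth 100000 in
theorem chunk12 : allFrom (factOK cfg) 500 6000 = true := by decide +kernel

set_option maxRecDepth 100000 in
theorem chunk13 : allFrom (factOK cfg) 500 6500 = true := by decide +kernel

set_option maxRecDepth 100000 in
theorem chunk14 : allFrom (factOK cfg) 500 7000 = true := by decide +kernel

set_option maxRecDepth 100000 in
theorem chunk15 : allFrom (factOK cfg) 500 7500 = true := by decide +kernel

end Cfsg.Agent.H96.Fi24Mult.Sign
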