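import Cfsg.Agent.H96.Fi24Mult.SignCheck0
import Cfsg.Agent.H96.Fi24Mult.SignCheck1
import Cfsg.Agent.H96.Fi24Mult.SignCheck2
import Cfsg.Agent.H96.Fi24Mult.SignCheck3
import Cfsg.Agent.H96.Fi24Mult.SignCheck4
import Cfsg.Agent.H96.Fi24Mult.SignCheck5

/-!
The checked scan certificate.
-/

set_option autoImplicit false

namespace Cfsg.Agent.H96.Fi24Mult.Sign

theorem facts_ok : FactsOK cfg 0 22128 :=
  (factsOK_chunk chunk0)
  |>.append (factsOK_chunk chunk1)
  |>.append (factsOK_chunk chunk2)
  |>.append (factsOK_chunk chunk3)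
  |>.append (factsOK_chunk chunk4)
  |>.append (factsOK_chunk chunk5)
  |>.append (factsOK_chunk chunk6)
  |>.append (factsOK_chunk chunk7)
  |>.append (factsOK_chunk chunk8)
  |>.append (factsOK_chunk chunk9)
  |>.append (factsOK_chunk chunk10)
  |>.append (factsOK_chunk chunk11)
  |>.append (factsOK_chunk chunk12)
  |>.append (factsOK_chunk chunk13)
  |>.append (factsOK_chunk chunk14)
  |>.append (factsOK_chunk chunk15)
  |>.append (factsOK_chunk chunk16)
  |>.append (factsOK_chunk chunk17)
  |>.append (factsOK_chunk chunk18)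
  |>.append (factsOK_chunk chunk19)
  |>.append (factsOK_chunk chunk20)
  |>.append (factsOK_chunk chunk21)
  |>.append (factsOK_chunk chunk22)
  |>.append (factsOK_chunk chunk23)
  |>.append (factsOK_chunk chunk24)
  |>.append (factsOK_chunk chunk25)
  |>.append (factsOK_chunk chunk26)
  |>.append (factsOK_chunk chunk27)
  |>.append (factsOK_chunk chunk28)
  |>.append (factsOK_chunk chunk29)
  |>.append (factsOK_chunk chunk30)
  |>.append (factsOK_chunk chunk31)
  |>.append (factsOK_chunk chunk32)
  |>.append (factsOK_chunk chunk33)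
  |>.append (factsOK_chunk chunk34)
  |>.append (factsOK_chunk chunk35)
  |>.append (factsOK_chunk chunk36)
  |>.append (factsOK_chunk chunk37)
  |>.append (factsOK_chunk chunk38)
  |>.append (factsOK_chunk chunk39)
  |>.append (factsOK_chunk chunk40)
  |>.append (factsOK_chunk chunk41)
  |>.append (factsOK_chunk chunk42)
  |>.append (factsOK_chunk chunk43)
  |>.append (factsOK_chunk chunk44)

set_option maxRecDepth 100000 in
theorem fin_ok : finOK cfg 22128 8759 7 0xacdeaa72acdeaa72acdeaa72 3 false = true := by decide +kernel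

theorem kill {G : Type*} [Group G] {g : ℕ → G} {m : G} {H : Subgroup G} (hD : Hyp cfg g m H) : m ^ 3 = 1 :=
  cert_sound hD (by decide +kernel) facts_ok fin_ok

end Cfsg.Agent.H96.Fi24Mult.Sign
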