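import Cfsg.Agent.H96.Fi24Mult.Derive
import Cfsg.Agent.H96.Fi24Mult.Letters
import Cfsg.Agent.H96.Fi24Mult.SignOK

/-!
An inverted kernel without involutions is cyclic of order dividing three.
-/

set_option autoImplicit false

namespace Cfsg.Agent.H96.Fi24Mult

open Cfsg.Agent.H45 (evalW evalW_nil evalW_cons evalW_append eOf ixOf)

/-- order in which commutation is propagated -/
def stepsS : List (ℕ × ℕ × ℕ) := 
[
  (2, 4, 0), (2, 5, 0), (2, 6, 0), (2, 7, 0), (2, 8, 0), (2, 9, 0), (2, 10, 0),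
  (2, 11, 0), (3, 5, 0), (3, 6, 0), (3, 7, 0), (3, 8, 0), (3, 9, 0), (3, 10, 0),
  (3, 11, 0), (4, 6, 0), (4, 7, 0), (4, 8, 0), (4, 9, 0), (4, 10, 0), (4, 11, 0),
  (5, 1, 3), (5, 7, 0), (5, 8, 0), (5, 9, 0), (5, 11, 0), (6, 1, 3), (6, 8, 0),
  (6, 9, 0), (6, 10, 0), (6, 11, 0), (7, 1, 3), (7, 9, 0), (7, 10, 0), (7, 11, 0),
  (8, 1, 3), (8, 10, 0), (8, 11, 0), (9, 1, 3), (9, 10, 0), (9, 11, 0), (10, 1, 3),
  (11, 1, 3), (1, 4, 6)]

theorem stepsS_ok : stepsOK (fun x y z => [(z, x), (z, y)])
    (fun x y z => !adj x y && !adj x z && !adj y z)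
    ((1, 3) :: (List.range 10).map fun l => (0, l + 2)) stepsS = true := by decide +kernel

/-- a letter commuting with both letters of a braided pair -/
def thirdP : List (ℕ × ℕ × ℕ) :=
  [(0, 1, 3), (1, 2, 4), (2, 3, 0), (3, 4, 0), (4, 5, 0), (5, 6, 0), (5, 10, 0), (6, 7, 0),
   (7, 8, 0), (8, 9, 0), (10, 11, 0)]

theorem thirdP_ok : (braidP.all fun p => thirdP.any fun t => decide (t.1 = p.1) &&
    decide (t.2.1 = p.2) && decide (t.2.2 < 12) && !adj t.2.2 p.1 && !adj t.2.2 p.2 &&
    decide (p.1 < 12) && decide (p.2 < 12)) = true := by decide +kernel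

/-- letters carried to a quotient -/
noncomputable def Letters.map {E : Type} [Group E] {D : Ext E} (L : Letters D) (N : Subgroup E)
    [N.Normal] (hN : N ≤ D.π.ker) : Letters (D.quot N hN) where
  g l := QuotientGroup.mk' N (L.g l)
  g0 := by rw [L.g0]; rfl
  π_g l hl := L.π_g l hl
  sq l := by rw [← map_mul, L.sq, map_one]
  high l hl := by rw [L.high l hl]; rfl
  comm x hx y hy h := (L.comm x hx y hy h).map (QuotientGroup.mk' N)
  braid x y h := by simp only [← map_mul]; exact congrArg _ (L.braid x y h)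

namespace Ext

variable {E : Type} [Group E] (D : Ext E)
variable (hinv : ∀ z, D.π z = 1 → D.T * z * D.T = z⁻¹)
variable (hinj : ∀ z, D.π z = 1 → z * z = 1 → z = 1)
variable (hsurj : ∀ z, D.π z = 1 → ∃ n, D.π n = 1 ∧ n * n = z)
include hinv

theorem odd_inv {y z : E} (hy : D.π y ∉ evenQ) (hz : D.π z = 1) : y * z = z⁻¹ * y := by
  have h := D.odd_conj hy hz
  rw [hinv z hz, mul_inv_eq_iff_eq_mul] at h
  exact h

include hinj

theorem fixed_one {y z : E} (hy : D.π y ∉ evenQ) (hz : D.π z = 1) (h : y * z = z * y) : z = 1 := by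
  rw [D.odd_inv hinv hy hz] at h
  have h' := mul_right_cancel h
  exact hinj z hz (by
    calc z * z = z⁻¹ * z := by rw [h']
      _ = 1 := inv_mul_cancel z)

theorem odd_sq {y : E} (hy : D.π y ∉ evenQ) (hz : D.π (y * y) = 1) : y * y = 1 :=
  D.fixed_one hinv hinj hy hz (mul_assoc _ _ _).symm

include hsurj

theorem exists_adjust (a y : E) : ∃ y', D.π y' = D.π y ∧
    (D.π a ∉ evenQ → D.π y ∉ evenQ → D.π (a * y * (a * y)) = 1 → a * y' * (a * y') = 1) := by
  by_cases h : D.π (a * y * (a * y)) = 1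
  · obtain ⟨n, hn, hnn⟩ := hsurj _ (show D.π (a * y * (a * y))⁻¹ = 1 by rw [map_inv, h, inv_one])
    refine ⟨y * n, by rw [map_mul, hn, mul_one], fun ha hy _ => ?_⟩
    have hni : D.π n⁻¹ = 1 := by rw [map_inv, hn, inv_one]
    have e1 : n * a = a * n⁻¹ := by rw [D.odd_inv hinv ha hni, inv_inv]
    have e2 : n⁻¹ * y = y * n := (D.odd_inv hinv hy hn).symm
    calc a * (y * n) * (a * (y * n)) = a * y * (n * a) * y * n := by group
      _ = a * y * a * (n⁻¹ * y) * n := by rw [e1]; group
      _ = a * y * (a * y) * (n * n) := by rw [e2]; group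
      _ = 1 := by rw [hnn, mul_inv_cancel]
  · exact ⟨y, rfl, fun _ _ h' => absurd h' h⟩

/-- the chosen adjustment -/
noncomputable def adjust (a y : E) : E := (D.exists_adjust hinv hinj hsurj a y).choose

theorem adjust_π (a y : E) : D.π (D.adjust hinv hinj hsurj a y) = D.π y :=
  (D.exists_adjust hinv hinj hsurj a y).choose_spec.1

theorem adjust_comm {a y : E} {i j : ℕ} (ha : D.π a = qe i) (hy : D.π y = qe j) (hi : i < 12)
    (hj : j < 12) (hij : adj i j = false) :
    Commute a (D.adjust hinv hinj hsurj a y) := by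
  have h := (D.exists_adjust hinv hinj hsurj a y).choose_spec.2 (by rw [ha]; exact qe_notMem hi)
    (by rw [hy]; exact qe_notMem hj) (by
      rw [map_mul, map_mul, ha, hy, show qe i * qe j * (qe i * qe j) = qe i * qe j * (qe j * qe i) by
        rw [qe_comm hi hj hij], mul_assoc, ← mul_assoc (qe j), qe_sq, one_mul, qe_sq])
  have s1 : a * a = 1 := D.odd_sq hinv hinj (by rw [ha]; exact qe_notMem hi) (by
    rw [map_mul, ha, qe_sq])
  set b := D.adjust hinv hinj hsurj a y with hb
  have hπb : D.π b = qe j := by rw [hb, D.adjust_π, hy]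
  have s2 : b * b = 1 := D.odd_sq hinv hinj (by rw [hπb]; exact qe_notMem hj) (by
    rw [map_mul, hπb, qe_sq])
  change a * b * (a * b) = 1 at h
  have e := eq_inv_of_mul_eq_one_left h
  rw [mul_inv_rev, inv_eq_of_mul_eq_one_right s1, inv_eq_of_mul_eq_one_right s2] at e
  exact e

/-- the lifted letters in the inverted case -/
noncomputable def gS (l : ℕ) : E :=
  if l = 0 then D.T
  else if l = 1 then
    D.adjust hinv hinj hsurj (D.adjust hinv hinj hsurj D.T (Function.surjInv D.surj (qe 3)))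
      (Function.surjInv D.surj (qe 1))
  else if l < 12 then D.adjust hinv hinj hsurj D.T (Function.surjInv D.surj (qe l))
  else D.T

theorem gS_π {l : ℕ} (hl : l < 12) : D.π (D.gS hinv hinj hsurj l) = qe l := by
  unfold gS
  split_ifs with h0 h1
  · rw [h0, D.π_T]
  · rw [D.adjust_π, Function.surjInv_eq D.surj, h1]
  · rw [D.adjust_π, Function.surjInv_eq D.surj]

theorem gS_odd {l : ℕ} (hl : l < 12) : D.π (D.gS hinv hinj hsurj l) ∉ evenQ := by
  rw [D.gS_π hinv hinj hsurj hl]; exact qe_notMem hl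

theorem gS_sq (l : ℕ) : D.gS hinv hinj hsurj l * D.gS hinv hinj hsurj l = 1 := by
  by_cases hl : l < 12
  · exact D.odd_sq hinv hinj (D.gS_odd hinv hinj hsurj hl) (by
      rw [map_mul, D.gS_π hinv hinj hsurj hl, qe_sq])
  · unfold gS
    rw [if_neg (by omega), if_neg (by omega), if_neg hl]
    exact D.T_sq

theorem gS_base : ∀ p ∈ (1, 3) :: (List.range 10).map (fun l => (0, l + 2)),
    Commute (D.gS hinv hinj hsurj p.1) (D.gS hinv hinj hsurj p.2) := by
  have h2 : ∀ l, 2 ≤ l → l < 12 → adj 0 l = false →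
      Commute D.T (D.gS hinv hinj hsurj l) := by
    intro l a b c
    have e : D.gS hinv hinj hsurj l =
        D.adjust hinv hinj hsurj D.T (Function.surjInv D.surj (qe l)) := by
      unfold gS; rw [if_neg (by omega), if_neg (by omega), if_pos b]
    rw [e]
    exact D.adjust_comm hinv hinj hsurj D.π_T (Function.surjInv_eq D.surj _) (by norm_num) b c
  intro p hp
  rcases List.mem_cons.mp hp with rfl | hp
  · have e : D.gS hinv hinj hsurj 1 = D.adjust hinv hinj hsurj (D.gS hinv hinj hsurj 3)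
        (Function.surjInv D.surj (qe 1)) := rfl
    rw [e]
    exact (D.adjust_comm hinv hinj hsurj (D.gS_π hinv hinj hsurj (by norm_num))
      (Function.surjInv_eq D.surj _) (by norm_num) (by norm_num) (by decide)).symm
  · simp only [List.mem_map, List.mem_range] at hp
    obtain ⟨l, hl, rfl⟩ := hp
    have hadj : ∀ l < 10, adj 0 (l + 2) = false := by decide +kernel
    exact h2 (l + 2) (by omega) (by omega) (hadj l hl)

theorem gS_comm {x y : ℕ} (hx : x < 12) (hy : y < 12) (hxy : adj x y = false) :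
    Commute (D.gS hinv hinj hsurj x) (D.gS hinv hinj hsurj y) := by
  rcases eq_or_ne x y with rfl | hne
  · exact Commute.refl _
  refine derive (P := fun x y => Commute (D.gS hinv hinj hsurj x) (D.gS hinv hinj hsurj y))
    (fun _ _ h => h.symm) (need := fun x y z => [(z, x), (z, y)])
    (side := fun x y z => !adj x y && !adj x z && !adj y z) ?_
    (D.gS_base hinv hinj hsurj) stepsS_ok x hx y hy hne hxy
  intro a b c ha hb hc hs hp
  simp only [Bool.and_eq_true, Bool.not_eq_true'] at hs
  have h1 := hp (c, a) List.mem_cons_self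
  have h2 := hp (c, b) (List.mem_cons_of_mem _ List.mem_cons_self)
  simp only at h1 h2
  set A := D.gS hinv hinj hsurj a
  set B := D.gS hinv hinj hsurj b
  have hk : D.π (A * B * (A * B)) = 1 := by
    rw [map_mul, map_mul, D.gS_π hinv hinj hsurj ha, D.gS_π hinv hinj hsurj hb,
      show qe a * qe b * (qe a * qe b) = qe a * qe b * (qe b * qe a) by
        rw [qe_comm ha hb hs.1.1], mul_assoc, ← mul_assoc (qe b), qe_sq, one_mul, qe_sq]
  have h := D.fixed_one hinv hinj (D.gS_odd hinv hinj hsurj hc) hk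
    (((h1.mul_right h2).mul_right (h1.mul_right h2)).eq)
  have e := eq_inv_of_mul_eq_one_left h
  rw [mul_inv_rev, inv_eq_of_mul_eq_one_right (D.gS_sq hinv hinj hsurj a),
    inv_eq_of_mul_eq_one_right (D.gS_sq hinv hinj hsurj b)] at e
  exact e

theorem gS_braid {x y : ℕ} (h : (x, y) ∈ braidP) :
    D.gS hinv hinj hsurj x * D.gS hinv hinj hsurj y * D.gS hinv hinj hsurj x =
      D.gS hinv hinj hsurj y * D.gS hinv hinj hsurj x * D.gS hinv hinj hsurj y := by
  have h' := List.all_eq_true.mp thirdP_ok _ h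
  simp only [List.any_eq_true, Bool.and_eq_true, Bool.not_eq_true', decide_eq_true_eq] at h'
  obtain ⟨⟨a, b, c⟩, -, ⟨⟨⟨⟨⟨rfl, rfl⟩, hc⟩, hca⟩, hcb⟩, ha⟩, hb⟩ := h'
  simp only at *
  have h1 := D.gS_comm hinv hinj hsurj hc ha hca
  have h2 := D.gS_comm hinv hinj hsurj hc hb hcb
  set A := D.gS hinv hinj hsurj a with hA
  set B := D.gS hinv hinj hsurj b with hB
  have hk : D.π (A * B * A * (B * A * B)) = 1 := by
    simp only [map_mul, hA, hB, D.gS_π hinv hinj hsurj ha, D.gS_π hinv hinj hsurj hb]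
    rw [qe_braid h]
    simp only [mul_assoc]
    rw [← mul_assoc (qe b) (qe b), qe_sq, one_mul, ← mul_assoc (qe a) (qe a), qe_sq, one_mul, qe_sq]
  have h3 := D.fixed_one hinv hinj (D.gS_odd hinv hinj hsurj hc) hk
    ((((h1.mul_right h2).mul_right h1).mul_right ((h2.mul_right h1).mul_right h2)).eq)
  rw [eq_inv_of_mul_eq_one_left h3]
  simp only [mul_inv_rev, mul_assoc, hA, hB,
    inv_eq_of_mul_eq_one_right (D.gS_sq hinv hinj hsurj _)]

/-- lifted letters in the inverted case -/
noncomputable def lettersS : Letters D where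
  g := D.gS hinv hinj hsurj
  g0 := rfl
  π_g l hl := D.gS_π hinv hinj hsurj hl
  sq := D.gS_sq hinv hinj hsurj
  high l hl := by unfold gS; rw [if_neg (by omega), if_neg (by omega), if_neg (by omega)]
  comm _ hx _ hy h := D.gS_comm hinv hinj hsurj hx hy h
  braid _ _ h := D.gS_braid hinv hinj hsurj h

theorem signed_cyclic [Finite E] :
    ∃ m, D.π m = 1 ∧ m ^ 3 = 1 ∧ ∀ z, D.π z = 1 → z ∈ Subgroup.zpowers m := by
  set L := D.lettersS hinv hinj hsurj
  have rep : ∀ (n : ℕ) (w : List ℕ),
      evalW L.g (List.replicate n w).flatten = evalW L.g w ^ n := fun n w =>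
    Cfsg.Agent.H25.Fi24.evalW_flatten _ n w
  have hsp : evalW L.g wsp = 1 := by
    have hw : wsp = (List.replicate 10 [5, 4, 3, 5, 6, 7, 5, 10, 11]).flatten := by decide +kernel
    refine D.fixed_one hinv hinj (y := evalW L.g [5, 4, 3, 5, 6, 7, 5, 10, 11]) ?_ ?_ ?_
    · rw [L.π_eval (by decide +kernel), evalW_mem_iff (by decide +kernel)]; decide
    · rw [L.π_eval (by decide +kernel)]; exact Cfsg.Agent.H25.Fi24.spider
    · rw [hw, rep]; exact (Commute.self_pow _ _).eq
  have hm1 : evalW L.g w1 = 1 := by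
    refine D.fixed_one hinv hinj (y := evalW L.g wbase) ?_ ?_ ?_
    · rw [L.π_eval (by decide +kernel), evalW_mem_iff (by decide +kernel)]; decide
    · rw [L.π_eval (by decide +kernel)]
      exact qe_rel (List.mem_append_right _ (by rw [rx_eq]; simp))
    · have hT : ∀ w : List ℕ, (∀ l ∈ w, 2 ≤ l ∧ l < 12) → Commute (evalW L.g w) D.T := by
        intro w
        induction w with
        | nil => intro _; simp [evalW]
        | cons a w ih =>
          intro hw
          rw [evalW_cons]
          exact (L.T_comm (hw a List.mem_cons_self).1 (hw a List.mem_cons_self).2).symm.mul_left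
            (ih fun l hl => hw l (List.mem_cons_of_mem _ hl))
      rw [show w1 = [0] ++ (List.replicate 9 wbase).flatten from rfl, evalW_append, rep,
        show evalW L.g [0] = D.T by simp [evalW, L.g0]]
      exact ((hT wbase (by decide +kernel)).mul_right (Commute.self_pow _ _)).eq
  have hall : ∀ r ∈ Cfsg.Spor.coxRelators Cfsg.Agent.H25.Fi23.pres.edges ∪
      {r | r ∈ Cfsg.Agent.H25.Fi23.pres.extra}, FreeGroup.lift L.f3 r = 1 := by
    rintro r (⟨x, hx, y, hy, rfl⟩ | hr)
    · rw [map_pow, map_mul, FreeGroup.lift_apply_of, FreeGroup.lift_apply_of]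
      exact L.f3_cox x hx y hy
    · have a := Cfsg.Agent.H25.Fi23.pres_ok.extra_eval _ L.f3
        fun x => inv_eq_of_mul_eq_one_right (L.f3_sq x)
      have b : FreeGroup.lift L.f3 r ∈ Cfsg.Agent.H25.Fi23.pres.Rx.map
          (evalW (eOf Cfsg.Agent.H25.Fi23.pres.gl L.f3)) := by
        rw [← a]; exact List.mem_map.mpr ⟨r, hr, rfl⟩
      obtain ⟨w, hw, hwr⟩ := List.mem_map.mp b
      rw [← hwr]
      rw [Letters.fi23_rx] at hw
      simp only [List.mem_cons, List.not_mem_nil, or_false] at hw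
      rcases hw with rfl | rfl
      · rw [L.f3_spider, hsp]
      · rw [L.f3_ninth.1, ← L.f3_ninth.2.eq]
        have e := hm1
        rw [L.w1_eq] at e
        rw [← eq_of_mul_inv_eq_one e]
        exact D.T_sq
  let ψ : X3 →* E := PresentedGroup.toGroup (f := L.f3) hall
  have hψ : ∀ x, ψ (PresentedGroup.of x) = L.f3 x := fun x => PresentedGroup.toGroup.of hall
  have hπψ : ∀ x, D.π (ψ x) = emb3 x := DFunLike.congr_fun
    (show D.π.comp ψ = emb3 from PresentedGroup.ext fun x => by
      rw [MonoidHom.comp_apply, hψ, L.π_f3])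
  have hlift : ∀ x, Commute (ψ x) D.T := by
    have h : (MulAut.conj D.T).toMonoidHom.comp ψ = ψ := PresentedGroup.ext fun x => by
      have hcx : Commute D.T (L.f3 x) :=
        (L.T_comm (Nat.le_add_left 2 _) (by cases x <;> decide)).mul_right (Commute.refl _)
      rw [MonoidHom.comp_apply, MulEquiv.coe_toMonoidHom, MulAut.conj_apply, hψ, hcx.eq,
        mul_inv_cancel_right]
    intro x
    have h' := DFunLike.congr_fun h x
    rw [MonoidHom.comp_apply, MulEquiv.coe_toMonoidHom, MulAut.conj_apply, mul_inv_eq_iff_eq_mul] at h'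
    exact h'.symm
  let Li : Lift3 D := ⟨ψ, hπψ, hlift⟩
  set mz := evalW L.g wz with hmzdef
  have hmz : D.π mz = 1 := by
    rw [hmzdef, L.π_eval (by decide +kernel)]
    exact qe_rel (List.mem_append_right _ (by rw [rx_eq]; simp))
  have hconj : ∀ l, l < 16 → ∀ k : ℤ,
      L.g l * mz ^ k = mz ^ (cond Sign.cfg.sg (-k) k) * L.g l := by
    intro l _ k
    rw [show Sign.cfg.sg = true from rfl, cond_true, zpow_neg]
    refine D.odd_inv hinv ?_ (by rw [map_zpow, hmz, one_zpow])
    by_cases hl : l < 12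
    · rw [L.π_g l hl]; exact qe_notMem hl
    · rw [L.high l (not_lt.mp hl), D.π_T]; exact qe0_notMem
  have hseed : ∀ x ∈ Sign.cfg.S, ∃ h ∈ Li.hH, L.g (x % 16) = h * mz ^ ((x / 16 : ℤ) - 1024) := by
    have hid : ∀ x, L.f3 x = Li.ψ (PresentedGroup.of x) * (1 : E) ^ ((0 : ℕ) : ℤ) := fun x => by
      rw [one_zpow, mul_one]; exact (hψ x).symm
    intro x hx
    obtain ⟨h, hh, e⟩ := L.seed_of Li (sv := 0) (m := 1) (C := Sign.cfg) (by decide +kernel) hid
      (Commute.one_left _) x hx
    refine ⟨h, hh, ?_⟩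
    have hx' : x / 16 = 1024 := by
      have := List.all_eq_true.mp (show seedsOK Sign.cfg 0 = true by decide +kernel) x hx
      simp only [Bool.or_eq_true, Bool.and_eq_true, decide_eq_true_eq] at this
      omega
    rw [e, one_zpow, show ((x : ℤ) / 16 - 1024) = 0 by omega, zpow_zero]
  have h3 := Sign.kill (Li.hyp L.sq hconj hmz
    (L.rel_of hsp (a1 := some 0) (az := some 1) (by decide +kernel)
      (fun a ha => by obtain rfl : a = 0 := (Option.some.inj ha).symm; simpa using hm1)
      (fun a ha => by obtain rfl : a = 1 := (Option.some.inj ha).symm; simp [hmzdef]))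
    hseed)
  refine ⟨mz, hmz, h3, fun z hz => ?_⟩
  have hle : Subgroup.zpowers mz ≤ D.π.ker := Subgroup.zpowers_le.2 hmz
  have hN : (Subgroup.zpowers mz).Normal := ⟨fun n hn y => by
    by_cases hy : D.π y ∈ evenQ
    · rw [← (D.cent n (hle hn) y hy).eq, mul_inv_cancel_right]; exact hn
    · rw [D.odd_inv hinv hy (hle hn), mul_inv_cancel_right]; exact Subgroup.inv_mem _ hn⟩
  have h1' : evalW (L.map (Subgroup.zpowers mz) hle).g w1 = 1 := by
    rw [show evalW (L.map (Subgroup.zpowers mz) hle).g w1 =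
      QuotientGroup.mk' (Subgroup.zpowers mz) (evalW L.g w1) by
        simp only [evalW, map_list_prod, List.map_map]; rfl, hm1, map_one]
  have hz' : evalW (L.map (Subgroup.zpowers mz) hle).g wz = 1 := by
    rw [show evalW (L.map (Subgroup.zpowers mz) hle).g wz =
      QuotientGroup.mk' (Subgroup.zpowers mz) (evalW L.g wz) by
        simp only [evalW, map_list_prod, List.map_map]; rfl]
    exact (QuotientGroup.eq_one_iff _).2 (Subgroup.mem_zpowers mz)
  obtain ⟨s, hs⟩ := (L.map (Subgroup.zpowers mz) hle).exists_section h1' hz'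
  exact (QuotientGroup.eq_one_iff z).1
    ((D.quot (Subgroup.zpowers mz) hle).section_trivial s hs (z := QuotientGroup.mk z) hz)

end Ext

end Cfsg.Agent.H96.Fi24Mult
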