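import Cfsg.Agent.H25.Fi24.Table

/-!
Generated data of a scan certificate.
-/

set_option autoImplicit false

namespace Cfsg.Agent.H96.Fi24Mult.Sub

open Cfsg.Agent.H25.Fi24 (Tr)

/-- part of a trie -/
def parPart0 : Tr :=
(.node 87 (.node 43 (.node 21 (.node 10 (.node 5 (.node 2 (.node 1 (.leaf 0x0)
(.leaf 0x2))
(.node 3 (.leaf 0x11)
(.node 4 (.leaf 0x13)
(.leaf 0x23))))
(.node 7 (.node 6 (.leaf 0x34)
(.leaf 0x42))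
(.node 8 (.leaf 0x44)
(.node 9 (.leaf 0x55)
(.leaf 0x64)))))
(.node 15 (.node 12 (.node 11 (.leaf 0x75)
(.leaf 0x86))
(.node 13 (.leaf 0x93)
(.node 14 (.leaf 0x95)
(.leaf 0xa6))))
(.node 18 (.node 16 (.leaf 0xb7)
(.node 17 (.leaf 0xbb)
(.leaf 0xc5)))
(.node 19 (.leaf 0xd6)
(.node 20 (.leaf 0xe7)
(.leaf 0xeb))))))
(.node 32 (.node 26 (.node 23 (.node 22 (.leaf 0xf8)
(.leaf 0xfb))
(.node 24 (.leaf 0x114)
(.node 25 (.leaf 0x116)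
(.leaf 0x127))))
(.node 29 (.node 27 (.leaf 0x138)
(.node 28 (.leaf 0x13b)
(.leaf 0x159)))
(.node 30 (.leaf 0x15b)
(.node 31 (.leaf 0x166)
(.leaf 0x176)))))
(.node 37 (.node 34 (.node 33 (.leaf 0x187)
(.leaf 0x198))
(.node 35 (.leaf 0x19b)
(.node 36 (.leaf 0x1a9)
(.leaf 0x1ab))))
(.node 40 (.node 38 (.leaf 0x1b6)
(.node 39 (.leaf 0x1cb)
(.leaf 0x1d6)))
(.node 41 (.leaf 0x1e5)
(.node 42 (.leaf 0x1f5)
(.leaf 0x1f7)))))))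
(.node 65 (.node 54 (.node 48 (.node 45 (.node 44 (.leaf 0x208)
(.leaf 0x20b))
(.node 46 (.leaf 0x219)
(.node 47 (.leaf 0x21b)
(.leaf 0x226))))
(.node 51 (.node 49 (.leaf 0x23b)
(.node 50 (.leaf 0x246)
(.leaf 0x255)))
(.node 52 (.leaf 0x266)
(.node 53 (.leaf 0x275)
(.leaf 0x277)))))
(.node 59 (.node 56 (.node 55 (.leaf 0x284)
(.leaf 0x297))
(.node 57 (.leaf 0x2a8)
(.node 58 (.leaf 0x2b9)
(.leaf 0x2bb))))
(.node 62 (.node 60 (.leaf 0x2c6)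
(.node 61 (.leaf 0x2db)
(.leaf 0x2e6)))
(.node 63 (.leaf 0x306)
(.node 64 (.leaf 0x315)
(.leaf 0x317))))))
(.node 76 (.node 70 (.node 67 (.node 66 (.leaf 0x324)
(.leaf 0x335))
(.node 68 (.leaf 0x337)
(.node 69 (.leaf 0x344)
(.leaf 0x347))))
(.node 73 (.node 71 (.leaf 0x363)
(.node 72 (.leaf 0x378)
(.leaf 0x389)))
(.node 74 (.leaf 0x38b)
(.node 75 (.leaf 0x39b)
(.leaf 0x3a6)))))
(.node 81 (.node 78 (.node 77 (.leaf 0x3c6)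
(.leaf 0x3d5))
(.node 79 (.leaf 0x3d7)
(.node 80 (.leaf 0x3e5)
(.leaf 0x3f4))))
(.node 84 (.node 82 (.leaf 0x3f7)
(.node 83 (.leaf 0x413)
(.leaf 0x424)))
(.node 85 (.leaf 0x427)
(.node 86 (.leaf 0x438)
(.leaf 0x443))))))))
(.node 130 (.node 108 (.node 97 (.node 92 (.node 89 (.node 88 (.leaf 0x447)
(.leaf 0x456))
(.node 90 (.leaf 0x479)
(.node 91 (.leaf 0x47b)
(.leaf 0x48b))))
(.node 94 (.node 93 (.leaf 0x4a6)
(.leaf 0x4c5))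
(.node 95 (.leaf 0x4c7)
(.node 96 (.leaf 0x4d4)
(.leaf 0x4d7)))))
(.node 102 (.node 99 (.node 98 (.leaf 0x4f4)
(.leaf 0x503))
(.node 100 (.leaf 0x507)
(.node 101 (.leaf 0x516)
(.leaf 0x533))))
(.node 105 (.node 103 (.leaf 0x537)
(.node 104 (.leaf 0x546)
(.leaf 0x548)))
(.node 106 (.leaf 0x562)
(.node 107 (.leaf 0x567)
(.leaf 0x576))))))
(.node 119 (.node 113 (.node 110 (.node 109 (.leaf 0x58b)
(.leaf 0x59b))
(.node 111 (.leaf 0x5b6)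
(.node 112 (.leaf 0x5c5)
(.leaf 0x5c7))))
(.node 116 (.node 114 (.leaf 0x5d4)
(.node 115 (.leaf 0x5d7)
(.leaf 0x5e8)))
(.node 117 (.leaf 0x5f7)
(.node 118 (.leaf 0x606)
(.leaf 0x613)))))
(.node 124 (.node 121 (.node 120 (.leaf 0x627)
(.leaf 0x636))
(.node 122 (.leaf 0x64b)
(.node 123 (.leaf 0x652)
(.leaf 0x657))))
(.node 127 (.node 125 (.leaf 0x666)
(.node 126 (.leaf 0x668)
(.leaf 0x678)))
(.node 128 (.leaf 0x697)
(.node 129 (.leaf 0x6a6)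
(.leaf 0x6bb)))))))
(.node 152 (.node 141 (.node 135 (.node 132 (.node 131 (.leaf 0x6f7)
(.leaf 0x708))
(.node 133 (.leaf 0x717)
(.node 134 (.leaf 0x726)
(.leaf 0x728))))
(.node 138 (.node 136 (.leaf 0x746)
(.node 137 (.leaf 0x75b)
(.leaf 0x776)))
(.node 139 (.leaf 0x78b)
(.node 140 (.leaf 0x7a7)
(.leaf 0x7b6)))))
(.node 146 (.node 143 (.node 142 (.leaf 0x7b8)
(.leaf 0x7c8))
(.node 144 (.leaf 0x7e7)
(.node 145 (.leaf 0x7f6)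
(.leaf 0x826))))
(.node 149 (.node 147 (.leaf 0x828)
(.node 148 (.leaf 0x846)
(.leaf 0x848)))
(.node 150 (.leaf 0x858)
(.node 151 (.leaf 0x85b)
(.leaf 0x87b))))))
(.node 163 (.node 157 (.node 154 (.node 153 (.leaf 0x8b6)
(.leaf 0x8b8))
(.node 155 (.leaf 0x8c8)
(.node 156 (.leaf 0x8e7)
(.leaf 0x918))))
(.node 160 (.node 158 (.leaf 0x91b)
(.node 159 (.leaf 0x938)
(.leaf 0x93b)))
(.node 161 (.leaf 0x957)
(.node 162 (.leaf 0x988)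
(.leaf 0x9a7)))))
(.node 168 (.node 165 (.node 164 (.leaf 0x9c7)
(.leaf 0x9cb))
(.node 166 (.leaf 0x9e7)
(.node 167 (.leaf 0x9eb)
(.leaf 0xa0b))))
(.node 171 (.node 169 (.leaf 0xa17)
(.node 170 (.leaf 0xa3b)
(.leaf 0xa5b)))
(.node 172 (.leaf 0xa76)
(.node 173 (.leaf 0xa96)
(.leaf 0xaa6)))))))))

end Cfsg.Agent.H96.Fi24Mult.Sub
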