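import Cfsg.Agent.H96.Fi24Mult.Cert
import Cfsg.Agent.H96.Fi24Mult.SubFact0
import Cfsg.Agent.H96.Fi24Mult.SubPar0
import Cfsg.Agent.H96.Fi24Mult.SubCode0

/-!
A generated scan certificate.
-/

set_option autoImplicit false

namespace Cfsg.Agent.H96.Fi24Mult.Sub

open Cfsg.Agent.H25.Fi24 (Tr)

/-- a trie -/
def facts : Tr :=
(.node 256 factPart0 (.node 512 factPart1 factPart2))

/-- a trie -/
def pars : Tr :=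
parPart0

/-- a trie -/
def codes : Tr :=
(.node 256 codePart0 (.node 512 codePart1 codePart2))

/-- the certificate -/
def cfg : Cfg where
  sg := false
  R := [
    ([0, 2, 0, 2], 0),
    ([0, 3, 0, 3], 0),
    ([0, 4, 0, 4], 0),
    ([0, 5, 0, 5], 0),
    ([0, 6, 0, 6], 0),
    ([0, 7, 0, 7], 0),
    ([0, 8, 0, 8], 0),
    ([0, 9, 0, 9], 0),
    ([0, 10, 0, 10], 0),
    ([0, 11, 0, 11], 0),
    ([1, 3, 1, 3], 0),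
    ([1, 4, 1, 4], 0),
    ([1, 5, 1, 5], 0),
    ([1, 6, 1, 6], 0),
    ([1, 7, 1, 7], 0),
    ([1, 8, 1, 8], 0),
    ([1, 9, 1, 9], 0),
    ([1, 10, 1, 10], 0),
    ([1, 11, 1, 11], 0),
    ([2, 4, 2, 4], 0),
    ([2, 5, 2, 5], 0),
    ([2, 6, 2, 6], 0),
    ([2, 7, 2, 7], 0),
    ([2, 8, 2, 8], 0),
    ([2, 9, 2, 9], 0),
    ([2, 10, 2, 10], 0),
    ([2, 11, 2, 11], 0),
    ([3, 5, 3, 5], 0),
    ([3, 6, 3, 6], 0),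
    ([3, 7, 3, 7], 0),
    ([3, 8, 3, 8], 0),
    ([3, 9, 3, 9], 0),
    ([3, 10, 3, 10], 0),
    ([3, 11, 3, 11], 0),
    ([4, 6, 4, 6], 0),
    ([4, 7, 4, 7], 0),
    ([4, 8, 4, 8], 0),
    ([4, 9, 4, 9], 0),
    ([4, 10, 4, 10], 0),
    ([4, 11, 4, 11], 0),
    ([5, 7, 5, 7], 0),
    ([5, 8, 5, 8], 0),
    ([5, 9, 5, 9], 0),
    ([5, 11, 5, 11], 0),
    ([6, 8, 6, 8], 0),
    ([6, 9, 6, 9], 0),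
    ([6, 10, 6, 10], 0),
    ([6, 11, 6, 11], 0),
    ([7, 9, 7, 9], 0),
    ([7, 10, 7, 10], 0),
    ([7, 11, 7, 11], 0),
    ([8, 10, 8, 10], 0),
    ([8, 11, 8, 11], 0),
    ([9, 10, 9, 10], 0),
    ([9, 11, 9, 11], 0),
    ([0, 1, 0, 1, 0, 1], 0),
    ([1, 2, 1, 2, 1, 2], 0),
    ([2, 3, 2, 3, 2, 3], 0),
    ([3, 4, 3, 4, 3, 4], 0),
    ([4, 5, 4, 5, 4, 5], 0),
    ([5, 6, 5, 6, 5, 6], 0),
    ([5, 10, 5, 10, 5, 10], 0),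
    ([6, 7, 6, 7, 6, 7], 0),
    ([7, 8, 7, 8, 7, 8], 0),
    ([8, 9, 8, 9, 8, 9], 0),
    ([10, 11, 10, 11, 10, 11], 0),
    ([0, 10, 7, 6, 5, 4, 3, 2, 10, 7, 6, 5, 4, 3, 2, 10, 7, 6, 5, 4, 3, 2, 10, 7, 6, 5, 4, 3, 2, 10, 7, 6, 5, 4, 3, 2, 10, 7, 6, 5, 4, 3, 2, 10, 7, 6, 5, 4, 3, 2, 10, 7, 6, 5, 4, 3, 2, 10, 7, 6, 5, 4, 3, 2], 1),
    ([5, 4, 3, 5, 6, 7, 5, 10, 11, 5, 4, 3, 5, 6, 7, 5, 10, 11, 5, 4, 3, 5, 6, 7, 5, 10, 11, 5, 4, 3, 5, 6, 7, 5, 10, 11, 5, 4, 3, 5, 6, 7, 5, 10, 11, 5, 4, 3, 5, 6, 7, 5, 10, 11, 5, 4, 3, 5, 6, 7, 5, 10, 11, 5, 4, 3, 5, 6, 7, 5, 10, 11, 5, 4, 3, 5, 6, 7, 5, 10, 11, 5, 4, 3, 5, 6, 7, 5, 10, 11], 0)]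
  S := [16384, 16402, 16403, 16404, 16405, 16406, 16407, 16408, 16409, 16410, 16411]
  F := facts
  P := pars
  C := codes

end Cfsg.Agent.H96.Fi24Mult.Sub
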