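import Cfsg.Agent.H96.Fi24Mult.Central
import Cfsg.Agent.H96.Fi24Mult.Signed
import Cfsg.Prelude.Def_KGroupFacts
import Cfsg.Agent.H96.Fi24Mult.Helpers

/-!
The upper bound for the multiplier of `Fi24'`.
-/

set_option autoImplicit false

namespace Cfsg.Agent.H96.Fi24Mult

open scoped commutatorElement
open Subgroup (center)

namespace Ext

variable {E : Type} [Group E] (D : Ext E)

theorem ker_comm {a b : E} (ha : D.π a = 1) (hb : D.π b = 1) : a * b = b * a :=
  (D.cent a ha b (by rw [hb]; exact one_mem _)).eq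

/-- the commutators of the kernel with the involution -/
def kerN : Subgroup E where
  carrier := {n | ∃ z, D.π z = 1 ∧ n = D.T * z * D.T * z⁻¹}
  one_mem' := ⟨1, map_one _, by rw [mul_one, D.T_sq, inv_one, one_mul]⟩
  mul_mem' := by
    rintro _ _ ⟨a, ha, rfl⟩ ⟨b, hb, rfl⟩
    refine ⟨a * b, by rw [map_mul, ha, hb, mul_one], ?_⟩
    have h := D.ker_comm (a := a⁻¹) (b := D.T * b * D.T) (by rw [map_inv, ha, inv_one]) (D.π_conjT hb)
    have h2 := D.ker_comm (a := a⁻¹) (b := b⁻¹) (by rw [map_inv, ha, inv_one])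
      (by rw [map_inv, hb, inv_one])
    calc D.T * a * D.T * a⁻¹ * (D.T * b * D.T * b⁻¹)
        = D.T * a * D.T * (a⁻¹ * (D.T * b * D.T)) * b⁻¹ := by group
      _ = D.T * a * D.T * (D.T * b * D.T) * (a⁻¹ * b⁻¹) := by rw [h]; group
      _ = D.T * a * (D.T * D.T) * b * D.T * (b⁻¹ * a⁻¹) := by rw [h2]; group
      _ = D.T * (a * b) * D.T * (a * b)⁻¹ := by rw [D.T_sq]; group
  inv_mem' := by
    rintro _ ⟨a, ha, rfl⟩
    refine ⟨a⁻¹, by rw [map_inv, ha, inv_one], ?_⟩
    have h := D.ker_comm (a := a) (b := D.T * a⁻¹ * D.T) ha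
      (D.π_conjT (by rw [map_inv, ha, inv_one]))
    rw [inv_inv, ← h, mul_inv_rev, mul_inv_rev, mul_inv_rev, inv_inv, D.T_inv]
    simp only [mul_assoc]

theorem kerN_le : D.kerN ≤ D.π.ker := by
  rintro _ ⟨z, hz, rfl⟩
  rw [MonoidHom.mem_ker, map_mul, D.π_conjT hz, map_inv, hz, inv_one, mul_one]

theorem kerN_normal : D.kerN.Normal := ⟨fun n hn y => by
  obtain ⟨z, hz, rfl⟩ := hn
  have hn : D.π (D.T * z * D.T * z⁻¹) = 1 := D.kerN_le ⟨z, hz, rfl⟩
  by_cases hy : D.π y ∈ evenQ
  · rw [← (D.cent _ hn y hy).eq, mul_inv_cancel_right]; exact ⟨z, hz, rfl⟩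
  · rw [D.odd_conj hy hn]
    refine ⟨D.T * z * D.T, D.π_conjT hz, ?_⟩
    rw [mul_inv_rev, mul_inv_rev, D.T_inv]
    simp only [mul_assoc]
    rw [← mul_assoc D.T D.T (D.T * (z⁻¹ * D.T)), D.T_sq, one_mul]⟩

/-- the kernel is cyclic of order dividing three -/
theorem cyclic_three [Finite E] :
    ∃ m, D.π m = 1 ∧ m ^ 3 = 1 ∧ ∀ z, D.π z = 1 → z ∈ Subgroup.zpowers m := by
  have := D.kerN_normal
  have hcentral : (D.quot D.kerN D.kerN_le).π.ker ≤ center (E ⧸ D.kerN) := by
    intro z hz
    obtain ⟨z, rfl⟩ := QuotientGroup.mk_surjective z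
    replace hz : D.π z = 1 := hz
    rw [Subgroup.mem_center_iff]
    intro y
    obtain ⟨y, rfl⟩ := QuotientGroup.mk_surjective y
    rw [← QuotientGroup.mk_mul, ← QuotientGroup.mk_mul, QuotientGroup.eq]
    by_cases hy : D.π y ∈ evenQ
    · rw [(D.cent z hz y hy).eq, inv_mul_cancel]; exact one_mem _
    · have h := D.odd_conj hy hz
      rw [show (y * z)⁻¹ * (z * y) = y⁻¹ * ((y * z * y⁻¹)⁻¹ * z) * y by group, h]
      have hn : (D.T * z * D.T)⁻¹ * z ∈ D.kerN := by
        refine ⟨z⁻¹, by rw [map_inv, hz, inv_one], ?_⟩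
        rw [mul_inv_rev, mul_inv_rev, D.T_inv, inv_inv]
        simp only [mul_assoc]
      simpa using D.kerN_normal.conj_mem _ hn y⁻¹
  have hall : ∀ z, D.π z = 1 → z ∈ D.kerN := fun z hz =>
    (QuotientGroup.eq_one_iff z).1
      ((D.quot D.kerN D.kerN_le).central_trivial hcentral (z := QuotientGroup.mk z) hz)
  have hinv : ∀ z, D.π z = 1 → D.T * z * D.T = z⁻¹ := by
    intro z hz
    obtain ⟨n, -, rfl⟩ := hall z hz
    simp only [mul_inv_rev, inv_inv, D.T_inv, mul_assoc]
    rw [← mul_assoc D.T D.T, D.T_sq, one_mul]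
  have hsurj : ∀ z, D.π z = 1 → ∃ n, D.π n = 1 ∧ n * n = z := by
    intro z hz
    obtain ⟨n, hn, rfl⟩ := hall z hz
    exact ⟨n⁻¹, by rw [map_inv, hn, inv_one], by rw [hinv n hn]⟩
  have hinj : ∀ z, D.π z = 1 → z * z = 1 → z = 1 := by
    intro z hz hzz
    let sq : {z // D.π z = 1} → {z // D.π z = 1} :=
      fun n => ⟨n.1 * n.1, by rw [map_mul, n.2, mul_one]⟩
    have hs : Function.Surjective sq := fun n => by
      obtain ⟨k, hk, hkk⟩ := hsurj n.1 n.2
      exact ⟨⟨k, hk⟩, Subtype.ext hkk⟩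
    have := (Finite.injective_iff_surjective.2 hs)
      (a₁ := ⟨z, hz⟩) (a₂ := ⟨1, map_one _⟩) (Subtype.ext (by simpa [sq] using hzz))
    exact congrArg Subtype.val this
  exact D.signed_cyclic hinv hinj hsurj

end Ext

theorem exists_ext {Γ : Type} [Group Γ] [Finite Γ] {σ : Γ →* ↥evenQ}
    (hσ : Cfsg.IsStemExtension σ) :
    ∃ (E : Type) (_ : Group E) (_ : Finite E) (D : Ext E) (r : D.π.ker →* σ.ker),
      Function.Surjective r := by
  obtain ⟨hsurj, hcen, hcom⟩ := hσ
  have hΓ : commutator Γ = ⊤ := by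
    rw [eq_top_iff]
    intro x _
    have h1 : (commutator Γ).map σ = ⊤ := by
      rw [map_commutator_top σ hsurj, evenQ_perfect]
    obtain ⟨d, hd, hdx⟩ : σ x ∈ (commutator Γ).map σ := by rw [h1]; trivial
    have : d⁻¹ * x ∈ commutator Γ :=
      hcom (by rw [MonoidHom.mem_ker, map_mul, map_inv, hdx, inv_mul_cancel])
    simpa using (commutator Γ).mul_mem hd this
  let c : Q →* Q := (MulAut.conj (qe 0)).toMonoidHom
  have hc : ∀ q, c q = qe 0 * q * qe 0 := fun q => by
    change qe 0 * q * (qe 0)⁻¹ = _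
    rw [qe_inv]
  have hcc : ∀ q, c (c q) = q := fun q => by
    simp only [hc, mul_assoc]
    rw [qe_sq, mul_one, ← mul_assoc, qe_sq, one_mul]
  let τ : Γ →* Q := evenQ.subtype.comp σ
  let S : Subgroup (Γ × Γ) :=
    (c.comp (τ.comp (MonoidHom.fst Γ Γ))).eqLocus (τ.comp (MonoidHom.snd Γ Γ))
  have hS : ∀ p : S, c (τ p.1.1) = τ p.1.2 := fun p => p.2
  have hlift : ∀ x : Γ, ∃ y : Γ, c (τ x) = τ y := by
    intro x
    have hm : c (τ x) ∈ evenQ := by
      rw [hc]
      have := (inferInstance : evenQ.Normal).conj_mem _ (σ x).2 (qe 0)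
      rwa [qe_inv] at this
    obtain ⟨y, hy⟩ := hsurj ⟨c (τ x), hm⟩
    exact ⟨y, (congrArg Subtype.val hy).symm⟩
  let p : S →* ↥evenQ := σ.comp ((MonoidHom.fst Γ Γ).comp S.subtype)
  have hp : Function.Surjective p := fun q => by
    obtain ⟨x, hx⟩ := hsurj q
    obtain ⟨y, hy⟩ := hlift x
    exact ⟨⟨(x, y), hy⟩, hx⟩
  have hpc : p.ker ≤ center S := by
    intro z hz
    have h1 : σ z.1.1 = 1 := hz
    have h2 : σ z.1.2 = 1 := by
      apply Subtype.ext
      have := hS z
      rw [show τ z.1.1 = 1 by simp [τ, h1], map_one] at this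
      exact this.symm
    rw [Subgroup.mem_center_iff]
    intro y
    exact Subtype.ext (Prod.ext (Subgroup.mem_center_iff.1 (hcen h1) y.1.1)
      (Subgroup.mem_center_iff.1 (hcen h2) y.1.2))
  obtain ⟨hmap, hperf⟩ := Cfsg.Agent.H74.Schur.commutator_perfect hp hpc
    (Group.isPerfect_def.2 evenQ_perfect)
  let sw : MulAut S :=
    { toFun := fun z => ⟨(z.1.2, z.1.1), by
        change c (τ z.1.2) = τ z.1.1
        rw [← hS z, hcc]⟩
      invFun := fun z => ⟨(z.1.2, z.1.1), by
        change c (τ z.1.2) = τ z.1.1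
        rw [← hS z, hcc]⟩
      left_inv := fun z => rfl
      right_inv := fun z => rfl
      map_mul' := fun a b => rfl }
  have hsw : ∀ z ∈ commutator S, sw z ∈ commutator S := fun z hz => by
    have : (commutator S).map sw.toMonoidHom ≤ commutator S := by
      rw [commutator_def, Subgroup.map_commutator]
      exact Subgroup.commutator_mono le_top le_top
    exact this (Subgroup.mem_map_of_mem _ hz)
  let θ : MulAut (commutator S) :=
    { toFun := fun z => ⟨sw z.1, hsw z.1 z.2⟩
      invFun := fun z => ⟨sw z.1, hsw z.1 z.2⟩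
      left_inv := fun z => rfl
      right_inv := fun z => rfl
      map_mul' := fun a b => Subtype.ext (map_mul sw a.1 b.1) }
  have hθ : θ * θ = 1 := MulEquiv.ext fun z => rfl
  let φ : Multiplicative (ZMod 2) →* MulAut (commutator S) :=
    zmodTwoHom θ hθ
  let fn : commutator S →* Q := evenQ.subtype.comp (p.comp (commutator S).subtype)
  let fg : Multiplicative (ZMod 2) →* Q := zmodTwoHom (qe 0) (qe_sq 0)
  have hcompat : ∀ g, fn.comp (φ g).toMonoidHom = (MulAut.conj (fg g)).toMonoidHom.comp fn := by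
    intro g
    rcases zmodTwo_cases g with rfl | rfl
    · ext z
      simp
    · refine MonoidHom.ext fun z => ?_
      simp only [φ, fg, zmodTwoHom_one]
      change τ z.1.1.2 = qe 0 * τ z.1.1.1 * (qe 0)⁻¹
      rw [qe_inv, ← hc, hS]
  let π : (commutator S) ⋊[φ] Multiplicative (ZMod 2) →* Q := SemidirectProduct.lift fn fg hcompat
  have hfn : ∀ z, fn z ∈ evenQ := fun z => (p z.1).2
  have hfns : ∀ q ∈ evenQ, ∃ z, fn z = q := fun q hq => by
    obtain ⟨z, hz, hzq⟩ : (⟨q, hq⟩ : ↥evenQ) ∈ (commutator S).map p := by rw [hmap]; trivial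
    exact ⟨⟨z, hz⟩, congrArg Subtype.val hzq⟩
  have hπeven : ∀ y, π y ∈ evenQ → y = SemidirectProduct.inl y.left := by
    intro y hy
    rcases zmodTwo_cases y.right with h | h
    · exact SemidirectProduct.ext rfl h
    · exfalso
      have e : π y = fn y.left * fg y.right := rfl
      rw [h, zmodTwoHom_one] at e
      rw [e, Subgroup.mul_mem_iff_of_index_two evenQ_index] at hy
      exact qe0_notMem (hy.1 (hfn _))
  have : Finite (Multiplicative (ZMod 2)) := inferInstance
  have : Finite ((commutator S) ⋊[φ] Multiplicative (ZMod 2)) :=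
    Finite.of_injective (fun y => (y.left, y.right)) fun a b h =>
      SemidirectProduct.ext (congrArg Prod.fst h) (congrArg Prod.snd h)
  let D : Ext ((commutator S) ⋊[φ] Multiplicative (ZMod 2)) :=
    { π := π
      surj := fun q => by
        rcases mem_or q with h | h
        · obtain ⟨z, hz⟩ := hfns q h
          exact ⟨SemidirectProduct.inl z, by rw [SemidirectProduct.lift_inl, hz]⟩
        · obtain ⟨z, hz⟩ := hfns _ h
          refine ⟨SemidirectProduct.inl z * SemidirectProduct.inr (Multiplicative.ofAdd 1), ?_⟩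
          rw [map_mul, SemidirectProduct.lift_inl, SemidirectProduct.lift_inr, zmodTwoHom_one, hz,
            mul_assoc, qe_sq, mul_one]
      T := SemidirectProduct.inr (Multiplicative.ofAdd 1)
      T_sq := by rw [← map_mul]; exact map_one _
      π_T := by rw [SemidirectProduct.lift_inr, zmodTwoHom_one]
      perfect := by
        intro y hy
        rw [Subgroup.mem_comap] at hy
        rw [hπeven y hy]
        have h1 : (commutator (commutator S)).map (SemidirectProduct.inl (φ := φ)) ≤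
            ⁅evenQ.comap π, evenQ.comap π⁆ := by
          rw [commutator_def (↥(commutator ↥S)), Subgroup.map_commutator]
          refine Subgroup.commutator_mono ?_ ?_ <;>
            · rintro _ ⟨z, -, rfl⟩
              rw [Subgroup.mem_comap, SemidirectProduct.lift_inl]
              exact hfn z
        exact h1 (Subgroup.mem_map_of_mem _ (by rw [Group.isPerfect_def.1 hperf]; trivial))
      cent := by
        intro z hz d hd
        rw [hπeven z (by rw [hz]; exact one_mem _), hπeven d hd]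
        refine Commute.map ?_ _
        have h1 : p z.left.1 = 1 := Subtype.ext (by
          have e := hπeven z (by rw [hz]; exact one_mem _)
          rw [e, SemidirectProduct.lift_inl] at hz
          exact hz)
        exact Subtype.ext (Subgroup.mem_center_iff.1 (hpc h1) d.left.1).symm }
  have hker : ∀ y : D.π.ker, σ y.1.left.1.1.1 = 1 := fun y => by
    have h := hπeven y.1 (by rw [show π y.1 = 1 from y.2]; exact one_mem _)
    have h2 : π y.1 = 1 := y.2
    rw [h, SemidirectProduct.lift_inl] at h2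
    exact Subtype.ext h2
  let r : D.π.ker →* σ.ker :=
    { toFun := fun y => ⟨y.1.left.1.1.1, hker y⟩
      map_one' := rfl
      map_mul' := fun a b => by
        have h := hπeven a.1 (by rw [show π a.1 = 1 from a.2]; exact one_mem _)
        apply Subtype.ext
        change (a.1 * b.1).left.1.1.1 = a.1.left.1.1.1 * b.1.left.1.1.1
        rw [h]
        simp }
  refine ⟨_, _, inferInstance, D, r, fun x => ?_⟩
  have hfst : ((commutator S).map ((MonoidHom.fst Γ Γ).comp S.subtype)) = ⊤ := by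
    rw [map_commutator_top _ (fun x => by
      obtain ⟨y, hy⟩ := hlift x; exact ⟨⟨(x, y), hy⟩, rfl⟩), hΓ]
  obtain ⟨z, hz, hzx⟩ : x.1 ∈ (commutator S).map ((MonoidHom.fst Γ Γ).comp S.subtype) := by
    rw [hfst]; trivial
  refine ⟨⟨SemidirectProduct.inl ⟨z, hz⟩, ?_⟩, Subtype.ext hzx⟩
  rw [MonoidHom.mem_ker]
  change π (SemidirectProduct.inl ⟨z, hz⟩) = 1
  rw [SemidirectProduct.lift_inl]
  change ((σ z.1.1 : ↥evenQ) : Q) = 1
  rw [show z.1.1 = x.1 from hzx, x.2]
  rfl

/-- the upper bound -/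
theorem upper {Γ : Type} [Group Γ] [Finite Γ] {σ : Γ →* ↥evenQ} (hσ : Cfsg.IsStemExtension σ) :
    ∃ π : Multiplicative (ZMod 3) →* σ.ker, Function.Surjective π := by
  obtain ⟨E, _, _, D, r, hr⟩ := exists_ext hσ
  obtain ⟨m, hm, hm3, hgen⟩ := D.cyclic_three
  let m' : D.π.ker := ⟨m, hm⟩
  have h3 : m' ^ 3 = 1 := Subtype.ext hm3
  refine ⟨r.comp (zmodHom 3 m' h3), hr.comp fun y => ?_⟩
  obtain ⟨k, hk⟩ := hgen y.1 y.2
  obtain ⟨a, ha⟩ := zmodHom_range 3 m' h3 k
  exact ⟨a, ha.trans (Subtype.ext hk)⟩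

end Cfsg.Agent.H96.Fi24Mult
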