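import Cfsg.Agent.H25.Fi24.Table

/-!
Generated data of a scan certificate.
-/

set_option autoImplicit false

namespace Cfsg.Agent.H96.Fi24Mult.Zthree

open Cfsg.Agent.H25.Fi24 (Tr)

/-- part of a trie -/
def codePart0 : Tr :=
(.node 128 (.node 64 (.node 32 (.node 16 (.node 8 (.node 4 (.node 2 (.node 1 (.leaf 0x1)
(.leaf 0x1))
(.node 3 (.leaf 0x1)
(.leaf 0x1)))
(.node 6 (.node 5 (.leaf 0x1)
(.leaf 0x1))
(.node 7 (.leaf 0x1)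
(.leaf 0x1))))
(.node 12 (.node 10 (.node 9 (.leaf 0x1)
(.leaf 0x1))
(.node 11 (.leaf 0x1)
(.leaf 0x0)))
(.node 14 (.node 13 (.leaf 0x0)
(.leaf 0x0))
(.node 15 (.leaf 0x0)
(.leaf 0x0)))))
(.node 24 (.node 20 (.node 18 (.node 17 (.leaf 0x0)
(.leaf 0x0))
(.node 19 (.leaf 0x0)
(.leaf 0x0)))
(.node 22 (.node 21 (.leaf 0x0)
(.leaf 0x0))
(.node 23 (.leaf 0x0)
(.leaf 0x0))))
(.node 28 (.node 26 (.node 25 (.leaf 0x0)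
(.leaf 0x0))
(.node 27 (.leaf 0x0)
(.leaf 0x0)))
(.node 30 (.node 29 (.leaf 0x0)
(.leaf 0x0))
(.node 31 (.leaf 0x0)
(.leaf 0x0))))))
(.node 48 (.node 40 (.node 36 (.node 34 (.node 33 (.leaf 0x0)
(.leaf 0x0))
(.node 35 (.leaf 0x0)
(.leaf 0x0)))
(.node 38 (.node 37 (.leaf 0x0)
(.leaf 0x0))
(.node 39 (.leaf 0x0)
(.leaf 0x0))))
(.node 44 (.node 42 (.node 41 (.leaf 0x0)
(.leaf 0x0))
(.node 43 (.leaf 0x0)
(.leaf 0x0)))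
(.node 46 (.node 45 (.leaf 0x0)
(.leaf 0x0))
(.node 47 (.leaf 0x0)
(.leaf 0x0)))))
(.node 56 (.node 52 (.node 50 (.node 49 (.leaf 0x0)
(.leaf 0x0))
(.node 51 (.leaf 0x0)
(.leaf 0x0)))
(.node 54 (.node 53 (.leaf 0x0)
(.leaf 0x0))
(.node 55 (.leaf 0x0)
(.leaf 0x0))))
(.node 60 (.node 58 (.node 57 (.leaf 0x0)
(.leaf 0x0))
(.node 59 (.leaf 0x0)
(.leaf 0x0)))
(.node 62 (.node 61 (.leaf 0x0)
(.leaf 0x0))
(.node 63 (.leaf 0x0)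
(.leaf 0x0)))))))
(.node 96 (.node 80 (.node 72 (.node 68 (.node 66 (.node 65 (.leaf 0x0)
(.leaf 0x0))
(.node 67 (.leaf 0x0)
(.leaf 0x0)))
(.node 70 (.node 69 (.leaf 0x0)
(.leaf 0x0))
(.node 71 (.leaf 0x0)
(.leaf 0x0))))
(.node 76 (.node 74 (.node 73 (.leaf 0x0)
(.leaf 0x0))
(.node 75 (.leaf 0x0)
(.leaf 0x0)))
(.node 78 (.node 77 (.leaf 0x0)
(.leaf 0x0))
(.node 79 (.leaf 0x0)
(.leaf 0x0)))))
(.node 88 (.node 84 (.node 82 (.node 81 (.leaf 0x0)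
(.leaf 0x0))
(.node 83 (.leaf 0x0)
(.leaf 0x0)))
(.node 86 (.node 85 (.leaf 0x0)
(.leaf 0x0))
(.node 87 (.leaf 0x0)
(.leaf 0x0))))
(.node 92 (.node 90 (.node 89 (.leaf 0x0)
(.leaf 0x0))
(.node 91 (.leaf 0x0)
(.leaf 0x0)))
(.node 94 (.node 93 (.leaf 0x0)
(.leaf 0x0))
(.node 95 (.leaf 0x0)
(.leaf 0x0))))))
(.node 112 (.node 104 (.node 100 (.node 98 (.node 97 (.leaf 0x0)
(.leaf 0x0))
(.node 99 (.leaf 0x0)
(.leaf 0x0)))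
(.node 102 (.node 101 (.leaf 0x0)
(.leaf 0x0))
(.node 103 (.leaf 0x0)
(.leaf 0x0))))
(.node 108 (.node 106 (.node 105 (.leaf 0x0)
(.leaf 0x0))
(.node 107 (.leaf 0x0)
(.leaf 0x0)))
(.node 110 (.node 109 (.leaf 0x0)
(.leaf 0x0))
(.node 111 (.leaf 0x0)
(.leaf 0x0)))))
(.node 120 (.node 116 (.node 114 (.node 113 (.leaf 0x0)
(.leaf 0x0))
(.node 115 (.leaf 0x0)
(.leaf 0x0)))
(.node 118 (.node 117 (.leaf 0x0)
(.leaf 0x0))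
(.node 119 (.leaf 0x0)
(.leaf 0x0))))
(.node 124 (.node 122 (.node 121 (.leaf 0x0)
(.leaf 0x0))
(.node 123 (.leaf 0x0)
(.leaf 0x0)))
(.node 126 (.node 125 (.leaf 0x0)
(.leaf 0x0))
(.node 127 (.leaf 0x0)
(.leaf 0x0))))))))
(.node 192 (.node 160 (.node 144 (.node 136 (.node 132 (.node 130 (.node 129 (.leaf 0x0)
(.leaf 0x0))
(.node 131 (.leaf 0x0)
(.leaf 0x0)))
(.node 134 (.node 133 (.leaf 0x0)
(.leaf 0x0))
(.node 135 (.leaf 0x0)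
(.leaf 0x0))))
(.node 140 (.node 138 (.node 137 (.leaf 0x0)
(.leaf 0x0))
(.node 139 (.leaf 0x0)
(.leaf 0x0)))
(.node 142 (.node 141 (.leaf 0x0)
(.leaf 0x0))
(.node 143 (.leaf 0x0)
(.leaf 0x0)))))
(.node 152 (.node 148 (.node 146 (.node 145 (.leaf 0x0)
(.leaf 0x0))
(.node 147 (.leaf 0x0)
(.leaf 0x0)))
(.node 150 (.node 149 (.leaf 0x0)
(.leaf 0x0))
(.node 151 (.leaf 0x0)
(.leaf 0x0))))
(.node 156 (.node 154 (.node 153 (.leaf 0x0)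
(.leaf 0x0))
(.node 155 (.leaf 0x0)
(.leaf 0x0)))
(.node 158 (.node 157 (.leaf 0x0)
(.leaf 0x0))
(.node 159 (.leaf 0x0)
(.leaf 0x0))))))
(.node 176 (.node 168 (.node 164 (.node 162 (.node 161 (.leaf 0x0)
(.leaf 0x0))
(.node 163 (.leaf 0x0)
(.leaf 0x0)))
(.node 166 (.node 165 (.leaf 0x0)
(.leaf 0x0))
(.node 167 (.leaf 0x0)
(.leaf 0x0))))
(.node 172 (.node 170 (.node 169 (.leaf 0x0)
(.leaf 0x0))
(.node 171 (.leaf 0x0)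
(.leaf 0x0)))
(.node 174 (.node 173 (.leaf 0x0)
(.leaf 0x0))
(.node 175 (.leaf 0x0)
(.leaf 0x0)))))
(.node 184 (.node 180 (.node 178 (.node 177 (.leaf 0x0)
(.leaf 0x0))
(.node 179 (.leaf 0x0)
(.leaf 0x0)))
(.node 182 (.node 181 (.leaf 0x0)
(.leaf 0x0))
(.node 183 (.leaf 0x0)
(.leaf 0x0))))
(.node 188 (.node 186 (.node 185 (.leaf 0x0)
(.leaf 0x0))
(.node 187 (.leaf 0x0)
(.leaf 0x0)))
(.node 190 (.node 189 (.leaf 0x0)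
(.leaf 0x0))
(.node 191 (.leaf 0x0)
(.leaf 0x0)))))))
(.node 224 (.node 208 (.node 200 (.node 196 (.node 194 (.node 193 (.leaf 0x0)
(.leaf 0x0))
(.node 195 (.leaf 0x0)
(.leaf 0x0)))
(.node 198 (.node 197 (.leaf 0x0)
(.leaf 0x0))
(.node 199 (.leaf 0x0)
(.leaf 0x0))))
(.node 204 (.node 202 (.node 201 (.leaf 0x0)
(.leaf 0x0))
(.node 203 (.leaf 0x0)
(.leaf 0x0)))
(.node 206 (.node 205 (.leaf 0x0)
(.leaf 0x0))
(.node 207 (.leaf 0x0)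
(.leaf 0x0)))))
(.node 216 (.node 212 (.node 210 (.node 209 (.leaf 0x0)
(.leaf 0x0))
(.node 211 (.leaf 0x0)
(.leaf 0x0)))
(.node 214 (.node 213 (.leaf 0x0)
(.leaf 0x0))
(.node 215 (.leaf 0x0)
(.leaf 0x0))))
(.node 220 (.node 218 (.node 217 (.leaf 0x0)
(.leaf 0x0))
(.node 219 (.leaf 0x0)
(.leaf 0x0)))
(.node 222 (.node 221 (.leaf 0x0)
(.leaf 0x0))
(.node 223 (.leaf 0x0)
(.leaf 0x0))))))
(.node 240 (.node 232 (.node 228 (.node 226 (.node 225 (.leaf 0x0)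
(.leaf 0x0))
(.node 227 (.leaf 0x0)
(.leaf 0x0)))
(.node 230 (.node 229 (.leaf 0x0)
(.leaf 0x0))
(.node 231 (.leaf 0x0)
(.leaf 0x0))))
(.node 236 (.node 234 (.node 233 (.leaf 0x0)
(.leaf 0x0))
(.node 235 (.leaf 0x0)
(.leaf 0x0)))
(.node 238 (.node 237 (.leaf 0x0)
(.leaf 0x0))
(.node 239 (.leaf 0x0)
(.leaf 0x0)))))
(.node 248 (.node 244 (.node 242 (.node 241 (.leaf 0x0)
(.leaf 0x0))
(.node 243 (.leaf 0x0)
(.leaf 0x0)))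
(.node 246 (.node 245 (.leaf 0x0)
(.leaf 0x0))
(.node 247 (.leaf 0x0)
(.leaf 0x0))))
(.node 252 (.node 250 (.node 249 (.leaf 0x0)
(.leaf 0x0))
(.node 251 (.leaf 0x0)
(.leaf 0x0)))
(.node 254 (.node 253 (.leaf 0x0)
(.leaf 0x0))
(.node 255 (.leaf 0x0)
(.leaf 0x0)))))))))

/-- part of a trie -/
def codePart1 : Tr :=
(.node 384 (.node 320 (.node 288 (.node 272 (.node 264 (.node 260 (.node 258 (.node 257 (.leaf 0x0)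
(.leaf 0x0))
(.node 259 (.leaf 0x0)
(.leaf 0x0)))
(.node 262 (.node 261 (.leaf 0x0)
(.leaf 0x0))
(.node 263 (.leaf 0x0)
(.leaf 0x0))))
(.node 268 (.node 266 (.node 265 (.leaf 0x0)
(.leaf 0x0))
(.node 267 (.leaf 0x0)
(.leaf 0x0)))
(.node 270 (.node 269 (.leaf 0x0)
(.leaf 0x0))
(.node 271 (.leaf 0x0)
(.leaf 0x0)))))
(.node 280 (.node 276 (.node 274 (.node 273 (.leaf 0x0)
(.leaf 0x0))
(.node 275 (.leaf 0x0)
(.leaf 0x0)))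
(.node 278 (.node 277 (.leaf 0x0)
(.leaf 0x0))
(.node 279 (.leaf 0x0)
(.leaf 0x0))))
(.node 284 (.node 282 (.node 281 (.leaf 0x0)
(.leaf 0x0))
(.node 283 (.leaf 0x0)
(.leaf 0x0)))
(.node 286 (.node 285 (.leaf 0x0)
(.leaf 0x0))
(.node 287 (.leaf 0x0)
(.leaf 0x0))))))
(.node 304 (.node 296 (.node 292 (.node 290 (.node 289 (.leaf 0x0)
(.leaf 0x0))
(.node 291 (.leaf 0x0)
(.leaf 0x0)))
(.node 294 (.node 293 (.leaf 0x0)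
(.leaf 0x0))
(.node 295 (.leaf 0x0)
(.leaf 0x0))))
(.node 300 (.node 298 (.node 297 (.leaf 0x0)
(.leaf 0x0))
(.node 299 (.leaf 0x0)
(.leaf 0x0)))
(.node 302 (.node 301 (.leaf 0x0)
(.leaf 0x0))
(.node 303 (.leaf 0x0)
(.leaf 0x0)))))
(.node 312 (.node 308 (.node 306 (.node 305 (.leaf 0x0)
(.leaf 0x0))
(.node 307 (.leaf 0x0)
(.leaf 0x0)))
(.node 310 (.node 309 (.leaf 0x0)
(.leaf 0x0))
(.node 311 (.leaf 0x0)
(.leaf 0x0))))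
(.node 316 (.node 314 (.node 313 (.leaf 0x0)
(.leaf 0x0))
(.node 315 (.leaf 0x0)
(.leaf 0x0)))
(.node 318 (.node 317 (.leaf 0x0)
(.leaf 0x0))
(.node 319 (.leaf 0x0)
(.leaf 0x0)))))))
(.node 352 (.node 336 (.node 328 (.node 324 (.node 322 (.node 321 (.leaf 0x0)
(.leaf 0x0))
(.node 323 (.leaf 0x0)
(.leaf 0x0)))
(.node 326 (.node 325 (.leaf 0x0)
(.leaf 0x0))
(.node 327 (.leaf 0x0)
(.leaf 0x0))))
(.node 332 (.node 330 (.node 329 (.leaf 0x0)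
(.leaf 0x0))
(.node 331 (.leaf 0x0)
(.leaf 0x0)))
(.node 334 (.node 333 (.leaf 0x0)
(.leaf 0x0))
(.node 335 (.leaf 0x0)
(.leaf 0x0)))))
(.node 344 (.node 340 (.node 338 (.node 337 (.leaf 0x0)
(.leaf 0x0))
(.node 339 (.leaf 0x0)
(.leaf 0x0)))
(.node 342 (.node 341 (.leaf 0x0)
(.leaf 0x0))
(.node 343 (.leaf 0x0)
(.leaf 0x0))))
(.node 348 (.node 346 (.node 345 (.leaf 0x0)
(.leaf 0x0))
(.node 347 (.leaf 0x0)
(.leaf 0x0)))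
(.node 350 (.node 349 (.leaf 0x0)
(.leaf 0x0))
(.node 351 (.leaf 0x0)
(.leaf 0x0))))))
(.node 368 (.node 360 (.node 356 (.node 354 (.node 353 (.leaf 0x0)
(.leaf 0x0))
(.node 355 (.leaf 0x0)
(.leaf 0x0)))
(.node 358 (.node 357 (.leaf 0x0)
(.leaf 0x0))
(.node 359 (.leaf 0x0)
(.leaf 0x0))))
(.node 364 (.node 362 (.node 361 (.leaf 0x0)
(.leaf 0x0))
(.node 363 (.leaf 0x0)
(.leaf 0x0)))
(.node 366 (.node 365 (.leaf 0x0)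
(.leaf 0x0))
(.node 367 (.leaf 0x0)
(.leaf 0x0)))))
(.node 376 (.node 372 (.node 370 (.node 369 (.leaf 0x0)
(.leaf 0x0))
(.node 371 (.leaf 0x0)
(.leaf 0x0)))
(.node 374 (.node 373 (.leaf 0x0)
(.leaf 0x0))
(.node 375 (.leaf 0x0)
(.leaf 0x0))))
(.node 380 (.node 378 (.node 377 (.leaf 0x0)
(.leaf 0x0))
(.node 379 (.leaf 0x0)
(.leaf 0x0)))
(.node 382 (.node 381 (.leaf 0x0)
(.leaf 0x0))
(.node 383 (.leaf 0x0)
(.leaf 0x0))))))))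
(.node 448 (.node 416 (.node 400 (.node 392 (.node 388 (.node 386 (.node 385 (.leaf 0x0)
(.leaf 0x0))
(.node 387 (.leaf 0x0)
(.leaf 0x0)))
(.node 390 (.node 389 (.leaf 0x0)
(.leaf 0x0))
(.node 391 (.leaf 0x0)
(.leaf 0x0))))
(.node 396 (.node 394 (.node 393 (.leaf 0x0)
(.leaf 0x0))
(.node 395 (.leaf 0x0)
(.leaf 0x0)))
(.node 398 (.node 397 (.leaf 0x0)
(.leaf 0x0))
(.node 399 (.leaf 0x0)
(.leaf 0x0)))))
(.node 408 (.node 404 (.node 402 (.node 401 (.leaf 0x0)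
(.leaf 0x0))
(.node 403 (.leaf 0x0)
(.leaf 0x0)))
(.node 406 (.node 405 (.leaf 0x0)
(.leaf 0x0))
(.node 407 (.leaf 0x0)
(.leaf 0x0))))
(.node 412 (.node 410 (.node 409 (.leaf 0x0)
(.leaf 0x0))
(.node 411 (.leaf 0x0)
(.leaf 0x0)))
(.node 414 (.node 413 (.leaf 0x0)
(.leaf 0x0))
(.node 415 (.leaf 0x0)
(.leaf 0x0))))))
(.node 432 (.node 424 (.node 420 (.node 418 (.node 417 (.leaf 0x0)
(.leaf 0x0))
(.node 419 (.leaf 0x0)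
(.leaf 0x0)))
(.node 422 (.node 421 (.leaf 0x0)
(.leaf 0x0))
(.node 423 (.leaf 0x0)
(.leaf 0x0))))
(.node 428 (.node 426 (.node 425 (.leaf 0x0)
(.leaf 0x0))
(.node 427 (.leaf 0x0)
(.leaf 0x0)))
(.node 430 (.node 429 (.leaf 0x0)
(.leaf 0x0))
(.node 431 (.leaf 0x0)
(.leaf 0x0)))))
(.node 440 (.node 436 (.node 434 (.node 433 (.leaf 0x0)
(.leaf 0x0))
(.node 435 (.leaf 0x0)
(.leaf 0x0)))
(.node 438 (.node 437 (.leaf 0x0)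
(.leaf 0x0))
(.node 439 (.leaf 0x0)
(.leaf 0x0))))
(.node 444 (.node 442 (.node 441 (.leaf 0x0)
(.leaf 0x0))
(.node 443 (.leaf 0x0)
(.leaf 0x0)))
(.node 446 (.node 445 (.leaf 0x0)
(.leaf 0x0))
(.node 447 (.leaf 0x0)
(.leaf 0x0)))))))
(.node 480 (.node 464 (.node 456 (.node 452 (.node 450 (.node 449 (.leaf 0x0)
(.leaf 0x0))
(.node 451 (.leaf 0x0)
(.leaf 0x0)))
(.node 454 (.node 453 (.leaf 0x0)
(.leaf 0x0))
(.node 455 (.leaf 0x0)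
(.leaf 0x0))))
(.node 460 (.node 458 (.node 457 (.leaf 0x0)
(.leaf 0x0))
(.node 459 (.leaf 0x0)
(.leaf 0x0)))
(.node 462 (.node 461 (.leaf 0x0)
(.leaf 0x0))
(.node 463 (.leaf 0x0)
(.leaf 0x0)))))
(.node 472 (.node 468 (.node 466 (.node 465 (.leaf 0x0)
(.leaf 0x0))
(.node 467 (.leaf 0x0)
(.leaf 0x0)))
(.node 470 (.node 469 (.leaf 0x0)
(.leaf 0x0))
(.node 471 (.leaf 0x0)
(.leaf 0x0))))
(.node 476 (.node 474 (.node 473 (.leaf 0x0)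
(.leaf 0x0))
(.node 475 (.leaf 0x0)
(.leaf 0x0)))
(.node 478 (.node 477 (.leaf 0x0)
(.leaf 0x0))
(.node 479 (.leaf 0x0)
(.leaf 0x0))))))
(.node 496 (.node 488 (.node 484 (.node 482 (.node 481 (.leaf 0x0)
(.leaf 0x0))
(.node 483 (.leaf 0x0)
(.leaf 0x0)))
(.node 486 (.node 485 (.leaf 0x0)
(.leaf 0x0))
(.node 487 (.leaf 0x0)
(.leaf 0x0))))
(.node 492 (.node 490 (.node 489 (.leaf 0x0)
(.leaf 0x0))
(.node 491 (.leaf 0x0)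
(.leaf 0x0)))
(.node 494 (.node 493 (.leaf 0x0)
(.leaf 0x0))
(.node 495 (.leaf 0x0)
(.leaf 0x0)))))
(.node 504 (.node 500 (.node 498 (.node 497 (.leaf 0x0)
(.leaf 0x0))
(.node 499 (.leaf 0x0)
(.leaf 0x0)))
(.node 502 (.node 501 (.leaf 0x0)
(.leaf 0x0))
(.node 503 (.leaf 0x0)
(.leaf 0x0))))
(.node 508 (.node 506 (.node 505 (.leaf 0x0)
(.leaf 0x0))
(.node 507 (.leaf 0x0)
(.leaf 0x0)))
(.node 510 (.node 509 (.leaf 0x0)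
(.leaf 0x0))
(.node 511 (.leaf 0x0)
(.leaf 0x0)))))))))

/-- part of a trie -/
def codePart2 : Tr :=
(.node 640 (.node 576 (.node 544 (.node 528 (.node 520 (.node 516 (.node 514 (.node 513 (.leaf 0x0)
(.leaf 0x0))
(.node 515 (.leaf 0x0)
(.leaf 0x0)))
(.node 518 (.node 517 (.leaf 0x0)
(.leaf 0x0))
(.node 519 (.leaf 0x0)
(.leaf 0x0))))
(.node 524 (.node 522 (.node 521 (.leaf 0x0)
(.leaf 0x0))
(.node 523 (.leaf 0x0)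
(.leaf 0x0)))
(.node 526 (.node 525 (.leaf 0x0)
(.leaf 0x0))
(.node 527 (.leaf 0x0)
(.leaf 0x0)))))
(.node 536 (.node 532 (.node 530 (.node 529 (.leaf 0x0)
(.leaf 0x0))
(.node 531 (.leaf 0x0)
(.leaf 0x0)))
(.node 534 (.node 533 (.leaf 0x0)
(.leaf 0x0))
(.node 535 (.leaf 0x0)
(.leaf 0x0))))
(.node 540 (.node 538 (.node 537 (.leaf 0x0)
(.leaf 0x0))
(.node 539 (.leaf 0x0)
(.leaf 0x0)))
(.node 542 (.node 541 (.leaf 0x0)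
(.leaf 0x0))
(.node 543 (.leaf 0x0)
(.leaf 0x0))))))
(.node 560 (.node 552 (.node 548 (.node 546 (.node 545 (.leaf 0x0)
(.leaf 0x0))
(.node 547 (.leaf 0x0)
(.leaf 0x0)))
(.node 550 (.node 549 (.leaf 0x0)
(.leaf 0x0))
(.node 551 (.leaf 0x0)
(.leaf 0x0))))
(.node 556 (.node 554 (.node 553 (.leaf 0x0)
(.leaf 0x0))
(.node 555 (.leaf 0x0)
(.leaf 0x0)))
(.node 558 (.node 557 (.leaf 0x0)
(.leaf 0x0))
(.node 559 (.leaf 0x0)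
(.leaf 0x0)))))
(.node 568 (.node 564 (.node 562 (.node 561 (.leaf 0x0)
(.leaf 0x0))
(.node 563 (.leaf 0x0)
(.leaf 0x0)))
(.node 566 (.node 565 (.leaf 0x0)
(.leaf 0x0))
(.node 567 (.leaf 0x0)
(.leaf 0x0))))
(.node 572 (.node 570 (.node 569 (.leaf 0x0)
(.leaf 0x0))
(.node 571 (.leaf 0x0)
(.leaf 0x0)))
(.node 574 (.node 573 (.leaf 0x0)
(.leaf 0x0))
(.node 575 (.leaf 0x0)
(.leaf 0x0)))))))
(.node 608 (.node 592 (.node 584 (.node 580 (.node 578 (.node 577 (.leaf 0x0)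
(.leaf 0x0))
(.node 579 (.leaf 0x0)
(.leaf 0x0)))
(.node 582 (.node 581 (.leaf 0x0)
(.leaf 0x0))
(.node 583 (.leaf 0x0)
(.leaf 0x0))))
(.node 588 (.node 586 (.node 585 (.leaf 0x0)
(.leaf 0x0))
(.node 587 (.leaf 0x0)
(.leaf 0x0)))
(.node 590 (.node 589 (.leaf 0x0)
(.leaf 0x0))
(.node 591 (.leaf 0x0)
(.leaf 0x0)))))
(.node 600 (.node 596 (.node 594 (.node 593 (.leaf 0x0)
(.leaf 0x0))
(.node 595 (.leaf 0x0)
(.leaf 0x0)))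
(.node 598 (.node 597 (.leaf 0x0)
(.leaf 0x0))
(.node 599 (.leaf 0x0)
(.leaf 0x0))))
(.node 604 (.node 602 (.node 601 (.leaf 0x0)
(.leaf 0x0))
(.node 603 (.leaf 0x0)
(.leaf 0x0)))
(.node 606 (.node 605 (.leaf 0x0)
(.leaf 0x0))
(.node 607 (.leaf 0x0)
(.leaf 0x0))))))
(.node 624 (.node 616 (.node 612 (.node 610 (.node 609 (.leaf 0x0)
(.leaf 0x0))
(.node 611 (.leaf 0x0)
(.leaf 0x0)))
(.node 614 (.node 613 (.leaf 0x0)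
(.leaf 0x0))
(.node 615 (.leaf 0x0)
(.leaf 0x0))))
(.node 620 (.node 618 (.node 617 (.leaf 0x0)
(.leaf 0x0))
(.node 619 (.leaf 0x0)
(.leaf 0x0)))
(.node 622 (.node 621 (.leaf 0x0)
(.leaf 0x0))
(.node 623 (.leaf 0x0)
(.leaf 0x0)))))
(.node 632 (.node 628 (.node 626 (.node 625 (.leaf 0x0)
(.leaf 0x0))
(.node 627 (.leaf 0x0)
(.leaf 0x0)))
(.node 630 (.node 629 (.leaf 0x0)
(.leaf 0x0))
(.node 631 (.leaf 0x0)
(.leaf 0x0))))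
(.node 636 (.node 634 (.node 633 (.leaf 0x0)
(.leaf 0x0))
(.node 635 (.leaf 0x0)
(.leaf 0x0)))
(.node 638 (.node 637 (.leaf 0x0)
(.leaf 0x0))
(.node 639 (.leaf 0x0)
(.leaf 0x0))))))))
(.node 704 (.node 672 (.node 656 (.node 648 (.node 644 (.node 642 (.node 641 (.leaf 0x0)
(.leaf 0x0))
(.node 643 (.leaf 0x0)
(.leaf 0x0)))
(.node 646 (.node 645 (.leaf 0x0)
(.leaf 0x0))
(.node 647 (.leaf 0x0)
(.leaf 0x0))))
(.node 652 (.node 650 (.node 649 (.leaf 0x0)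
(.leaf 0x0))
(.node 651 (.leaf 0x0)
(.leaf 0x0)))
(.node 654 (.node 653 (.leaf 0x0)
(.leaf 0x0))
(.node 655 (.leaf 0x0)
(.leaf 0x0)))))
(.node 664 (.node 660 (.node 658 (.node 657 (.leaf 0x0)
(.leaf 0x0))
(.node 659 (.leaf 0x0)
(.leaf 0x0)))
(.node 662 (.node 661 (.leaf 0x0)
(.leaf 0x0))
(.node 663 (.leaf 0x0)
(.leaf 0x0))))
(.node 668 (.node 666 (.node 665 (.leaf 0x0)
(.leaf 0x0))
(.node 667 (.leaf 0x0)
(.leaf 0x0)))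
(.node 670 (.node 669 (.leaf 0x0)
(.leaf 0x0))
(.node 671 (.leaf 0x0)
(.leaf 0x0))))))
(.node 688 (.node 680 (.node 676 (.node 674 (.node 673 (.leaf 0x0)
(.leaf 0x0))
(.node 675 (.leaf 0x0)
(.leaf 0x0)))
(.node 678 (.node 677 (.leaf 0x0)
(.leaf 0x0))
(.node 679 (.leaf 0x0)
(.leaf 0x0))))
(.node 684 (.node 682 (.node 681 (.leaf 0x0)
(.leaf 0x0))
(.node 683 (.leaf 0x0)
(.leaf 0x0)))
(.node 686 (.node 685 (.leaf 0x0)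
(.leaf 0x0))
(.node 687 (.leaf 0x0)
(.leaf 0x0)))))
(.node 696 (.node 692 (.node 690 (.node 689 (.leaf 0x0)
(.leaf 0x0))
(.node 691 (.leaf 0x0)
(.leaf 0x0)))
(.node 694 (.node 693 (.leaf 0x0)
(.leaf 0x0))
(.node 695 (.leaf 0x0)
(.leaf 0x0))))
(.node 700 (.node 698 (.node 697 (.leaf 0x0)
(.leaf 0x0))
(.node 699 (.leaf 0x0)
(.leaf 0x0)))
(.node 702 (.node 701 (.leaf 0x0)
(.leaf 0x0))
(.node 703 (.leaf 0x0)
(.leaf 0x0)))))))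
(.node 736 (.node 720 (.node 712 (.node 708 (.node 706 (.node 705 (.leaf 0x0)
(.leaf 0x0))
(.node 707 (.leaf 0x0)
(.leaf 0x0)))
(.node 710 (.node 709 (.leaf 0x0)
(.leaf 0x0))
(.node 711 (.leaf 0x0)
(.leaf 0x0))))
(.node 716 (.node 714 (.node 713 (.leaf 0x0)
(.leaf 0x0))
(.node 715 (.leaf 0x0)
(.leaf 0x0)))
(.node 718 (.node 717 (.leaf 0x0)
(.leaf 0x0))
(.node 719 (.leaf 0x0)
(.leaf 0x0)))))
(.node 728 (.node 724 (.node 722 (.node 721 (.leaf 0x0)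
(.leaf 0x0))
(.node 723 (.leaf 0x0)
(.leaf 0x0)))
(.node 726 (.node 725 (.leaf 0x0)
(.leaf 0x0))
(.node 727 (.leaf 0x0)
(.leaf 0x0))))
(.node 732 (.node 730 (.node 729 (.leaf 0x0)
(.leaf 0x0))
(.node 731 (.leaf 0x0)
(.leaf 0x0)))
(.node 734 (.node 733 (.leaf 0x0)
(.leaf 0x0))
(.node 735 (.leaf 0x0)
(.leaf 0x0))))))
(.node 752 (.node 744 (.node 740 (.node 738 (.node 737 (.leaf 0x0)
(.leaf 0x0))
(.node 739 (.leaf 0x0)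
(.leaf 0x0)))
(.node 742 (.node 741 (.leaf 0x0)
(.leaf 0x0))
(.node 743 (.leaf 0x0)
(.leaf 0x0))))
(.node 748 (.node 746 (.node 745 (.leaf 0x0)
(.leaf 0x0))
(.node 747 (.leaf 0x0)
(.leaf 0x0)))
(.node 750 (.node 749 (.leaf 0x0)
(.leaf 0x0))
(.node 751 (.leaf 0x0)
(.leaf 0x0)))))
(.node 760 (.node 756 (.node 754 (.node 753 (.leaf 0x0)
(.leaf 0x0))
(.node 755 (.leaf 0x0)
(.leaf 0x0)))
(.node 758 (.node 757 (.leaf 0x0)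
(.leaf 0x0))
(.node 759 (.leaf 0x0)
(.leaf 0x0))))
(.node 764 (.node 762 (.node 761 (.leaf 0x0)
(.leaf 0x0))
(.node 763 (.leaf 0x0)
(.leaf 0x0)))
(.node 766 (.node 765 (.leaf 0x0)
(.leaf 0x0))
(.node 767 (.leaf 0x0)
(.leaf 0x0)))))))))

/-- part of a trie -/
def codePart3 : Tr :=
(.node 896 (.node 832 (.node 800 (.node 784 (.node 776 (.node 772 (.node 770 (.node 769 (.leaf 0x0)
(.leaf 0x0))
(.node 771 (.leaf 0x0)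
(.leaf 0x0)))
(.node 774 (.node 773 (.leaf 0x0)
(.leaf 0x0))
(.node 775 (.leaf 0x0)
(.leaf 0x0))))
(.node 780 (.node 778 (.node 777 (.leaf 0x0)
(.leaf 0x0))
(.node 779 (.leaf 0x0)
(.leaf 0x0)))
(.node 782 (.node 781 (.leaf 0x0)
(.leaf 0x0))
(.node 783 (.leaf 0x0)
(.leaf 0x0)))))
(.node 792 (.node 788 (.node 786 (.node 785 (.leaf 0x0)
(.leaf 0x0))
(.node 787 (.leaf 0x0)
(.leaf 0x0)))
(.node 790 (.node 789 (.leaf 0x0)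
(.leaf 0x0))
(.node 791 (.leaf 0x0)
(.leaf 0x0))))
(.node 796 (.node 794 (.node 793 (.leaf 0x0)
(.leaf 0x0))
(.node 795 (.leaf 0x0)
(.leaf 0x0)))
(.node 798 (.node 797 (.leaf 0x0)
(.leaf 0x0))
(.node 799 (.leaf 0x0)
(.leaf 0x0))))))
(.node 816 (.node 808 (.node 804 (.node 802 (.node 801 (.leaf 0x0)
(.leaf 0x0))
(.node 803 (.leaf 0x0)
(.leaf 0x0)))
(.node 806 (.node 805 (.leaf 0x0)
(.leaf 0x0))
(.node 807 (.leaf 0x0)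
(.leaf 0x0))))
(.node 812 (.node 810 (.node 809 (.leaf 0x0)
(.leaf 0x0))
(.node 811 (.leaf 0x0)
(.leaf 0x0)))
(.node 814 (.node 813 (.leaf 0x0)
(.leaf 0x0))
(.node 815 (.leaf 0x0)
(.leaf 0x0)))))
(.node 824 (.node 820 (.node 818 (.node 817 (.leaf 0x0)
(.leaf 0x0))
(.node 819 (.leaf 0x0)
(.leaf 0x0)))
(.node 822 (.node 821 (.leaf 0x0)
(.leaf 0x0))
(.node 823 (.leaf 0x0)
(.leaf 0x0))))
(.node 828 (.node 826 (.node 825 (.leaf 0x0)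
(.leaf 0x0))
(.node 827 (.leaf 0x0)
(.leaf 0x0)))
(.node 830 (.node 829 (.leaf 0x0)
(.leaf 0x0))
(.node 831 (.leaf 0x0)
(.leaf 0x0)))))))
(.node 864 (.node 848 (.node 840 (.node 836 (.node 834 (.node 833 (.leaf 0x0)
(.leaf 0x0))
(.node 835 (.leaf 0x0)
(.leaf 0x0)))
(.node 838 (.node 837 (.leaf 0x0)
(.leaf 0x0))
(.node 839 (.leaf 0x0)
(.leaf 0x0))))
(.node 844 (.node 842 (.node 841 (.leaf 0x0)
(.leaf 0x0))
(.node 843 (.leaf 0x0)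
(.leaf 0x0)))
(.node 846 (.node 845 (.leaf 0x0)
(.leaf 0x0))
(.node 847 (.leaf 0x0)
(.leaf 0x0)))))
(.node 856 (.node 852 (.node 850 (.node 849 (.leaf 0x0)
(.leaf 0x0))
(.node 851 (.leaf 0x0)
(.leaf 0x0)))
(.node 854 (.node 853 (.leaf 0x0)
(.leaf 0x0))
(.node 855 (.leaf 0x0)
(.leaf 0x0))))
(.node 860 (.node 858 (.node 857 (.leaf 0x0)
(.leaf 0x0))
(.node 859 (.leaf 0x0)
(.leaf 0x0)))
(.node 862 (.node 861 (.leaf 0x0)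
(.leaf 0x0))
(.node 863 (.leaf 0x0)
(.leaf 0x0))))))
(.node 880 (.node 872 (.node 868 (.node 866 (.node 865 (.leaf 0x0)
(.leaf 0x0))
(.node 867 (.leaf 0x0)
(.leaf 0x0)))
(.node 870 (.node 869 (.leaf 0x0)
(.leaf 0x0))
(.node 871 (.leaf 0x0)
(.leaf 0x0))))
(.node 876 (.node 874 (.node 873 (.leaf 0x0)
(.leaf 0x0))
(.node 875 (.leaf 0x0)
(.leaf 0x0)))
(.node 878 (.node 877 (.leaf 0x0)
(.leaf 0x0))
(.node 879 (.leaf 0x0)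
(.leaf 0x0)))))
(.node 888 (.node 884 (.node 882 (.node 881 (.leaf 0x0)
(.leaf 0x0))
(.node 883 (.leaf 0x0)
(.leaf 0x0)))
(.node 886 (.node 885 (.leaf 0x0)
(.leaf 0x0))
(.node 887 (.leaf 0x0)
(.leaf 0x0))))
(.node 892 (.node 890 (.node 889 (.leaf 0x0)
(.leaf 0x0))
(.node 891 (.leaf 0x0)
(.leaf 0x0)))
(.node 894 (.node 893 (.leaf 0x0)
(.leaf 0x0))
(.node 895 (.leaf 0x0)
(.leaf 0x0))))))))
(.node 960 (.node 928 (.node 912 (.node 904 (.node 900 (.node 898 (.node 897 (.leaf 0x0)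
(.leaf 0x0))
(.node 899 (.leaf 0x0)
(.leaf 0x0)))
(.node 902 (.node 901 (.leaf 0x0)
(.leaf 0x0))
(.node 903 (.leaf 0x0)
(.leaf 0x0))))
(.node 908 (.node 906 (.node 905 (.leaf 0x0)
(.leaf 0x0))
(.node 907 (.leaf 0x0)
(.leaf 0x0)))
(.node 910 (.node 909 (.leaf 0x0)
(.leaf 0x0))
(.node 911 (.leaf 0x0)
(.leaf 0x0)))))
(.node 920 (.node 916 (.node 914 (.node 913 (.leaf 0x0)
(.leaf 0x0))
(.node 915 (.leaf 0x0)
(.leaf 0x0)))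
(.node 918 (.node 917 (.leaf 0x0)
(.leaf 0x0))
(.node 919 (.leaf 0x0)
(.leaf 0x0))))
(.node 924 (.node 922 (.node 921 (.leaf 0x0)
(.leaf 0x0))
(.node 923 (.leaf 0x0)
(.leaf 0x0)))
(.node 926 (.node 925 (.leaf 0x0)
(.leaf 0x0))
(.node 927 (.leaf 0x0)
(.leaf 0x0))))))
(.node 944 (.node 936 (.node 932 (.node 930 (.node 929 (.leaf 0x0)
(.leaf 0x0))
(.node 931 (.leaf 0x0)
(.leaf 0x0)))
(.node 934 (.node 933 (.leaf 0x0)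
(.leaf 0x0))
(.node 935 (.leaf 0x0)
(.leaf 0x0))))
(.node 940 (.node 938 (.node 937 (.leaf 0x0)
(.leaf 0x0))
(.node 939 (.leaf 0x0)
(.leaf 0x0)))
(.node 942 (.node 941 (.leaf 0x0)
(.leaf 0x0))
(.node 943 (.leaf 0x0)
(.leaf 0x0)))))
(.node 952 (.node 948 (.node 946 (.node 945 (.leaf 0x0)
(.leaf 0x0))
(.node 947 (.leaf 0x0)
(.leaf 0x0)))
(.node 950 (.node 949 (.leaf 0x0)
(.leaf 0x0))
(.node 951 (.leaf 0x0)
(.leaf 0x0))))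
(.node 956 (.node 954 (.node 953 (.leaf 0x0)
(.leaf 0x0))
(.node 955 (.leaf 0x0)
(.leaf 0x0)))
(.node 958 (.node 957 (.leaf 0x0)
(.leaf 0x0))
(.node 959 (.leaf 0x0)
(.leaf 0x0)))))))
(.node 992 (.node 976 (.node 968 (.node 964 (.node 962 (.node 961 (.leaf 0x0)
(.leaf 0x0))
(.node 963 (.leaf 0x0)
(.leaf 0x0)))
(.node 966 (.node 965 (.leaf 0x0)
(.leaf 0x0))
(.node 967 (.leaf 0x0)
(.leaf 0x0))))
(.node 972 (.node 970 (.node 969 (.leaf 0x0)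
(.leaf 0x0))
(.node 971 (.leaf 0x0)
(.leaf 0x0)))
(.node 974 (.node 973 (.leaf 0x0)
(.leaf 0x0))
(.node 975 (.leaf 0x0)
(.leaf 0x0)))))
(.node 984 (.node 980 (.node 978 (.node 977 (.leaf 0x0)
(.leaf 0x0))
(.node 979 (.leaf 0x0)
(.leaf 0x0)))
(.node 982 (.node 981 (.leaf 0x0)
(.leaf 0x0))
(.node 983 (.leaf 0x0)
(.leaf 0x0))))
(.node 988 (.node 986 (.node 985 (.leaf 0x0)
(.leaf 0x0))
(.node 987 (.leaf 0x0)
(.leaf 0x0)))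
(.node 990 (.node 989 (.leaf 0x0)
(.leaf 0x0))
(.node 991 (.leaf 0x0)
(.leaf 0x0))))))
(.node 1008 (.node 1000 (.node 996 (.node 994 (.node 993 (.leaf 0x0)
(.leaf 0x0))
(.node 995 (.leaf 0x0)
(.leaf 0x0)))
(.node 998 (.node 997 (.leaf 0x0)
(.leaf 0x0))
(.node 999 (.leaf 0x0)
(.leaf 0x0))))
(.node 1004 (.node 1002 (.node 1001 (.leaf 0x0)
(.leaf 0x0))
(.node 1003 (.leaf 0x0)
(.leaf 0x0)))
(.node 1006 (.node 1005 (.leaf 0x0)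
(.leaf 0x0))
(.node 1007 (.leaf 0x0)
(.leaf 0x0)))))
(.node 1016 (.node 1012 (.node 1010 (.node 1009 (.leaf 0x0)
(.leaf 0x0))
(.node 1011 (.leaf 0x0)
(.leaf 0x0)))
(.node 1014 (.node 1013 (.leaf 0x0)
(.leaf 0x0))
(.node 1015 (.leaf 0x0)
(.leaf 0x0))))
(.node 1020 (.node 1018 (.node 1017 (.leaf 0x0)
(.leaf 0x0))
(.node 1019 (.leaf 0x0)
(.leaf 0x0)))
(.node 1022 (.node 1021 (.leaf 0x0)
(.leaf 0x0))
(.node 1023 (.leaf 0x0)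
(.leaf 0x0)))))))))

/-- part of a trie -/
def codePart4 : Tr :=
(.node 1152 (.node 1088 (.node 1056 (.node 1040 (.node 1032 (.node 1028 (.node 1026 (.node 1025 (.leaf 0x0)
(.leaf 0x0))
(.node 1027 (.leaf 0x0)
(.leaf 0x0)))
(.node 1030 (.node 1029 (.leaf 0x0)
(.leaf 0x0))
(.node 1031 (.leaf 0x0)
(.leaf 0x0))))
(.node 1036 (.node 1034 (.node 1033 (.leaf 0x0)
(.leaf 0x0))
(.node 1035 (.leaf 0x0)
(.leaf 0x0)))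
(.node 1038 (.node 1037 (.leaf 0x0)
(.leaf 0x0))
(.node 1039 (.leaf 0x0)
(.leaf 0x0)))))
(.node 1048 (.node 1044 (.node 1042 (.node 1041 (.leaf 0x0)
(.leaf 0x0))
(.node 1043 (.leaf 0x0)
(.leaf 0x0)))
(.node 1046 (.node 1045 (.leaf 0x0)
(.leaf 0x0))
(.node 1047 (.leaf 0x0)
(.leaf 0x0))))
(.node 1052 (.node 1050 (.node 1049 (.leaf 0x0)
(.leaf 0x0))
(.node 1051 (.leaf 0x0)
(.leaf 0x0)))
(.node 1054 (.node 1053 (.leaf 0x0)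
(.leaf 0x0))
(.node 1055 (.leaf 0x0)
(.leaf 0x0))))))
(.node 1072 (.node 1064 (.node 1060 (.node 1058 (.node 1057 (.leaf 0x0)
(.leaf 0x0))
(.node 1059 (.leaf 0x0)
(.leaf 0x0)))
(.node 1062 (.node 1061 (.leaf 0x0)
(.leaf 0x0))
(.node 1063 (.leaf 0x0)
(.leaf 0x0))))
(.node 1068 (.node 1066 (.node 1065 (.leaf 0x0)
(.leaf 0x0))
(.node 1067 (.leaf 0x0)
(.leaf 0x0)))
(.node 1070 (.node 1069 (.leaf 0x0)
(.leaf 0x0))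
(.node 1071 (.leaf 0x0)
(.leaf 0x0)))))
(.node 1080 (.node 1076 (.node 1074 (.node 1073 (.leaf 0x0)
(.leaf 0x0))
(.node 1075 (.leaf 0x0)
(.leaf 0x0)))
(.node 1078 (.node 1077 (.leaf 0x0)
(.leaf 0x0))
(.node 1079 (.leaf 0x0)
(.leaf 0x0))))
(.node 1084 (.node 1082 (.node 1081 (.leaf 0x0)
(.leaf 0x0))
(.node 1083 (.leaf 0x0)
(.leaf 0x0)))
(.node 1086 (.node 1085 (.leaf 0x0)
(.leaf 0x0))
(.node 1087 (.leaf 0x0)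
(.leaf 0x0)))))))
(.node 1120 (.node 1104 (.node 1096 (.node 1092 (.node 1090 (.node 1089 (.leaf 0x0)
(.leaf 0x0))
(.node 1091 (.leaf 0x0)
(.leaf 0x0)))
(.node 1094 (.node 1093 (.leaf 0x0)
(.leaf 0x0))
(.node 1095 (.leaf 0x0)
(.leaf 0x0))))
(.node 1100 (.node 1098 (.node 1097 (.leaf 0x0)
(.leaf 0x0))
(.node 1099 (.leaf 0x0)
(.leaf 0x0)))
(.node 1102 (.node 1101 (.leaf 0x0)
(.leaf 0x0))
(.node 1103 (.leaf 0x0)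
(.leaf 0x0)))))
(.node 1112 (.node 1108 (.node 1106 (.node 1105 (.leaf 0x0)
(.leaf 0x0))
(.node 1107 (.leaf 0x0)
(.leaf 0x0)))
(.node 1110 (.node 1109 (.leaf 0x0)
(.leaf 0x0))
(.node 1111 (.leaf 0x0)
(.leaf 0x0))))
(.node 1116 (.node 1114 (.node 1113 (.leaf 0x0)
(.leaf 0x0))
(.node 1115 (.leaf 0x0)
(.leaf 0x0)))
(.node 1118 (.node 1117 (.leaf 0x0)
(.leaf 0x0))
(.node 1119 (.leaf 0x0)
(.leaf 0x0))))))
(.node 1136 (.node 1128 (.node 1124 (.node 1122 (.node 1121 (.leaf 0x0)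
(.leaf 0x0))
(.node 1123 (.leaf 0x0)
(.leaf 0x0)))
(.node 1126 (.node 1125 (.leaf 0x0)
(.leaf 0x0))
(.node 1127 (.leaf 0x0)
(.leaf 0x0))))
(.node 1132 (.node 1130 (.node 1129 (.leaf 0x0)
(.leaf 0x0))
(.node 1131 (.leaf 0x0)
(.leaf 0x0)))
(.node 1134 (.node 1133 (.leaf 0x0)
(.leaf 0x0))
(.node 1135 (.leaf 0x0)
(.leaf 0x0)))))
(.node 1144 (.node 1140 (.node 1138 (.node 1137 (.leaf 0x0)
(.leaf 0x0))
(.node 1139 (.leaf 0x0)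
(.leaf 0x0)))
(.node 1142 (.node 1141 (.leaf 0x0)
(.leaf 0x0))
(.node 1143 (.leaf 0x0)
(.leaf 0x0))))
(.node 1148 (.node 1146 (.node 1145 (.leaf 0x0)
(.leaf 0x0))
(.node 1147 (.leaf 0x0)
(.leaf 0x0)))
(.node 1150 (.node 1149 (.leaf 0x0)
(.leaf 0x0))
(.node 1151 (.leaf 0x0)
(.leaf 0x0))))))))
(.node 1216 (.node 1184 (.node 1168 (.node 1160 (.node 1156 (.node 1154 (.node 1153 (.leaf 0x0)
(.leaf 0x0))
(.node 1155 (.leaf 0x0)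
(.leaf 0x0)))
(.node 1158 (.node 1157 (.leaf 0x0)
(.leaf 0x0))
(.node 1159 (.leaf 0x0)
(.leaf 0x0))))
(.node 1164 (.node 1162 (.node 1161 (.leaf 0x0)
(.leaf 0x0))
(.node 1163 (.leaf 0x0)
(.leaf 0x0)))
(.node 1166 (.node 1165 (.leaf 0x0)
(.leaf 0x0))
(.node 1167 (.leaf 0x0)
(.leaf 0x0)))))
(.node 1176 (.node 1172 (.node 1170 (.node 1169 (.leaf 0x0)
(.leaf 0x0))
(.node 1171 (.leaf 0x0)
(.leaf 0x0)))
(.node 1174 (.node 1173 (.leaf 0x0)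
(.leaf 0x0))
(.node 1175 (.leaf 0x0)
(.leaf 0x0))))
(.node 1180 (.node 1178 (.node 1177 (.leaf 0x0)
(.leaf 0x0))
(.node 1179 (.leaf 0x0)
(.leaf 0x0)))
(.node 1182 (.node 1181 (.leaf 0x0)
(.leaf 0x0))
(.node 1183 (.leaf 0x0)
(.leaf 0x0))))))
(.node 1200 (.node 1192 (.node 1188 (.node 1186 (.node 1185 (.leaf 0x0)
(.leaf 0x0))
(.node 1187 (.leaf 0x0)
(.leaf 0x0)))
(.node 1190 (.node 1189 (.leaf 0x0)
(.leaf 0x0))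
(.node 1191 (.leaf 0x0)
(.leaf 0x0))))
(.node 1196 (.node 1194 (.node 1193 (.leaf 0x0)
(.leaf 0x0))
(.node 1195 (.leaf 0x0)
(.leaf 0x0)))
(.node 1198 (.node 1197 (.leaf 0x0)
(.leaf 0x0))
(.node 1199 (.leaf 0x0)
(.leaf 0x0)))))
(.node 1208 (.node 1204 (.node 1202 (.node 1201 (.leaf 0x0)
(.leaf 0x0))
(.node 1203 (.leaf 0x0)
(.leaf 0x0)))
(.node 1206 (.node 1205 (.leaf 0x0)
(.leaf 0x0))
(.node 1207 (.leaf 0x0)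
(.leaf 0x0))))
(.node 1212 (.node 1210 (.node 1209 (.leaf 0x0)
(.leaf 0x0))
(.node 1211 (.leaf 0x0)
(.leaf 0x0)))
(.node 1214 (.node 1213 (.leaf 0x0)
(.leaf 0x0))
(.node 1215 (.leaf 0x0)
(.leaf 0x0)))))))
(.node 1248 (.node 1232 (.node 1224 (.node 1220 (.node 1218 (.node 1217 (.leaf 0x0)
(.leaf 0x0))
(.node 1219 (.leaf 0x0)
(.leaf 0x0)))
(.node 1222 (.node 1221 (.leaf 0x0)
(.leaf 0x0))
(.node 1223 (.leaf 0x0)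
(.leaf 0x0))))
(.node 1228 (.node 1226 (.node 1225 (.leaf 0x0)
(.leaf 0x0))
(.node 1227 (.leaf 0x0)
(.leaf 0x0)))
(.node 1230 (.node 1229 (.leaf 0x0)
(.leaf 0x0))
(.node 1231 (.leaf 0x0)
(.leaf 0x0)))))
(.node 1240 (.node 1236 (.node 1234 (.node 1233 (.leaf 0x0)
(.leaf 0x0))
(.node 1235 (.leaf 0x0)
(.leaf 0x0)))
(.node 1238 (.node 1237 (.leaf 0x0)
(.leaf 0x0))
(.node 1239 (.leaf 0x0)
(.leaf 0x0))))
(.node 1244 (.node 1242 (.node 1241 (.leaf 0x0)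
(.leaf 0x0))
(.node 1243 (.leaf 0x0)
(.leaf 0x0)))
(.node 1246 (.node 1245 (.leaf 0x0)
(.leaf 0x0))
(.node 1247 (.leaf 0x0)
(.leaf 0x0))))))
(.node 1264 (.node 1256 (.node 1252 (.node 1250 (.node 1249 (.leaf 0x0)
(.leaf 0x0))
(.node 1251 (.leaf 0x0)
(.leaf 0x0)))
(.node 1254 (.node 1253 (.leaf 0x0)
(.leaf 0x0))
(.node 1255 (.leaf 0x0)
(.leaf 0x0))))
(.node 1260 (.node 1258 (.node 1257 (.leaf 0x0)
(.leaf 0x0))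
(.node 1259 (.leaf 0x0)
(.leaf 0x0)))
(.node 1262 (.node 1261 (.leaf 0x0)
(.leaf 0x0))
(.node 1263 (.leaf 0x0)
(.leaf 0x0)))))
(.node 1272 (.node 1268 (.node 1266 (.node 1265 (.leaf 0x0)
(.leaf 0x0))
(.node 1267 (.leaf 0x0)
(.leaf 0x0)))
(.node 1270 (.node 1269 (.leaf 0x0)
(.leaf 0x0))
(.node 1271 (.leaf 0x0)
(.leaf 0x0))))
(.node 1276 (.node 1274 (.node 1273 (.leaf 0x0)
(.leaf 0x0))
(.node 1275 (.leaf 0x0)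
(.leaf 0x0)))
(.node 1278 (.node 1277 (.leaf 0x0)
(.leaf 0x0))
(.node 1279 (.leaf 0x0)
(.leaf 0x0)))))))))

/-- part of a trie -/
def codePart5 : Tr :=
(.node 1408 (.node 1344 (.node 1312 (.node 1296 (.node 1288 (.node 1284 (.node 1282 (.node 1281 (.leaf 0x0)
(.leaf 0x0))
(.node 1283 (.leaf 0x0)
(.leaf 0x0)))
(.node 1286 (.node 1285 (.leaf 0x0)
(.leaf 0x0))
(.node 1287 (.leaf 0x0)
(.leaf 0x0))))
(.node 1292 (.node 1290 (.node 1289 (.leaf 0x0)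
(.leaf 0x0))
(.node 1291 (.leaf 0x0)
(.leaf 0x0)))
(.node 1294 (.node 1293 (.leaf 0x0)
(.leaf 0x0))
(.node 1295 (.leaf 0x0)
(.leaf 0x0)))))
(.node 1304 (.node 1300 (.node 1298 (.node 1297 (.leaf 0x0)
(.leaf 0x0))
(.node 1299 (.leaf 0x0)
(.leaf 0x0)))
(.node 1302 (.node 1301 (.leaf 0x0)
(.leaf 0x0))
(.node 1303 (.leaf 0x0)
(.leaf 0x0))))
(.node 1308 (.node 1306 (.node 1305 (.leaf 0x0)
(.leaf 0x0))
(.node 1307 (.leaf 0x0)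
(.leaf 0x0)))
(.node 1310 (.node 1309 (.leaf 0x0)
(.leaf 0x0))
(.node 1311 (.leaf 0x0)
(.leaf 0x0))))))
(.node 1328 (.node 1320 (.node 1316 (.node 1314 (.node 1313 (.leaf 0x0)
(.leaf 0x0))
(.node 1315 (.leaf 0x0)
(.leaf 0x0)))
(.node 1318 (.node 1317 (.leaf 0x0)
(.leaf 0x0))
(.node 1319 (.leaf 0x0)
(.leaf 0x0))))
(.node 1324 (.node 1322 (.node 1321 (.leaf 0x0)
(.leaf 0x0))
(.node 1323 (.leaf 0x0)
(.leaf 0x0)))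
(.node 1326 (.node 1325 (.leaf 0x0)
(.leaf 0x0))
(.node 1327 (.leaf 0x0)
(.leaf 0x0)))))
(.node 1336 (.node 1332 (.node 1330 (.node 1329 (.leaf 0x0)
(.leaf 0x0))
(.node 1331 (.leaf 0x0)
(.leaf 0x0)))
(.node 1334 (.node 1333 (.leaf 0x0)
(.leaf 0x0))
(.node 1335 (.leaf 0x0)
(.leaf 0x0))))
(.node 1340 (.node 1338 (.node 1337 (.leaf 0x0)
(.leaf 0x0))
(.node 1339 (.leaf 0x0)
(.leaf 0x0)))
(.node 1342 (.node 1341 (.leaf 0x0)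
(.leaf 0x0))
(.node 1343 (.leaf 0x0)
(.leaf 0x0)))))))
(.node 1376 (.node 1360 (.node 1352 (.node 1348 (.node 1346 (.node 1345 (.leaf 0x0)
(.leaf 0x0))
(.node 1347 (.leaf 0x0)
(.leaf 0x0)))
(.node 1350 (.node 1349 (.leaf 0x0)
(.leaf 0x0))
(.node 1351 (.leaf 0x0)
(.leaf 0x0))))
(.node 1356 (.node 1354 (.node 1353 (.leaf 0x0)
(.leaf 0x0))
(.node 1355 (.leaf 0x0)
(.leaf 0x0)))
(.node 1358 (.node 1357 (.leaf 0x0)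
(.leaf 0x0))
(.node 1359 (.leaf 0x0)
(.leaf 0x0)))))
(.node 1368 (.node 1364 (.node 1362 (.node 1361 (.leaf 0x0)
(.leaf 0x0))
(.node 1363 (.leaf 0x0)
(.leaf 0x0)))
(.node 1366 (.node 1365 (.leaf 0x0)
(.leaf 0x0))
(.node 1367 (.leaf 0x0)
(.leaf 0x0))))
(.node 1372 (.node 1370 (.node 1369 (.leaf 0x0)
(.leaf 0x0))
(.node 1371 (.leaf 0x0)
(.leaf 0x0)))
(.node 1374 (.node 1373 (.leaf 0x0)
(.leaf 0x0))
(.node 1375 (.leaf 0x0)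
(.leaf 0x0))))))
(.node 1392 (.node 1384 (.node 1380 (.node 1378 (.node 1377 (.leaf 0x0)
(.leaf 0x0))
(.node 1379 (.leaf 0x0)
(.leaf 0x0)))
(.node 1382 (.node 1381 (.leaf 0x0)
(.leaf 0x0))
(.node 1383 (.leaf 0x0)
(.leaf 0x0))))
(.node 1388 (.node 1386 (.node 1385 (.leaf 0x0)
(.leaf 0x0))
(.node 1387 (.leaf 0x0)
(.leaf 0x0)))
(.node 1390 (.node 1389 (.leaf 0x0)
(.leaf 0x0))
(.node 1391 (.leaf 0x0)
(.leaf 0x0)))))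
(.node 1400 (.node 1396 (.node 1394 (.node 1393 (.leaf 0x0)
(.leaf 0x0))
(.node 1395 (.leaf 0x0)
(.leaf 0x0)))
(.node 1398 (.node 1397 (.leaf 0x0)
(.leaf 0x0))
(.node 1399 (.leaf 0x0)
(.leaf 0x0))))
(.node 1404 (.node 1402 (.node 1401 (.leaf 0x0)
(.leaf 0x0))
(.node 1403 (.leaf 0x0)
(.leaf 0x0)))
(.node 1406 (.node 1405 (.leaf 0x0)
(.leaf 0x0))
(.node 1407 (.leaf 0x0)
(.leaf 0x0))))))))
(.node 1472 (.node 1440 (.node 1424 (.node 1416 (.node 1412 (.node 1410 (.node 1409 (.leaf 0x0)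
(.leaf 0x0))
(.node 1411 (.leaf 0x0)
(.leaf 0x0)))
(.node 1414 (.node 1413 (.leaf 0x0)
(.leaf 0x0))
(.node 1415 (.leaf 0x0)
(.leaf 0x0))))
(.node 1420 (.node 1418 (.node 1417 (.leaf 0x0)
(.leaf 0x0))
(.node 1419 (.leaf 0x0)
(.leaf 0x0)))
(.node 1422 (.node 1421 (.leaf 0x0)
(.leaf 0x0))
(.node 1423 (.leaf 0x0)
(.leaf 0x0)))))
(.node 1432 (.node 1428 (.node 1426 (.node 1425 (.leaf 0x0)
(.leaf 0x0))
(.node 1427 (.leaf 0x0)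
(.leaf 0x0)))
(.node 1430 (.node 1429 (.leaf 0x0)
(.leaf 0x0))
(.node 1431 (.leaf 0x0)
(.leaf 0x0))))
(.node 1436 (.node 1434 (.node 1433 (.leaf 0x0)
(.leaf 0x0))
(.node 1435 (.leaf 0x0)
(.leaf 0x0)))
(.node 1438 (.node 1437 (.leaf 0x0)
(.leaf 0x0))
(.node 1439 (.leaf 0x0)
(.leaf 0x0))))))
(.node 1456 (.node 1448 (.node 1444 (.node 1442 (.node 1441 (.leaf 0x0)
(.leaf 0x0))
(.node 1443 (.leaf 0x0)
(.leaf 0x0)))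
(.node 1446 (.node 1445 (.leaf 0x0)
(.leaf 0x0))
(.node 1447 (.leaf 0x0)
(.leaf 0x0))))
(.node 1452 (.node 1450 (.node 1449 (.leaf 0x0)
(.leaf 0x0))
(.node 1451 (.leaf 0x0)
(.leaf 0x0)))
(.node 1454 (.node 1453 (.leaf 0x0)
(.leaf 0x0))
(.node 1455 (.leaf 0x0)
(.leaf 0x0)))))
(.node 1464 (.node 1460 (.node 1458 (.node 1457 (.leaf 0x0)
(.leaf 0x0))
(.node 1459 (.leaf 0x0)
(.leaf 0x0)))
(.node 1462 (.node 1461 (.leaf 0x0)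
(.leaf 0x0))
(.node 1463 (.leaf 0x0)
(.leaf 0x0))))
(.node 1468 (.node 1466 (.node 1465 (.leaf 0x0)
(.leaf 0x0))
(.node 1467 (.leaf 0x0)
(.leaf 0x0)))
(.node 1470 (.node 1469 (.leaf 0x0)
(.leaf 0x0))
(.node 1471 (.leaf 0x0)
(.leaf 0x0)))))))
(.node 1504 (.node 1488 (.node 1480 (.node 1476 (.node 1474 (.node 1473 (.leaf 0x0)
(.leaf 0x0))
(.node 1475 (.leaf 0x0)
(.leaf 0x0)))
(.node 1478 (.node 1477 (.leaf 0x0)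
(.leaf 0x0))
(.node 1479 (.leaf 0x0)
(.leaf 0x0))))
(.node 1484 (.node 1482 (.node 1481 (.leaf 0x0)
(.leaf 0x0))
(.node 1483 (.leaf 0x0)
(.leaf 0x0)))
(.node 1486 (.node 1485 (.leaf 0x0)
(.leaf 0x0))
(.node 1487 (.leaf 0x0)
(.leaf 0x0)))))
(.node 1496 (.node 1492 (.node 1490 (.node 1489 (.leaf 0x0)
(.leaf 0x0))
(.node 1491 (.leaf 0x0)
(.leaf 0x0)))
(.node 1494 (.node 1493 (.leaf 0x0)
(.leaf 0x0))
(.node 1495 (.leaf 0x0)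
(.leaf 0x0))))
(.node 1500 (.node 1498 (.node 1497 (.leaf 0x0)
(.leaf 0x0))
(.node 1499 (.leaf 0x0)
(.leaf 0x0)))
(.node 1502 (.node 1501 (.leaf 0x0)
(.leaf 0x0))
(.node 1503 (.leaf 0x0)
(.leaf 0x0))))))
(.node 1520 (.node 1512 (.node 1508 (.node 1506 (.node 1505 (.leaf 0x0)
(.leaf 0x0))
(.node 1507 (.leaf 0x0)
(.leaf 0x0)))
(.node 1510 (.node 1509 (.leaf 0x0)
(.leaf 0x0))
(.node 1511 (.leaf 0x0)
(.leaf 0x0))))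
(.node 1516 (.node 1514 (.node 1513 (.leaf 0x0)
(.leaf 0x0))
(.node 1515 (.leaf 0x0)
(.leaf 0x0)))
(.node 1518 (.node 1517 (.leaf 0x0)
(.leaf 0x0))
(.node 1519 (.leaf 0x0)
(.leaf 0x0)))))
(.node 1528 (.node 1524 (.node 1522 (.node 1521 (.leaf 0x0)
(.leaf 0x0))
(.node 1523 (.leaf 0x0)
(.leaf 0x0)))
(.node 1526 (.node 1525 (.leaf 0x0)
(.leaf 0x0))
(.node 1527 (.leaf 0x0)
(.leaf 0x0))))
(.node 1532 (.node 1530 (.node 1529 (.leaf 0x0)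
(.leaf 0x0))
(.node 1531 (.leaf 0x0)
(.leaf 0x0)))
(.node 1534 (.node 1533 (.leaf 0x0)
(.leaf 0x0))
(.node 1535 (.leaf 0x0)
(.leaf 0x0)))))))))

/-- part of a trie -/
def codePart6 : Tr :=
(.node 1664 (.node 1600 (.node 1568 (.node 1552 (.node 1544 (.node 1540 (.node 1538 (.node 1537 (.leaf 0x0)
(.leaf 0x0))
(.node 1539 (.leaf 0x0)
(.leaf 0x0)))
(.node 1542 (.node 1541 (.leaf 0x0)
(.leaf 0x0))
(.node 1543 (.leaf 0x0)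
(.leaf 0x0))))
(.node 1548 (.node 1546 (.node 1545 (.leaf 0x0)
(.leaf 0x0))
(.node 1547 (.leaf 0x0)
(.leaf 0x0)))
(.node 1550 (.node 1549 (.leaf 0x0)
(.leaf 0x0))
(.node 1551 (.leaf 0x0)
(.leaf 0x0)))))
(.node 1560 (.node 1556 (.node 1554 (.node 1553 (.leaf 0x0)
(.leaf 0x0))
(.node 1555 (.leaf 0x0)
(.leaf 0x0)))
(.node 1558 (.node 1557 (.leaf 0x0)
(.leaf 0x0))
(.node 1559 (.leaf 0x0)
(.leaf 0x0))))
(.node 1564 (.node 1562 (.node 1561 (.leaf 0x0)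
(.leaf 0x0))
(.node 1563 (.leaf 0x0)
(.leaf 0x0)))
(.node 1566 (.node 1565 (.leaf 0x0)
(.leaf 0x0))
(.node 1567 (.leaf 0x0)
(.leaf 0x0))))))
(.node 1584 (.node 1576 (.node 1572 (.node 1570 (.node 1569 (.leaf 0x0)
(.leaf 0x0))
(.node 1571 (.leaf 0x0)
(.leaf 0x0)))
(.node 1574 (.node 1573 (.leaf 0x0)
(.leaf 0x0))
(.node 1575 (.leaf 0x0)
(.leaf 0x0))))
(.node 1580 (.node 1578 (.node 1577 (.leaf 0x0)
(.leaf 0x0))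
(.node 1579 (.leaf 0x0)
(.leaf 0x0)))
(.node 1582 (.node 1581 (.leaf 0x0)
(.leaf 0x0))
(.node 1583 (.leaf 0x0)
(.leaf 0x0)))))
(.node 1592 (.node 1588 (.node 1586 (.node 1585 (.leaf 0x0)
(.leaf 0x0))
(.node 1587 (.leaf 0x0)
(.leaf 0x0)))
(.node 1590 (.node 1589 (.leaf 0x0)
(.leaf 0x0))
(.node 1591 (.leaf 0x0)
(.leaf 0x0))))
(.node 1596 (.node 1594 (.node 1593 (.leaf 0x0)
(.leaf 0x0))
(.node 1595 (.leaf 0x0)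
(.leaf 0x0)))
(.node 1598 (.node 1597 (.leaf 0x0)
(.leaf 0x0))
(.node 1599 (.leaf 0x0)
(.leaf 0x0)))))))
(.node 1632 (.node 1616 (.node 1608 (.node 1604 (.node 1602 (.node 1601 (.leaf 0x0)
(.leaf 0x0))
(.node 1603 (.leaf 0x0)
(.leaf 0x0)))
(.node 1606 (.node 1605 (.leaf 0x0)
(.leaf 0x0))
(.node 1607 (.leaf 0x0)
(.leaf 0x0))))
(.node 1612 (.node 1610 (.node 1609 (.leaf 0x0)
(.leaf 0x0))
(.node 1611 (.leaf 0x0)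
(.leaf 0x0)))
(.node 1614 (.node 1613 (.leaf 0x0)
(.leaf 0x0))
(.node 1615 (.leaf 0x0)
(.leaf 0x0)))))
(.node 1624 (.node 1620 (.node 1618 (.node 1617 (.leaf 0x0)
(.leaf 0x0))
(.node 1619 (.leaf 0x0)
(.leaf 0x0)))
(.node 1622 (.node 1621 (.leaf 0x0)
(.leaf 0x0))
(.node 1623 (.leaf 0x0)
(.leaf 0x0))))
(.node 1628 (.node 1626 (.node 1625 (.leaf 0x0)
(.leaf 0x0))
(.node 1627 (.leaf 0x0)
(.leaf 0x0)))
(.node 1630 (.node 1629 (.leaf 0x0)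
(.leaf 0x0))
(.node 1631 (.leaf 0x0)
(.leaf 0x0))))))
(.node 1648 (.node 1640 (.node 1636 (.node 1634 (.node 1633 (.leaf 0x0)
(.leaf 0x0))
(.node 1635 (.leaf 0x0)
(.leaf 0x0)))
(.node 1638 (.node 1637 (.leaf 0x0)
(.leaf 0x0))
(.node 1639 (.leaf 0x0)
(.leaf 0x0))))
(.node 1644 (.node 1642 (.node 1641 (.leaf 0x0)
(.leaf 0x0))
(.node 1643 (.leaf 0x0)
(.leaf 0x0)))
(.node 1646 (.node 1645 (.leaf 0x0)
(.leaf 0x0))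
(.node 1647 (.leaf 0x0)
(.leaf 0x0)))))
(.node 1656 (.node 1652 (.node 1650 (.node 1649 (.leaf 0x0)
(.leaf 0x0))
(.node 1651 (.leaf 0x0)
(.leaf 0x0)))
(.node 1654 (.node 1653 (.leaf 0x0)
(.leaf 0x0))
(.node 1655 (.leaf 0x0)
(.leaf 0x0))))
(.node 1660 (.node 1658 (.node 1657 (.leaf 0x0)
(.leaf 0x0))
(.node 1659 (.leaf 0x0)
(.leaf 0x0)))
(.node 1662 (.node 1661 (.leaf 0x0)
(.leaf 0x0))
(.node 1663 (.leaf 0x0)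
(.leaf 0x0))))))))
(.node 1728 (.node 1696 (.node 1680 (.node 1672 (.node 1668 (.node 1666 (.node 1665 (.leaf 0x0)
(.leaf 0x0))
(.node 1667 (.leaf 0x0)
(.leaf 0x0)))
(.node 1670 (.node 1669 (.leaf 0x0)
(.leaf 0x0))
(.node 1671 (.leaf 0x0)
(.leaf 0x0))))
(.node 1676 (.node 1674 (.node 1673 (.leaf 0x0)
(.leaf 0x0))
(.node 1675 (.leaf 0x0)
(.leaf 0x0)))
(.node 1678 (.node 1677 (.leaf 0x0)
(.leaf 0x0))
(.node 1679 (.leaf 0x0)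
(.leaf 0x0)))))
(.node 1688 (.node 1684 (.node 1682 (.node 1681 (.leaf 0x0)
(.leaf 0x0))
(.node 1683 (.leaf 0x0)
(.leaf 0x0)))
(.node 1686 (.node 1685 (.leaf 0x0)
(.leaf 0x0))
(.node 1687 (.leaf 0x0)
(.leaf 0x0))))
(.node 1692 (.node 1690 (.node 1689 (.leaf 0x0)
(.leaf 0x0))
(.node 1691 (.leaf 0x0)
(.leaf 0x0)))
(.node 1694 (.node 1693 (.leaf 0x0)
(.leaf 0x0))
(.node 1695 (.leaf 0x0)
(.leaf 0x0))))))
(.node 1712 (.node 1704 (.node 1700 (.node 1698 (.node 1697 (.leaf 0x0)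
(.leaf 0x0))
(.node 1699 (.leaf 0x0)
(.leaf 0x0)))
(.node 1702 (.node 1701 (.leaf 0x0)
(.leaf 0x0))
(.node 1703 (.leaf 0x0)
(.leaf 0x0))))
(.node 1708 (.node 1706 (.node 1705 (.leaf 0x0)
(.leaf 0x0))
(.node 1707 (.leaf 0x0)
(.leaf 0x0)))
(.node 1710 (.node 1709 (.leaf 0x0)
(.leaf 0x0))
(.node 1711 (.leaf 0x0)
(.leaf 0x0)))))
(.node 1720 (.node 1716 (.node 1714 (.node 1713 (.leaf 0x0)
(.leaf 0x0))
(.node 1715 (.leaf 0x0)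
(.leaf 0x0)))
(.node 1718 (.node 1717 (.leaf 0x0)
(.leaf 0x0))
(.node 1719 (.leaf 0x0)
(.leaf 0x0))))
(.node 1724 (.node 1722 (.node 1721 (.leaf 0x0)
(.leaf 0x0))
(.node 1723 (.leaf 0x0)
(.leaf 0x0)))
(.node 1726 (.node 1725 (.leaf 0x0)
(.leaf 0x0))
(.node 1727 (.leaf 0x0)
(.leaf 0x0)))))))
(.node 1760 (.node 1744 (.node 1736 (.node 1732 (.node 1730 (.node 1729 (.leaf 0x0)
(.leaf 0x0))
(.node 1731 (.leaf 0x0)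
(.leaf 0x0)))
(.node 1734 (.node 1733 (.leaf 0x0)
(.leaf 0x0))
(.node 1735 (.leaf 0x0)
(.leaf 0x0))))
(.node 1740 (.node 1738 (.node 1737 (.leaf 0x0)
(.leaf 0x0))
(.node 1739 (.leaf 0x0)
(.leaf 0x0)))
(.node 1742 (.node 1741 (.leaf 0x0)
(.leaf 0x0))
(.node 1743 (.leaf 0x0)
(.leaf 0x0)))))
(.node 1752 (.node 1748 (.node 1746 (.node 1745 (.leaf 0x0)
(.leaf 0x0))
(.node 1747 (.leaf 0x0)
(.leaf 0x0)))
(.node 1750 (.node 1749 (.leaf 0x0)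
(.leaf 0x0))
(.node 1751 (.leaf 0x0)
(.leaf 0x0))))
(.node 1756 (.node 1754 (.node 1753 (.leaf 0x0)
(.leaf 0x0))
(.node 1755 (.leaf 0x0)
(.leaf 0x0)))
(.node 1758 (.node 1757 (.leaf 0x0)
(.leaf 0x0))
(.node 1759 (.leaf 0x0)
(.leaf 0x0))))))
(.node 1776 (.node 1768 (.node 1764 (.node 1762 (.node 1761 (.leaf 0x0)
(.leaf 0x0))
(.node 1763 (.leaf 0x0)
(.leaf 0x0)))
(.node 1766 (.node 1765 (.leaf 0x0)
(.leaf 0x0))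
(.node 1767 (.leaf 0x0)
(.leaf 0x0))))
(.node 1772 (.node 1770 (.node 1769 (.leaf 0x0)
(.leaf 0x0))
(.node 1771 (.leaf 0x0)
(.leaf 0x0)))
(.node 1774 (.node 1773 (.leaf 0x0)
(.leaf 0x0))
(.node 1775 (.leaf 0x0)
(.leaf 0x0)))))
(.node 1784 (.node 1780 (.node 1778 (.node 1777 (.leaf 0x0)
(.leaf 0x0))
(.node 1779 (.leaf 0x0)
(.leaf 0x0)))
(.node 1782 (.node 1781 (.leaf 0x0)
(.leaf 0x0))
(.node 1783 (.leaf 0x0)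
(.leaf 0x0))))
(.node 1788 (.node 1786 (.node 1785 (.leaf 0x0)
(.leaf 0x0))
(.node 1787 (.leaf 0x0)
(.leaf 0x0)))
(.node 1790 (.node 1789 (.leaf 0x0)
(.leaf 0x0))
(.node 1791 (.leaf 0x0)
(.leaf 0x0)))))))))

/-- part of a trie -/
def codePart7 : Tr :=
(.node 1920 (.node 1856 (.node 1824 (.node 1808 (.node 1800 (.node 1796 (.node 1794 (.node 1793 (.leaf 0x0)
(.leaf 0x0))
(.node 1795 (.leaf 0x0)
(.leaf 0x0)))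
(.node 1798 (.node 1797 (.leaf 0x0)
(.leaf 0x0))
(.node 1799 (.leaf 0x0)
(.leaf 0x0))))
(.node 1804 (.node 1802 (.node 1801 (.leaf 0x0)
(.leaf 0x0))
(.node 1803 (.leaf 0x0)
(.leaf 0x0)))
(.node 1806 (.node 1805 (.leaf 0x0)
(.leaf 0x0))
(.node 1807 (.leaf 0x0)
(.leaf 0x0)))))
(.node 1816 (.node 1812 (.node 1810 (.node 1809 (.leaf 0x0)
(.leaf 0x0))
(.node 1811 (.leaf 0x0)
(.leaf 0x0)))
(.node 1814 (.node 1813 (.leaf 0x0)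
(.leaf 0x0))
(.node 1815 (.leaf 0x0)
(.leaf 0x0))))
(.node 1820 (.node 1818 (.node 1817 (.leaf 0x0)
(.leaf 0x0))
(.node 1819 (.leaf 0x0)
(.leaf 0x0)))
(.node 1822 (.node 1821 (.leaf 0x0)
(.leaf 0x0))
(.node 1823 (.leaf 0x0)
(.leaf 0x0))))))
(.node 1840 (.node 1832 (.node 1828 (.node 1826 (.node 1825 (.leaf 0x0)
(.leaf 0x0))
(.node 1827 (.leaf 0x0)
(.leaf 0x0)))
(.node 1830 (.node 1829 (.leaf 0x0)
(.leaf 0x0))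
(.node 1831 (.leaf 0x0)
(.leaf 0x0))))
(.node 1836 (.node 1834 (.node 1833 (.leaf 0x0)
(.leaf 0x0))
(.node 1835 (.leaf 0x0)
(.leaf 0x0)))
(.node 1838 (.node 1837 (.leaf 0x0)
(.leaf 0x0))
(.node 1839 (.leaf 0x0)
(.leaf 0x0)))))
(.node 1848 (.node 1844 (.node 1842 (.node 1841 (.leaf 0x0)
(.leaf 0x0))
(.node 1843 (.leaf 0x0)
(.leaf 0x0)))
(.node 1846 (.node 1845 (.leaf 0x0)
(.leaf 0x0))
(.node 1847 (.leaf 0x0)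
(.leaf 0x0))))
(.node 1852 (.node 1850 (.node 1849 (.leaf 0x0)
(.leaf 0x0))
(.node 1851 (.leaf 0x0)
(.leaf 0x0)))
(.node 1854 (.node 1853 (.leaf 0x0)
(.leaf 0x0))
(.node 1855 (.leaf 0x0)
(.leaf 0x0)))))))
(.node 1888 (.node 1872 (.node 1864 (.node 1860 (.node 1858 (.node 1857 (.leaf 0x0)
(.leaf 0x0))
(.node 1859 (.leaf 0x0)
(.leaf 0x0)))
(.node 1862 (.node 1861 (.leaf 0x0)
(.leaf 0x0))
(.node 1863 (.leaf 0x0)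
(.leaf 0x0))))
(.node 1868 (.node 1866 (.node 1865 (.leaf 0x0)
(.leaf 0x0))
(.node 1867 (.leaf 0x0)
(.leaf 0x0)))
(.node 1870 (.node 1869 (.leaf 0x0)
(.leaf 0x0))
(.node 1871 (.leaf 0x0)
(.leaf 0x0)))))
(.node 1880 (.node 1876 (.node 1874 (.node 1873 (.leaf 0x0)
(.leaf 0x0))
(.node 1875 (.leaf 0x0)
(.leaf 0x0)))
(.node 1878 (.node 1877 (.leaf 0x0)
(.leaf 0x0))
(.node 1879 (.leaf 0x0)
(.leaf 0x0))))
(.node 1884 (.node 1882 (.node 1881 (.leaf 0x0)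
(.leaf 0x0))
(.node 1883 (.leaf 0x0)
(.leaf 0x0)))
(.node 1886 (.node 1885 (.leaf 0x0)
(.leaf 0x0))
(.node 1887 (.leaf 0x0)
(.leaf 0x0))))))
(.node 1904 (.node 1896 (.node 1892 (.node 1890 (.node 1889 (.leaf 0x0)
(.leaf 0x0))
(.node 1891 (.leaf 0x0)
(.leaf 0x0)))
(.node 1894 (.node 1893 (.leaf 0x0)
(.leaf 0x0))
(.node 1895 (.leaf 0x0)
(.leaf 0x0))))
(.node 1900 (.node 1898 (.node 1897 (.leaf 0x0)
(.leaf 0x0))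
(.node 1899 (.leaf 0x0)
(.leaf 0x0)))
(.node 1902 (.node 1901 (.leaf 0x0)
(.leaf 0x0))
(.node 1903 (.leaf 0x0)
(.leaf 0x0)))))
(.node 1912 (.node 1908 (.node 1906 (.node 1905 (.leaf 0x0)
(.leaf 0x0))
(.node 1907 (.leaf 0x0)
(.leaf 0x0)))
(.node 1910 (.node 1909 (.leaf 0x0)
(.leaf 0x0))
(.node 1911 (.leaf 0x0)
(.leaf 0x0))))
(.node 1916 (.node 1914 (.node 1913 (.leaf 0x0)
(.leaf 0x0))
(.node 1915 (.leaf 0x0)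
(.leaf 0x0)))
(.node 1918 (.node 1917 (.leaf 0x0)
(.leaf 0x0))
(.node 1919 (.leaf 0x0)
(.leaf 0x0))))))))
(.node 1984 (.node 1952 (.node 1936 (.node 1928 (.node 1924 (.node 1922 (.node 1921 (.leaf 0x0)
(.leaf 0x0))
(.node 1923 (.leaf 0x0)
(.leaf 0x0)))
(.node 1926 (.node 1925 (.leaf 0x0)
(.leaf 0x0))
(.node 1927 (.leaf 0x0)
(.leaf 0x0))))
(.node 1932 (.node 1930 (.node 1929 (.leaf 0x0)
(.leaf 0x0))
(.node 1931 (.leaf 0x0)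
(.leaf 0x0)))
(.node 1934 (.node 1933 (.leaf 0x0)
(.leaf 0x0))
(.node 1935 (.leaf 0x0)
(.leaf 0x0)))))
(.node 1944 (.node 1940 (.node 1938 (.node 1937 (.leaf 0x0)
(.leaf 0x0))
(.node 1939 (.leaf 0x0)
(.leaf 0x0)))
(.node 1942 (.node 1941 (.leaf 0x0)
(.leaf 0x0))
(.node 1943 (.leaf 0x0)
(.leaf 0x0))))
(.node 1948 (.node 1946 (.node 1945 (.leaf 0x0)
(.leaf 0x0))
(.node 1947 (.leaf 0x0)
(.leaf 0x0)))
(.node 1950 (.node 1949 (.leaf 0x0)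
(.leaf 0x0))
(.node 1951 (.leaf 0x0)
(.leaf 0x0))))))
(.node 1968 (.node 1960 (.node 1956 (.node 1954 (.node 1953 (.leaf 0x0)
(.leaf 0x0))
(.node 1955 (.leaf 0x0)
(.leaf 0x0)))
(.node 1958 (.node 1957 (.leaf 0x0)
(.leaf 0x0))
(.node 1959 (.leaf 0x0)
(.leaf 0x0))))
(.node 1964 (.node 1962 (.node 1961 (.leaf 0x0)
(.leaf 0x0))
(.node 1963 (.leaf 0x0)
(.leaf 0x0)))
(.node 1966 (.node 1965 (.leaf 0x0)
(.leaf 0x0))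
(.node 1967 (.leaf 0x0)
(.leaf 0x0)))))
(.node 1976 (.node 1972 (.node 1970 (.node 1969 (.leaf 0x0)
(.leaf 0x0))
(.node 1971 (.leaf 0x0)
(.leaf 0x0)))
(.node 1974 (.node 1973 (.leaf 0x0)
(.leaf 0x0))
(.node 1975 (.leaf 0x0)
(.leaf 0x0))))
(.node 1980 (.node 1978 (.node 1977 (.leaf 0x0)
(.leaf 0x0))
(.node 1979 (.leaf 0x0)
(.leaf 0x0)))
(.node 1982 (.node 1981 (.leaf 0x0)
(.leaf 0x0))
(.node 1983 (.leaf 0x0)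
(.leaf 0x0)))))))
(.node 2016 (.node 2000 (.node 1992 (.node 1988 (.node 1986 (.node 1985 (.leaf 0x0)
(.leaf 0x0))
(.node 1987 (.leaf 0x0)
(.leaf 0x0)))
(.node 1990 (.node 1989 (.leaf 0x0)
(.leaf 0x0))
(.node 1991 (.leaf 0x0)
(.leaf 0x0))))
(.node 1996 (.node 1994 (.node 1993 (.leaf 0x0)
(.leaf 0x0))
(.node 1995 (.leaf 0x0)
(.leaf 0x0)))
(.node 1998 (.node 1997 (.leaf 0x0)
(.leaf 0x0))
(.node 1999 (.leaf 0x0)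
(.leaf 0x0)))))
(.node 2008 (.node 2004 (.node 2002 (.node 2001 (.leaf 0x0)
(.leaf 0x0))
(.node 2003 (.leaf 0x0)
(.leaf 0x0)))
(.node 2006 (.node 2005 (.leaf 0x0)
(.leaf 0x0))
(.node 2007 (.leaf 0x0)
(.leaf 0x0))))
(.node 2012 (.node 2010 (.node 2009 (.leaf 0x0)
(.leaf 0x0))
(.node 2011 (.leaf 0x0)
(.leaf 0x0)))
(.node 2014 (.node 2013 (.leaf 0x0)
(.leaf 0x0))
(.node 2015 (.leaf 0x0)
(.leaf 0x0))))))
(.node 2032 (.node 2024 (.node 2020 (.node 2018 (.node 2017 (.leaf 0x0)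
(.leaf 0x0))
(.node 2019 (.leaf 0x0)
(.leaf 0x0)))
(.node 2022 (.node 2021 (.leaf 0x0)
(.leaf 0x0))
(.node 2023 (.leaf 0x0)
(.leaf 0x0))))
(.node 2028 (.node 2026 (.node 2025 (.leaf 0x0)
(.leaf 0x0))
(.node 2027 (.leaf 0x0)
(.leaf 0x0)))
(.node 2030 (.node 2029 (.leaf 0x0)
(.leaf 0x0))
(.node 2031 (.leaf 0x0)
(.leaf 0x0)))))
(.node 2040 (.node 2036 (.node 2034 (.node 2033 (.leaf 0x0)
(.leaf 0x0))
(.node 2035 (.leaf 0x0)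
(.leaf 0x0)))
(.node 2038 (.node 2037 (.leaf 0x0)
(.leaf 0x0))
(.node 2039 (.leaf 0x0)
(.leaf 0x0))))
(.node 2044 (.node 2042 (.node 2041 (.leaf 0x0)
(.leaf 0x0))
(.node 2043 (.leaf 0x0)
(.leaf 0x0)))
(.node 2046 (.node 2045 (.leaf 0x0)
(.leaf 0x0))
(.node 2047 (.leaf 0x0)
(.leaf 0x0)))))))))

/-- part of a trie -/
def codePart8 : Tr :=
(.node 2176 (.node 2112 (.node 2080 (.node 2064 (.node 2056 (.node 2052 (.node 2050 (.node 2049 (.leaf 0x0)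
(.leaf 0x0))
(.node 2051 (.leaf 0x0)
(.leaf 0x0)))
(.node 2054 (.node 2053 (.leaf 0x0)
(.leaf 0x0))
(.node 2055 (.leaf 0x0)
(.leaf 0x0))))
(.node 2060 (.node 2058 (.node 2057 (.leaf 0x0)
(.leaf 0x0))
(.node 2059 (.leaf 0x0)
(.leaf 0x0)))
(.node 2062 (.node 2061 (.leaf 0x0)
(.leaf 0x0))
(.node 2063 (.leaf 0x0)
(.leaf 0x0)))))
(.node 2072 (.node 2068 (.node 2066 (.node 2065 (.leaf 0x0)
(.leaf 0x0))
(.node 2067 (.leaf 0x0)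
(.leaf 0x0)))
(.node 2070 (.node 2069 (.leaf 0x0)
(.leaf 0x0))
(.node 2071 (.leaf 0x0)
(.leaf 0x0))))
(.node 2076 (.node 2074 (.node 2073 (.leaf 0x0)
(.leaf 0x0))
(.node 2075 (.leaf 0x0)
(.leaf 0x0)))
(.node 2078 (.node 2077 (.leaf 0x0)
(.leaf 0x0))
(.node 2079 (.leaf 0x0)
(.leaf 0x0))))))
(.node 2096 (.node 2088 (.node 2084 (.node 2082 (.node 2081 (.leaf 0x0)
(.leaf 0x0))
(.node 2083 (.leaf 0x0)
(.leaf 0x0)))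
(.node 2086 (.node 2085 (.leaf 0x0)
(.leaf 0x0))
(.node 2087 (.leaf 0x0)
(.leaf 0x0))))
(.node 2092 (.node 2090 (.node 2089 (.leaf 0x0)
(.leaf 0x0))
(.node 2091 (.leaf 0x0)
(.leaf 0x0)))
(.node 2094 (.node 2093 (.leaf 0x0)
(.leaf 0x0))
(.node 2095 (.leaf 0x0)
(.leaf 0x0)))))
(.node 2104 (.node 2100 (.node 2098 (.node 2097 (.leaf 0x0)
(.leaf 0x0))
(.node 2099 (.leaf 0x0)
(.leaf 0x0)))
(.node 2102 (.node 2101 (.leaf 0x0)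
(.leaf 0x0))
(.node 2103 (.leaf 0x0)
(.leaf 0x0))))
(.node 2108 (.node 2106 (.node 2105 (.leaf 0x0)
(.leaf 0x0))
(.node 2107 (.leaf 0x0)
(.leaf 0x0)))
(.node 2110 (.node 2109 (.leaf 0x0)
(.leaf 0x0))
(.node 2111 (.leaf 0x0)
(.leaf 0x0)))))))
(.node 2144 (.node 2128 (.node 2120 (.node 2116 (.node 2114 (.node 2113 (.leaf 0x0)
(.leaf 0x0))
(.node 2115 (.leaf 0x0)
(.leaf 0x0)))
(.node 2118 (.node 2117 (.leaf 0x0)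
(.leaf 0x0))
(.node 2119 (.leaf 0x0)
(.leaf 0x0))))
(.node 2124 (.node 2122 (.node 2121 (.leaf 0x0)
(.leaf 0x0))
(.node 2123 (.leaf 0x0)
(.leaf 0x0)))
(.node 2126 (.node 2125 (.leaf 0x0)
(.leaf 0x0))
(.node 2127 (.leaf 0x0)
(.leaf 0x0)))))
(.node 2136 (.node 2132 (.node 2130 (.node 2129 (.leaf 0x0)
(.leaf 0x0))
(.node 2131 (.leaf 0x0)
(.leaf 0x0)))
(.node 2134 (.node 2133 (.leaf 0x0)
(.leaf 0x0))
(.node 2135 (.leaf 0x0)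
(.leaf 0x0))))
(.node 2140 (.node 2138 (.node 2137 (.leaf 0x0)
(.leaf 0x0))
(.node 2139 (.leaf 0x0)
(.leaf 0x0)))
(.node 2142 (.node 2141 (.leaf 0x0)
(.leaf 0x0))
(.node 2143 (.leaf 0x0)
(.leaf 0x0))))))
(.node 2160 (.node 2152 (.node 2148 (.node 2146 (.node 2145 (.leaf 0x0)
(.leaf 0x0))
(.node 2147 (.leaf 0x0)
(.leaf 0x0)))
(.node 2150 (.node 2149 (.leaf 0x0)
(.leaf 0x0))
(.node 2151 (.leaf 0x0)
(.leaf 0x0))))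
(.node 2156 (.node 2154 (.node 2153 (.leaf 0x0)
(.leaf 0x0))
(.node 2155 (.leaf 0x0)
(.leaf 0x0)))
(.node 2158 (.node 2157 (.leaf 0x0)
(.leaf 0x0))
(.node 2159 (.leaf 0x0)
(.leaf 0x0)))))
(.node 2168 (.node 2164 (.node 2162 (.node 2161 (.leaf 0x0)
(.leaf 0x0))
(.node 2163 (.leaf 0x0)
(.leaf 0x0)))
(.node 2166 (.node 2165 (.leaf 0x0)
(.leaf 0x0))
(.node 2167 (.leaf 0x0)
(.leaf 0x0))))
(.node 2172 (.node 2170 (.node 2169 (.leaf 0x0)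
(.leaf 0x0))
(.node 2171 (.leaf 0x0)
(.leaf 0x0)))
(.node 2174 (.node 2173 (.leaf 0x0)
(.leaf 0x0))
(.node 2175 (.leaf 0x0)
(.leaf 0x0))))))))
(.node 2240 (.node 2208 (.node 2192 (.node 2184 (.node 2180 (.node 2178 (.node 2177 (.leaf 0x0)
(.leaf 0x0))
(.node 2179 (.leaf 0x0)
(.leaf 0x0)))
(.node 2182 (.node 2181 (.leaf 0x0)
(.leaf 0x0))
(.node 2183 (.leaf 0x0)
(.leaf 0x0))))
(.node 2188 (.node 2186 (.node 2185 (.leaf 0x0)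
(.leaf 0x0))
(.node 2187 (.leaf 0x0)
(.leaf 0x0)))
(.node 2190 (.node 2189 (.leaf 0x0)
(.leaf 0x0))
(.node 2191 (.leaf 0x0)
(.leaf 0x0)))))
(.node 2200 (.node 2196 (.node 2194 (.node 2193 (.leaf 0x0)
(.leaf 0x0))
(.node 2195 (.leaf 0x0)
(.leaf 0x0)))
(.node 2198 (.node 2197 (.leaf 0x0)
(.leaf 0x0))
(.node 2199 (.leaf 0x0)
(.leaf 0x0))))
(.node 2204 (.node 2202 (.node 2201 (.leaf 0x0)
(.leaf 0x0))
(.node 2203 (.leaf 0x0)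
(.leaf 0x0)))
(.node 2206 (.node 2205 (.leaf 0x0)
(.leaf 0x0))
(.node 2207 (.leaf 0x0)
(.leaf 0x0))))))
(.node 2224 (.node 2216 (.node 2212 (.node 2210 (.node 2209 (.leaf 0x0)
(.leaf 0x0))
(.node 2211 (.leaf 0x0)
(.leaf 0x0)))
(.node 2214 (.node 2213 (.leaf 0x0)
(.leaf 0x0))
(.node 2215 (.leaf 0x0)
(.leaf 0x0))))
(.node 2220 (.node 2218 (.node 2217 (.leaf 0x0)
(.leaf 0x0))
(.node 2219 (.leaf 0x0)
(.leaf 0x0)))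
(.node 2222 (.node 2221 (.leaf 0x0)
(.leaf 0x0))
(.node 2223 (.leaf 0x0)
(.leaf 0x0)))))
(.node 2232 (.node 2228 (.node 2226 (.node 2225 (.leaf 0x0)
(.leaf 0x0))
(.node 2227 (.leaf 0x0)
(.leaf 0x0)))
(.node 2230 (.node 2229 (.leaf 0x0)
(.leaf 0x0))
(.node 2231 (.leaf 0x0)
(.leaf 0x0))))
(.node 2236 (.node 2234 (.node 2233 (.leaf 0x0)
(.leaf 0x0))
(.node 2235 (.leaf 0x0)
(.leaf 0x0)))
(.node 2238 (.node 2237 (.leaf 0x0)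
(.leaf 0x0))
(.node 2239 (.leaf 0x0)
(.leaf 0x0)))))))
(.node 2272 (.node 2256 (.node 2248 (.node 2244 (.node 2242 (.node 2241 (.leaf 0x0)
(.leaf 0x0))
(.node 2243 (.leaf 0x0)
(.leaf 0x0)))
(.node 2246 (.node 2245 (.leaf 0x0)
(.leaf 0x0))
(.node 2247 (.leaf 0x0)
(.leaf 0x0))))
(.node 2252 (.node 2250 (.node 2249 (.leaf 0x0)
(.leaf 0x0))
(.node 2251 (.leaf 0x0)
(.leaf 0x0)))
(.node 2254 (.node 2253 (.leaf 0x0)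
(.leaf 0x0))
(.node 2255 (.leaf 0x0)
(.leaf 0x0)))))
(.node 2264 (.node 2260 (.node 2258 (.node 2257 (.leaf 0x0)
(.leaf 0x0))
(.node 2259 (.leaf 0x0)
(.leaf 0x0)))
(.node 2262 (.node 2261 (.leaf 0x0)
(.leaf 0x0))
(.node 2263 (.leaf 0x0)
(.leaf 0x0))))
(.node 2268 (.node 2266 (.node 2265 (.leaf 0x0)
(.leaf 0x0))
(.node 2267 (.leaf 0x0)
(.leaf 0x0)))
(.node 2270 (.node 2269 (.leaf 0x0)
(.leaf 0x0))
(.node 2271 (.leaf 0x0)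
(.leaf 0x0))))))
(.node 2288 (.node 2280 (.node 2276 (.node 2274 (.node 2273 (.leaf 0x0)
(.leaf 0x0))
(.node 2275 (.leaf 0x0)
(.leaf 0x0)))
(.node 2278 (.node 2277 (.leaf 0x0)
(.leaf 0x0))
(.node 2279 (.leaf 0x0)
(.leaf 0x0))))
(.node 2284 (.node 2282 (.node 2281 (.leaf 0x0)
(.leaf 0x0))
(.node 2283 (.leaf 0x0)
(.leaf 0x0)))
(.node 2286 (.node 2285 (.leaf 0x0)
(.leaf 0x0))
(.node 2287 (.leaf 0x0)
(.leaf 0x0)))))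
(.node 2296 (.node 2292 (.node 2290 (.node 2289 (.leaf 0x0)
(.leaf 0x0))
(.node 2291 (.leaf 0x0)
(.leaf 0x0)))
(.node 2294 (.node 2293 (.leaf 0x0)
(.leaf 0x0))
(.node 2295 (.leaf 0x0)
(.leaf 0x0))))
(.node 2300 (.node 2298 (.node 2297 (.leaf 0x0)
(.leaf 0x0))
(.node 2299 (.leaf 0x0)
(.leaf 0x0)))
(.node 2302 (.node 2301 (.leaf 0x0)
(.leaf 0x0))
(.node 2303 (.leaf 0x0)
(.leaf 0x0)))))))))

/-- part of a trie -/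
def codePart9 : Tr :=
(.node 2432 (.node 2368 (.node 2336 (.node 2320 (.node 2312 (.node 2308 (.node 2306 (.node 2305 (.leaf 0x0)
(.leaf 0x0))
(.node 2307 (.leaf 0x0)
(.leaf 0x0)))
(.node 2310 (.node 2309 (.leaf 0x0)
(.leaf 0x0))
(.node 2311 (.leaf 0x0)
(.leaf 0x0))))
(.node 2316 (.node 2314 (.node 2313 (.leaf 0x0)
(.leaf 0x0))
(.node 2315 (.leaf 0x0)
(.leaf 0x0)))
(.node 2318 (.node 2317 (.leaf 0x0)
(.leaf 0x0))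
(.node 2319 (.leaf 0x0)
(.leaf 0x0)))))
(.node 2328 (.node 2324 (.node 2322 (.node 2321 (.leaf 0x0)
(.leaf 0x0))
(.node 2323 (.leaf 0x0)
(.leaf 0x0)))
(.node 2326 (.node 2325 (.leaf 0x0)
(.leaf 0x0))
(.node 2327 (.leaf 0x0)
(.leaf 0x0))))
(.node 2332 (.node 2330 (.node 2329 (.leaf 0x0)
(.leaf 0x0))
(.node 2331 (.leaf 0x0)
(.leaf 0x0)))
(.node 2334 (.node 2333 (.leaf 0x0)
(.leaf 0x0))
(.node 2335 (.leaf 0x0)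
(.leaf 0x0))))))
(.node 2352 (.node 2344 (.node 2340 (.node 2338 (.node 2337 (.leaf 0x0)
(.leaf 0x0))
(.node 2339 (.leaf 0x0)
(.leaf 0x0)))
(.node 2342 (.node 2341 (.leaf 0x0)
(.leaf 0x0))
(.node 2343 (.leaf 0x0)
(.leaf 0x0))))
(.node 2348 (.node 2346 (.node 2345 (.leaf 0x0)
(.leaf 0x0))
(.node 2347 (.leaf 0x0)
(.leaf 0x0)))
(.node 2350 (.node 2349 (.leaf 0x0)
(.leaf 0x0))
(.node 2351 (.leaf 0x0)
(.leaf 0x0)))))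
(.node 2360 (.node 2356 (.node 2354 (.node 2353 (.leaf 0x0)
(.leaf 0x0))
(.node 2355 (.leaf 0x0)
(.leaf 0x0)))
(.node 2358 (.node 2357 (.leaf 0x0)
(.leaf 0x0))
(.node 2359 (.leaf 0x0)
(.leaf 0x0))))
(.node 2364 (.node 2362 (.node 2361 (.leaf 0x0)
(.leaf 0x0))
(.node 2363 (.leaf 0x0)
(.leaf 0x0)))
(.node 2366 (.node 2365 (.leaf 0x0)
(.leaf 0x0))
(.node 2367 (.leaf 0x0)
(.leaf 0x0)))))))
(.node 2400 (.node 2384 (.node 2376 (.node 2372 (.node 2370 (.node 2369 (.leaf 0x0)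
(.leaf 0x0))
(.node 2371 (.leaf 0x0)
(.leaf 0x0)))
(.node 2374 (.node 2373 (.leaf 0x0)
(.leaf 0x0))
(.node 2375 (.leaf 0x0)
(.leaf 0x0))))
(.node 2380 (.node 2378 (.node 2377 (.leaf 0x0)
(.leaf 0x0))
(.node 2379 (.leaf 0x0)
(.leaf 0x0)))
(.node 2382 (.node 2381 (.leaf 0x0)
(.leaf 0x0))
(.node 2383 (.leaf 0x0)
(.leaf 0x0)))))
(.node 2392 (.node 2388 (.node 2386 (.node 2385 (.leaf 0x0)
(.leaf 0x0))
(.node 2387 (.leaf 0x0)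
(.leaf 0x0)))
(.node 2390 (.node 2389 (.leaf 0x0)
(.leaf 0x0))
(.node 2391 (.leaf 0x0)
(.leaf 0x0))))
(.node 2396 (.node 2394 (.node 2393 (.leaf 0x0)
(.leaf 0x0))
(.node 2395 (.leaf 0x0)
(.leaf 0x0)))
(.node 2398 (.node 2397 (.leaf 0x0)
(.leaf 0x0))
(.node 2399 (.leaf 0x0)
(.leaf 0x0))))))
(.node 2416 (.node 2408 (.node 2404 (.node 2402 (.node 2401 (.leaf 0x0)
(.leaf 0x0))
(.node 2403 (.leaf 0x0)
(.leaf 0x0)))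
(.node 2406 (.node 2405 (.leaf 0x0)
(.leaf 0x0))
(.node 2407 (.leaf 0x0)
(.leaf 0x0))))
(.node 2412 (.node 2410 (.node 2409 (.leaf 0x0)
(.leaf 0x0))
(.node 2411 (.leaf 0x0)
(.leaf 0x0)))
(.node 2414 (.node 2413 (.leaf 0x0)
(.leaf 0x0))
(.node 2415 (.leaf 0x0)
(.leaf 0x0)))))
(.node 2424 (.node 2420 (.node 2418 (.node 2417 (.leaf 0x0)
(.leaf 0x0))
(.node 2419 (.leaf 0x0)
(.leaf 0x0)))
(.node 2422 (.node 2421 (.leaf 0x0)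
(.leaf 0x0))
(.node 2423 (.leaf 0x0)
(.leaf 0x0))))
(.node 2428 (.node 2426 (.node 2425 (.leaf 0x0)
(.leaf 0x0))
(.node 2427 (.leaf 0x0)
(.leaf 0x0)))
(.node 2430 (.node 2429 (.leaf 0x0)
(.leaf 0x0))
(.node 2431 (.leaf 0x0)
(.leaf 0x0))))))))
(.node 2496 (.node 2464 (.node 2448 (.node 2440 (.node 2436 (.node 2434 (.node 2433 (.leaf 0x0)
(.leaf 0x0))
(.node 2435 (.leaf 0x0)
(.leaf 0x0)))
(.node 2438 (.node 2437 (.leaf 0x0)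
(.leaf 0x0))
(.node 2439 (.leaf 0x0)
(.leaf 0x0))))
(.node 2444 (.node 2442 (.node 2441 (.leaf 0x0)
(.leaf 0x0))
(.node 2443 (.leaf 0x0)
(.leaf 0x0)))
(.node 2446 (.node 2445 (.leaf 0x0)
(.leaf 0x0))
(.node 2447 (.leaf 0x0)
(.leaf 0x0)))))
(.node 2456 (.node 2452 (.node 2450 (.node 2449 (.leaf 0x0)
(.leaf 0x0))
(.node 2451 (.leaf 0x0)
(.leaf 0x0)))
(.node 2454 (.node 2453 (.leaf 0x0)
(.leaf 0x0))
(.node 2455 (.leaf 0x0)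
(.leaf 0x0))))
(.node 2460 (.node 2458 (.node 2457 (.leaf 0x0)
(.leaf 0x0))
(.node 2459 (.leaf 0x0)
(.leaf 0x0)))
(.node 2462 (.node 2461 (.leaf 0x0)
(.leaf 0x0))
(.node 2463 (.leaf 0x0)
(.leaf 0x0))))))
(.node 2480 (.node 2472 (.node 2468 (.node 2466 (.node 2465 (.leaf 0x0)
(.leaf 0x0))
(.node 2467 (.leaf 0x0)
(.leaf 0x0)))
(.node 2470 (.node 2469 (.leaf 0x0)
(.leaf 0x0))
(.node 2471 (.leaf 0x0)
(.leaf 0x0))))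
(.node 2476 (.node 2474 (.node 2473 (.leaf 0x0)
(.leaf 0x0))
(.node 2475 (.leaf 0x0)
(.leaf 0x0)))
(.node 2478 (.node 2477 (.leaf 0x0)
(.leaf 0x0))
(.node 2479 (.leaf 0x0)
(.leaf 0x0)))))
(.node 2488 (.node 2484 (.node 2482 (.node 2481 (.leaf 0x0)
(.leaf 0x0))
(.node 2483 (.leaf 0x0)
(.leaf 0x0)))
(.node 2486 (.node 2485 (.leaf 0x0)
(.leaf 0x0))
(.node 2487 (.leaf 0x0)
(.leaf 0x0))))
(.node 2492 (.node 2490 (.node 2489 (.leaf 0x0)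
(.leaf 0x0))
(.node 2491 (.leaf 0x0)
(.leaf 0x0)))
(.node 2494 (.node 2493 (.leaf 0x0)
(.leaf 0x0))
(.node 2495 (.leaf 0x0)
(.leaf 0x0)))))))
(.node 2528 (.node 2512 (.node 2504 (.node 2500 (.node 2498 (.node 2497 (.leaf 0x0)
(.leaf 0x0))
(.node 2499 (.leaf 0x0)
(.leaf 0x0)))
(.node 2502 (.node 2501 (.leaf 0x0)
(.leaf 0x0))
(.node 2503 (.leaf 0x0)
(.leaf 0x0))))
(.node 2508 (.node 2506 (.node 2505 (.leaf 0x0)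
(.leaf 0x0))
(.node 2507 (.leaf 0x0)
(.leaf 0x0)))
(.node 2510 (.node 2509 (.leaf 0x0)
(.leaf 0x0))
(.node 2511 (.leaf 0x0)
(.leaf 0x0)))))
(.node 2520 (.node 2516 (.node 2514 (.node 2513 (.leaf 0x0)
(.leaf 0x0))
(.node 2515 (.leaf 0x0)
(.leaf 0x0)))
(.node 2518 (.node 2517 (.leaf 0x0)
(.leaf 0x0))
(.node 2519 (.leaf 0x0)
(.leaf 0x0))))
(.node 2524 (.node 2522 (.node 2521 (.leaf 0x0)
(.leaf 0x0))
(.node 2523 (.leaf 0x0)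
(.leaf 0x0)))
(.node 2526 (.node 2525 (.leaf 0x0)
(.leaf 0x0))
(.node 2527 (.leaf 0x0)
(.leaf 0x0))))))
(.node 2544 (.node 2536 (.node 2532 (.node 2530 (.node 2529 (.leaf 0x0)
(.leaf 0x0))
(.node 2531 (.leaf 0x0)
(.leaf 0x0)))
(.node 2534 (.node 2533 (.leaf 0x0)
(.leaf 0x0))
(.node 2535 (.leaf 0x0)
(.leaf 0x0))))
(.node 2540 (.node 2538 (.node 2537 (.leaf 0x0)
(.leaf 0x0))
(.node 2539 (.leaf 0x0)
(.leaf 0x0)))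
(.node 2542 (.node 2541 (.leaf 0x0)
(.leaf 0x0))
(.node 2543 (.leaf 0x0)
(.leaf 0x0)))))
(.node 2552 (.node 2548 (.node 2546 (.node 2545 (.leaf 0x0)
(.leaf 0x0))
(.node 2547 (.leaf 0x0)
(.leaf 0x0)))
(.node 2550 (.node 2549 (.leaf 0x0)
(.leaf 0x0))
(.node 2551 (.leaf 0x0)
(.leaf 0x0))))
(.node 2556 (.node 2554 (.node 2553 (.leaf 0x0)
(.leaf 0x0))
(.node 2555 (.leaf 0x0)
(.leaf 0x0)))
(.node 2558 (.node 2557 (.leaf 0x0)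
(.leaf 0x0))
(.node 2559 (.leaf 0x0)
(.leaf 0x0)))))))))

/-- part of a trie -/
def codePart10 : Tr :=
(.node 2688 (.node 2624 (.node 2592 (.node 2576 (.node 2568 (.node 2564 (.node 2562 (.node 2561 (.leaf 0x0)
(.leaf 0x0))
(.node 2563 (.leaf 0x0)
(.leaf 0x0)))
(.node 2566 (.node 2565 (.leaf 0x0)
(.leaf 0x0))
(.node 2567 (.leaf 0x0)
(.leaf 0x0))))
(.node 2572 (.node 2570 (.node 2569 (.leaf 0x0)
(.leaf 0x0))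
(.node 2571 (.leaf 0x0)
(.leaf 0x0)))
(.node 2574 (.node 2573 (.leaf 0x0)
(.leaf 0x0))
(.node 2575 (.leaf 0x0)
(.leaf 0x0)))))
(.node 2584 (.node 2580 (.node 2578 (.node 2577 (.leaf 0x0)
(.leaf 0x0))
(.node 2579 (.leaf 0x0)
(.leaf 0x0)))
(.node 2582 (.node 2581 (.leaf 0x0)
(.leaf 0x0))
(.node 2583 (.leaf 0x0)
(.leaf 0x0))))
(.node 2588 (.node 2586 (.node 2585 (.leaf 0x0)
(.leaf 0x0))
(.node 2587 (.leaf 0x0)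
(.leaf 0x0)))
(.node 2590 (.node 2589 (.leaf 0x0)
(.leaf 0x0))
(.node 2591 (.leaf 0x0)
(.leaf 0x0))))))
(.node 2608 (.node 2600 (.node 2596 (.node 2594 (.node 2593 (.leaf 0x0)
(.leaf 0x0))
(.node 2595 (.leaf 0x0)
(.leaf 0x0)))
(.node 2598 (.node 2597 (.leaf 0x0)
(.leaf 0x0))
(.node 2599 (.leaf 0x0)
(.leaf 0x0))))
(.node 2604 (.node 2602 (.node 2601 (.leaf 0x0)
(.leaf 0x0))
(.node 2603 (.leaf 0x0)
(.leaf 0x0)))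
(.node 2606 (.node 2605 (.leaf 0x0)
(.leaf 0x0))
(.node 2607 (.leaf 0x0)
(.leaf 0x0)))))
(.node 2616 (.node 2612 (.node 2610 (.node 2609 (.leaf 0x0)
(.leaf 0x0))
(.node 2611 (.leaf 0x0)
(.leaf 0x0)))
(.node 2614 (.node 2613 (.leaf 0x0)
(.leaf 0x0))
(.node 2615 (.leaf 0x0)
(.leaf 0x0))))
(.node 2620 (.node 2618 (.node 2617 (.leaf 0x0)
(.leaf 0x0))
(.node 2619 (.leaf 0x0)
(.leaf 0x0)))
(.node 2622 (.node 2621 (.leaf 0x0)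
(.leaf 0x0))
(.node 2623 (.leaf 0x0)
(.leaf 0x0)))))))
(.node 2656 (.node 2640 (.node 2632 (.node 2628 (.node 2626 (.node 2625 (.leaf 0x0)
(.leaf 0x0))
(.node 2627 (.leaf 0x0)
(.leaf 0x0)))
(.node 2630 (.node 2629 (.leaf 0x0)
(.leaf 0x0))
(.node 2631 (.leaf 0x0)
(.leaf 0x0))))
(.node 2636 (.node 2634 (.node 2633 (.leaf 0x0)
(.leaf 0x0))
(.node 2635 (.leaf 0x0)
(.leaf 0x0)))
(.node 2638 (.node 2637 (.leaf 0x0)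
(.leaf 0x0))
(.node 2639 (.leaf 0x0)
(.leaf 0x0)))))
(.node 2648 (.node 2644 (.node 2642 (.node 2641 (.leaf 0x0)
(.leaf 0x0))
(.node 2643 (.leaf 0x0)
(.leaf 0x0)))
(.node 2646 (.node 2645 (.leaf 0x0)
(.leaf 0x0))
(.node 2647 (.leaf 0x0)
(.leaf 0x0))))
(.node 2652 (.node 2650 (.node 2649 (.leaf 0x0)
(.leaf 0x0))
(.node 2651 (.leaf 0x0)
(.leaf 0x0)))
(.node 2654 (.node 2653 (.leaf 0x0)
(.leaf 0x0))
(.node 2655 (.leaf 0x0)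
(.leaf 0x0))))))
(.node 2672 (.node 2664 (.node 2660 (.node 2658 (.node 2657 (.leaf 0x0)
(.leaf 0x0))
(.node 2659 (.leaf 0x0)
(.leaf 0x0)))
(.node 2662 (.node 2661 (.leaf 0x0)
(.leaf 0x0))
(.node 2663 (.leaf 0x0)
(.leaf 0x0))))
(.node 2668 (.node 2666 (.node 2665 (.leaf 0x0)
(.leaf 0x0))
(.node 2667 (.leaf 0x0)
(.leaf 0x0)))
(.node 2670 (.node 2669 (.leaf 0x0)
(.leaf 0x0))
(.node 2671 (.leaf 0x0)
(.leaf 0x0)))))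
(.node 2680 (.node 2676 (.node 2674 (.node 2673 (.leaf 0x0)
(.leaf 0x0))
(.node 2675 (.leaf 0x0)
(.leaf 0x0)))
(.node 2678 (.node 2677 (.leaf 0x0)
(.leaf 0x0))
(.node 2679 (.leaf 0x0)
(.leaf 0x0))))
(.node 2684 (.node 2682 (.node 2681 (.leaf 0x0)
(.leaf 0x0))
(.node 2683 (.leaf 0x0)
(.leaf 0x0)))
(.node 2686 (.node 2685 (.leaf 0x0)
(.leaf 0x0))
(.node 2687 (.leaf 0x0)
(.leaf 0x0))))))))
(.node 2752 (.node 2720 (.node 2704 (.node 2696 (.node 2692 (.node 2690 (.node 2689 (.leaf 0x0)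
(.leaf 0x0))
(.node 2691 (.leaf 0x0)
(.leaf 0x0)))
(.node 2694 (.node 2693 (.leaf 0x0)
(.leaf 0x0))
(.node 2695 (.leaf 0x0)
(.leaf 0x0))))
(.node 2700 (.node 2698 (.node 2697 (.leaf 0x0)
(.leaf 0x0))
(.node 2699 (.leaf 0x0)
(.leaf 0x0)))
(.node 2702 (.node 2701 (.leaf 0x0)
(.leaf 0x0))
(.node 2703 (.leaf 0x0)
(.leaf 0x0)))))
(.node 2712 (.node 2708 (.node 2706 (.node 2705 (.leaf 0x0)
(.leaf 0x0))
(.node 2707 (.leaf 0x0)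
(.leaf 0x0)))
(.node 2710 (.node 2709 (.leaf 0x0)
(.leaf 0x0))
(.node 2711 (.leaf 0x0)
(.leaf 0x0))))
(.node 2716 (.node 2714 (.node 2713 (.leaf 0x0)
(.leaf 0x0))
(.node 2715 (.leaf 0x0)
(.leaf 0x0)))
(.node 2718 (.node 2717 (.leaf 0x0)
(.leaf 0x0))
(.node 2719 (.leaf 0x0)
(.leaf 0x0))))))
(.node 2736 (.node 2728 (.node 2724 (.node 2722 (.node 2721 (.leaf 0x0)
(.leaf 0x0))
(.node 2723 (.leaf 0x0)
(.leaf 0x0)))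
(.node 2726 (.node 2725 (.leaf 0x0)
(.leaf 0x0))
(.node 2727 (.leaf 0x0)
(.leaf 0x0))))
(.node 2732 (.node 2730 (.node 2729 (.leaf 0x0)
(.leaf 0x0))
(.node 2731 (.leaf 0x0)
(.leaf 0x0)))
(.node 2734 (.node 2733 (.leaf 0x0)
(.leaf 0x0))
(.node 2735 (.leaf 0x0)
(.leaf 0x0)))))
(.node 2744 (.node 2740 (.node 2738 (.node 2737 (.leaf 0x0)
(.leaf 0x0))
(.node 2739 (.leaf 0x0)
(.leaf 0x0)))
(.node 2742 (.node 2741 (.leaf 0x0)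
(.leaf 0x0))
(.node 2743 (.leaf 0x0)
(.leaf 0x0))))
(.node 2748 (.node 2746 (.node 2745 (.leaf 0x0)
(.leaf 0x0))
(.node 2747 (.leaf 0x0)
(.leaf 0x0)))
(.node 2750 (.node 2749 (.leaf 0x0)
(.leaf 0x0))
(.node 2751 (.leaf 0x0)
(.leaf 0x0)))))))
(.node 2784 (.node 2768 (.node 2760 (.node 2756 (.node 2754 (.node 2753 (.leaf 0x0)
(.leaf 0x0))
(.node 2755 (.leaf 0x0)
(.leaf 0x0)))
(.node 2758 (.node 2757 (.leaf 0x0)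
(.leaf 0x0))
(.node 2759 (.leaf 0x0)
(.leaf 0x0))))
(.node 2764 (.node 2762 (.node 2761 (.leaf 0x0)
(.leaf 0x0))
(.node 2763 (.leaf 0x0)
(.leaf 0x0)))
(.node 2766 (.node 2765 (.leaf 0x0)
(.leaf 0x0))
(.node 2767 (.leaf 0x0)
(.leaf 0x0)))))
(.node 2776 (.node 2772 (.node 2770 (.node 2769 (.leaf 0x0)
(.leaf 0x0))
(.node 2771 (.leaf 0x0)
(.leaf 0x0)))
(.node 2774 (.node 2773 (.leaf 0x0)
(.leaf 0x0))
(.node 2775 (.leaf 0x0)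
(.leaf 0x0))))
(.node 2780 (.node 2778 (.node 2777 (.leaf 0x0)
(.leaf 0x0))
(.node 2779 (.leaf 0x0)
(.leaf 0x0)))
(.node 2782 (.node 2781 (.leaf 0x0)
(.leaf 0x0))
(.node 2783 (.leaf 0x0)
(.leaf 0x0))))))
(.node 2800 (.node 2792 (.node 2788 (.node 2786 (.node 2785 (.leaf 0x0)
(.leaf 0x0))
(.node 2787 (.leaf 0x0)
(.leaf 0x0)))
(.node 2790 (.node 2789 (.leaf 0x0)
(.leaf 0x0))
(.node 2791 (.leaf 0x0)
(.leaf 0x0))))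
(.node 2796 (.node 2794 (.node 2793 (.leaf 0x0)
(.leaf 0x0))
(.node 2795 (.leaf 0x0)
(.leaf 0x0)))
(.node 2798 (.node 2797 (.leaf 0x0)
(.leaf 0x0))
(.node 2799 (.leaf 0x0)
(.leaf 0x0)))))
(.node 2808 (.node 2804 (.node 2802 (.node 2801 (.leaf 0x0)
(.leaf 0x0))
(.node 2803 (.leaf 0x0)
(.leaf 0x0)))
(.node 2806 (.node 2805 (.leaf 0x0)
(.leaf 0x0))
(.node 2807 (.leaf 0x0)
(.leaf 0x0))))
(.node 2812 (.node 2810 (.node 2809 (.leaf 0x0)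
(.leaf 0x0))
(.node 2811 (.leaf 0x0)
(.leaf 0x0)))
(.node 2814 (.node 2813 (.leaf 0x0)
(.leaf 0x0))
(.node 2815 (.leaf 0x0)
(.leaf 0x0)))))))))

/-- part of a trie -/
def codePart11 : Tr :=
(.node 2944 (.node 2880 (.node 2848 (.node 2832 (.node 2824 (.node 2820 (.node 2818 (.node 2817 (.leaf 0x0)
(.leaf 0x0))
(.node 2819 (.leaf 0x0)
(.leaf 0x0)))
(.node 2822 (.node 2821 (.leaf 0x0)
(.leaf 0x0))
(.node 2823 (.leaf 0x0)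
(.leaf 0x0))))
(.node 2828 (.node 2826 (.node 2825 (.leaf 0x0)
(.leaf 0x0))
(.node 2827 (.leaf 0x0)
(.leaf 0x0)))
(.node 2830 (.node 2829 (.leaf 0x0)
(.leaf 0x0))
(.node 2831 (.leaf 0x0)
(.leaf 0x0)))))
(.node 2840 (.node 2836 (.node 2834 (.node 2833 (.leaf 0x0)
(.leaf 0x0))
(.node 2835 (.leaf 0x0)
(.leaf 0x0)))
(.node 2838 (.node 2837 (.leaf 0x0)
(.leaf 0x0))
(.node 2839 (.leaf 0x0)
(.leaf 0x0))))
(.node 2844 (.node 2842 (.node 2841 (.leaf 0x0)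
(.leaf 0x0))
(.node 2843 (.leaf 0x0)
(.leaf 0x0)))
(.node 2846 (.node 2845 (.leaf 0x0)
(.leaf 0x0))
(.node 2847 (.leaf 0x0)
(.leaf 0x0))))))
(.node 2864 (.node 2856 (.node 2852 (.node 2850 (.node 2849 (.leaf 0x0)
(.leaf 0x0))
(.node 2851 (.leaf 0x0)
(.leaf 0x0)))
(.node 2854 (.node 2853 (.leaf 0x0)
(.leaf 0x0))
(.node 2855 (.leaf 0x0)
(.leaf 0x0))))
(.node 2860 (.node 2858 (.node 2857 (.leaf 0x0)
(.leaf 0x0))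
(.node 2859 (.leaf 0x0)
(.leaf 0x0)))
(.node 2862 (.node 2861 (.leaf 0x0)
(.leaf 0x0))
(.node 2863 (.leaf 0x0)
(.leaf 0x0)))))
(.node 2872 (.node 2868 (.node 2866 (.node 2865 (.leaf 0x0)
(.leaf 0x0))
(.node 2867 (.leaf 0x0)
(.leaf 0x0)))
(.node 2870 (.node 2869 (.leaf 0x0)
(.leaf 0x0))
(.node 2871 (.leaf 0x0)
(.leaf 0x0))))
(.node 2876 (.node 2874 (.node 2873 (.leaf 0x0)
(.leaf 0x0))
(.node 2875 (.leaf 0x0)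
(.leaf 0x0)))
(.node 2878 (.node 2877 (.leaf 0x0)
(.leaf 0x0))
(.node 2879 (.leaf 0x0)
(.leaf 0x0)))))))
(.node 2912 (.node 2896 (.node 2888 (.node 2884 (.node 2882 (.node 2881 (.leaf 0x0)
(.leaf 0x0))
(.node 2883 (.leaf 0x0)
(.leaf 0x0)))
(.node 2886 (.node 2885 (.leaf 0x0)
(.leaf 0x0))
(.node 2887 (.leaf 0x0)
(.leaf 0x0))))
(.node 2892 (.node 2890 (.node 2889 (.leaf 0x0)
(.leaf 0x0))
(.node 2891 (.leaf 0x0)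
(.leaf 0x0)))
(.node 2894 (.node 2893 (.leaf 0x0)
(.leaf 0x0))
(.node 2895 (.leaf 0x0)
(.leaf 0x0)))))
(.node 2904 (.node 2900 (.node 2898 (.node 2897 (.leaf 0x0)
(.leaf 0x0))
(.node 2899 (.leaf 0x0)
(.leaf 0x0)))
(.node 2902 (.node 2901 (.leaf 0x0)
(.leaf 0x0))
(.node 2903 (.leaf 0x0)
(.leaf 0x0))))
(.node 2908 (.node 2906 (.node 2905 (.leaf 0x0)
(.leaf 0x0))
(.node 2907 (.leaf 0x0)
(.leaf 0x0)))
(.node 2910 (.node 2909 (.leaf 0x0)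
(.leaf 0x0))
(.node 2911 (.leaf 0x0)
(.leaf 0x0))))))
(.node 2928 (.node 2920 (.node 2916 (.node 2914 (.node 2913 (.leaf 0x0)
(.leaf 0x0))
(.node 2915 (.leaf 0x0)
(.leaf 0x0)))
(.node 2918 (.node 2917 (.leaf 0x0)
(.leaf 0x0))
(.node 2919 (.leaf 0x0)
(.leaf 0x0))))
(.node 2924 (.node 2922 (.node 2921 (.leaf 0x0)
(.leaf 0x0))
(.node 2923 (.leaf 0x0)
(.leaf 0x0)))
(.node 2926 (.node 2925 (.leaf 0x0)
(.leaf 0x0))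
(.node 2927 (.leaf 0x0)
(.leaf 0x0)))))
(.node 2936 (.node 2932 (.node 2930 (.node 2929 (.leaf 0x0)
(.leaf 0x0))
(.node 2931 (.leaf 0x0)
(.leaf 0x0)))
(.node 2934 (.node 2933 (.leaf 0x0)
(.leaf 0x0))
(.node 2935 (.leaf 0x0)
(.leaf 0x0))))
(.node 2940 (.node 2938 (.node 2937 (.leaf 0x0)
(.leaf 0x0))
(.node 2939 (.leaf 0x0)
(.leaf 0x0)))
(.node 2942 (.node 2941 (.leaf 0x0)
(.leaf 0x0))
(.node 2943 (.leaf 0x0)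
(.leaf 0x0))))))))
(.node 3008 (.node 2976 (.node 2960 (.node 2952 (.node 2948 (.node 2946 (.node 2945 (.leaf 0x0)
(.leaf 0x0))
(.node 2947 (.leaf 0x0)
(.leaf 0x0)))
(.node 2950 (.node 2949 (.leaf 0x0)
(.leaf 0x0))
(.node 2951 (.leaf 0x0)
(.leaf 0x0))))
(.node 2956 (.node 2954 (.node 2953 (.leaf 0x0)
(.leaf 0x0))
(.node 2955 (.leaf 0x0)
(.leaf 0x0)))
(.node 2958 (.node 2957 (.leaf 0x0)
(.leaf 0x0))
(.node 2959 (.leaf 0x0)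
(.leaf 0x0)))))
(.node 2968 (.node 2964 (.node 2962 (.node 2961 (.leaf 0x0)
(.leaf 0x0))
(.node 2963 (.leaf 0x0)
(.leaf 0x0)))
(.node 2966 (.node 2965 (.leaf 0x0)
(.leaf 0x0))
(.node 2967 (.leaf 0x0)
(.leaf 0x0))))
(.node 2972 (.node 2970 (.node 2969 (.leaf 0x0)
(.leaf 0x0))
(.node 2971 (.leaf 0x0)
(.leaf 0x0)))
(.node 2974 (.node 2973 (.leaf 0x0)
(.leaf 0x0))
(.node 2975 (.leaf 0x0)
(.leaf 0x0))))))
(.node 2992 (.node 2984 (.node 2980 (.node 2978 (.node 2977 (.leaf 0x0)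
(.leaf 0x0))
(.node 2979 (.leaf 0x0)
(.leaf 0x0)))
(.node 2982 (.node 2981 (.leaf 0x0)
(.leaf 0x0))
(.node 2983 (.leaf 0x0)
(.leaf 0x0))))
(.node 2988 (.node 2986 (.node 2985 (.leaf 0x0)
(.leaf 0x0))
(.node 2987 (.leaf 0x0)
(.leaf 0x0)))
(.node 2990 (.node 2989 (.leaf 0x0)
(.leaf 0x0))
(.node 2991 (.leaf 0x0)
(.leaf 0x0)))))
(.node 3000 (.node 2996 (.node 2994 (.node 2993 (.leaf 0x0)
(.leaf 0x0))
(.node 2995 (.leaf 0x0)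
(.leaf 0x0)))
(.node 2998 (.node 2997 (.leaf 0x0)
(.leaf 0x0))
(.node 2999 (.leaf 0x0)
(.leaf 0x0))))
(.node 3004 (.node 3002 (.node 3001 (.leaf 0x0)
(.leaf 0x0))
(.node 3003 (.leaf 0x0)
(.leaf 0x0)))
(.node 3006 (.node 3005 (.leaf 0x0)
(.leaf 0x0))
(.node 3007 (.leaf 0x0)
(.leaf 0x0)))))))
(.node 3040 (.node 3024 (.node 3016 (.node 3012 (.node 3010 (.node 3009 (.leaf 0x0)
(.leaf 0x0))
(.node 3011 (.leaf 0x0)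
(.leaf 0x0)))
(.node 3014 (.node 3013 (.leaf 0x0)
(.leaf 0x0))
(.node 3015 (.leaf 0x0)
(.leaf 0x0))))
(.node 3020 (.node 3018 (.node 3017 (.leaf 0x0)
(.leaf 0x0))
(.node 3019 (.leaf 0x0)
(.leaf 0x0)))
(.node 3022 (.node 3021 (.leaf 0x0)
(.leaf 0x0))
(.node 3023 (.leaf 0x0)
(.leaf 0x0)))))
(.node 3032 (.node 3028 (.node 3026 (.node 3025 (.leaf 0x0)
(.leaf 0x0))
(.node 3027 (.leaf 0x0)
(.leaf 0x0)))
(.node 3030 (.node 3029 (.leaf 0x0)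
(.leaf 0x0))
(.node 3031 (.leaf 0x0)
(.leaf 0x0))))
(.node 3036 (.node 3034 (.node 3033 (.leaf 0x0)
(.leaf 0x0))
(.node 3035 (.leaf 0x0)
(.leaf 0x0)))
(.node 3038 (.node 3037 (.leaf 0x0)
(.leaf 0x0))
(.node 3039 (.leaf 0x0)
(.leaf 0x0))))))
(.node 3056 (.node 3048 (.node 3044 (.node 3042 (.node 3041 (.leaf 0x0)
(.leaf 0x0))
(.node 3043 (.leaf 0x0)
(.leaf 0x0)))
(.node 3046 (.node 3045 (.leaf 0x0)
(.leaf 0x0))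
(.node 3047 (.leaf 0x0)
(.leaf 0x0))))
(.node 3052 (.node 3050 (.node 3049 (.leaf 0x0)
(.leaf 0x0))
(.node 3051 (.leaf 0x0)
(.leaf 0x0)))
(.node 3054 (.node 3053 (.leaf 0x0)
(.leaf 0x0))
(.node 3055 (.leaf 0x0)
(.leaf 0x0)))))
(.node 3064 (.node 3060 (.node 3058 (.node 3057 (.leaf 0x0)
(.leaf 0x0))
(.node 3059 (.leaf 0x0)
(.leaf 0x0)))
(.node 3062 (.node 3061 (.leaf 0x0)
(.leaf 0x0))
(.node 3063 (.leaf 0x0)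
(.leaf 0x0))))
(.node 3068 (.node 3066 (.node 3065 (.leaf 0x0)
(.leaf 0x0))
(.node 3067 (.leaf 0x0)
(.leaf 0x0)))
(.node 3070 (.node 3069 (.leaf 0x0)
(.leaf 0x0))
(.node 3071 (.leaf 0x0)
(.leaf 0x0)))))))))

/-- part of a trie -/
def codePart12 : Tr :=
(.node 3200 (.node 3136 (.node 3104 (.node 3088 (.node 3080 (.node 3076 (.node 3074 (.node 3073 (.leaf 0x0)
(.leaf 0x0))
(.node 3075 (.leaf 0x0)
(.leaf 0x0)))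
(.node 3078 (.node 3077 (.leaf 0x0)
(.leaf 0x0))
(.node 3079 (.leaf 0x0)
(.leaf 0x0))))
(.node 3084 (.node 3082 (.node 3081 (.leaf 0x0)
(.leaf 0x0))
(.node 3083 (.leaf 0x0)
(.leaf 0x0)))
(.node 3086 (.node 3085 (.leaf 0x0)
(.leaf 0x0))
(.node 3087 (.leaf 0x0)
(.leaf 0x0)))))
(.node 3096 (.node 3092 (.node 3090 (.node 3089 (.leaf 0x0)
(.leaf 0x0))
(.node 3091 (.leaf 0x0)
(.leaf 0x0)))
(.node 3094 (.node 3093 (.leaf 0x0)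
(.leaf 0x0))
(.node 3095 (.leaf 0x0)
(.leaf 0x0))))
(.node 3100 (.node 3098 (.node 3097 (.leaf 0x0)
(.leaf 0x0))
(.node 3099 (.leaf 0x0)
(.leaf 0x0)))
(.node 3102 (.node 3101 (.leaf 0x0)
(.leaf 0x0))
(.node 3103 (.leaf 0x0)
(.leaf 0x0))))))
(.node 3120 (.node 3112 (.node 3108 (.node 3106 (.node 3105 (.leaf 0x0)
(.leaf 0x0))
(.node 3107 (.leaf 0x0)
(.leaf 0x0)))
(.node 3110 (.node 3109 (.leaf 0x0)
(.leaf 0x0))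
(.node 3111 (.leaf 0x0)
(.leaf 0x0))))
(.node 3116 (.node 3114 (.node 3113 (.leaf 0x0)
(.leaf 0x0))
(.node 3115 (.leaf 0x0)
(.leaf 0x0)))
(.node 3118 (.node 3117 (.leaf 0x0)
(.leaf 0x0))
(.node 3119 (.leaf 0x0)
(.leaf 0x0)))))
(.node 3128 (.node 3124 (.node 3122 (.node 3121 (.leaf 0x0)
(.leaf 0x0))
(.node 3123 (.leaf 0x0)
(.leaf 0x0)))
(.node 3126 (.node 3125 (.leaf 0x0)
(.leaf 0x0))
(.node 3127 (.leaf 0x0)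
(.leaf 0x0))))
(.node 3132 (.node 3130 (.node 3129 (.leaf 0x0)
(.leaf 0x0))
(.node 3131 (.leaf 0x0)
(.leaf 0x0)))
(.node 3134 (.node 3133 (.leaf 0x0)
(.leaf 0x0))
(.node 3135 (.leaf 0x0)
(.leaf 0x0)))))))
(.node 3168 (.node 3152 (.node 3144 (.node 3140 (.node 3138 (.node 3137 (.leaf 0x0)
(.leaf 0x0))
(.node 3139 (.leaf 0x0)
(.leaf 0x0)))
(.node 3142 (.node 3141 (.leaf 0x0)
(.leaf 0x0))
(.node 3143 (.leaf 0x0)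
(.leaf 0x0))))
(.node 3148 (.node 3146 (.node 3145 (.leaf 0x0)
(.leaf 0x0))
(.node 3147 (.leaf 0x0)
(.leaf 0x0)))
(.node 3150 (.node 3149 (.leaf 0x0)
(.leaf 0x0))
(.node 3151 (.leaf 0x0)
(.leaf 0x0)))))
(.node 3160 (.node 3156 (.node 3154 (.node 3153 (.leaf 0x0)
(.leaf 0x0))
(.node 3155 (.leaf 0x0)
(.leaf 0x0)))
(.node 3158 (.node 3157 (.leaf 0x0)
(.leaf 0x0))
(.node 3159 (.leaf 0x0)
(.leaf 0x0))))
(.node 3164 (.node 3162 (.node 3161 (.leaf 0x0)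
(.leaf 0x0))
(.node 3163 (.leaf 0x0)
(.leaf 0x0)))
(.node 3166 (.node 3165 (.leaf 0x0)
(.leaf 0x0))
(.node 3167 (.leaf 0x0)
(.leaf 0x0))))))
(.node 3184 (.node 3176 (.node 3172 (.node 3170 (.node 3169 (.leaf 0x0)
(.leaf 0x0))
(.node 3171 (.leaf 0x0)
(.leaf 0x0)))
(.node 3174 (.node 3173 (.leaf 0x0)
(.leaf 0x0))
(.node 3175 (.leaf 0x0)
(.leaf 0x0))))
(.node 3180 (.node 3178 (.node 3177 (.leaf 0x0)
(.leaf 0x0))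
(.node 3179 (.leaf 0x0)
(.leaf 0x0)))
(.node 3182 (.node 3181 (.leaf 0x0)
(.leaf 0x0))
(.node 3183 (.leaf 0x0)
(.leaf 0x0)))))
(.node 3192 (.node 3188 (.node 3186 (.node 3185 (.leaf 0x0)
(.leaf 0x0))
(.node 3187 (.leaf 0x0)
(.leaf 0x0)))
(.node 3190 (.node 3189 (.leaf 0x0)
(.leaf 0x0))
(.node 3191 (.leaf 0x0)
(.leaf 0x0))))
(.node 3196 (.node 3194 (.node 3193 (.leaf 0x0)
(.leaf 0x0))
(.node 3195 (.leaf 0x0)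
(.leaf 0x0)))
(.node 3198 (.node 3197 (.leaf 0x0)
(.leaf 0x0))
(.node 3199 (.leaf 0x0)
(.leaf 0x0))))))))
(.node 3264 (.node 3232 (.node 3216 (.node 3208 (.node 3204 (.node 3202 (.node 3201 (.leaf 0x0)
(.leaf 0x0))
(.node 3203 (.leaf 0x0)
(.leaf 0x0)))
(.node 3206 (.node 3205 (.leaf 0x0)
(.leaf 0x0))
(.node 3207 (.leaf 0x0)
(.leaf 0x0))))
(.node 3212 (.node 3210 (.node 3209 (.leaf 0x0)
(.leaf 0x0))
(.node 3211 (.leaf 0x0)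
(.leaf 0x0)))
(.node 3214 (.node 3213 (.leaf 0x0)
(.leaf 0x0))
(.node 3215 (.leaf 0x0)
(.leaf 0x0)))))
(.node 3224 (.node 3220 (.node 3218 (.node 3217 (.leaf 0x0)
(.leaf 0x0))
(.node 3219 (.leaf 0x0)
(.leaf 0x0)))
(.node 3222 (.node 3221 (.leaf 0x0)
(.leaf 0x0))
(.node 3223 (.leaf 0x0)
(.leaf 0x0))))
(.node 3228 (.node 3226 (.node 3225 (.leaf 0x0)
(.leaf 0x0))
(.node 3227 (.leaf 0x0)
(.leaf 0x0)))
(.node 3230 (.node 3229 (.leaf 0x0)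
(.leaf 0x0))
(.node 3231 (.leaf 0x0)
(.leaf 0x0))))))
(.node 3248 (.node 3240 (.node 3236 (.node 3234 (.node 3233 (.leaf 0x0)
(.leaf 0x0))
(.node 3235 (.leaf 0x0)
(.leaf 0x0)))
(.node 3238 (.node 3237 (.leaf 0x0)
(.leaf 0x0))
(.node 3239 (.leaf 0x0)
(.leaf 0x0))))
(.node 3244 (.node 3242 (.node 3241 (.leaf 0x0)
(.leaf 0x0))
(.node 3243 (.leaf 0x0)
(.leaf 0x0)))
(.node 3246 (.node 3245 (.leaf 0x0)
(.leaf 0x0))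
(.node 3247 (.leaf 0x0)
(.leaf 0x0)))))
(.node 3256 (.node 3252 (.node 3250 (.node 3249 (.leaf 0x0)
(.leaf 0x0))
(.node 3251 (.leaf 0x0)
(.leaf 0x0)))
(.node 3254 (.node 3253 (.leaf 0x0)
(.leaf 0x0))
(.node 3255 (.leaf 0x0)
(.leaf 0x0))))
(.node 3260 (.node 3258 (.node 3257 (.leaf 0x0)
(.leaf 0x0))
(.node 3259 (.leaf 0x0)
(.leaf 0x0)))
(.node 3262 (.node 3261 (.leaf 0x0)
(.leaf 0x0))
(.node 3263 (.leaf 0x0)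
(.leaf 0x0)))))))
(.node 3296 (.node 3280 (.node 3272 (.node 3268 (.node 3266 (.node 3265 (.leaf 0x0)
(.leaf 0x0))
(.node 3267 (.leaf 0x0)
(.leaf 0x0)))
(.node 3270 (.node 3269 (.leaf 0x0)
(.leaf 0x0))
(.node 3271 (.leaf 0x0)
(.leaf 0x0))))
(.node 3276 (.node 3274 (.node 3273 (.leaf 0x0)
(.leaf 0x0))
(.node 3275 (.leaf 0x0)
(.leaf 0x0)))
(.node 3278 (.node 3277 (.leaf 0x0)
(.leaf 0x0))
(.node 3279 (.leaf 0x0)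
(.leaf 0x0)))))
(.node 3288 (.node 3284 (.node 3282 (.node 3281 (.leaf 0x0)
(.leaf 0x0))
(.node 3283 (.leaf 0x0)
(.leaf 0x0)))
(.node 3286 (.node 3285 (.leaf 0x0)
(.leaf 0x0))
(.node 3287 (.leaf 0x0)
(.leaf 0x0))))
(.node 3292 (.node 3290 (.node 3289 (.leaf 0x0)
(.leaf 0x0))
(.node 3291 (.leaf 0x0)
(.leaf 0x0)))
(.node 3294 (.node 3293 (.leaf 0x0)
(.leaf 0x0))
(.node 3295 (.leaf 0x0)
(.leaf 0x0))))))
(.node 3312 (.node 3304 (.node 3300 (.node 3298 (.node 3297 (.leaf 0x0)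
(.leaf 0x0))
(.node 3299 (.leaf 0x0)
(.leaf 0x0)))
(.node 3302 (.node 3301 (.leaf 0x0)
(.leaf 0x0))
(.node 3303 (.leaf 0x0)
(.leaf 0x0))))
(.node 3308 (.node 3306 (.node 3305 (.leaf 0x0)
(.leaf 0x0))
(.node 3307 (.leaf 0x0)
(.leaf 0x0)))
(.node 3310 (.node 3309 (.leaf 0x0)
(.leaf 0x0))
(.node 3311 (.leaf 0x0)
(.leaf 0x0)))))
(.node 3320 (.node 3316 (.node 3314 (.node 3313 (.leaf 0x0)
(.leaf 0x0))
(.node 3315 (.leaf 0x0)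
(.leaf 0x0)))
(.node 3318 (.node 3317 (.leaf 0x0)
(.leaf 0x0))
(.node 3319 (.leaf 0x0)
(.leaf 0x0))))
(.node 3324 (.node 3322 (.node 3321 (.leaf 0x0)
(.leaf 0x0))
(.node 3323 (.leaf 0x0)
(.leaf 0x0)))
(.node 3326 (.node 3325 (.leaf 0x0)
(.leaf 0x0))
(.node 3327 (.leaf 0x0)
(.leaf 0x0)))))))))

/-- part of a trie -/
def codePart13 : Tr :=
(.node 3456 (.node 3392 (.node 3360 (.node 3344 (.node 3336 (.node 3332 (.node 3330 (.node 3329 (.leaf 0x0)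
(.leaf 0x0))
(.node 3331 (.leaf 0x0)
(.leaf 0x0)))
(.node 3334 (.node 3333 (.leaf 0x0)
(.leaf 0x0))
(.node 3335 (.leaf 0x0)
(.leaf 0x0))))
(.node 3340 (.node 3338 (.node 3337 (.leaf 0x0)
(.leaf 0x0))
(.node 3339 (.leaf 0x0)
(.leaf 0x0)))
(.node 3342 (.node 3341 (.leaf 0x0)
(.leaf 0x0))
(.node 3343 (.leaf 0x0)
(.leaf 0x0)))))
(.node 3352 (.node 3348 (.node 3346 (.node 3345 (.leaf 0x0)
(.leaf 0x0))
(.node 3347 (.leaf 0x0)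
(.leaf 0x0)))
(.node 3350 (.node 3349 (.leaf 0x0)
(.leaf 0x0))
(.node 3351 (.leaf 0x0)
(.leaf 0x0))))
(.node 3356 (.node 3354 (.node 3353 (.leaf 0x0)
(.leaf 0x0))
(.node 3355 (.leaf 0x0)
(.leaf 0x0)))
(.node 3358 (.node 3357 (.leaf 0x0)
(.leaf 0x0))
(.node 3359 (.leaf 0x0)
(.leaf 0x0))))))
(.node 3376 (.node 3368 (.node 3364 (.node 3362 (.node 3361 (.leaf 0x0)
(.leaf 0x0))
(.node 3363 (.leaf 0x0)
(.leaf 0x0)))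
(.node 3366 (.node 3365 (.leaf 0x0)
(.leaf 0x0))
(.node 3367 (.leaf 0x0)
(.leaf 0x0))))
(.node 3372 (.node 3370 (.node 3369 (.leaf 0x0)
(.leaf 0x0))
(.node 3371 (.leaf 0x0)
(.leaf 0x0)))
(.node 3374 (.node 3373 (.leaf 0x0)
(.leaf 0x0))
(.node 3375 (.leaf 0x0)
(.leaf 0x0)))))
(.node 3384 (.node 3380 (.node 3378 (.node 3377 (.leaf 0x0)
(.leaf 0x0))
(.node 3379 (.leaf 0x0)
(.leaf 0x0)))
(.node 3382 (.node 3381 (.leaf 0x0)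
(.leaf 0x0))
(.node 3383 (.leaf 0x0)
(.leaf 0x0))))
(.node 3388 (.node 3386 (.node 3385 (.leaf 0x0)
(.leaf 0x0))
(.node 3387 (.leaf 0x0)
(.leaf 0x0)))
(.node 3390 (.node 3389 (.leaf 0x0)
(.leaf 0x0))
(.node 3391 (.leaf 0x0)
(.leaf 0x0)))))))
(.node 3424 (.node 3408 (.node 3400 (.node 3396 (.node 3394 (.node 3393 (.leaf 0x0)
(.leaf 0x0))
(.node 3395 (.leaf 0x0)
(.leaf 0x0)))
(.node 3398 (.node 3397 (.leaf 0x0)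
(.leaf 0x0))
(.node 3399 (.leaf 0x0)
(.leaf 0x0))))
(.node 3404 (.node 3402 (.node 3401 (.leaf 0x0)
(.leaf 0x0))
(.node 3403 (.leaf 0x0)
(.leaf 0x0)))
(.node 3406 (.node 3405 (.leaf 0x0)
(.leaf 0x0))
(.node 3407 (.leaf 0x0)
(.leaf 0x0)))))
(.node 3416 (.node 3412 (.node 3410 (.node 3409 (.leaf 0x0)
(.leaf 0x0))
(.node 3411 (.leaf 0x0)
(.leaf 0x0)))
(.node 3414 (.node 3413 (.leaf 0x0)
(.leaf 0x0))
(.node 3415 (.leaf 0x0)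
(.leaf 0x0))))
(.node 3420 (.node 3418 (.node 3417 (.leaf 0x0)
(.leaf 0x0))
(.node 3419 (.leaf 0x0)
(.leaf 0x0)))
(.node 3422 (.node 3421 (.leaf 0x0)
(.leaf 0x0))
(.node 3423 (.leaf 0x0)
(.leaf 0x0))))))
(.node 3440 (.node 3432 (.node 3428 (.node 3426 (.node 3425 (.leaf 0x0)
(.leaf 0x0))
(.node 3427 (.leaf 0x0)
(.leaf 0x0)))
(.node 3430 (.node 3429 (.leaf 0x0)
(.leaf 0x0))
(.node 3431 (.leaf 0x0)
(.leaf 0x0))))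
(.node 3436 (.node 3434 (.node 3433 (.leaf 0x0)
(.leaf 0x0))
(.node 3435 (.leaf 0x0)
(.leaf 0x0)))
(.node 3438 (.node 3437 (.leaf 0x0)
(.leaf 0x0))
(.node 3439 (.leaf 0x0)
(.leaf 0x0)))))
(.node 3448 (.node 3444 (.node 3442 (.node 3441 (.leaf 0x0)
(.leaf 0x0))
(.node 3443 (.leaf 0x0)
(.leaf 0x0)))
(.node 3446 (.node 3445 (.leaf 0x0)
(.leaf 0x0))
(.node 3447 (.leaf 0x0)
(.leaf 0x0))))
(.node 3452 (.node 3450 (.node 3449 (.leaf 0x0)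
(.leaf 0x0))
(.node 3451 (.leaf 0x0)
(.leaf 0x0)))
(.node 3454 (.node 3453 (.leaf 0x0)
(.leaf 0x0))
(.node 3455 (.leaf 0x0)
(.leaf 0x0))))))))
(.node 3520 (.node 3488 (.node 3472 (.node 3464 (.node 3460 (.node 3458 (.node 3457 (.leaf 0x0)
(.leaf 0x0))
(.node 3459 (.leaf 0x0)
(.leaf 0x0)))
(.node 3462 (.node 3461 (.leaf 0x0)
(.leaf 0x0))
(.node 3463 (.leaf 0x0)
(.leaf 0x0))))
(.node 3468 (.node 3466 (.node 3465 (.leaf 0x0)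
(.leaf 0x0))
(.node 3467 (.leaf 0x0)
(.leaf 0x0)))
(.node 3470 (.node 3469 (.leaf 0x0)
(.leaf 0x0))
(.node 3471 (.leaf 0x0)
(.leaf 0x0)))))
(.node 3480 (.node 3476 (.node 3474 (.node 3473 (.leaf 0x0)
(.leaf 0x0))
(.node 3475 (.leaf 0x0)
(.leaf 0x0)))
(.node 3478 (.node 3477 (.leaf 0x0)
(.leaf 0x0))
(.node 3479 (.leaf 0x0)
(.leaf 0x0))))
(.node 3484 (.node 3482 (.node 3481 (.leaf 0x0)
(.leaf 0x0))
(.node 3483 (.leaf 0x0)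
(.leaf 0x0)))
(.node 3486 (.node 3485 (.leaf 0x0)
(.leaf 0x0))
(.node 3487 (.leaf 0x0)
(.leaf 0x0))))))
(.node 3504 (.node 3496 (.node 3492 (.node 3490 (.node 3489 (.leaf 0x0)
(.leaf 0x0))
(.node 3491 (.leaf 0x0)
(.leaf 0x0)))
(.node 3494 (.node 3493 (.leaf 0x0)
(.leaf 0x0))
(.node 3495 (.leaf 0x0)
(.leaf 0x0))))
(.node 3500 (.node 3498 (.node 3497 (.leaf 0x0)
(.leaf 0x0))
(.node 3499 (.leaf 0x0)
(.leaf 0x0)))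
(.node 3502 (.node 3501 (.leaf 0x0)
(.leaf 0x0))
(.node 3503 (.leaf 0x0)
(.leaf 0x0)))))
(.node 3512 (.node 3508 (.node 3506 (.node 3505 (.leaf 0x0)
(.leaf 0x0))
(.node 3507 (.leaf 0x0)
(.leaf 0x0)))
(.node 3510 (.node 3509 (.leaf 0x0)
(.leaf 0x0))
(.node 3511 (.leaf 0x0)
(.leaf 0x0))))
(.node 3516 (.node 3514 (.node 3513 (.leaf 0x0)
(.leaf 0x0))
(.node 3515 (.leaf 0x0)
(.leaf 0x0)))
(.node 3518 (.node 3517 (.leaf 0x0)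
(.leaf 0x0))
(.node 3519 (.leaf 0x0)
(.leaf 0x0)))))))
(.node 3552 (.node 3536 (.node 3528 (.node 3524 (.node 3522 (.node 3521 (.leaf 0x0)
(.leaf 0x0))
(.node 3523 (.leaf 0x0)
(.leaf 0x0)))
(.node 3526 (.node 3525 (.leaf 0x0)
(.leaf 0x0))
(.node 3527 (.leaf 0x0)
(.leaf 0x0))))
(.node 3532 (.node 3530 (.node 3529 (.leaf 0x0)
(.leaf 0x0))
(.node 3531 (.leaf 0x0)
(.leaf 0x0)))
(.node 3534 (.node 3533 (.leaf 0x0)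
(.leaf 0x0))
(.node 3535 (.leaf 0x0)
(.leaf 0x0)))))
(.node 3544 (.node 3540 (.node 3538 (.node 3537 (.leaf 0x0)
(.leaf 0x0))
(.node 3539 (.leaf 0x0)
(.leaf 0x0)))
(.node 3542 (.node 3541 (.leaf 0x0)
(.leaf 0x0))
(.node 3543 (.leaf 0x0)
(.leaf 0x0))))
(.node 3548 (.node 3546 (.node 3545 (.leaf 0x0)
(.leaf 0x0))
(.node 3547 (.leaf 0x0)
(.leaf 0x0)))
(.node 3550 (.node 3549 (.leaf 0x0)
(.leaf 0x0))
(.node 3551 (.leaf 0x0)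
(.leaf 0x0))))))
(.node 3568 (.node 3560 (.node 3556 (.node 3554 (.node 3553 (.leaf 0x0)
(.leaf 0x0))
(.node 3555 (.leaf 0x0)
(.leaf 0x0)))
(.node 3558 (.node 3557 (.leaf 0x0)
(.leaf 0x0))
(.node 3559 (.leaf 0x0)
(.leaf 0x0))))
(.node 3564 (.node 3562 (.node 3561 (.leaf 0x0)
(.leaf 0x0))
(.node 3563 (.leaf 0x0)
(.leaf 0x0)))
(.node 3566 (.node 3565 (.leaf 0x0)
(.leaf 0x0))
(.node 3567 (.leaf 0x0)
(.leaf 0x0)))))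
(.node 3576 (.node 3572 (.node 3570 (.node 3569 (.leaf 0x0)
(.leaf 0x0))
(.node 3571 (.leaf 0x0)
(.leaf 0x0)))
(.node 3574 (.node 3573 (.leaf 0x0)
(.leaf 0x0))
(.node 3575 (.leaf 0x0)
(.leaf 0x0))))
(.node 3580 (.node 3578 (.node 3577 (.leaf 0x0)
(.leaf 0x0))
(.node 3579 (.leaf 0x0)
(.leaf 0x0)))
(.node 3582 (.node 3581 (.leaf 0x0)
(.leaf 0x0))
(.node 3583 (.leaf 0x0)
(.leaf 0x0)))))))))

/-- part of a trie -/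
def codePart14 : Tr :=
(.node 3712 (.node 3648 (.node 3616 (.node 3600 (.node 3592 (.node 3588 (.node 3586 (.node 3585 (.leaf 0x0)
(.leaf 0x0))
(.node 3587 (.leaf 0x0)
(.leaf 0x0)))
(.node 3590 (.node 3589 (.leaf 0x0)
(.leaf 0x0))
(.node 3591 (.leaf 0x0)
(.leaf 0x0))))
(.node 3596 (.node 3594 (.node 3593 (.leaf 0x0)
(.leaf 0x0))
(.node 3595 (.leaf 0x0)
(.leaf 0x0)))
(.node 3598 (.node 3597 (.leaf 0x0)
(.leaf 0x0))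
(.node 3599 (.leaf 0x0)
(.leaf 0x0)))))
(.node 3608 (.node 3604 (.node 3602 (.node 3601 (.leaf 0x0)
(.leaf 0x0))
(.node 3603 (.leaf 0x0)
(.leaf 0x0)))
(.node 3606 (.node 3605 (.leaf 0x0)
(.leaf 0x0))
(.node 3607 (.leaf 0x0)
(.leaf 0x0))))
(.node 3612 (.node 3610 (.node 3609 (.leaf 0x0)
(.leaf 0x0))
(.node 3611 (.leaf 0x0)
(.leaf 0x0)))
(.node 3614 (.node 3613 (.leaf 0x0)
(.leaf 0x0))
(.node 3615 (.leaf 0x0)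
(.leaf 0x0))))))
(.node 3632 (.node 3624 (.node 3620 (.node 3618 (.node 3617 (.leaf 0x0)
(.leaf 0x0))
(.node 3619 (.leaf 0x0)
(.leaf 0x0)))
(.node 3622 (.node 3621 (.leaf 0x0)
(.leaf 0x0))
(.node 3623 (.leaf 0x0)
(.leaf 0x0))))
(.node 3628 (.node 3626 (.node 3625 (.leaf 0x0)
(.leaf 0x0))
(.node 3627 (.leaf 0x0)
(.leaf 0x0)))
(.node 3630 (.node 3629 (.leaf 0x0)
(.leaf 0x0))
(.node 3631 (.leaf 0x0)
(.leaf 0x0)))))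
(.node 3640 (.node 3636 (.node 3634 (.node 3633 (.leaf 0x0)
(.leaf 0x0))
(.node 3635 (.leaf 0x0)
(.leaf 0x0)))
(.node 3638 (.node 3637 (.leaf 0x0)
(.leaf 0x0))
(.node 3639 (.leaf 0x0)
(.leaf 0x0))))
(.node 3644 (.node 3642 (.node 3641 (.leaf 0x0)
(.leaf 0x0))
(.node 3643 (.leaf 0x0)
(.leaf 0x0)))
(.node 3646 (.node 3645 (.leaf 0x0)
(.leaf 0x0))
(.node 3647 (.leaf 0x0)
(.leaf 0x0)))))))
(.node 3680 (.node 3664 (.node 3656 (.node 3652 (.node 3650 (.node 3649 (.leaf 0x0)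
(.leaf 0x0))
(.node 3651 (.leaf 0x0)
(.leaf 0x0)))
(.node 3654 (.node 3653 (.leaf 0x0)
(.leaf 0x0))
(.node 3655 (.leaf 0x0)
(.leaf 0x0))))
(.node 3660 (.node 3658 (.node 3657 (.leaf 0x0)
(.leaf 0x0))
(.node 3659 (.leaf 0x0)
(.leaf 0x0)))
(.node 3662 (.node 3661 (.leaf 0x0)
(.leaf 0x0))
(.node 3663 (.leaf 0x0)
(.leaf 0x0)))))
(.node 3672 (.node 3668 (.node 3666 (.node 3665 (.leaf 0x0)
(.leaf 0x0))
(.node 3667 (.leaf 0x0)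
(.leaf 0x0)))
(.node 3670 (.node 3669 (.leaf 0x0)
(.leaf 0x0))
(.node 3671 (.leaf 0x0)
(.leaf 0x0))))
(.node 3676 (.node 3674 (.node 3673 (.leaf 0x0)
(.leaf 0x0))
(.node 3675 (.leaf 0x0)
(.leaf 0x0)))
(.node 3678 (.node 3677 (.leaf 0x0)
(.leaf 0x0))
(.node 3679 (.leaf 0x0)
(.leaf 0x0))))))
(.node 3696 (.node 3688 (.node 3684 (.node 3682 (.node 3681 (.leaf 0x0)
(.leaf 0x0))
(.node 3683 (.leaf 0x0)
(.leaf 0x0)))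
(.node 3686 (.node 3685 (.leaf 0x0)
(.leaf 0x0))
(.node 3687 (.leaf 0x0)
(.leaf 0x0))))
(.node 3692 (.node 3690 (.node 3689 (.leaf 0x0)
(.leaf 0x0))
(.node 3691 (.leaf 0x0)
(.leaf 0x0)))
(.node 3694 (.node 3693 (.leaf 0x0)
(.leaf 0x0))
(.node 3695 (.leaf 0x0)
(.leaf 0x0)))))
(.node 3704 (.node 3700 (.node 3698 (.node 3697 (.leaf 0x0)
(.leaf 0x0))
(.node 3699 (.leaf 0x0)
(.leaf 0x0)))
(.node 3702 (.node 3701 (.leaf 0x0)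
(.leaf 0x0))
(.node 3703 (.leaf 0x0)
(.leaf 0x0))))
(.node 3708 (.node 3706 (.node 3705 (.leaf 0x0)
(.leaf 0x0))
(.node 3707 (.leaf 0x0)
(.leaf 0x0)))
(.node 3710 (.node 3709 (.leaf 0x0)
(.leaf 0x0))
(.node 3711 (.leaf 0x0)
(.leaf 0x0))))))))
(.node 3776 (.node 3744 (.node 3728 (.node 3720 (.node 3716 (.node 3714 (.node 3713 (.leaf 0x0)
(.leaf 0x0))
(.node 3715 (.leaf 0x0)
(.leaf 0x0)))
(.node 3718 (.node 3717 (.leaf 0x0)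
(.leaf 0x0))
(.node 3719 (.leaf 0x0)
(.leaf 0x0))))
(.node 3724 (.node 3722 (.node 3721 (.leaf 0x0)
(.leaf 0x0))
(.node 3723 (.leaf 0x0)
(.leaf 0x0)))
(.node 3726 (.node 3725 (.leaf 0x0)
(.leaf 0x0))
(.node 3727 (.leaf 0x0)
(.leaf 0x0)))))
(.node 3736 (.node 3732 (.node 3730 (.node 3729 (.leaf 0x0)
(.leaf 0x0))
(.node 3731 (.leaf 0x0)
(.leaf 0x0)))
(.node 3734 (.node 3733 (.leaf 0x0)
(.leaf 0x0))
(.node 3735 (.leaf 0x0)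
(.leaf 0x0))))
(.node 3740 (.node 3738 (.node 3737 (.leaf 0x0)
(.leaf 0x0))
(.node 3739 (.leaf 0x0)
(.leaf 0x0)))
(.node 3742 (.node 3741 (.leaf 0x0)
(.leaf 0x0))
(.node 3743 (.leaf 0x0)
(.leaf 0x0))))))
(.node 3760 (.node 3752 (.node 3748 (.node 3746 (.node 3745 (.leaf 0x0)
(.leaf 0x0))
(.node 3747 (.leaf 0x0)
(.leaf 0x0)))
(.node 3750 (.node 3749 (.leaf 0x0)
(.leaf 0x0))
(.node 3751 (.leaf 0x0)
(.leaf 0x0))))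
(.node 3756 (.node 3754 (.node 3753 (.leaf 0x0)
(.leaf 0x0))
(.node 3755 (.leaf 0x0)
(.leaf 0x0)))
(.node 3758 (.node 3757 (.leaf 0x0)
(.leaf 0x0))
(.node 3759 (.leaf 0x0)
(.leaf 0x0)))))
(.node 3768 (.node 3764 (.node 3762 (.node 3761 (.leaf 0x0)
(.leaf 0x0))
(.node 3763 (.leaf 0x0)
(.leaf 0x0)))
(.node 3766 (.node 3765 (.leaf 0x0)
(.leaf 0x0))
(.node 3767 (.leaf 0x0)
(.leaf 0x0))))
(.node 3772 (.node 3770 (.node 3769 (.leaf 0x0)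
(.leaf 0x0))
(.node 3771 (.leaf 0x0)
(.leaf 0x0)))
(.node 3774 (.node 3773 (.leaf 0x0)
(.leaf 0x0))
(.node 3775 (.leaf 0x0)
(.leaf 0x0)))))))
(.node 3808 (.node 3792 (.node 3784 (.node 3780 (.node 3778 (.node 3777 (.leaf 0x0)
(.leaf 0x0))
(.node 3779 (.leaf 0x0)
(.leaf 0x0)))
(.node 3782 (.node 3781 (.leaf 0x0)
(.leaf 0x0))
(.node 3783 (.leaf 0x0)
(.leaf 0x0))))
(.node 3788 (.node 3786 (.node 3785 (.leaf 0x0)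
(.leaf 0x0))
(.node 3787 (.leaf 0x0)
(.leaf 0x0)))
(.node 3790 (.node 3789 (.leaf 0x0)
(.leaf 0x0))
(.node 3791 (.leaf 0x0)
(.leaf 0x0)))))
(.node 3800 (.node 3796 (.node 3794 (.node 3793 (.leaf 0x0)
(.leaf 0x0))
(.node 3795 (.leaf 0x0)
(.leaf 0x0)))
(.node 3798 (.node 3797 (.leaf 0x0)
(.leaf 0x0))
(.node 3799 (.leaf 0x0)
(.leaf 0x0))))
(.node 3804 (.node 3802 (.node 3801 (.leaf 0x0)
(.leaf 0x0))
(.node 3803 (.leaf 0x0)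
(.leaf 0x0)))
(.node 3806 (.node 3805 (.leaf 0x0)
(.leaf 0x0))
(.node 3807 (.leaf 0x0)
(.leaf 0x0))))))
(.node 3824 (.node 3816 (.node 3812 (.node 3810 (.node 3809 (.leaf 0x0)
(.leaf 0x0))
(.node 3811 (.leaf 0x0)
(.leaf 0x0)))
(.node 3814 (.node 3813 (.leaf 0x0)
(.leaf 0x0))
(.node 3815 (.leaf 0x0)
(.leaf 0x0))))
(.node 3820 (.node 3818 (.node 3817 (.leaf 0x0)
(.leaf 0x0))
(.node 3819 (.leaf 0x0)
(.leaf 0x0)))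
(.node 3822 (.node 3821 (.leaf 0x0)
(.leaf 0x0))
(.node 3823 (.leaf 0x0)
(.leaf 0x0)))))
(.node 3832 (.node 3828 (.node 3826 (.node 3825 (.leaf 0x0)
(.leaf 0x0))
(.node 3827 (.leaf 0x0)
(.leaf 0x0)))
(.node 3830 (.node 3829 (.leaf 0x0)
(.leaf 0x0))
(.node 3831 (.leaf 0x0)
(.leaf 0x0))))
(.node 3836 (.node 3834 (.node 3833 (.leaf 0x0)
(.leaf 0x0))
(.node 3835 (.leaf 0x0)
(.leaf 0x0)))
(.node 3838 (.node 3837 (.leaf 0x0)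
(.leaf 0x0))
(.node 3839 (.leaf 0x0)
(.leaf 0x0)))))))))

/-- part of a trie -/
def codePart15 : Tr :=
(.node 3968 (.node 3904 (.node 3872 (.node 3856 (.node 3848 (.node 3844 (.node 3842 (.node 3841 (.leaf 0x0)
(.leaf 0x0))
(.node 3843 (.leaf 0x0)
(.leaf 0x0)))
(.node 3846 (.node 3845 (.leaf 0x0)
(.leaf 0x0))
(.node 3847 (.leaf 0x0)
(.leaf 0x0))))
(.node 3852 (.node 3850 (.node 3849 (.leaf 0x0)
(.leaf 0x0))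
(.node 3851 (.leaf 0x0)
(.leaf 0x0)))
(.node 3854 (.node 3853 (.leaf 0x0)
(.leaf 0x0))
(.node 3855 (.leaf 0x0)
(.leaf 0x0)))))
(.node 3864 (.node 3860 (.node 3858 (.node 3857 (.leaf 0x0)
(.leaf 0x0))
(.node 3859 (.leaf 0x0)
(.leaf 0x0)))
(.node 3862 (.node 3861 (.leaf 0x0)
(.leaf 0x0))
(.node 3863 (.leaf 0x0)
(.leaf 0x0))))
(.node 3868 (.node 3866 (.node 3865 (.leaf 0x0)
(.leaf 0x0))
(.node 3867 (.leaf 0x0)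
(.leaf 0x0)))
(.node 3870 (.node 3869 (.leaf 0x0)
(.leaf 0x0))
(.node 3871 (.leaf 0x0)
(.leaf 0x0))))))
(.node 3888 (.node 3880 (.node 3876 (.node 3874 (.node 3873 (.leaf 0x0)
(.leaf 0x0))
(.node 3875 (.leaf 0x0)
(.leaf 0x0)))
(.node 3878 (.node 3877 (.leaf 0x0)
(.leaf 0x0))
(.node 3879 (.leaf 0x0)
(.leaf 0x0))))
(.node 3884 (.node 3882 (.node 3881 (.leaf 0x0)
(.leaf 0x0))
(.node 3883 (.leaf 0x0)
(.leaf 0x0)))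
(.node 3886 (.node 3885 (.leaf 0x0)
(.leaf 0x0))
(.node 3887 (.leaf 0x0)
(.leaf 0x0)))))
(.node 3896 (.node 3892 (.node 3890 (.node 3889 (.leaf 0x0)
(.leaf 0x0))
(.node 3891 (.leaf 0x0)
(.leaf 0x0)))
(.node 3894 (.node 3893 (.leaf 0x0)
(.leaf 0x0))
(.node 3895 (.leaf 0x0)
(.leaf 0x0))))
(.node 3900 (.node 3898 (.node 3897 (.leaf 0x0)
(.leaf 0x0))
(.node 3899 (.leaf 0x0)
(.leaf 0x0)))
(.node 3902 (.node 3901 (.leaf 0x0)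
(.leaf 0x0))
(.node 3903 (.leaf 0x0)
(.leaf 0x0)))))))
(.node 3936 (.node 3920 (.node 3912 (.node 3908 (.node 3906 (.node 3905 (.leaf 0x0)
(.leaf 0x0))
(.node 3907 (.leaf 0x0)
(.leaf 0x0)))
(.node 3910 (.node 3909 (.leaf 0x0)
(.leaf 0x0))
(.node 3911 (.leaf 0x0)
(.leaf 0x0))))
(.node 3916 (.node 3914 (.node 3913 (.leaf 0x0)
(.leaf 0x0))
(.node 3915 (.leaf 0x0)
(.leaf 0x0)))
(.node 3918 (.node 3917 (.leaf 0x0)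
(.leaf 0x0))
(.node 3919 (.leaf 0x0)
(.leaf 0x0)))))
(.node 3928 (.node 3924 (.node 3922 (.node 3921 (.leaf 0x0)
(.leaf 0x0))
(.node 3923 (.leaf 0x0)
(.leaf 0x0)))
(.node 3926 (.node 3925 (.leaf 0x0)
(.leaf 0x0))
(.node 3927 (.leaf 0x0)
(.leaf 0x0))))
(.node 3932 (.node 3930 (.node 3929 (.leaf 0x0)
(.leaf 0x0))
(.node 3931 (.leaf 0x0)
(.leaf 0x0)))
(.node 3934 (.node 3933 (.leaf 0x0)
(.leaf 0x0))
(.node 3935 (.leaf 0x0)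
(.leaf 0x0))))))
(.node 3952 (.node 3944 (.node 3940 (.node 3938 (.node 3937 (.leaf 0x0)
(.leaf 0x0))
(.node 3939 (.leaf 0x0)
(.leaf 0x0)))
(.node 3942 (.node 3941 (.leaf 0x0)
(.leaf 0x0))
(.node 3943 (.leaf 0x0)
(.leaf 0x0))))
(.node 3948 (.node 3946 (.node 3945 (.leaf 0x0)
(.leaf 0x0))
(.node 3947 (.leaf 0x0)
(.leaf 0x0)))
(.node 3950 (.node 3949 (.leaf 0x0)
(.leaf 0x0))
(.node 3951 (.leaf 0x0)
(.leaf 0x0)))))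
(.node 3960 (.node 3956 (.node 3954 (.node 3953 (.leaf 0x0)
(.leaf 0x0))
(.node 3955 (.leaf 0x0)
(.leaf 0x0)))
(.node 3958 (.node 3957 (.leaf 0x0)
(.leaf 0x0))
(.node 3959 (.leaf 0x0)
(.leaf 0x0))))
(.node 3964 (.node 3962 (.node 3961 (.leaf 0x0)
(.leaf 0x0))
(.node 3963 (.leaf 0x0)
(.leaf 0x0)))
(.node 3966 (.node 3965 (.leaf 0x0)
(.leaf 0x0))
(.node 3967 (.leaf 0x0)
(.leaf 0x0))))))))
(.node 4032 (.node 4000 (.node 3984 (.node 3976 (.node 3972 (.node 3970 (.node 3969 (.leaf 0x0)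
(.leaf 0x0))
(.node 3971 (.leaf 0x0)
(.leaf 0x0)))
(.node 3974 (.node 3973 (.leaf 0x0)
(.leaf 0x0))
(.node 3975 (.leaf 0x0)
(.leaf 0x0))))
(.node 3980 (.node 3978 (.node 3977 (.leaf 0x0)
(.leaf 0x0))
(.node 3979 (.leaf 0x0)
(.leaf 0x0)))
(.node 3982 (.node 3981 (.leaf 0x0)
(.leaf 0x0))
(.node 3983 (.leaf 0x0)
(.leaf 0x0)))))
(.node 3992 (.node 3988 (.node 3986 (.node 3985 (.leaf 0x0)
(.leaf 0x0))
(.node 3987 (.leaf 0x0)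
(.leaf 0x0)))
(.node 3990 (.node 3989 (.leaf 0x0)
(.leaf 0x0))
(.node 3991 (.leaf 0x0)
(.leaf 0x0))))
(.node 3996 (.node 3994 (.node 3993 (.leaf 0x0)
(.leaf 0x0))
(.node 3995 (.leaf 0x0)
(.leaf 0x0)))
(.node 3998 (.node 3997 (.leaf 0x0)
(.leaf 0x0))
(.node 3999 (.leaf 0x0)
(.leaf 0x0))))))
(.node 4016 (.node 4008 (.node 4004 (.node 4002 (.node 4001 (.leaf 0x0)
(.leaf 0x0))
(.node 4003 (.leaf 0x0)
(.leaf 0x0)))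
(.node 4006 (.node 4005 (.leaf 0x0)
(.leaf 0x0))
(.node 4007 (.leaf 0x0)
(.leaf 0x0))))
(.node 4012 (.node 4010 (.node 4009 (.leaf 0x0)
(.leaf 0x0))
(.node 4011 (.leaf 0x0)
(.leaf 0x0)))
(.node 4014 (.node 4013 (.leaf 0x0)
(.leaf 0x0))
(.node 4015 (.leaf 0x0)
(.leaf 0x0)))))
(.node 4024 (.node 4020 (.node 4018 (.node 4017 (.leaf 0x0)
(.leaf 0x0))
(.node 4019 (.leaf 0x0)
(.leaf 0x0)))
(.node 4022 (.node 4021 (.leaf 0x0)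
(.leaf 0x0))
(.node 4023 (.leaf 0x0)
(.leaf 0x0))))
(.node 4028 (.node 4026 (.node 4025 (.leaf 0x0)
(.leaf 0x0))
(.node 4027 (.leaf 0x0)
(.leaf 0x0)))
(.node 4030 (.node 4029 (.leaf 0x0)
(.leaf 0x0))
(.node 4031 (.leaf 0x0)
(.leaf 0x0)))))))
(.node 4064 (.node 4048 (.node 4040 (.node 4036 (.node 4034 (.node 4033 (.leaf 0x0)
(.leaf 0x0))
(.node 4035 (.leaf 0x0)
(.leaf 0x0)))
(.node 4038 (.node 4037 (.leaf 0x0)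
(.leaf 0x0))
(.node 4039 (.leaf 0x0)
(.leaf 0x0))))
(.node 4044 (.node 4042 (.node 4041 (.leaf 0x0)
(.leaf 0x0))
(.node 4043 (.leaf 0x0)
(.leaf 0x0)))
(.node 4046 (.node 4045 (.leaf 0x0)
(.leaf 0x0))
(.node 4047 (.leaf 0x0)
(.leaf 0x0)))))
(.node 4056 (.node 4052 (.node 4050 (.node 4049 (.leaf 0x0)
(.leaf 0x0))
(.node 4051 (.leaf 0x0)
(.leaf 0x0)))
(.node 4054 (.node 4053 (.leaf 0x0)
(.leaf 0x0))
(.node 4055 (.leaf 0x0)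
(.leaf 0x0))))
(.node 4060 (.node 4058 (.node 4057 (.leaf 0x0)
(.leaf 0x0))
(.node 4059 (.leaf 0x0)
(.leaf 0x0)))
(.node 4062 (.node 4061 (.leaf 0x0)
(.leaf 0x0))
(.node 4063 (.leaf 0x0)
(.leaf 0x0))))))
(.node 4080 (.node 4072 (.node 4068 (.node 4066 (.node 4065 (.leaf 0x0)
(.leaf 0x0))
(.node 4067 (.leaf 0x0)
(.leaf 0x0)))
(.node 4070 (.node 4069 (.leaf 0x0)
(.leaf 0x0))
(.node 4071 (.leaf 0x0)
(.leaf 0x0))))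
(.node 4076 (.node 4074 (.node 4073 (.leaf 0x0)
(.leaf 0x0))
(.node 4075 (.leaf 0x0)
(.leaf 0x0)))
(.node 4078 (.node 4077 (.leaf 0x0)
(.leaf 0x0))
(.node 4079 (.leaf 0x0)
(.leaf 0x0)))))
(.node 4088 (.node 4084 (.node 4082 (.node 4081 (.leaf 0x0)
(.leaf 0x0))
(.node 4083 (.leaf 0x0)
(.leaf 0x0)))
(.node 4086 (.node 4085 (.leaf 0x0)
(.leaf 0x0))
(.node 4087 (.leaf 0x0)
(.leaf 0x0))))
(.node 4092 (.node 4090 (.node 4089 (.leaf 0x0)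
(.leaf 0x0))
(.node 4091 (.leaf 0x0)
(.leaf 0x0)))
(.node 4094 (.node 4093 (.leaf 0x0)
(.leaf 0x0))
(.node 4095 (.leaf 0x0)
(.leaf 0x0)))))))))

/-- part of a trie -/
def codePart16 : Tr :=
(.node 4224 (.node 4160 (.node 4128 (.node 4112 (.node 4104 (.node 4100 (.node 4098 (.node 4097 (.leaf 0x0)
(.leaf 0x0))
(.node 4099 (.leaf 0x0)
(.leaf 0x0)))
(.node 4102 (.node 4101 (.leaf 0x0)
(.leaf 0x0))
(.node 4103 (.leaf 0x0)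
(.leaf 0x0))))
(.node 4108 (.node 4106 (.node 4105 (.leaf 0x0)
(.leaf 0x0))
(.node 4107 (.leaf 0x0)
(.leaf 0x0)))
(.node 4110 (.node 4109 (.leaf 0x0)
(.leaf 0x0))
(.node 4111 (.leaf 0x0)
(.leaf 0x0)))))
(.node 4120 (.node 4116 (.node 4114 (.node 4113 (.leaf 0x0)
(.leaf 0x0))
(.node 4115 (.leaf 0x0)
(.leaf 0x0)))
(.node 4118 (.node 4117 (.leaf 0x0)
(.leaf 0x0))
(.node 4119 (.leaf 0x0)
(.leaf 0x0))))
(.node 4124 (.node 4122 (.node 4121 (.leaf 0x0)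
(.leaf 0x0))
(.node 4123 (.leaf 0x0)
(.leaf 0x0)))
(.node 4126 (.node 4125 (.leaf 0x0)
(.leaf 0x0))
(.node 4127 (.leaf 0x0)
(.leaf 0x0))))))
(.node 4144 (.node 4136 (.node 4132 (.node 4130 (.node 4129 (.leaf 0x0)
(.leaf 0x0))
(.node 4131 (.leaf 0x0)
(.leaf 0x0)))
(.node 4134 (.node 4133 (.leaf 0x0)
(.leaf 0x0))
(.node 4135 (.leaf 0x0)
(.leaf 0x0))))
(.node 4140 (.node 4138 (.node 4137 (.leaf 0x0)
(.leaf 0x0))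
(.node 4139 (.leaf 0x0)
(.leaf 0x0)))
(.node 4142 (.node 4141 (.leaf 0x0)
(.leaf 0x0))
(.node 4143 (.leaf 0x0)
(.leaf 0x0)))))
(.node 4152 (.node 4148 (.node 4146 (.node 4145 (.leaf 0x0)
(.leaf 0x0))
(.node 4147 (.leaf 0x0)
(.leaf 0x0)))
(.node 4150 (.node 4149 (.leaf 0x0)
(.leaf 0x0))
(.node 4151 (.leaf 0x0)
(.leaf 0x0))))
(.node 4156 (.node 4154 (.node 4153 (.leaf 0x0)
(.leaf 0x0))
(.node 4155 (.leaf 0x0)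
(.leaf 0x0)))
(.node 4158 (.node 4157 (.leaf 0x0)
(.leaf 0x0))
(.node 4159 (.leaf 0x0)
(.leaf 0x0)))))))
(.node 4192 (.node 4176 (.node 4168 (.node 4164 (.node 4162 (.node 4161 (.leaf 0x0)
(.leaf 0x0))
(.node 4163 (.leaf 0x0)
(.leaf 0x0)))
(.node 4166 (.node 4165 (.leaf 0x0)
(.leaf 0x0))
(.node 4167 (.leaf 0x0)
(.leaf 0x0))))
(.node 4172 (.node 4170 (.node 4169 (.leaf 0x0)
(.leaf 0x0))
(.node 4171 (.leaf 0x0)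
(.leaf 0x0)))
(.node 4174 (.node 4173 (.leaf 0x0)
(.leaf 0x0))
(.node 4175 (.leaf 0x0)
(.leaf 0x0)))))
(.node 4184 (.node 4180 (.node 4178 (.node 4177 (.leaf 0x0)
(.leaf 0x0))
(.node 4179 (.leaf 0x0)
(.leaf 0x0)))
(.node 4182 (.node 4181 (.leaf 0x0)
(.leaf 0x0))
(.node 4183 (.leaf 0x0)
(.leaf 0x0))))
(.node 4188 (.node 4186 (.node 4185 (.leaf 0x0)
(.leaf 0x0))
(.node 4187 (.leaf 0x0)
(.leaf 0x0)))
(.node 4190 (.node 4189 (.leaf 0x0)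
(.leaf 0x0))
(.node 4191 (.leaf 0x0)
(.leaf 0x0))))))
(.node 4208 (.node 4200 (.node 4196 (.node 4194 (.node 4193 (.leaf 0x0)
(.leaf 0x0))
(.node 4195 (.leaf 0x0)
(.leaf 0x0)))
(.node 4198 (.node 4197 (.leaf 0x0)
(.leaf 0x0))
(.node 4199 (.leaf 0x0)
(.leaf 0x0))))
(.node 4204 (.node 4202 (.node 4201 (.leaf 0x0)
(.leaf 0x0))
(.node 4203 (.leaf 0x0)
(.leaf 0x0)))
(.node 4206 (.node 4205 (.leaf 0x0)
(.leaf 0x0))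
(.node 4207 (.leaf 0x0)
(.leaf 0x0)))))
(.node 4216 (.node 4212 (.node 4210 (.node 4209 (.leaf 0x0)
(.leaf 0x0))
(.node 4211 (.leaf 0x0)
(.leaf 0x0)))
(.node 4214 (.node 4213 (.leaf 0x0)
(.leaf 0x0))
(.node 4215 (.leaf 0x0)
(.leaf 0x0))))
(.node 4220 (.node 4218 (.node 4217 (.leaf 0x0)
(.leaf 0x0))
(.node 4219 (.leaf 0x0)
(.leaf 0x0)))
(.node 4222 (.node 4221 (.leaf 0x0)
(.leaf 0x0))
(.node 4223 (.leaf 0x0)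
(.leaf 0x0))))))))
(.node 4288 (.node 4256 (.node 4240 (.node 4232 (.node 4228 (.node 4226 (.node 4225 (.leaf 0x0)
(.leaf 0x0))
(.node 4227 (.leaf 0x0)
(.leaf 0x0)))
(.node 4230 (.node 4229 (.leaf 0x0)
(.leaf 0x0))
(.node 4231 (.leaf 0x0)
(.leaf 0x0))))
(.node 4236 (.node 4234 (.node 4233 (.leaf 0x0)
(.leaf 0x0))
(.node 4235 (.leaf 0x0)
(.leaf 0x0)))
(.node 4238 (.node 4237 (.leaf 0x0)
(.leaf 0x0))
(.node 4239 (.leaf 0x0)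
(.leaf 0x0)))))
(.node 4248 (.node 4244 (.node 4242 (.node 4241 (.leaf 0x0)
(.leaf 0x0))
(.node 4243 (.leaf 0x0)
(.leaf 0x0)))
(.node 4246 (.node 4245 (.leaf 0x0)
(.leaf 0x0))
(.node 4247 (.leaf 0x0)
(.leaf 0x0))))
(.node 4252 (.node 4250 (.node 4249 (.leaf 0x0)
(.leaf 0x0))
(.node 4251 (.leaf 0x0)
(.leaf 0x0)))
(.node 4254 (.node 4253 (.leaf 0x0)
(.leaf 0x0))
(.node 4255 (.leaf 0x0)
(.leaf 0x0))))))
(.node 4272 (.node 4264 (.node 4260 (.node 4258 (.node 4257 (.leaf 0x0)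
(.leaf 0x0))
(.node 4259 (.leaf 0x0)
(.leaf 0x0)))
(.node 4262 (.node 4261 (.leaf 0x0)
(.leaf 0x0))
(.node 4263 (.leaf 0x0)
(.leaf 0x0))))
(.node 4268 (.node 4266 (.node 4265 (.leaf 0x0)
(.leaf 0x0))
(.node 4267 (.leaf 0x0)
(.leaf 0x0)))
(.node 4270 (.node 4269 (.leaf 0x0)
(.leaf 0x0))
(.node 4271 (.leaf 0x0)
(.leaf 0x0)))))
(.node 4280 (.node 4276 (.node 4274 (.node 4273 (.leaf 0x0)
(.leaf 0x0))
(.node 4275 (.leaf 0x0)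
(.leaf 0x0)))
(.node 4278 (.node 4277 (.leaf 0x0)
(.leaf 0x0))
(.node 4279 (.leaf 0x0)
(.leaf 0x0))))
(.node 4284 (.node 4282 (.node 4281 (.leaf 0x0)
(.leaf 0x0))
(.node 4283 (.leaf 0x0)
(.leaf 0x0)))
(.node 4286 (.node 4285 (.leaf 0x0)
(.leaf 0x0))
(.node 4287 (.leaf 0x0)
(.leaf 0x0)))))))
(.node 4320 (.node 4304 (.node 4296 (.node 4292 (.node 4290 (.node 4289 (.leaf 0x0)
(.leaf 0x0))
(.node 4291 (.leaf 0x0)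
(.leaf 0x0)))
(.node 4294 (.node 4293 (.leaf 0x0)
(.leaf 0x0))
(.node 4295 (.leaf 0x0)
(.leaf 0x0))))
(.node 4300 (.node 4298 (.node 4297 (.leaf 0x0)
(.leaf 0x0))
(.node 4299 (.leaf 0x0)
(.leaf 0x0)))
(.node 4302 (.node 4301 (.leaf 0x0)
(.leaf 0x0))
(.node 4303 (.leaf 0x0)
(.leaf 0x0)))))
(.node 4312 (.node 4308 (.node 4306 (.node 4305 (.leaf 0x0)
(.leaf 0x0))
(.node 4307 (.leaf 0x0)
(.leaf 0x0)))
(.node 4310 (.node 4309 (.leaf 0x0)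
(.leaf 0x0))
(.node 4311 (.leaf 0x0)
(.leaf 0x0))))
(.node 4316 (.node 4314 (.node 4313 (.leaf 0x0)
(.leaf 0x0))
(.node 4315 (.leaf 0x0)
(.leaf 0x0)))
(.node 4318 (.node 4317 (.leaf 0x0)
(.leaf 0x0))
(.node 4319 (.leaf 0x0)
(.leaf 0x0))))))
(.node 4336 (.node 4328 (.node 4324 (.node 4322 (.node 4321 (.leaf 0x0)
(.leaf 0x0))
(.node 4323 (.leaf 0x0)
(.leaf 0x0)))
(.node 4326 (.node 4325 (.leaf 0x0)
(.leaf 0x0))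
(.node 4327 (.leaf 0x0)
(.leaf 0x0))))
(.node 4332 (.node 4330 (.node 4329 (.leaf 0x0)
(.leaf 0x0))
(.node 4331 (.leaf 0x0)
(.leaf 0x0)))
(.node 4334 (.node 4333 (.leaf 0x0)
(.leaf 0x0))
(.node 4335 (.leaf 0x0)
(.leaf 0x0)))))
(.node 4344 (.node 4340 (.node 4338 (.node 4337 (.leaf 0x0)
(.leaf 0x0))
(.node 4339 (.leaf 0x0)
(.leaf 0x0)))
(.node 4342 (.node 4341 (.leaf 0x0)
(.leaf 0x0))
(.node 4343 (.leaf 0x0)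
(.leaf 0x0))))
(.node 4348 (.node 4346 (.node 4345 (.leaf 0x0)
(.leaf 0x0))
(.node 4347 (.leaf 0x0)
(.leaf 0x0)))
(.node 4350 (.node 4349 (.leaf 0x0)
(.leaf 0x0))
(.node 4351 (.leaf 0x0)
(.leaf 0x0)))))))))

/-- part of a trie -/
def codePart17 : Tr :=
(.node 4480 (.node 4416 (.node 4384 (.node 4368 (.node 4360 (.node 4356 (.node 4354 (.node 4353 (.leaf 0x0)
(.leaf 0x0))
(.node 4355 (.leaf 0x0)
(.leaf 0x0)))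
(.node 4358 (.node 4357 (.leaf 0x0)
(.leaf 0x0))
(.node 4359 (.leaf 0x0)
(.leaf 0x0))))
(.node 4364 (.node 4362 (.node 4361 (.leaf 0x0)
(.leaf 0x0))
(.node 4363 (.leaf 0x0)
(.leaf 0x0)))
(.node 4366 (.node 4365 (.leaf 0x0)
(.leaf 0x0))
(.node 4367 (.leaf 0x0)
(.leaf 0x0)))))
(.node 4376 (.node 4372 (.node 4370 (.node 4369 (.leaf 0x0)
(.leaf 0x0))
(.node 4371 (.leaf 0x0)
(.leaf 0x0)))
(.node 4374 (.node 4373 (.leaf 0x0)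
(.leaf 0x0))
(.node 4375 (.leaf 0x0)
(.leaf 0x0))))
(.node 4380 (.node 4378 (.node 4377 (.leaf 0x0)
(.leaf 0x0))
(.node 4379 (.leaf 0x0)
(.leaf 0x0)))
(.node 4382 (.node 4381 (.leaf 0x0)
(.leaf 0x0))
(.node 4383 (.leaf 0x0)
(.leaf 0x0))))))
(.node 4400 (.node 4392 (.node 4388 (.node 4386 (.node 4385 (.leaf 0x0)
(.leaf 0x0))
(.node 4387 (.leaf 0x0)
(.leaf 0x0)))
(.node 4390 (.node 4389 (.leaf 0x0)
(.leaf 0x0))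
(.node 4391 (.leaf 0x0)
(.leaf 0x0))))
(.node 4396 (.node 4394 (.node 4393 (.leaf 0x0)
(.leaf 0x0))
(.node 4395 (.leaf 0x0)
(.leaf 0x0)))
(.node 4398 (.node 4397 (.leaf 0x0)
(.leaf 0x0))
(.node 4399 (.leaf 0x0)
(.leaf 0x0)))))
(.node 4408 (.node 4404 (.node 4402 (.node 4401 (.leaf 0x0)
(.leaf 0x0))
(.node 4403 (.leaf 0x0)
(.leaf 0x0)))
(.node 4406 (.node 4405 (.leaf 0x0)
(.leaf 0x0))
(.node 4407 (.leaf 0x0)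
(.leaf 0x0))))
(.node 4412 (.node 4410 (.node 4409 (.leaf 0x0)
(.leaf 0x0))
(.node 4411 (.leaf 0x0)
(.leaf 0x0)))
(.node 4414 (.node 4413 (.leaf 0x0)
(.leaf 0x0))
(.node 4415 (.leaf 0x0)
(.leaf 0x0)))))))
(.node 4448 (.node 4432 (.node 4424 (.node 4420 (.node 4418 (.node 4417 (.leaf 0x0)
(.leaf 0x0))
(.node 4419 (.leaf 0x0)
(.leaf 0x0)))
(.node 4422 (.node 4421 (.leaf 0x0)
(.leaf 0x0))
(.node 4423 (.leaf 0x0)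
(.leaf 0x0))))
(.node 4428 (.node 4426 (.node 4425 (.leaf 0x0)
(.leaf 0x0))
(.node 4427 (.leaf 0x0)
(.leaf 0x0)))
(.node 4430 (.node 4429 (.leaf 0x0)
(.leaf 0x0))
(.node 4431 (.leaf 0x0)
(.leaf 0x0)))))
(.node 4440 (.node 4436 (.node 4434 (.node 4433 (.leaf 0x0)
(.leaf 0x0))
(.node 4435 (.leaf 0x0)
(.leaf 0x0)))
(.node 4438 (.node 4437 (.leaf 0x0)
(.leaf 0x0))
(.node 4439 (.leaf 0x0)
(.leaf 0x0))))
(.node 4444 (.node 4442 (.node 4441 (.leaf 0x0)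
(.leaf 0x0))
(.node 4443 (.leaf 0x0)
(.leaf 0x0)))
(.node 4446 (.node 4445 (.leaf 0x0)
(.leaf 0x0))
(.node 4447 (.leaf 0x0)
(.leaf 0x0))))))
(.node 4464 (.node 4456 (.node 4452 (.node 4450 (.node 4449 (.leaf 0x0)
(.leaf 0x0))
(.node 4451 (.leaf 0x0)
(.leaf 0x0)))
(.node 4454 (.node 4453 (.leaf 0x0)
(.leaf 0x0))
(.node 4455 (.leaf 0x0)
(.leaf 0x0))))
(.node 4460 (.node 4458 (.node 4457 (.leaf 0x0)
(.leaf 0x0))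
(.node 4459 (.leaf 0x0)
(.leaf 0x0)))
(.node 4462 (.node 4461 (.leaf 0x0)
(.leaf 0x0))
(.node 4463 (.leaf 0x0)
(.leaf 0x0)))))
(.node 4472 (.node 4468 (.node 4466 (.node 4465 (.leaf 0x0)
(.leaf 0x0))
(.node 4467 (.leaf 0x0)
(.leaf 0x0)))
(.node 4470 (.node 4469 (.leaf 0x0)
(.leaf 0x0))
(.node 4471 (.leaf 0x0)
(.leaf 0x0))))
(.node 4476 (.node 4474 (.node 4473 (.leaf 0x0)
(.leaf 0x0))
(.node 4475 (.leaf 0x0)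
(.leaf 0x0)))
(.node 4478 (.node 4477 (.leaf 0x0)
(.leaf 0x0))
(.node 4479 (.leaf 0x0)
(.leaf 0x0))))))))
(.node 4544 (.node 4512 (.node 4496 (.node 4488 (.node 4484 (.node 4482 (.node 4481 (.leaf 0x0)
(.leaf 0x0))
(.node 4483 (.leaf 0x0)
(.leaf 0x0)))
(.node 4486 (.node 4485 (.leaf 0x0)
(.leaf 0x0))
(.node 4487 (.leaf 0x0)
(.leaf 0x0))))
(.node 4492 (.node 4490 (.node 4489 (.leaf 0x0)
(.leaf 0x0))
(.node 4491 (.leaf 0x0)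
(.leaf 0x0)))
(.node 4494 (.node 4493 (.leaf 0x0)
(.leaf 0x0))
(.node 4495 (.leaf 0x0)
(.leaf 0x0)))))
(.node 4504 (.node 4500 (.node 4498 (.node 4497 (.leaf 0x0)
(.leaf 0x0))
(.node 4499 (.leaf 0x0)
(.leaf 0x0)))
(.node 4502 (.node 4501 (.leaf 0x0)
(.leaf 0x0))
(.node 4503 (.leaf 0x0)
(.leaf 0x0))))
(.node 4508 (.node 4506 (.node 4505 (.leaf 0x0)
(.leaf 0x0))
(.node 4507 (.leaf 0x0)
(.leaf 0x0)))
(.node 4510 (.node 4509 (.leaf 0x0)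
(.leaf 0x0))
(.node 4511 (.leaf 0x0)
(.leaf 0x0))))))
(.node 4528 (.node 4520 (.node 4516 (.node 4514 (.node 4513 (.leaf 0x0)
(.leaf 0x0))
(.node 4515 (.leaf 0x0)
(.leaf 0x0)))
(.node 4518 (.node 4517 (.leaf 0x0)
(.leaf 0x0))
(.node 4519 (.leaf 0x0)
(.leaf 0x0))))
(.node 4524 (.node 4522 (.node 4521 (.leaf 0x0)
(.leaf 0x0))
(.node 4523 (.leaf 0x0)
(.leaf 0x0)))
(.node 4526 (.node 4525 (.leaf 0x0)
(.leaf 0x0))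
(.node 4527 (.leaf 0x0)
(.leaf 0x0)))))
(.node 4536 (.node 4532 (.node 4530 (.node 4529 (.leaf 0x0)
(.leaf 0x0))
(.node 4531 (.leaf 0x0)
(.leaf 0x0)))
(.node 4534 (.node 4533 (.leaf 0x0)
(.leaf 0x0))
(.node 4535 (.leaf 0x0)
(.leaf 0x0))))
(.node 4540 (.node 4538 (.node 4537 (.leaf 0x0)
(.leaf 0x0))
(.node 4539 (.leaf 0x0)
(.leaf 0x0)))
(.node 4542 (.node 4541 (.leaf 0x0)
(.leaf 0x0))
(.node 4543 (.leaf 0x0)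
(.leaf 0x0)))))))
(.node 4576 (.node 4560 (.node 4552 (.node 4548 (.node 4546 (.node 4545 (.leaf 0x0)
(.leaf 0x0))
(.node 4547 (.leaf 0x0)
(.leaf 0x0)))
(.node 4550 (.node 4549 (.leaf 0x0)
(.leaf 0x0))
(.node 4551 (.leaf 0x0)
(.leaf 0x0))))
(.node 4556 (.node 4554 (.node 4553 (.leaf 0x0)
(.leaf 0x0))
(.node 4555 (.leaf 0x0)
(.leaf 0x0)))
(.node 4558 (.node 4557 (.leaf 0x0)
(.leaf 0x0))
(.node 4559 (.leaf 0x0)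
(.leaf 0x0)))))
(.node 4568 (.node 4564 (.node 4562 (.node 4561 (.leaf 0x0)
(.leaf 0x0))
(.node 4563 (.leaf 0x0)
(.leaf 0x0)))
(.node 4566 (.node 4565 (.leaf 0x0)
(.leaf 0x0))
(.node 4567 (.leaf 0x0)
(.leaf 0x0))))
(.node 4572 (.node 4570 (.node 4569 (.leaf 0x0)
(.leaf 0x0))
(.node 4571 (.leaf 0x0)
(.leaf 0x0)))
(.node 4574 (.node 4573 (.leaf 0x0)
(.leaf 0x0))
(.node 4575 (.leaf 0x0)
(.leaf 0x0))))))
(.node 4592 (.node 4584 (.node 4580 (.node 4578 (.node 4577 (.leaf 0x0)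
(.leaf 0x0))
(.node 4579 (.leaf 0x0)
(.leaf 0x0)))
(.node 4582 (.node 4581 (.leaf 0x0)
(.leaf 0x0))
(.node 4583 (.leaf 0x0)
(.leaf 0x0))))
(.node 4588 (.node 4586 (.node 4585 (.leaf 0x0)
(.leaf 0x0))
(.node 4587 (.leaf 0x0)
(.leaf 0x0)))
(.node 4590 (.node 4589 (.leaf 0x0)
(.leaf 0x0))
(.node 4591 (.leaf 0x0)
(.leaf 0x0)))))
(.node 4600 (.node 4596 (.node 4594 (.node 4593 (.leaf 0x0)
(.leaf 0x0))
(.node 4595 (.leaf 0x0)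
(.leaf 0x0)))
(.node 4598 (.node 4597 (.leaf 0x0)
(.leaf 0x0))
(.node 4599 (.leaf 0x0)
(.leaf 0x0))))
(.node 4604 (.node 4602 (.node 4601 (.leaf 0x0)
(.leaf 0x0))
(.node 4603 (.leaf 0x0)
(.leaf 0x0)))
(.node 4606 (.node 4605 (.leaf 0x0)
(.leaf 0x0))
(.node 4607 (.leaf 0x0)
(.leaf 0x0)))))))))

/-- part of a trie -/
def codePart18 : Tr :=
(.node 4736 (.node 4672 (.node 4640 (.node 4624 (.node 4616 (.node 4612 (.node 4610 (.node 4609 (.leaf 0x0)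
(.leaf 0x0))
(.node 4611 (.leaf 0x0)
(.leaf 0x0)))
(.node 4614 (.node 4613 (.leaf 0x0)
(.leaf 0x0))
(.node 4615 (.leaf 0x0)
(.leaf 0x0))))
(.node 4620 (.node 4618 (.node 4617 (.leaf 0x0)
(.leaf 0x0))
(.node 4619 (.leaf 0x0)
(.leaf 0x0)))
(.node 4622 (.node 4621 (.leaf 0x0)
(.leaf 0x0))
(.node 4623 (.leaf 0x0)
(.leaf 0x0)))))
(.node 4632 (.node 4628 (.node 4626 (.node 4625 (.leaf 0x0)
(.leaf 0x0))
(.node 4627 (.leaf 0x0)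
(.leaf 0x0)))
(.node 4630 (.node 4629 (.leaf 0x0)
(.leaf 0x0))
(.node 4631 (.leaf 0x0)
(.leaf 0x0))))
(.node 4636 (.node 4634 (.node 4633 (.leaf 0x0)
(.leaf 0x0))
(.node 4635 (.leaf 0x0)
(.leaf 0x0)))
(.node 4638 (.node 4637 (.leaf 0x0)
(.leaf 0x0))
(.node 4639 (.leaf 0x0)
(.leaf 0x0))))))
(.node 4656 (.node 4648 (.node 4644 (.node 4642 (.node 4641 (.leaf 0x0)
(.leaf 0x0))
(.node 4643 (.leaf 0x0)
(.leaf 0x0)))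
(.node 4646 (.node 4645 (.leaf 0x0)
(.leaf 0x0))
(.node 4647 (.leaf 0x0)
(.leaf 0x0))))
(.node 4652 (.node 4650 (.node 4649 (.leaf 0x0)
(.leaf 0x0))
(.node 4651 (.leaf 0x0)
(.leaf 0x0)))
(.node 4654 (.node 4653 (.leaf 0x0)
(.leaf 0x0))
(.node 4655 (.leaf 0x0)
(.leaf 0x0)))))
(.node 4664 (.node 4660 (.node 4658 (.node 4657 (.leaf 0x0)
(.leaf 0x0))
(.node 4659 (.leaf 0x0)
(.leaf 0x0)))
(.node 4662 (.node 4661 (.leaf 0x0)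
(.leaf 0x0))
(.node 4663 (.leaf 0x0)
(.leaf 0x0))))
(.node 4668 (.node 4666 (.node 4665 (.leaf 0x0)
(.leaf 0x0))
(.node 4667 (.leaf 0x0)
(.leaf 0x0)))
(.node 4670 (.node 4669 (.leaf 0x0)
(.leaf 0x0))
(.node 4671 (.leaf 0x0)
(.leaf 0x0)))))))
(.node 4704 (.node 4688 (.node 4680 (.node 4676 (.node 4674 (.node 4673 (.leaf 0x0)
(.leaf 0x0))
(.node 4675 (.leaf 0x0)
(.leaf 0x0)))
(.node 4678 (.node 4677 (.leaf 0x0)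
(.leaf 0x0))
(.node 4679 (.leaf 0x0)
(.leaf 0x0))))
(.node 4684 (.node 4682 (.node 4681 (.leaf 0x0)
(.leaf 0x0))
(.node 4683 (.leaf 0x0)
(.leaf 0x0)))
(.node 4686 (.node 4685 (.leaf 0x0)
(.leaf 0x0))
(.node 4687 (.leaf 0x0)
(.leaf 0x0)))))
(.node 4696 (.node 4692 (.node 4690 (.node 4689 (.leaf 0x0)
(.leaf 0x0))
(.node 4691 (.leaf 0x0)
(.leaf 0x0)))
(.node 4694 (.node 4693 (.leaf 0x0)
(.leaf 0x0))
(.node 4695 (.leaf 0x0)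
(.leaf 0x0))))
(.node 4700 (.node 4698 (.node 4697 (.leaf 0x0)
(.leaf 0x0))
(.node 4699 (.leaf 0x0)
(.leaf 0x0)))
(.node 4702 (.node 4701 (.leaf 0x0)
(.leaf 0x0))
(.node 4703 (.leaf 0x0)
(.leaf 0x0))))))
(.node 4720 (.node 4712 (.node 4708 (.node 4706 (.node 4705 (.leaf 0x0)
(.leaf 0x0))
(.node 4707 (.leaf 0x0)
(.leaf 0x0)))
(.node 4710 (.node 4709 (.leaf 0x0)
(.leaf 0x0))
(.node 4711 (.leaf 0x0)
(.leaf 0x0))))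
(.node 4716 (.node 4714 (.node 4713 (.leaf 0x0)
(.leaf 0x0))
(.node 4715 (.leaf 0x0)
(.leaf 0x0)))
(.node 4718 (.node 4717 (.leaf 0x0)
(.leaf 0x0))
(.node 4719 (.leaf 0x0)
(.leaf 0x0)))))
(.node 4728 (.node 4724 (.node 4722 (.node 4721 (.leaf 0x0)
(.leaf 0x0))
(.node 4723 (.leaf 0x0)
(.leaf 0x0)))
(.node 4726 (.node 4725 (.leaf 0x0)
(.leaf 0x0))
(.node 4727 (.leaf 0x0)
(.leaf 0x0))))
(.node 4732 (.node 4730 (.node 4729 (.leaf 0x0)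
(.leaf 0x0))
(.node 4731 (.leaf 0x0)
(.leaf 0x0)))
(.node 4734 (.node 4733 (.leaf 0x0)
(.leaf 0x0))
(.node 4735 (.leaf 0x0)
(.leaf 0x0))))))))
(.node 4800 (.node 4768 (.node 4752 (.node 4744 (.node 4740 (.node 4738 (.node 4737 (.leaf 0x0)
(.leaf 0x0))
(.node 4739 (.leaf 0x0)
(.leaf 0x0)))
(.node 4742 (.node 4741 (.leaf 0x0)
(.leaf 0x0))
(.node 4743 (.leaf 0x0)
(.leaf 0x0))))
(.node 4748 (.node 4746 (.node 4745 (.leaf 0x0)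
(.leaf 0x0))
(.node 4747 (.leaf 0x0)
(.leaf 0x0)))
(.node 4750 (.node 4749 (.leaf 0x0)
(.leaf 0x0))
(.node 4751 (.leaf 0x0)
(.leaf 0x0)))))
(.node 4760 (.node 4756 (.node 4754 (.node 4753 (.leaf 0x0)
(.leaf 0x0))
(.node 4755 (.leaf 0x0)
(.leaf 0x0)))
(.node 4758 (.node 4757 (.leaf 0x0)
(.leaf 0x0))
(.node 4759 (.leaf 0x0)
(.leaf 0x0))))
(.node 4764 (.node 4762 (.node 4761 (.leaf 0x0)
(.leaf 0x0))
(.node 4763 (.leaf 0x0)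
(.leaf 0x0)))
(.node 4766 (.node 4765 (.leaf 0x0)
(.leaf 0x0))
(.node 4767 (.leaf 0x0)
(.leaf 0x0))))))
(.node 4784 (.node 4776 (.node 4772 (.node 4770 (.node 4769 (.leaf 0x0)
(.leaf 0x0))
(.node 4771 (.leaf 0x0)
(.leaf 0x0)))
(.node 4774 (.node 4773 (.leaf 0x0)
(.leaf 0x0))
(.node 4775 (.leaf 0x0)
(.leaf 0x0))))
(.node 4780 (.node 4778 (.node 4777 (.leaf 0x0)
(.leaf 0x0))
(.node 4779 (.leaf 0x0)
(.leaf 0x0)))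
(.node 4782 (.node 4781 (.leaf 0x0)
(.leaf 0x0))
(.node 4783 (.leaf 0x0)
(.leaf 0x0)))))
(.node 4792 (.node 4788 (.node 4786 (.node 4785 (.leaf 0x0)
(.leaf 0x0))
(.node 4787 (.leaf 0x0)
(.leaf 0x0)))
(.node 4790 (.node 4789 (.leaf 0x0)
(.leaf 0x0))
(.node 4791 (.leaf 0x0)
(.leaf 0x0))))
(.node 4796 (.node 4794 (.node 4793 (.leaf 0x0)
(.leaf 0x0))
(.node 4795 (.leaf 0x0)
(.leaf 0x0)))
(.node 4798 (.node 4797 (.leaf 0x0)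
(.leaf 0x0))
(.node 4799 (.leaf 0x0)
(.leaf 0x0)))))))
(.node 4832 (.node 4816 (.node 4808 (.node 4804 (.node 4802 (.node 4801 (.leaf 0x0)
(.leaf 0x0))
(.node 4803 (.leaf 0x0)
(.leaf 0x0)))
(.node 4806 (.node 4805 (.leaf 0x0)
(.leaf 0x0))
(.node 4807 (.leaf 0x0)
(.leaf 0x0))))
(.node 4812 (.node 4810 (.node 4809 (.leaf 0x0)
(.leaf 0x0))
(.node 4811 (.leaf 0x0)
(.leaf 0x0)))
(.node 4814 (.node 4813 (.leaf 0x0)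
(.leaf 0x0))
(.node 4815 (.leaf 0x0)
(.leaf 0x0)))))
(.node 4824 (.node 4820 (.node 4818 (.node 4817 (.leaf 0x0)
(.leaf 0x0))
(.node 4819 (.leaf 0x0)
(.leaf 0x0)))
(.node 4822 (.node 4821 (.leaf 0x0)
(.leaf 0x0))
(.node 4823 (.leaf 0x0)
(.leaf 0x0))))
(.node 4828 (.node 4826 (.node 4825 (.leaf 0x0)
(.leaf 0x0))
(.node 4827 (.leaf 0x0)
(.leaf 0x0)))
(.node 4830 (.node 4829 (.leaf 0x0)
(.leaf 0x0))
(.node 4831 (.leaf 0x0)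
(.leaf 0x0))))))
(.node 4848 (.node 4840 (.node 4836 (.node 4834 (.node 4833 (.leaf 0x0)
(.leaf 0x0))
(.node 4835 (.leaf 0x0)
(.leaf 0x0)))
(.node 4838 (.node 4837 (.leaf 0x0)
(.leaf 0x0))
(.node 4839 (.leaf 0x0)
(.leaf 0x0))))
(.node 4844 (.node 4842 (.node 4841 (.leaf 0x0)
(.leaf 0x0))
(.node 4843 (.leaf 0x0)
(.leaf 0x0)))
(.node 4846 (.node 4845 (.leaf 0x0)
(.leaf 0x0))
(.node 4847 (.leaf 0x0)
(.leaf 0x0)))))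
(.node 4856 (.node 4852 (.node 4850 (.node 4849 (.leaf 0x0)
(.leaf 0x0))
(.node 4851 (.leaf 0x0)
(.leaf 0x0)))
(.node 4854 (.node 4853 (.leaf 0x0)
(.leaf 0x0))
(.node 4855 (.leaf 0x0)
(.leaf 0x0))))
(.node 4860 (.node 4858 (.node 4857 (.leaf 0x0)
(.leaf 0x0))
(.node 4859 (.leaf 0x0)
(.leaf 0x0)))
(.node 4862 (.node 4861 (.leaf 0x0)
(.leaf 0x0))
(.node 4863 (.leaf 0x0)
(.leaf 0x0)))))))))

/-- part of a trie -/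
def codePart19 : Tr :=
(.node 4992 (.node 4928 (.node 4896 (.node 4880 (.node 4872 (.node 4868 (.node 4866 (.node 4865 (.leaf 0x0)
(.leaf 0x0))
(.node 4867 (.leaf 0x0)
(.leaf 0x0)))
(.node 4870 (.node 4869 (.leaf 0x0)
(.leaf 0x0))
(.node 4871 (.leaf 0x0)
(.leaf 0x0))))
(.node 4876 (.node 4874 (.node 4873 (.leaf 0x0)
(.leaf 0x0))
(.node 4875 (.leaf 0x0)
(.leaf 0x0)))
(.node 4878 (.node 4877 (.leaf 0x0)
(.leaf 0x0))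
(.node 4879 (.leaf 0x0)
(.leaf 0x0)))))
(.node 4888 (.node 4884 (.node 4882 (.node 4881 (.leaf 0x0)
(.leaf 0x0))
(.node 4883 (.leaf 0x0)
(.leaf 0x0)))
(.node 4886 (.node 4885 (.leaf 0x0)
(.leaf 0x0))
(.node 4887 (.leaf 0x0)
(.leaf 0x0))))
(.node 4892 (.node 4890 (.node 4889 (.leaf 0x0)
(.leaf 0x0))
(.node 4891 (.leaf 0x0)
(.leaf 0x0)))
(.node 4894 (.node 4893 (.leaf 0x0)
(.leaf 0x0))
(.node 4895 (.leaf 0x0)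
(.leaf 0x0))))))
(.node 4912 (.node 4904 (.node 4900 (.node 4898 (.node 4897 (.leaf 0x0)
(.leaf 0x0))
(.node 4899 (.leaf 0x0)
(.leaf 0x0)))
(.node 4902 (.node 4901 (.leaf 0x0)
(.leaf 0x0))
(.node 4903 (.leaf 0x0)
(.leaf 0x0))))
(.node 4908 (.node 4906 (.node 4905 (.leaf 0x0)
(.leaf 0x0))
(.node 4907 (.leaf 0x0)
(.leaf 0x0)))
(.node 4910 (.node 4909 (.leaf 0x0)
(.leaf 0x0))
(.node 4911 (.leaf 0x0)
(.leaf 0x0)))))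
(.node 4920 (.node 4916 (.node 4914 (.node 4913 (.leaf 0x0)
(.leaf 0x0))
(.node 4915 (.leaf 0x0)
(.leaf 0x0)))
(.node 4918 (.node 4917 (.leaf 0x0)
(.leaf 0x0))
(.node 4919 (.leaf 0x0)
(.leaf 0x0))))
(.node 4924 (.node 4922 (.node 4921 (.leaf 0x0)
(.leaf 0x0))
(.node 4923 (.leaf 0x0)
(.leaf 0x0)))
(.node 4926 (.node 4925 (.leaf 0x0)
(.leaf 0x0))
(.node 4927 (.leaf 0x0)
(.leaf 0x0)))))))
(.node 4960 (.node 4944 (.node 4936 (.node 4932 (.node 4930 (.node 4929 (.leaf 0x0)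
(.leaf 0x0))
(.node 4931 (.leaf 0x0)
(.leaf 0x0)))
(.node 4934 (.node 4933 (.leaf 0x0)
(.leaf 0x0))
(.node 4935 (.leaf 0x0)
(.leaf 0x0))))
(.node 4940 (.node 4938 (.node 4937 (.leaf 0x0)
(.leaf 0x0))
(.node 4939 (.leaf 0x0)
(.leaf 0x0)))
(.node 4942 (.node 4941 (.leaf 0x0)
(.leaf 0x0))
(.node 4943 (.leaf 0x0)
(.leaf 0x0)))))
(.node 4952 (.node 4948 (.node 4946 (.node 4945 (.leaf 0x0)
(.leaf 0x0))
(.node 4947 (.leaf 0x0)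
(.leaf 0x0)))
(.node 4950 (.node 4949 (.leaf 0x0)
(.leaf 0x0))
(.node 4951 (.leaf 0x0)
(.leaf 0x0))))
(.node 4956 (.node 4954 (.node 4953 (.leaf 0x0)
(.leaf 0x0))
(.node 4955 (.leaf 0x0)
(.leaf 0x0)))
(.node 4958 (.node 4957 (.leaf 0x0)
(.leaf 0x0))
(.node 4959 (.leaf 0x0)
(.leaf 0x0))))))
(.node 4976 (.node 4968 (.node 4964 (.node 4962 (.node 4961 (.leaf 0x0)
(.leaf 0x0))
(.node 4963 (.leaf 0x0)
(.leaf 0x0)))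
(.node 4966 (.node 4965 (.leaf 0x0)
(.leaf 0x0))
(.node 4967 (.leaf 0x0)
(.leaf 0x0))))
(.node 4972 (.node 4970 (.node 4969 (.leaf 0x0)
(.leaf 0x0))
(.node 4971 (.leaf 0x0)
(.leaf 0x0)))
(.node 4974 (.node 4973 (.leaf 0x0)
(.leaf 0x0))
(.node 4975 (.leaf 0x0)
(.leaf 0x0)))))
(.node 4984 (.node 4980 (.node 4978 (.node 4977 (.leaf 0x0)
(.leaf 0x0))
(.node 4979 (.leaf 0x0)
(.leaf 0x0)))
(.node 4982 (.node 4981 (.leaf 0x0)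
(.leaf 0x0))
(.node 4983 (.leaf 0x0)
(.leaf 0x0))))
(.node 4988 (.node 4986 (.node 4985 (.leaf 0x0)
(.leaf 0x0))
(.node 4987 (.leaf 0x0)
(.leaf 0x0)))
(.node 4990 (.node 4989 (.leaf 0x0)
(.leaf 0x0))
(.node 4991 (.leaf 0x0)
(.leaf 0x0))))))))
(.node 5056 (.node 5024 (.node 5008 (.node 5000 (.node 4996 (.node 4994 (.node 4993 (.leaf 0x0)
(.leaf 0x0))
(.node 4995 (.leaf 0x0)
(.leaf 0x0)))
(.node 4998 (.node 4997 (.leaf 0x0)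
(.leaf 0x0))
(.node 4999 (.leaf 0x0)
(.leaf 0x0))))
(.node 5004 (.node 5002 (.node 5001 (.leaf 0x0)
(.leaf 0x0))
(.node 5003 (.leaf 0x0)
(.leaf 0x0)))
(.node 5006 (.node 5005 (.leaf 0x0)
(.leaf 0x0))
(.node 5007 (.leaf 0x0)
(.leaf 0x0)))))
(.node 5016 (.node 5012 (.node 5010 (.node 5009 (.leaf 0x0)
(.leaf 0x0))
(.node 5011 (.leaf 0x0)
(.leaf 0x0)))
(.node 5014 (.node 5013 (.leaf 0x0)
(.leaf 0x0))
(.node 5015 (.leaf 0x0)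
(.leaf 0x0))))
(.node 5020 (.node 5018 (.node 5017 (.leaf 0x0)
(.leaf 0x0))
(.node 5019 (.leaf 0x0)
(.leaf 0x0)))
(.node 5022 (.node 5021 (.leaf 0x0)
(.leaf 0x0))
(.node 5023 (.leaf 0x0)
(.leaf 0x0))))))
(.node 5040 (.node 5032 (.node 5028 (.node 5026 (.node 5025 (.leaf 0x0)
(.leaf 0x0))
(.node 5027 (.leaf 0x0)
(.leaf 0x0)))
(.node 5030 (.node 5029 (.leaf 0x0)
(.leaf 0x0))
(.node 5031 (.leaf 0x0)
(.leaf 0x0))))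
(.node 5036 (.node 5034 (.node 5033 (.leaf 0x0)
(.leaf 0x0))
(.node 5035 (.leaf 0x0)
(.leaf 0x0)))
(.node 5038 (.node 5037 (.leaf 0x0)
(.leaf 0x0))
(.node 5039 (.leaf 0x0)
(.leaf 0x0)))))
(.node 5048 (.node 5044 (.node 5042 (.node 5041 (.leaf 0x0)
(.leaf 0x0))
(.node 5043 (.leaf 0x0)
(.leaf 0x0)))
(.node 5046 (.node 5045 (.leaf 0x0)
(.leaf 0x0))
(.node 5047 (.leaf 0x0)
(.leaf 0x0))))
(.node 5052 (.node 5050 (.node 5049 (.leaf 0x0)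
(.leaf 0x0))
(.node 5051 (.leaf 0x0)
(.leaf 0x0)))
(.node 5054 (.node 5053 (.leaf 0x0)
(.leaf 0x0))
(.node 5055 (.leaf 0x0)
(.leaf 0x0)))))))
(.node 5088 (.node 5072 (.node 5064 (.node 5060 (.node 5058 (.node 5057 (.leaf 0x0)
(.leaf 0x0))
(.node 5059 (.leaf 0x0)
(.leaf 0x0)))
(.node 5062 (.node 5061 (.leaf 0x0)
(.leaf 0x0))
(.node 5063 (.leaf 0x0)
(.leaf 0x0))))
(.node 5068 (.node 5066 (.node 5065 (.leaf 0x0)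
(.leaf 0x0))
(.node 5067 (.leaf 0x0)
(.leaf 0x0)))
(.node 5070 (.node 5069 (.leaf 0x0)
(.leaf 0x0))
(.node 5071 (.leaf 0x0)
(.leaf 0x0)))))
(.node 5080 (.node 5076 (.node 5074 (.node 5073 (.leaf 0x0)
(.leaf 0x0))
(.node 5075 (.leaf 0x0)
(.leaf 0x0)))
(.node 5078 (.node 5077 (.leaf 0x0)
(.leaf 0x0))
(.node 5079 (.leaf 0x0)
(.leaf 0x0))))
(.node 5084 (.node 5082 (.node 5081 (.leaf 0x0)
(.leaf 0x0))
(.node 5083 (.leaf 0x0)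
(.leaf 0x0)))
(.node 5086 (.node 5085 (.leaf 0x0)
(.leaf 0x0))
(.node 5087 (.leaf 0x0)
(.leaf 0x0))))))
(.node 5104 (.node 5096 (.node 5092 (.node 5090 (.node 5089 (.leaf 0x0)
(.leaf 0x0))
(.node 5091 (.leaf 0x0)
(.leaf 0x0)))
(.node 5094 (.node 5093 (.leaf 0x0)
(.leaf 0x0))
(.node 5095 (.leaf 0x0)
(.leaf 0x0))))
(.node 5100 (.node 5098 (.node 5097 (.leaf 0x0)
(.leaf 0x0))
(.node 5099 (.leaf 0x0)
(.leaf 0x0)))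
(.node 5102 (.node 5101 (.leaf 0x0)
(.leaf 0x0))
(.node 5103 (.leaf 0x0)
(.leaf 0x0)))))
(.node 5112 (.node 5108 (.node 5106 (.node 5105 (.leaf 0x0)
(.leaf 0x0))
(.node 5107 (.leaf 0x0)
(.leaf 0x0)))
(.node 5110 (.node 5109 (.leaf 0x0)
(.leaf 0x0))
(.node 5111 (.leaf 0x0)
(.leaf 0x0))))
(.node 5116 (.node 5114 (.node 5113 (.leaf 0x0)
(.leaf 0x0))
(.node 5115 (.leaf 0x0)
(.leaf 0x0)))
(.node 5118 (.node 5117 (.leaf 0x0)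
(.leaf 0x0))
(.node 5119 (.leaf 0x0)
(.leaf 0x0)))))))))

/-- part of a trie -/
def codePart20 : Tr :=
(.node 5248 (.node 5184 (.node 5152 (.node 5136 (.node 5128 (.node 5124 (.node 5122 (.node 5121 (.leaf 0x0)
(.leaf 0x0))
(.node 5123 (.leaf 0x0)
(.leaf 0x0)))
(.node 5126 (.node 5125 (.leaf 0x0)
(.leaf 0x0))
(.node 5127 (.leaf 0x0)
(.leaf 0x0))))
(.node 5132 (.node 5130 (.node 5129 (.leaf 0x0)
(.leaf 0x0))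
(.node 5131 (.leaf 0x0)
(.leaf 0x0)))
(.node 5134 (.node 5133 (.leaf 0x0)
(.leaf 0x0))
(.node 5135 (.leaf 0x0)
(.leaf 0x0)))))
(.node 5144 (.node 5140 (.node 5138 (.node 5137 (.leaf 0x0)
(.leaf 0x0))
(.node 5139 (.leaf 0x0)
(.leaf 0x0)))
(.node 5142 (.node 5141 (.leaf 0x0)
(.leaf 0x0))
(.node 5143 (.leaf 0x0)
(.leaf 0x0))))
(.node 5148 (.node 5146 (.node 5145 (.leaf 0x0)
(.leaf 0x0))
(.node 5147 (.leaf 0x0)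
(.leaf 0x0)))
(.node 5150 (.node 5149 (.leaf 0x0)
(.leaf 0x0))
(.node 5151 (.leaf 0x0)
(.leaf 0x0))))))
(.node 5168 (.node 5160 (.node 5156 (.node 5154 (.node 5153 (.leaf 0x0)
(.leaf 0x0))
(.node 5155 (.leaf 0x0)
(.leaf 0x0)))
(.node 5158 (.node 5157 (.leaf 0x0)
(.leaf 0x0))
(.node 5159 (.leaf 0x0)
(.leaf 0x0))))
(.node 5164 (.node 5162 (.node 5161 (.leaf 0x0)
(.leaf 0x0))
(.node 5163 (.leaf 0x0)
(.leaf 0x0)))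
(.node 5166 (.node 5165 (.leaf 0x0)
(.leaf 0x0))
(.node 5167 (.leaf 0x0)
(.leaf 0x0)))))
(.node 5176 (.node 5172 (.node 5170 (.node 5169 (.leaf 0x0)
(.leaf 0x0))
(.node 5171 (.leaf 0x0)
(.leaf 0x0)))
(.node 5174 (.node 5173 (.leaf 0x0)
(.leaf 0x0))
(.node 5175 (.leaf 0x0)
(.leaf 0x0))))
(.node 5180 (.node 5178 (.node 5177 (.leaf 0x0)
(.leaf 0x0))
(.node 5179 (.leaf 0x0)
(.leaf 0x0)))
(.node 5182 (.node 5181 (.leaf 0x0)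
(.leaf 0x0))
(.node 5183 (.leaf 0x0)
(.leaf 0x0)))))))
(.node 5216 (.node 5200 (.node 5192 (.node 5188 (.node 5186 (.node 5185 (.leaf 0x0)
(.leaf 0x0))
(.node 5187 (.leaf 0x0)
(.leaf 0x0)))
(.node 5190 (.node 5189 (.leaf 0x0)
(.leaf 0x0))
(.node 5191 (.leaf 0x0)
(.leaf 0x0))))
(.node 5196 (.node 5194 (.node 5193 (.leaf 0x0)
(.leaf 0x0))
(.node 5195 (.leaf 0x0)
(.leaf 0x0)))
(.node 5198 (.node 5197 (.leaf 0x0)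
(.leaf 0x0))
(.node 5199 (.leaf 0x0)
(.leaf 0x0)))))
(.node 5208 (.node 5204 (.node 5202 (.node 5201 (.leaf 0x0)
(.leaf 0x0))
(.node 5203 (.leaf 0x0)
(.leaf 0x0)))
(.node 5206 (.node 5205 (.leaf 0x0)
(.leaf 0x0))
(.node 5207 (.leaf 0x0)
(.leaf 0x0))))
(.node 5212 (.node 5210 (.node 5209 (.leaf 0x0)
(.leaf 0x0))
(.node 5211 (.leaf 0x0)
(.leaf 0x0)))
(.node 5214 (.node 5213 (.leaf 0x0)
(.leaf 0x0))
(.node 5215 (.leaf 0x0)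
(.leaf 0x0))))))
(.node 5232 (.node 5224 (.node 5220 (.node 5218 (.node 5217 (.leaf 0x0)
(.leaf 0x0))
(.node 5219 (.leaf 0x0)
(.leaf 0x0)))
(.node 5222 (.node 5221 (.leaf 0x0)
(.leaf 0x0))
(.node 5223 (.leaf 0x0)
(.leaf 0x0))))
(.node 5228 (.node 5226 (.node 5225 (.leaf 0x0)
(.leaf 0x0))
(.node 5227 (.leaf 0x0)
(.leaf 0x0)))
(.node 5230 (.node 5229 (.leaf 0x0)
(.leaf 0x0))
(.node 5231 (.leaf 0x0)
(.leaf 0x0)))))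
(.node 5240 (.node 5236 (.node 5234 (.node 5233 (.leaf 0x0)
(.leaf 0x0))
(.node 5235 (.leaf 0x0)
(.leaf 0x0)))
(.node 5238 (.node 5237 (.leaf 0x0)
(.leaf 0x0))
(.node 5239 (.leaf 0x0)
(.leaf 0x0))))
(.node 5244 (.node 5242 (.node 5241 (.leaf 0x0)
(.leaf 0x0))
(.node 5243 (.leaf 0x0)
(.leaf 0x0)))
(.node 5246 (.node 5245 (.leaf 0x0)
(.leaf 0x0))
(.node 5247 (.leaf 0x0)
(.leaf 0x0))))))))
(.node 5312 (.node 5280 (.node 5264 (.node 5256 (.node 5252 (.node 5250 (.node 5249 (.leaf 0x0)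
(.leaf 0x0))
(.node 5251 (.leaf 0x0)
(.leaf 0x0)))
(.node 5254 (.node 5253 (.leaf 0x0)
(.leaf 0x0))
(.node 5255 (.leaf 0x0)
(.leaf 0x0))))
(.node 5260 (.node 5258 (.node 5257 (.leaf 0x0)
(.leaf 0x0))
(.node 5259 (.leaf 0x0)
(.leaf 0x0)))
(.node 5262 (.node 5261 (.leaf 0x0)
(.leaf 0x0))
(.node 5263 (.leaf 0x0)
(.leaf 0x0)))))
(.node 5272 (.node 5268 (.node 5266 (.node 5265 (.leaf 0x0)
(.leaf 0x0))
(.node 5267 (.leaf 0x0)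
(.leaf 0x0)))
(.node 5270 (.node 5269 (.leaf 0x0)
(.leaf 0x0))
(.node 5271 (.leaf 0x0)
(.leaf 0x0))))
(.node 5276 (.node 5274 (.node 5273 (.leaf 0x0)
(.leaf 0x0))
(.node 5275 (.leaf 0x0)
(.leaf 0x0)))
(.node 5278 (.node 5277 (.leaf 0x0)
(.leaf 0x0))
(.node 5279 (.leaf 0x0)
(.leaf 0x0))))))
(.node 5296 (.node 5288 (.node 5284 (.node 5282 (.node 5281 (.leaf 0x0)
(.leaf 0x0))
(.node 5283 (.leaf 0x0)
(.leaf 0x0)))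
(.node 5286 (.node 5285 (.leaf 0x0)
(.leaf 0x0))
(.node 5287 (.leaf 0x0)
(.leaf 0x0))))
(.node 5292 (.node 5290 (.node 5289 (.leaf 0x0)
(.leaf 0x0))
(.node 5291 (.leaf 0x0)
(.leaf 0x0)))
(.node 5294 (.node 5293 (.leaf 0x0)
(.leaf 0x0))
(.node 5295 (.leaf 0x0)
(.leaf 0x0)))))
(.node 5304 (.node 5300 (.node 5298 (.node 5297 (.leaf 0x0)
(.leaf 0x0))
(.node 5299 (.leaf 0x0)
(.leaf 0x0)))
(.node 5302 (.node 5301 (.leaf 0x0)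
(.leaf 0x0))
(.node 5303 (.leaf 0x0)
(.leaf 0x0))))
(.node 5308 (.node 5306 (.node 5305 (.leaf 0x0)
(.leaf 0x0))
(.node 5307 (.leaf 0x0)
(.leaf 0x0)))
(.node 5310 (.node 5309 (.leaf 0x0)
(.leaf 0x0))
(.node 5311 (.leaf 0x0)
(.leaf 0x0)))))))
(.node 5344 (.node 5328 (.node 5320 (.node 5316 (.node 5314 (.node 5313 (.leaf 0x0)
(.leaf 0x0))
(.node 5315 (.leaf 0x0)
(.leaf 0x0)))
(.node 5318 (.node 5317 (.leaf 0x0)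
(.leaf 0x0))
(.node 5319 (.leaf 0x0)
(.leaf 0x0))))
(.node 5324 (.node 5322 (.node 5321 (.leaf 0x0)
(.leaf 0x0))
(.node 5323 (.leaf 0x0)
(.leaf 0x0)))
(.node 5326 (.node 5325 (.leaf 0x0)
(.leaf 0x0))
(.node 5327 (.leaf 0x0)
(.leaf 0x0)))))
(.node 5336 (.node 5332 (.node 5330 (.node 5329 (.leaf 0x0)
(.leaf 0x0))
(.node 5331 (.leaf 0x0)
(.leaf 0x0)))
(.node 5334 (.node 5333 (.leaf 0x0)
(.leaf 0x0))
(.node 5335 (.leaf 0x0)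
(.leaf 0x0))))
(.node 5340 (.node 5338 (.node 5337 (.leaf 0x0)
(.leaf 0x0))
(.node 5339 (.leaf 0x0)
(.leaf 0x0)))
(.node 5342 (.node 5341 (.leaf 0x0)
(.leaf 0x0))
(.node 5343 (.leaf 0x0)
(.leaf 0x0))))))
(.node 5360 (.node 5352 (.node 5348 (.node 5346 (.node 5345 (.leaf 0x0)
(.leaf 0x0))
(.node 5347 (.leaf 0x0)
(.leaf 0x0)))
(.node 5350 (.node 5349 (.leaf 0x0)
(.leaf 0x0))
(.node 5351 (.leaf 0x0)
(.leaf 0x0))))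
(.node 5356 (.node 5354 (.node 5353 (.leaf 0x0)
(.leaf 0x0))
(.node 5355 (.leaf 0x0)
(.leaf 0x0)))
(.node 5358 (.node 5357 (.leaf 0x0)
(.leaf 0x0))
(.node 5359 (.leaf 0x0)
(.leaf 0x0)))))
(.node 5368 (.node 5364 (.node 5362 (.node 5361 (.leaf 0x0)
(.leaf 0x0))
(.node 5363 (.leaf 0x0)
(.leaf 0x0)))
(.node 5366 (.node 5365 (.leaf 0x0)
(.leaf 0x0))
(.node 5367 (.leaf 0x0)
(.leaf 0x0))))
(.node 5372 (.node 5370 (.node 5369 (.leaf 0x0)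
(.leaf 0x0))
(.node 5371 (.leaf 0x0)
(.leaf 0x0)))
(.node 5374 (.node 5373 (.leaf 0x0)
(.leaf 0x0))
(.node 5375 (.leaf 0x0)
(.leaf 0x0)))))))))

/-- part of a trie -/
def codePart21 : Tr :=
(.node 5504 (.node 5440 (.node 5408 (.node 5392 (.node 5384 (.node 5380 (.node 5378 (.node 5377 (.leaf 0x0)
(.leaf 0x0))
(.node 5379 (.leaf 0x0)
(.leaf 0x0)))
(.node 5382 (.node 5381 (.leaf 0x0)
(.leaf 0x0))
(.node 5383 (.leaf 0x0)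
(.leaf 0x0))))
(.node 5388 (.node 5386 (.node 5385 (.leaf 0x0)
(.leaf 0x0))
(.node 5387 (.leaf 0x0)
(.leaf 0x0)))
(.node 5390 (.node 5389 (.leaf 0x0)
(.leaf 0x0))
(.node 5391 (.leaf 0x0)
(.leaf 0x0)))))
(.node 5400 (.node 5396 (.node 5394 (.node 5393 (.leaf 0x0)
(.leaf 0x0))
(.node 5395 (.leaf 0x0)
(.leaf 0x0)))
(.node 5398 (.node 5397 (.leaf 0x0)
(.leaf 0x0))
(.node 5399 (.leaf 0x0)
(.leaf 0x0))))
(.node 5404 (.node 5402 (.node 5401 (.leaf 0x0)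
(.leaf 0x0))
(.node 5403 (.leaf 0x0)
(.leaf 0x0)))
(.node 5406 (.node 5405 (.leaf 0x0)
(.leaf 0x0))
(.node 5407 (.leaf 0x0)
(.leaf 0x0))))))
(.node 5424 (.node 5416 (.node 5412 (.node 5410 (.node 5409 (.leaf 0x0)
(.leaf 0x0))
(.node 5411 (.leaf 0x0)
(.leaf 0x0)))
(.node 5414 (.node 5413 (.leaf 0x0)
(.leaf 0x0))
(.node 5415 (.leaf 0x0)
(.leaf 0x0))))
(.node 5420 (.node 5418 (.node 5417 (.leaf 0x0)
(.leaf 0x0))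
(.node 5419 (.leaf 0x0)
(.leaf 0x0)))
(.node 5422 (.node 5421 (.leaf 0x0)
(.leaf 0x0))
(.node 5423 (.leaf 0x0)
(.leaf 0x0)))))
(.node 5432 (.node 5428 (.node 5426 (.node 5425 (.leaf 0x0)
(.leaf 0x0))
(.node 5427 (.leaf 0x0)
(.leaf 0x0)))
(.node 5430 (.node 5429 (.leaf 0x0)
(.leaf 0x0))
(.node 5431 (.leaf 0x0)
(.leaf 0x0))))
(.node 5436 (.node 5434 (.node 5433 (.leaf 0x0)
(.leaf 0x0))
(.node 5435 (.leaf 0x0)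
(.leaf 0x0)))
(.node 5438 (.node 5437 (.leaf 0x0)
(.leaf 0x0))
(.node 5439 (.leaf 0x0)
(.leaf 0x0)))))))
(.node 5472 (.node 5456 (.node 5448 (.node 5444 (.node 5442 (.node 5441 (.leaf 0x0)
(.leaf 0x0))
(.node 5443 (.leaf 0x0)
(.leaf 0x0)))
(.node 5446 (.node 5445 (.leaf 0x0)
(.leaf 0x0))
(.node 5447 (.leaf 0x0)
(.leaf 0x0))))
(.node 5452 (.node 5450 (.node 5449 (.leaf 0x0)
(.leaf 0x0))
(.node 5451 (.leaf 0x0)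
(.leaf 0x0)))
(.node 5454 (.node 5453 (.leaf 0x0)
(.leaf 0x0))
(.node 5455 (.leaf 0x0)
(.leaf 0x0)))))
(.node 5464 (.node 5460 (.node 5458 (.node 5457 (.leaf 0x0)
(.leaf 0x0))
(.node 5459 (.leaf 0x0)
(.leaf 0x0)))
(.node 5462 (.node 5461 (.leaf 0x0)
(.leaf 0x0))
(.node 5463 (.leaf 0x0)
(.leaf 0x0))))
(.node 5468 (.node 5466 (.node 5465 (.leaf 0x0)
(.leaf 0x0))
(.node 5467 (.leaf 0x0)
(.leaf 0x0)))
(.node 5470 (.node 5469 (.leaf 0x0)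
(.leaf 0x0))
(.node 5471 (.leaf 0x0)
(.leaf 0x0))))))
(.node 5488 (.node 5480 (.node 5476 (.node 5474 (.node 5473 (.leaf 0x0)
(.leaf 0x0))
(.node 5475 (.leaf 0x0)
(.leaf 0x0)))
(.node 5478 (.node 5477 (.leaf 0x0)
(.leaf 0x0))
(.node 5479 (.leaf 0x0)
(.leaf 0x0))))
(.node 5484 (.node 5482 (.node 5481 (.leaf 0x0)
(.leaf 0x0))
(.node 5483 (.leaf 0x0)
(.leaf 0x0)))
(.node 5486 (.node 5485 (.leaf 0x0)
(.leaf 0x0))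
(.node 5487 (.leaf 0x0)
(.leaf 0x0)))))
(.node 5496 (.node 5492 (.node 5490 (.node 5489 (.leaf 0x0)
(.leaf 0x0))
(.node 5491 (.leaf 0x0)
(.leaf 0x0)))
(.node 5494 (.node 5493 (.leaf 0x0)
(.leaf 0x0))
(.node 5495 (.leaf 0x0)
(.leaf 0x0))))
(.node 5500 (.node 5498 (.node 5497 (.leaf 0x0)
(.leaf 0x0))
(.node 5499 (.leaf 0x0)
(.leaf 0x0)))
(.node 5502 (.node 5501 (.leaf 0x0)
(.leaf 0x0))
(.node 5503 (.leaf 0x0)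
(.leaf 0x0))))))))
(.node 5568 (.node 5536 (.node 5520 (.node 5512 (.node 5508 (.node 5506 (.node 5505 (.leaf 0x0)
(.leaf 0x0))
(.node 5507 (.leaf 0x0)
(.leaf 0x0)))
(.node 5510 (.node 5509 (.leaf 0x0)
(.leaf 0x0))
(.node 5511 (.leaf 0x0)
(.leaf 0x0))))
(.node 5516 (.node 5514 (.node 5513 (.leaf 0x0)
(.leaf 0x0))
(.node 5515 (.leaf 0x0)
(.leaf 0x0)))
(.node 5518 (.node 5517 (.leaf 0x0)
(.leaf 0x0))
(.node 5519 (.leaf 0x0)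
(.leaf 0x0)))))
(.node 5528 (.node 5524 (.node 5522 (.node 5521 (.leaf 0x0)
(.leaf 0x0))
(.node 5523 (.leaf 0x0)
(.leaf 0x0)))
(.node 5526 (.node 5525 (.leaf 0x0)
(.leaf 0x0))
(.node 5527 (.leaf 0x0)
(.leaf 0x0))))
(.node 5532 (.node 5530 (.node 5529 (.leaf 0x0)
(.leaf 0x0))
(.node 5531 (.leaf 0x0)
(.leaf 0x0)))
(.node 5534 (.node 5533 (.leaf 0x0)
(.leaf 0x0))
(.node 5535 (.leaf 0x0)
(.leaf 0x0))))))
(.node 5552 (.node 5544 (.node 5540 (.node 5538 (.node 5537 (.leaf 0x0)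
(.leaf 0x0))
(.node 5539 (.leaf 0x0)
(.leaf 0x0)))
(.node 5542 (.node 5541 (.leaf 0x0)
(.leaf 0x0))
(.node 5543 (.leaf 0x0)
(.leaf 0x0))))
(.node 5548 (.node 5546 (.node 5545 (.leaf 0x0)
(.leaf 0x0))
(.node 5547 (.leaf 0x0)
(.leaf 0x0)))
(.node 5550 (.node 5549 (.leaf 0x0)
(.leaf 0x0))
(.node 5551 (.leaf 0x0)
(.leaf 0x0)))))
(.node 5560 (.node 5556 (.node 5554 (.node 5553 (.leaf 0x0)
(.leaf 0x0))
(.node 5555 (.leaf 0x0)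
(.leaf 0x0)))
(.node 5558 (.node 5557 (.leaf 0x0)
(.leaf 0x0))
(.node 5559 (.leaf 0x0)
(.leaf 0x0))))
(.node 5564 (.node 5562 (.node 5561 (.leaf 0x0)
(.leaf 0x0))
(.node 5563 (.leaf 0x0)
(.leaf 0x0)))
(.node 5566 (.node 5565 (.leaf 0x0)
(.leaf 0x0))
(.node 5567 (.leaf 0x0)
(.leaf 0x0)))))))
(.node 5600 (.node 5584 (.node 5576 (.node 5572 (.node 5570 (.node 5569 (.leaf 0x0)
(.leaf 0x0))
(.node 5571 (.leaf 0x0)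
(.leaf 0x0)))
(.node 5574 (.node 5573 (.leaf 0x0)
(.leaf 0x0))
(.node 5575 (.leaf 0x0)
(.leaf 0x0))))
(.node 5580 (.node 5578 (.node 5577 (.leaf 0x0)
(.leaf 0x0))
(.node 5579 (.leaf 0x0)
(.leaf 0x0)))
(.node 5582 (.node 5581 (.leaf 0x0)
(.leaf 0x0))
(.node 5583 (.leaf 0x0)
(.leaf 0x0)))))
(.node 5592 (.node 5588 (.node 5586 (.node 5585 (.leaf 0x0)
(.leaf 0x0))
(.node 5587 (.leaf 0x0)
(.leaf 0x0)))
(.node 5590 (.node 5589 (.leaf 0x0)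
(.leaf 0x0))
(.node 5591 (.leaf 0x0)
(.leaf 0x0))))
(.node 5596 (.node 5594 (.node 5593 (.leaf 0x0)
(.leaf 0x0))
(.node 5595 (.leaf 0x0)
(.leaf 0x0)))
(.node 5598 (.node 5597 (.leaf 0x0)
(.leaf 0x0))
(.node 5599 (.leaf 0x0)
(.leaf 0x0))))))
(.node 5616 (.node 5608 (.node 5604 (.node 5602 (.node 5601 (.leaf 0x0)
(.leaf 0x0))
(.node 5603 (.leaf 0x0)
(.leaf 0x0)))
(.node 5606 (.node 5605 (.leaf 0x0)
(.leaf 0x0))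
(.node 5607 (.leaf 0x0)
(.leaf 0x0))))
(.node 5612 (.node 5610 (.node 5609 (.leaf 0x0)
(.leaf 0x0))
(.node 5611 (.leaf 0x0)
(.leaf 0x0)))
(.node 5614 (.node 5613 (.leaf 0x0)
(.leaf 0x0))
(.node 5615 (.leaf 0x0)
(.leaf 0x0)))))
(.node 5624 (.node 5620 (.node 5618 (.node 5617 (.leaf 0x0)
(.leaf 0x0))
(.node 5619 (.leaf 0x0)
(.leaf 0x0)))
(.node 5622 (.node 5621 (.leaf 0x0)
(.leaf 0x0))
(.node 5623 (.leaf 0x0)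
(.leaf 0x0))))
(.node 5628 (.node 5626 (.node 5625 (.leaf 0x0)
(.leaf 0x0))
(.node 5627 (.leaf 0x0)
(.leaf 0x0)))
(.node 5630 (.node 5629 (.leaf 0x0)
(.leaf 0x0))
(.node 5631 (.leaf 0x0)
(.leaf 0x0)))))))))

/-- part of a trie -/
def codePart22 : Tr :=
(.node 5760 (.node 5696 (.node 5664 (.node 5648 (.node 5640 (.node 5636 (.node 5634 (.node 5633 (.leaf 0x0)
(.leaf 0x0))
(.node 5635 (.leaf 0x0)
(.leaf 0x0)))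
(.node 5638 (.node 5637 (.leaf 0x0)
(.leaf 0x0))
(.node 5639 (.leaf 0x0)
(.leaf 0x0))))
(.node 5644 (.node 5642 (.node 5641 (.leaf 0x0)
(.leaf 0x0))
(.node 5643 (.leaf 0x0)
(.leaf 0x0)))
(.node 5646 (.node 5645 (.leaf 0x0)
(.leaf 0x0))
(.node 5647 (.leaf 0x0)
(.leaf 0x0)))))
(.node 5656 (.node 5652 (.node 5650 (.node 5649 (.leaf 0x0)
(.leaf 0x0))
(.node 5651 (.leaf 0x0)
(.leaf 0x0)))
(.node 5654 (.node 5653 (.leaf 0x0)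
(.leaf 0x0))
(.node 5655 (.leaf 0x0)
(.leaf 0x0))))
(.node 5660 (.node 5658 (.node 5657 (.leaf 0x0)
(.leaf 0x0))
(.node 5659 (.leaf 0x0)
(.leaf 0x0)))
(.node 5662 (.node 5661 (.leaf 0x0)
(.leaf 0x0))
(.node 5663 (.leaf 0x0)
(.leaf 0x0))))))
(.node 5680 (.node 5672 (.node 5668 (.node 5666 (.node 5665 (.leaf 0x0)
(.leaf 0x0))
(.node 5667 (.leaf 0x0)
(.leaf 0x0)))
(.node 5670 (.node 5669 (.leaf 0x0)
(.leaf 0x0))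
(.node 5671 (.leaf 0x0)
(.leaf 0x0))))
(.node 5676 (.node 5674 (.node 5673 (.leaf 0x0)
(.leaf 0x0))
(.node 5675 (.leaf 0x0)
(.leaf 0x0)))
(.node 5678 (.node 5677 (.leaf 0x0)
(.leaf 0x0))
(.node 5679 (.leaf 0x0)
(.leaf 0x0)))))
(.node 5688 (.node 5684 (.node 5682 (.node 5681 (.leaf 0x0)
(.leaf 0x0))
(.node 5683 (.leaf 0x0)
(.leaf 0x0)))
(.node 5686 (.node 5685 (.leaf 0x0)
(.leaf 0x0))
(.node 5687 (.leaf 0x0)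
(.leaf 0x0))))
(.node 5692 (.node 5690 (.node 5689 (.leaf 0x0)
(.leaf 0x0))
(.node 5691 (.leaf 0x0)
(.leaf 0x0)))
(.node 5694 (.node 5693 (.leaf 0x0)
(.leaf 0x0))
(.node 5695 (.leaf 0x0)
(.leaf 0x0)))))))
(.node 5728 (.node 5712 (.node 5704 (.node 5700 (.node 5698 (.node 5697 (.leaf 0x0)
(.leaf 0x0))
(.node 5699 (.leaf 0x0)
(.leaf 0x0)))
(.node 5702 (.node 5701 (.leaf 0x0)
(.leaf 0x0))
(.node 5703 (.leaf 0x0)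
(.leaf 0x0))))
(.node 5708 (.node 5706 (.node 5705 (.leaf 0x0)
(.leaf 0x0))
(.node 5707 (.leaf 0x0)
(.leaf 0x0)))
(.node 5710 (.node 5709 (.leaf 0x0)
(.leaf 0x0))
(.node 5711 (.leaf 0x0)
(.leaf 0x0)))))
(.node 5720 (.node 5716 (.node 5714 (.node 5713 (.leaf 0x0)
(.leaf 0x0))
(.node 5715 (.leaf 0x0)
(.leaf 0x0)))
(.node 5718 (.node 5717 (.leaf 0x0)
(.leaf 0x0))
(.node 5719 (.leaf 0x0)
(.leaf 0x0))))
(.node 5724 (.node 5722 (.node 5721 (.leaf 0x0)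
(.leaf 0x0))
(.node 5723 (.leaf 0x0)
(.leaf 0x0)))
(.node 5726 (.node 5725 (.leaf 0x0)
(.leaf 0x0))
(.node 5727 (.leaf 0x0)
(.leaf 0x0))))))
(.node 5744 (.node 5736 (.node 5732 (.node 5730 (.node 5729 (.leaf 0x0)
(.leaf 0x0))
(.node 5731 (.leaf 0x0)
(.leaf 0x0)))
(.node 5734 (.node 5733 (.leaf 0x0)
(.leaf 0x0))
(.node 5735 (.leaf 0x0)
(.leaf 0x0))))
(.node 5740 (.node 5738 (.node 5737 (.leaf 0x0)
(.leaf 0x0))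
(.node 5739 (.leaf 0x0)
(.leaf 0x0)))
(.node 5742 (.node 5741 (.leaf 0x0)
(.leaf 0x0))
(.node 5743 (.leaf 0x0)
(.leaf 0x0)))))
(.node 5752 (.node 5748 (.node 5746 (.node 5745 (.leaf 0x0)
(.leaf 0x0))
(.node 5747 (.leaf 0x0)
(.leaf 0x0)))
(.node 5750 (.node 5749 (.leaf 0x0)
(.leaf 0x0))
(.node 5751 (.leaf 0x0)
(.leaf 0x0))))
(.node 5756 (.node 5754 (.node 5753 (.leaf 0x0)
(.leaf 0x0))
(.node 5755 (.leaf 0x0)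
(.leaf 0x0)))
(.node 5758 (.node 5757 (.leaf 0x0)
(.leaf 0x0))
(.node 5759 (.leaf 0x0)
(.leaf 0x0))))))))
(.node 5824 (.node 5792 (.node 5776 (.node 5768 (.node 5764 (.node 5762 (.node 5761 (.leaf 0x0)
(.leaf 0x0))
(.node 5763 (.leaf 0x0)
(.leaf 0x0)))
(.node 5766 (.node 5765 (.leaf 0x0)
(.leaf 0x0))
(.node 5767 (.leaf 0x0)
(.leaf 0x0))))
(.node 5772 (.node 5770 (.node 5769 (.leaf 0x0)
(.leaf 0x0))
(.node 5771 (.leaf 0x0)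
(.leaf 0x0)))
(.node 5774 (.node 5773 (.leaf 0x0)
(.leaf 0x0))
(.node 5775 (.leaf 0x0)
(.leaf 0x0)))))
(.node 5784 (.node 5780 (.node 5778 (.node 5777 (.leaf 0x0)
(.leaf 0x0))
(.node 5779 (.leaf 0x0)
(.leaf 0x0)))
(.node 5782 (.node 5781 (.leaf 0x0)
(.leaf 0x0))
(.node 5783 (.leaf 0x0)
(.leaf 0x0))))
(.node 5788 (.node 5786 (.node 5785 (.leaf 0x0)
(.leaf 0x0))
(.node 5787 (.leaf 0x0)
(.leaf 0x0)))
(.node 5790 (.node 5789 (.leaf 0x0)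
(.leaf 0x0))
(.node 5791 (.leaf 0x0)
(.leaf 0x0))))))
(.node 5808 (.node 5800 (.node 5796 (.node 5794 (.node 5793 (.leaf 0x0)
(.leaf 0x0))
(.node 5795 (.leaf 0x0)
(.leaf 0x0)))
(.node 5798 (.node 5797 (.leaf 0x0)
(.leaf 0x0))
(.node 5799 (.leaf 0x0)
(.leaf 0x0))))
(.node 5804 (.node 5802 (.node 5801 (.leaf 0x0)
(.leaf 0x0))
(.node 5803 (.leaf 0x0)
(.leaf 0x0)))
(.node 5806 (.node 5805 (.leaf 0x0)
(.leaf 0x0))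
(.node 5807 (.leaf 0x0)
(.leaf 0x0)))))
(.node 5816 (.node 5812 (.node 5810 (.node 5809 (.leaf 0x0)
(.leaf 0x0))
(.node 5811 (.leaf 0x0)
(.leaf 0x0)))
(.node 5814 (.node 5813 (.leaf 0x0)
(.leaf 0x0))
(.node 5815 (.leaf 0x0)
(.leaf 0x0))))
(.node 5820 (.node 5818 (.node 5817 (.leaf 0x0)
(.leaf 0x0))
(.node 5819 (.leaf 0x0)
(.leaf 0x0)))
(.node 5822 (.node 5821 (.leaf 0x0)
(.leaf 0x0))
(.node 5823 (.leaf 0x0)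
(.leaf 0x0)))))))
(.node 5856 (.node 5840 (.node 5832 (.node 5828 (.node 5826 (.node 5825 (.leaf 0x0)
(.leaf 0x0))
(.node 5827 (.leaf 0x0)
(.leaf 0x0)))
(.node 5830 (.node 5829 (.leaf 0x0)
(.leaf 0x0))
(.node 5831 (.leaf 0x0)
(.leaf 0x0))))
(.node 5836 (.node 5834 (.node 5833 (.leaf 0x0)
(.leaf 0x0))
(.node 5835 (.leaf 0x0)
(.leaf 0x0)))
(.node 5838 (.node 5837 (.leaf 0x0)
(.leaf 0x0))
(.node 5839 (.leaf 0x0)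
(.leaf 0x0)))))
(.node 5848 (.node 5844 (.node 5842 (.node 5841 (.leaf 0x0)
(.leaf 0x0))
(.node 5843 (.leaf 0x0)
(.leaf 0x0)))
(.node 5846 (.node 5845 (.leaf 0x0)
(.leaf 0x0))
(.node 5847 (.leaf 0x0)
(.leaf 0x0))))
(.node 5852 (.node 5850 (.node 5849 (.leaf 0x0)
(.leaf 0x0))
(.node 5851 (.leaf 0x0)
(.leaf 0x0)))
(.node 5854 (.node 5853 (.leaf 0x0)
(.leaf 0x0))
(.node 5855 (.leaf 0x0)
(.leaf 0x0))))))
(.node 5872 (.node 5864 (.node 5860 (.node 5858 (.node 5857 (.leaf 0x0)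
(.leaf 0x0))
(.node 5859 (.leaf 0x0)
(.leaf 0x0)))
(.node 5862 (.node 5861 (.leaf 0x0)
(.leaf 0x0))
(.node 5863 (.leaf 0x0)
(.leaf 0x0))))
(.node 5868 (.node 5866 (.node 5865 (.leaf 0x0)
(.leaf 0x0))
(.node 5867 (.leaf 0x0)
(.leaf 0x0)))
(.node 5870 (.node 5869 (.leaf 0x0)
(.leaf 0x0))
(.node 5871 (.leaf 0x0)
(.leaf 0x0)))))
(.node 5880 (.node 5876 (.node 5874 (.node 5873 (.leaf 0x0)
(.leaf 0x0))
(.node 5875 (.leaf 0x0)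
(.leaf 0x0)))
(.node 5878 (.node 5877 (.leaf 0x0)
(.leaf 0x0))
(.node 5879 (.leaf 0x0)
(.leaf 0x0))))
(.node 5884 (.node 5882 (.node 5881 (.leaf 0x0)
(.leaf 0x0))
(.node 5883 (.leaf 0x0)
(.leaf 0x0)))
(.node 5886 (.node 5885 (.leaf 0x0)
(.leaf 0x0))
(.node 5887 (.leaf 0x0)
(.leaf 0x0)))))))))

/-- part of a trie -/
def codePart23 : Tr :=
(.node 6016 (.node 5952 (.node 5920 (.node 5904 (.node 5896 (.node 5892 (.node 5890 (.node 5889 (.leaf 0x0)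
(.leaf 0x0))
(.node 5891 (.leaf 0x0)
(.leaf 0x0)))
(.node 5894 (.node 5893 (.leaf 0x0)
(.leaf 0x0))
(.node 5895 (.leaf 0x0)
(.leaf 0x0))))
(.node 5900 (.node 5898 (.node 5897 (.leaf 0x0)
(.leaf 0x0))
(.node 5899 (.leaf 0x0)
(.leaf 0x0)))
(.node 5902 (.node 5901 (.leaf 0x0)
(.leaf 0x0))
(.node 5903 (.leaf 0x0)
(.leaf 0x0)))))
(.node 5912 (.node 5908 (.node 5906 (.node 5905 (.leaf 0x0)
(.leaf 0x0))
(.node 5907 (.leaf 0x0)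
(.leaf 0x0)))
(.node 5910 (.node 5909 (.leaf 0x0)
(.leaf 0x0))
(.node 5911 (.leaf 0x0)
(.leaf 0x0))))
(.node 5916 (.node 5914 (.node 5913 (.leaf 0x0)
(.leaf 0x0))
(.node 5915 (.leaf 0x0)
(.leaf 0x0)))
(.node 5918 (.node 5917 (.leaf 0x0)
(.leaf 0x0))
(.node 5919 (.leaf 0x0)
(.leaf 0x0))))))
(.node 5936 (.node 5928 (.node 5924 (.node 5922 (.node 5921 (.leaf 0x0)
(.leaf 0x0))
(.node 5923 (.leaf 0x0)
(.leaf 0x0)))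
(.node 5926 (.node 5925 (.leaf 0x0)
(.leaf 0x0))
(.node 5927 (.leaf 0x0)
(.leaf 0x0))))
(.node 5932 (.node 5930 (.node 5929 (.leaf 0x0)
(.leaf 0x0))
(.node 5931 (.leaf 0x0)
(.leaf 0x0)))
(.node 5934 (.node 5933 (.leaf 0x0)
(.leaf 0x0))
(.node 5935 (.leaf 0x0)
(.leaf 0x0)))))
(.node 5944 (.node 5940 (.node 5938 (.node 5937 (.leaf 0x0)
(.leaf 0x0))
(.node 5939 (.leaf 0x0)
(.leaf 0x0)))
(.node 5942 (.node 5941 (.leaf 0x0)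
(.leaf 0x0))
(.node 5943 (.leaf 0x0)
(.leaf 0x0))))
(.node 5948 (.node 5946 (.node 5945 (.leaf 0x0)
(.leaf 0x0))
(.node 5947 (.leaf 0x0)
(.leaf 0x0)))
(.node 5950 (.node 5949 (.leaf 0x0)
(.leaf 0x0))
(.node 5951 (.leaf 0x0)
(.leaf 0x0)))))))
(.node 5984 (.node 5968 (.node 5960 (.node 5956 (.node 5954 (.node 5953 (.leaf 0x0)
(.leaf 0x0))
(.node 5955 (.leaf 0x0)
(.leaf 0x0)))
(.node 5958 (.node 5957 (.leaf 0x0)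
(.leaf 0x0))
(.node 5959 (.leaf 0x0)
(.leaf 0x0))))
(.node 5964 (.node 5962 (.node 5961 (.leaf 0x0)
(.leaf 0x0))
(.node 5963 (.leaf 0x0)
(.leaf 0x0)))
(.node 5966 (.node 5965 (.leaf 0x0)
(.leaf 0x0))
(.node 5967 (.leaf 0x0)
(.leaf 0x0)))))
(.node 5976 (.node 5972 (.node 5970 (.node 5969 (.leaf 0x0)
(.leaf 0x0))
(.node 5971 (.leaf 0x0)
(.leaf 0x0)))
(.node 5974 (.node 5973 (.leaf 0x0)
(.leaf 0x0))
(.node 5975 (.leaf 0x0)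
(.leaf 0x0))))
(.node 5980 (.node 5978 (.node 5977 (.leaf 0x0)
(.leaf 0x0))
(.node 5979 (.leaf 0x0)
(.leaf 0x0)))
(.node 5982 (.node 5981 (.leaf 0x0)
(.leaf 0x0))
(.node 5983 (.leaf 0x0)
(.leaf 0x0))))))
(.node 6000 (.node 5992 (.node 5988 (.node 5986 (.node 5985 (.leaf 0x0)
(.leaf 0x0))
(.node 5987 (.leaf 0x0)
(.leaf 0x0)))
(.node 5990 (.node 5989 (.leaf 0x0)
(.leaf 0x0))
(.node 5991 (.leaf 0x0)
(.leaf 0x0))))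
(.node 5996 (.node 5994 (.node 5993 (.leaf 0x0)
(.leaf 0x0))
(.node 5995 (.leaf 0x0)
(.leaf 0x0)))
(.node 5998 (.node 5997 (.leaf 0x0)
(.leaf 0x0))
(.node 5999 (.leaf 0x0)
(.leaf 0x0)))))
(.node 6008 (.node 6004 (.node 6002 (.node 6001 (.leaf 0x0)
(.leaf 0x0))
(.node 6003 (.leaf 0x0)
(.leaf 0x0)))
(.node 6006 (.node 6005 (.leaf 0x0)
(.leaf 0x0))
(.node 6007 (.leaf 0x0)
(.leaf 0x0))))
(.node 6012 (.node 6010 (.node 6009 (.leaf 0x0)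
(.leaf 0x0))
(.node 6011 (.leaf 0x0)
(.leaf 0x0)))
(.node 6014 (.node 6013 (.leaf 0x0)
(.leaf 0x0))
(.node 6015 (.leaf 0x0)
(.leaf 0x0))))))))
(.node 6080 (.node 6048 (.node 6032 (.node 6024 (.node 6020 (.node 6018 (.node 6017 (.leaf 0x0)
(.leaf 0x0))
(.node 6019 (.leaf 0x0)
(.leaf 0x0)))
(.node 6022 (.node 6021 (.leaf 0x0)
(.leaf 0x0))
(.node 6023 (.leaf 0x0)
(.leaf 0x0))))
(.node 6028 (.node 6026 (.node 6025 (.leaf 0x0)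
(.leaf 0x0))
(.node 6027 (.leaf 0x0)
(.leaf 0x0)))
(.node 6030 (.node 6029 (.leaf 0x0)
(.leaf 0x0))
(.node 6031 (.leaf 0x0)
(.leaf 0x0)))))
(.node 6040 (.node 6036 (.node 6034 (.node 6033 (.leaf 0x0)
(.leaf 0x0))
(.node 6035 (.leaf 0x0)
(.leaf 0x0)))
(.node 6038 (.node 6037 (.leaf 0x0)
(.leaf 0x0))
(.node 6039 (.leaf 0x0)
(.leaf 0x0))))
(.node 6044 (.node 6042 (.node 6041 (.leaf 0x0)
(.leaf 0x0))
(.node 6043 (.leaf 0x0)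
(.leaf 0x0)))
(.node 6046 (.node 6045 (.leaf 0x0)
(.leaf 0x0))
(.node 6047 (.leaf 0x0)
(.leaf 0x0))))))
(.node 6064 (.node 6056 (.node 6052 (.node 6050 (.node 6049 (.leaf 0x0)
(.leaf 0x0))
(.node 6051 (.leaf 0x0)
(.leaf 0x0)))
(.node 6054 (.node 6053 (.leaf 0x0)
(.leaf 0x0))
(.node 6055 (.leaf 0x0)
(.leaf 0x0))))
(.node 6060 (.node 6058 (.node 6057 (.leaf 0x0)
(.leaf 0x0))
(.node 6059 (.leaf 0x0)
(.leaf 0x0)))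
(.node 6062 (.node 6061 (.leaf 0x0)
(.leaf 0x0))
(.node 6063 (.leaf 0x0)
(.leaf 0x0)))))
(.node 6072 (.node 6068 (.node 6066 (.node 6065 (.leaf 0x0)
(.leaf 0x0))
(.node 6067 (.leaf 0x0)
(.leaf 0x0)))
(.node 6070 (.node 6069 (.leaf 0x0)
(.leaf 0x0))
(.node 6071 (.leaf 0x0)
(.leaf 0x0))))
(.node 6076 (.node 6074 (.node 6073 (.leaf 0x0)
(.leaf 0x0))
(.node 6075 (.leaf 0x0)
(.leaf 0x0)))
(.node 6078 (.node 6077 (.leaf 0x0)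
(.leaf 0x0))
(.node 6079 (.leaf 0x0)
(.leaf 0x0)))))))
(.node 6112 (.node 6096 (.node 6088 (.node 6084 (.node 6082 (.node 6081 (.leaf 0x0)
(.leaf 0x0))
(.node 6083 (.leaf 0x0)
(.leaf 0x0)))
(.node 6086 (.node 6085 (.leaf 0x0)
(.leaf 0x0))
(.node 6087 (.leaf 0x0)
(.leaf 0x0))))
(.node 6092 (.node 6090 (.node 6089 (.leaf 0x0)
(.leaf 0x0))
(.node 6091 (.leaf 0x0)
(.leaf 0x0)))
(.node 6094 (.node 6093 (.leaf 0x0)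
(.leaf 0x0))
(.node 6095 (.leaf 0x0)
(.leaf 0x0)))))
(.node 6104 (.node 6100 (.node 6098 (.node 6097 (.leaf 0x0)
(.leaf 0x0))
(.node 6099 (.leaf 0x0)
(.leaf 0x0)))
(.node 6102 (.node 6101 (.leaf 0x0)
(.leaf 0x0))
(.node 6103 (.leaf 0x0)
(.leaf 0x0))))
(.node 6108 (.node 6106 (.node 6105 (.leaf 0x0)
(.leaf 0x0))
(.node 6107 (.leaf 0x0)
(.leaf 0x0)))
(.node 6110 (.node 6109 (.leaf 0x0)
(.leaf 0x0))
(.node 6111 (.leaf 0x0)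
(.leaf 0x0))))))
(.node 6128 (.node 6120 (.node 6116 (.node 6114 (.node 6113 (.leaf 0x0)
(.leaf 0x0))
(.node 6115 (.leaf 0x0)
(.leaf 0x0)))
(.node 6118 (.node 6117 (.leaf 0x0)
(.leaf 0x0))
(.node 6119 (.leaf 0x0)
(.leaf 0x0))))
(.node 6124 (.node 6122 (.node 6121 (.leaf 0x0)
(.leaf 0x0))
(.node 6123 (.leaf 0x0)
(.leaf 0x0)))
(.node 6126 (.node 6125 (.leaf 0x0)
(.leaf 0x0))
(.node 6127 (.leaf 0x0)
(.leaf 0x0)))))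
(.node 6136 (.node 6132 (.node 6130 (.node 6129 (.leaf 0x0)
(.leaf 0x0))
(.node 6131 (.leaf 0x0)
(.leaf 0x0)))
(.node 6134 (.node 6133 (.leaf 0x0)
(.leaf 0x0))
(.node 6135 (.leaf 0x0)
(.leaf 0x0))))
(.node 6140 (.node 6138 (.node 6137 (.leaf 0x0)
(.leaf 0x0))
(.node 6139 (.leaf 0x0)
(.leaf 0x0)))
(.node 6142 (.node 6141 (.leaf 0x0)
(.leaf 0x0))
(.node 6143 (.leaf 0x0)
(.leaf 0x0)))))))))

end Cfsg.Agent.H96.Fi24Mult.Zthree
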