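import Cfsg.Agent.H25.Fi24.Table

/-!
Generated data of a scan certificate.
-/

set_option autoImplicit false

namespace Cfsg.Agent.H96.Fi24Mult.Zthree

open Cfsg.Agent.H25.Fi24 (Tr)

/-- part of a trie -/
def parPart0 : Tr :=
(.node 128 (.node 64 (.node 32 (.node 16 (.node 8 (.node 4 (.node 2 (.node 1 (.leaf 0x0)
(.leaf 0x2))
(.node 3 (.leaf 0x11)
(.leaf 0x13)))
(.node 6 (.node 5 (.leaf 0x23)
(.leaf 0x34))
(.node 7 (.leaf 0x42)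
(.leaf 0x44))))
(.node 12 (.node 10 (.node 9 (.leaf 0x55)
(.leaf 0x64))
(.node 11 (.leaf 0x75)
(.leaf 0x86)))
(.node 14 (.node 13 (.leaf 0x93)
(.leaf 0x95))
(.node 15 (.leaf 0xa6)
(.leaf 0xb7)))))
(.node 24 (.node 20 (.node 18 (.node 17 (.leaf 0xbb)
(.leaf 0xc5))
(.node 19 (.leaf 0xd6)
(.leaf 0xe7)))
(.node 22 (.node 21 (.leaf 0xeb)
(.leaf 0xf8))
(.node 23 (.leaf 0xfb)
(.leaf 0x10c))))
(.node 28 (.node 26 (.node 25 (.leaf 0x114)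
(.leaf 0x116))
(.node 27 (.leaf 0x127)
(.leaf 0x12b)))
(.node 30 (.node 29 (.leaf 0x138)
(.leaf 0x13b))
(.node 31 (.leaf 0x14c)
(.leaf 0x159))))))
(.node 48 (.node 40 (.node 36 (.node 34 (.node 33 (.leaf 0x15b)
(.leaf 0x166))
(.node 35 (.leaf 0x16c)
(.leaf 0x186)))
(.node 38 (.node 37 (.leaf 0x197)
(.leaf 0x19b))
(.node 39 (.leaf 0x1a8)
(.leaf 0x1ab))))
(.node 44 (.node 42 (.node 41 (.leaf 0x1bc)
(.leaf 0x1c9))
(.node 43 (.leaf 0x1cb)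
(.leaf 0x1d6)))
(.node 46 (.node 45 (.leaf 0x1dc)
(.leaf 0x1fa))
(.node 47 (.leaf 0x1fb)
(.leaf 0x206)))))
(.node 56 (.node 52 (.node 50 (.node 49 (.leaf 0x20c)
(.leaf 0x215))
(.node 51 (.leaf 0x21c)
(.leaf 0x235)))
(.node 54 (.node 53 (.leaf 0x237)
(.leaf 0x23b))
(.node 55 (.leaf 0x248)
(.leaf 0x24b))))
(.node 60 (.node 58 (.node 57 (.leaf 0x25c)
(.leaf 0x269))
(.node 59 (.leaf 0x26b)
(.leaf 0x276)))
(.node 62 (.node 61 (.leaf 0x27c)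
(.leaf 0x29a))
(.node 63 (.leaf 0x29b)
(.leaf 0x2a6)))))))
(.node 96 (.node 80 (.node 72 (.node 68 (.node 66 (.node 65 (.leaf 0x2ac)
(.leaf 0x2b5))
(.node 67 (.leaf 0x2bc)
(.leaf 0x2db)))
(.node 70 (.node 69 (.leaf 0x2e6)
(.leaf 0x2ec))
(.node 71 (.leaf 0x2f5)
(.leaf 0x2f7))))
(.node 76 (.node 74 (.node 73 (.leaf 0x2fc)
(.leaf 0x314))
(.node 75 (.leaf 0x31c)
(.leaf 0x32b)))
(.node 78 (.node 77 (.leaf 0x337)
(.leaf 0x33b))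
(.node 79 (.leaf 0x348)
(.leaf 0x34b)))))
(.node 88 (.node 84 (.node 82 (.node 81 (.leaf 0x35c)
(.leaf 0x369))
(.node 83 (.leaf 0x36b)
(.leaf 0x376)))
(.node 86 (.node 85 (.leaf 0x37c)
(.leaf 0x39a))
(.node 87 (.leaf 0x39b)
(.leaf 0x3a6))))
(.node 92 (.node 90 (.node 89 (.leaf 0x3ac)
(.leaf 0x3b5))
(.node 91 (.leaf 0x3bc)
(.leaf 0x3db)))
(.node 94 (.node 93 (.leaf 0x3e6)
(.leaf 0x3ec))
(.node 95 (.leaf 0x3f5)
(.leaf 0x3f7))))))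
(.node 112 (.node 104 (.node 100 (.node 98 (.node 97 (.leaf 0x3fc)
(.leaf 0x414))
(.node 99 (.leaf 0x41c)
(.leaf 0x42b)))
(.node 102 (.node 101 (.leaf 0x436)
(.leaf 0x43c))
(.node 103 (.leaf 0x445)
(.leaf 0x447))))
(.node 108 (.node 106 (.node 105 (.leaf 0x44c)
(.leaf 0x464))
(.node 107 (.leaf 0x467)
(.leaf 0x46c)))
(.node 110 (.node 109 (.leaf 0x47c)
(.leaf 0x48b))
(.node 111 (.leaf 0x493)
(.leaf 0x49c)))))
(.node 120 (.node 116 (.node 114 (.node 113 (.leaf 0x4ab)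
(.leaf 0x4c6))
(.node 115 (.leaf 0x4c8)
(.leaf 0x4cb)))
(.node 118 (.node 117 (.leaf 0x4d6)
(.leaf 0x4dc))
(.node 119 (.leaf 0x4e9)
(.leaf 0x4eb))))
(.node 124 (.node 122 (.node 121 (.leaf 0x4f6)
(.leaf 0x4fc))
(.node 123 (.leaf 0x51a)
(.leaf 0x51b)))
(.node 126 (.node 125 (.leaf 0x526)
(.leaf 0x52c))
(.node 127 (.leaf 0x535)
(.leaf 0x53c))))))))
(.node 192 (.node 160 (.node 144 (.node 136 (.node 132 (.node 130 (.node 129 (.leaf 0x55b)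
(.leaf 0x566))
(.node 131 (.leaf 0x56c)
(.leaf 0x575)))
(.node 134 (.node 133 (.leaf 0x577)
(.leaf 0x57c))
(.node 135 (.leaf 0x594)
(.leaf 0x59c))))
(.node 140 (.node 138 (.node 137 (.leaf 0x5ab)
(.leaf 0x5b6))
(.node 139 (.leaf 0x5bc)
(.leaf 0x5c5)))
(.node 142 (.node 141 (.leaf 0x5c7)
(.leaf 0x5cc))
(.node 143 (.leaf 0x5e4)
(.leaf 0x5e7)))))
(.node 152 (.node 148 (.node 146 (.node 145 (.leaf 0x5ec)
(.leaf 0x5fc))
(.node 147 (.leaf 0x60b)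
(.leaf 0x613)))
(.node 150 (.node 149 (.leaf 0x61c)
(.leaf 0x62b))
(.node 151 (.leaf 0x645)
(.leaf 0x647))))
(.node 156 (.node 154 (.node 153 (.leaf 0x64c)
(.leaf 0x664))
(.node 155 (.leaf 0x667)
(.leaf 0x66c)))
(.node 158 (.node 157 (.leaf 0x678)
(.leaf 0x67c))
(.node 159 (.leaf 0x68b)
(.leaf 0x693))))))
(.node 176 (.node 168 (.node 164 (.node 162 (.node 161 (.leaf 0x697)
(.leaf 0x69c))
(.node 163 (.leaf 0x6a6)
(.leaf 0x6ac)))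
(.node 166 (.node 165 (.leaf 0x6bb)
(.leaf 0x6e2))
(.node 167 (.leaf 0x6ec)
(.leaf 0x6fb))))
(.node 172 (.node 170 (.node 169 (.leaf 0x718)
(.leaf 0x729))
(.node 171 (.leaf 0x72b)
(.leaf 0x73c)))
(.node 174 (.node 173 (.leaf 0x74c)
(.leaf 0x76a))
(.node 175 (.leaf 0x76b)
(.leaf 0x776)))))
(.node 184 (.node 180 (.node 178 (.node 177 (.leaf 0x77c)
(.leaf 0x78c))
(.node 179 (.leaf 0x7ab)
(.leaf 0x7b6)))
(.node 182 (.node 181 (.leaf 0x7bc)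
(.leaf 0x7c5))
(.node 183 (.leaf 0x7c7)
(.leaf 0x7cc))))
(.node 188 (.node 186 (.node 185 (.leaf 0x7ec)
(.leaf 0x7fb))
(.node 187 (.leaf 0x806)
(.leaf 0x80c)))
(.node 190 (.node 189 (.leaf 0x815)
(.leaf 0x817))
(.node 191 (.leaf 0x81c)
(.leaf 0x834)))))))
(.node 224 (.node 208 (.node 200 (.node 196 (.node 194 (.node 193 (.leaf 0x837)
(.leaf 0x83c))
(.node 195 (.leaf 0x84c)
(.leaf 0x85b)))
(.node 198 (.node 197 (.leaf 0x86c)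
(.leaf 0x87b))
(.node 199 (.leaf 0x895)
(.leaf 0x897))))
(.node 204 (.node 202 (.node 201 (.leaf 0x89c)
(.leaf 0x8b4))
(.node 203 (.leaf 0x8b7)
(.leaf 0x8bc)))
(.node 206 (.node 205 (.leaf 0x8c8)
(.leaf 0x8cc))
(.node 207 (.leaf 0x8db)
(.leaf 0x8e3)))))
(.node 216 (.node 212 (.node 210 (.node 209 (.leaf 0x8e7)
(.leaf 0x8ec))
(.node 211 (.leaf 0x8f6)
(.leaf 0x8fc)))
(.node 214 (.node 213 (.leaf 0x90b)
(.leaf 0x91b))
(.node 215 (.leaf 0x93c)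
(.leaf 0x94b))))
(.node 220 (.node 218 (.node 217 (.leaf 0x956)
(.leaf 0x964))
(.node 219 (.leaf 0x967)
(.leaf 0x96c)))
(.node 222 (.node 221 (.leaf 0x978)
(.leaf 0x97c))
(.node 223 (.leaf 0x98b)
(.leaf 0x993))))))
(.node 240 (.node 232 (.node 228 (.node 226 (.node 225 (.leaf 0x997)
(.leaf 0x99c))
(.node 227 (.leaf 0x9a6)
(.leaf 0x9a8)))
(.node 230 (.node 229 (.leaf 0x9ac)
(.leaf 0x9bb))
(.node 231 (.leaf 0x9cc)
(.leaf 0x9db))))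
(.node 236 (.node 234 (.node 233 (.leaf 0x9f2)
(.leaf 0x9f7))
(.node 235 (.leaf 0x9fc)
(.leaf 0xa06)))
(.node 238 (.node 237 (.leaf 0xa0c)
(.leaf 0xa1b))
(.node 239 (.leaf 0xa2b)
(.leaf 0xa2c)))))
(.node 248 (.node 244 (.node 242 (.node 241 (.leaf 0xa3b)
(.leaf 0xa46))
(.node 243 (.leaf 0xa5c)
(.leaf 0xa6b)))
(.node 246 (.node 245 (.leaf 0xa76)
(.leaf 0xa9b))
(.node 247 (.leaf 0xaac)
(.leaf 0xadb))))
(.node 252 (.node 250 (.node 249 (.leaf 0xae6)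
(.leaf 0xaec))
(.node 251 (.leaf 0xaf7)
(.leaf 0xafc)))
(.node 254 (.node 253 (.leaf 0xb1b)
(.leaf 0xb26))
(.node 255 (.leaf 0xb2c)
(.leaf 0xb35)))))))))

/-- part of a trie -/
def parPart1 : Tr :=
(.node 384 (.node 320 (.node 288 (.node 272 (.node 264 (.node 260 (.node 258 (.node 257 (.leaf 0xb37)
(.leaf 0xb3c))
(.node 259 (.leaf 0xb57)
(.leaf 0xb5c)))
(.node 262 (.node 261 (.leaf 0xb6c)
(.leaf 0xb7b))
(.node 263 (.leaf 0xb8b)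
(.leaf 0xba5))))
(.node 268 (.node 266 (.node 265 (.leaf 0xba7)
(.leaf 0xbac))
(.node 267 (.leaf 0xbc4)
(.leaf 0xbc7)))
(.node 270 (.node 269 (.leaf 0xbcc)
(.leaf 0xbd8))
(.node 271 (.leaf 0xbdc)
(.leaf 0xbeb)))))
(.node 280 (.node 276 (.node 274 (.node 273 (.leaf 0xbf7)
(.leaf 0xbfc))
(.node 275 (.leaf 0xc06)
(.leaf 0xc0c)))
(.node 278 (.node 277 (.leaf 0xc1b)
(.leaf 0xc2b))
(.node 279 (.leaf 0xc4b)
(.leaf 0xc56))))
(.node 284 (.node 282 (.node 281 (.leaf 0xc64)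
(.leaf 0xc67))
(.node 283 (.leaf 0xc6c)
(.leaf 0xc78)))
(.node 286 (.node 285 (.leaf 0xc7c)
(.leaf 0xc8b))
(.node 287 (.leaf 0xc93)
(.leaf 0xc97))))))
(.node 304 (.node 296 (.node 292 (.node 290 (.node 289 (.leaf 0xc9c)
(.leaf 0xca6))
(.node 291 (.leaf 0xca8)
(.leaf 0xcac)))
(.node 294 (.node 293 (.leaf 0xcbb)
(.leaf 0xccc))
(.node 295 (.leaf 0xcdb)
(.leaf 0xcf7))))
(.node 300 (.node 298 (.node 297 (.leaf 0xcfc)
(.leaf 0xd06))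
(.node 299 (.leaf 0xd0c)
(.leaf 0xd1b)))
(.node 302 (.node 301 (.leaf 0xd2b)
(.leaf 0xd2c))
(.node 303 (.leaf 0xd3b)
(.leaf 0xd46)))))
(.node 312 (.node 308 (.node 306 (.node 305 (.leaf 0xd6b)
(.leaf 0xd76))
(.node 307 (.leaf 0xd93)
(.leaf 0xd97)))
(.node 310 (.node 309 (.leaf 0xd9c)
(.leaf 0xda6))
(.node 311 (.leaf 0xda8)
(.leaf 0xdac))))
(.node 316 (.node 314 (.node 313 (.leaf 0xdbb)
(.leaf 0xdc9))
(.node 315 (.leaf 0xdcc)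
(.leaf 0xddb)))
(.node 318 (.node 317 (.leaf 0xdf2)
(.leaf 0xdf7))
(.node 319 (.leaf 0xdfc)
(.leaf 0xe06)))))))
(.node 352 (.node 336 (.node 328 (.node 324 (.node 322 (.node 321 (.leaf 0xe08)
(.leaf 0xe0c))
(.node 323 (.leaf 0xe1b)
(.leaf 0xe28)))
(.node 326 (.node 325 (.leaf 0xe2b)
(.leaf 0xe2c))
(.node 327 (.leaf 0xe3c)
(.leaf 0xe4b))))
(.node 332 (.node 330 (.node 329 (.leaf 0xe56)
(.leaf 0xe6b))
(.node 331 (.leaf 0xe76)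
(.leaf 0xe87)))
(.node 334 (.node 333 (.leaf 0xe8c)
(.leaf 0xe96))
(.node 335 (.leaf 0xe9c)
(.leaf 0xeab)))))
(.node 344 (.node 340 (.node 338 (.node 337 (.leaf 0xeb5)
(.leaf 0xebb))
(.node 339 (.leaf 0xebc)
(.leaf 0xecb)))
(.node 342 (.node 341 (.leaf 0xed6)
(.leaf 0xeec))
(.node 343 (.leaf 0xefb)
(.leaf 0xf06))))
(.node 348 (.node 346 (.node 345 (.leaf 0xf17)
(.leaf 0xf2b))
(.node 347 (.leaf 0xf36)
(.leaf 0xf45)))
(.node 350 (.node 349 (.leaf 0xf5c)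
(.leaf 0xf76))
(.node 351 (.leaf 0xf7c)
(.leaf 0xf87))))))
(.node 368 (.node 360 (.node 356 (.node 354 (.node 353 (.leaf 0xf8c)
(.leaf 0xfac))
(.node 355 (.leaf 0xfbb)
(.leaf 0xfd5)))
(.node 358 (.node 357 (.leaf 0xfd7)
(.leaf 0xfdc))
(.node 359 (.leaf 0xff7)
(.leaf 0xffc))))
(.node 364 (.node 362 (.node 361 (.leaf 0x1008)
(.leaf 0x100c))
(.node 363 (.leaf 0x101b)
(.leaf 0x1026)))
(.node 366 (.node 365 (.leaf 0x102c)
(.leaf 0x103b))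
(.node 367 (.leaf 0x104b)
(.leaf 0x1066)))))
(.node 376 (.node 372 (.node 370 (.node 369 (.leaf 0x1074)
(.leaf 0x1077))
(.node 371 (.leaf 0x107c)
(.leaf 0x1088)))
(.node 374 (.node 373 (.leaf 0x108c)
(.leaf 0x109b))
(.node 375 (.leaf 0x10a7)
(.leaf 0x10ac))))
(.node 380 (.node 378 (.node 377 (.leaf 0x10b6)
(.leaf 0x10b8))
(.node 379 (.leaf 0x10bc)
(.leaf 0x10cb)))
(.node 382 (.node 381 (.leaf 0x10dc)
(.leaf 0x10eb))
(.node 383 (.leaf 0x1106)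
(.leaf 0x110c))))))))
(.node 448 (.node 416 (.node 400 (.node 392 (.node 388 (.node 386 (.node 385 (.leaf 0x111b)
(.leaf 0x112b))
(.node 387 (.leaf 0x112c)
(.leaf 0x113b)))
(.node 390 (.node 389 (.leaf 0x1146)
(.leaf 0x1156))
(.node 391 (.leaf 0x1166)
(.leaf 0x1177))))
(.node 396 (.node 394 (.node 393 (.leaf 0x1183)
(.leaf 0x1187))
(.node 395 (.leaf 0x118c)
(.leaf 0x1196)))
(.node 398 (.node 397 (.leaf 0x1198)
(.leaf 0x119c))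
(.node 399 (.leaf 0x11ab)
(.leaf 0x11b9)))))
(.node 408 (.node 404 (.node 402 (.node 401 (.leaf 0x11bc)
(.leaf 0x11cb))
(.node 403 (.leaf 0x11e7)
(.leaf 0x11ec)))
(.node 406 (.node 405 (.leaf 0x11f6)
(.leaf 0x11f8))
(.node 407 (.leaf 0x11fc)
(.leaf 0x120b))))
(.node 412 (.node 410 (.node 409 (.leaf 0x1218)
(.leaf 0x121b))
(.node 411 (.leaf 0x121c)
(.leaf 0x122c)))
(.node 414 (.node 413 (.leaf 0x123b)
(.leaf 0x1246))
(.node 415 (.leaf 0x125b)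
(.leaf 0x1266))))))
(.node 432 (.node 424 (.node 420 (.node 418 (.node 417 (.leaf 0x1276)
(.leaf 0x127c))
(.node 419 (.leaf 0x128b)
(.leaf 0x1295)))
(.node 422 (.node 421 (.leaf 0x129b)
(.leaf 0x129c))
(.node 423 (.leaf 0x12ab)
(.leaf 0x12b6))))
(.node 428 (.node 426 (.node 425 (.leaf 0x12cc)
(.leaf 0x12db))
(.node 427 (.leaf 0x12e6)
(.leaf 0x12f7)))
(.node 430 (.node 429 (.leaf 0x1315)
(.leaf 0x1322))
(.node 431 (.leaf 0x1327)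
(.leaf 0x132c)))))
(.node 440 (.node 436 (.node 434 (.node 433 (.leaf 0x1336)
(.leaf 0x1338))
(.node 435 (.leaf 0x133c)
(.leaf 0x134b)))
(.node 438 (.node 437 (.leaf 0x1358)
(.leaf 0x135b))
(.node 439 (.leaf 0x135c)
(.leaf 0x1369))))
(.node 444 (.node 442 (.node 441 (.leaf 0x136c)
(.leaf 0x137b))
(.node 443 (.leaf 0x1386)
(.leaf 0x139c)))
(.node 446 (.node 445 (.leaf 0x13ab)
(.leaf 0x13b6))
(.node 447 (.leaf 0x13c7)
(.leaf 0x13cc)))))))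
(.node 480 (.node 464 (.node 456 (.node 452 (.node 450 (.node 449 (.leaf 0x13d6)
(.leaf 0x13d8))
(.node 451 (.leaf 0x13dc)
(.leaf 0x13eb)))
(.node 454 (.node 453 (.leaf 0x13f5)
(.leaf 0x13f8))
(.node 455 (.leaf 0x13fb)
(.leaf 0x13fc))))
(.node 460 (.node 458 (.node 457 (.leaf 0x140c)
(.leaf 0x141b))
(.node 459 (.leaf 0x1426)
(.leaf 0x1437)))
(.node 462 (.node 461 (.leaf 0x143b)
(.leaf 0x143c))
(.node 463 (.leaf 0x144c)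
(.leaf 0x145b)))))
(.node 472 (.node 468 (.node 466 (.node 465 (.leaf 0x146b)
(.leaf 0x1476))
(.node 467 (.leaf 0x1487)
(.leaf 0x1496)))
(.node 470 (.node 469 (.leaf 0x14a5)
(.leaf 0x14b6))
(.node 471 (.leaf 0x14bc)
(.leaf 0x14cb))))
(.node 476 (.node 474 (.node 473 (.leaf 0x14dc)
(.leaf 0x14eb))
(.node 475 (.leaf 0x14f6)
(.leaf 0x150c)))
(.node 478 (.node 477 (.leaf 0x151c)
(.leaf 0x152b))
(.node 479 (.leaf 0x1536)
(.leaf 0x1545))))))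
(.node 496 (.node 488 (.node 484 (.node 482 (.node 481 (.leaf 0x1547)
(.leaf 0x155b))
(.node 483 (.leaf 0x1566)
(.leaf 0x1575)))
(.node 486 (.node 485 (.leaf 0x1577)
(.leaf 0x1596))
(.node 487 (.leaf 0x15d7)
(.leaf 0x15dc))))
(.node 492 (.node 490 (.node 489 (.leaf 0x15f8)
(.leaf 0x15fc))
(.node 491 (.leaf 0x160b)
(.leaf 0x161b)))
(.node 494 (.node 493 (.leaf 0x1637)
(.leaf 0x163c))
(.node 495 (.leaf 0x1648)
(.leaf 0x164c)))))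
(.node 504 (.node 500 (.node 498 (.node 497 (.leaf 0x165b)
(.leaf 0x1666))
(.node 499 (.leaf 0x1668)
(.leaf 0x166c)))
(.node 502 (.node 501 (.leaf 0x167b)
(.leaf 0x168c))
(.node 503 (.leaf 0x169b)
(.leaf 0x16bb))))
(.node 508 (.node 506 (.node 505 (.leaf 0x16bc)
(.leaf 0x16cb))
(.node 507 (.leaf 0x16d6)
(.leaf 0x16e6)))
(.node 510 (.node 509 (.leaf 0x16f7)
(.leaf 0x1707))
(.node 511 (.leaf 0x170c)
(.leaf 0x1716)))))))))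

/-- part of a trie -/
def parPart2 : Tr :=
(.node 640 (.node 576 (.node 544 (.node 528 (.node 520 (.node 516 (.node 514 (.node 513 (.leaf 0x1718)
(.leaf 0x171c))
(.node 515 (.leaf 0x172b)
(.leaf 0x1739)))
(.node 518 (.node 517 (.leaf 0x173c)
(.leaf 0x174b))
(.node 519 (.leaf 0x1766)
(.leaf 0x1768))))
(.node 524 (.node 522 (.node 521 (.leaf 0x176c)
(.leaf 0x177b))
(.node 523 (.leaf 0x1788)
(.leaf 0x178b)))
(.node 526 (.node 525 (.leaf 0x178c)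
(.leaf 0x179c))
(.node 527 (.leaf 0x17ab)
(.leaf 0x17b6)))))
(.node 536 (.node 532 (.node 530 (.node 529 (.leaf 0x17cb)
(.leaf 0x17d6))
(.node 531 (.leaf 0x17e5)
(.leaf 0x17eb)))
(.node 534 (.node 533 (.leaf 0x17ec)
(.leaf 0x17fb))
(.node 535 (.leaf 0x1806)
(.leaf 0x181c))))
(.node 540 (.node 538 (.node 537 (.leaf 0x182b)
(.leaf 0x1836))
(.node 539 (.leaf 0x1847)
(.leaf 0x1855)))
(.node 542 (.node 541 (.leaf 0x1865)
(.leaf 0x1867))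
(.node 543 (.leaf 0x1878)
(.leaf 0x1887))))))
(.node 560 (.node 552 (.node 548 (.node 546 (.node 545 (.leaf 0x188c)
(.leaf 0x1896))
(.node 547 (.leaf 0x1898)
(.leaf 0x189c)))
(.node 550 (.node 549 (.leaf 0x18ab)
(.leaf 0x18b8))
(.node 551 (.leaf 0x18bb)
(.leaf 0x18bc))))
(.node 556 (.node 554 (.node 553 (.leaf 0x18c9)
(.leaf 0x18cc))
(.node 555 (.leaf 0x18db)
(.leaf 0x18e6)))
(.node 558 (.node 557 (.leaf 0x18fc)
(.leaf 0x190b))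
(.node 559 (.leaf 0x1916)
(.leaf 0x1926)))))
(.node 568 (.node 564 (.node 562 (.node 561 (.leaf 0x1928)
(.leaf 0x192c))
(.node 563 (.leaf 0x193b)
(.leaf 0x1945)))
(.node 566 (.node 565 (.leaf 0x1948)
(.leaf 0x194b))
(.node 567 (.leaf 0x194c)
(.leaf 0x195c))))
(.node 572 (.node 570 (.node 569 (.leaf 0x196b)
(.leaf 0x1976))
(.node 571 (.leaf 0x1987)
(.leaf 0x198b)))
(.node 574 (.node 573 (.leaf 0x198c)
(.leaf 0x199c))
(.node 575 (.leaf 0x19ab)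
(.leaf 0x19bb)))))))
(.node 608 (.node 592 (.node 584 (.node 580 (.node 578 (.node 577 (.leaf 0x19c6)
(.leaf 0x19d7))
(.node 579 (.leaf 0x19e6)
(.leaf 0x19f5)))
(.node 582 (.node 581 (.leaf 0x1a0c)
(.leaf 0x1a1b))
(.node 583 (.leaf 0x1a3c)
(.leaf 0x1a4c))))
(.node 588 (.node 586 (.node 585 (.leaf 0x1a5b)
(.leaf 0x1a66))
(.node 587 (.leaf 0x1a75)
(.leaf 0x1a77)))
(.node 590 (.node 589 (.leaf 0x1a8b)
(.leaf 0x1a96))
(.node 591 (.leaf 0x1aa5)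
(.leaf 0x1aa7)))))
(.node 600 (.node 596 (.node 594 (.node 593 (.leaf 0x1ad7)
(.leaf 0x1adc))
(.node 595 (.leaf 0x1ae6)
(.leaf 0x1ae8)))
(.node 598 (.node 597 (.leaf 0x1aec)
(.leaf 0x1afb))
(.node 599 (.leaf 0x1b05)
(.leaf 0x1b08))))
(.node 604 (.node 602 (.node 601 (.leaf 0x1b0b)
(.leaf 0x1b0c))
(.node 603 (.leaf 0x1b19)
(.leaf 0x1b1c)))
(.node 606 (.node 605 (.leaf 0x1b2b)
(.leaf 0x1b36))
(.node 607 (.leaf 0x1b47)
(.leaf 0x1b49))))))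
(.node 624 (.node 616 (.node 612 (.node 610 (.node 609 (.leaf 0x1b4b)
(.leaf 0x1b4c))
(.node 611 (.leaf 0x1b5c)
(.leaf 0x1b6b)))
(.node 614 (.node 613 (.leaf 0x1b7c)
(.leaf 0x1b8b))
(.node 615 (.leaf 0x1b96)
(.leaf 0x1ba7))))
(.node 620 (.node 618 (.node 617 (.leaf 0x1bbb)
(.leaf 0x1bc6))
(.node 619 (.leaf 0x1be6)
(.leaf 0x1be8)))
(.node 622 (.node 621 (.leaf 0x1bec)
(.leaf 0x1bfb))
(.node 623 (.leaf 0x1c08)
(.leaf 0x1c0c)))))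
(.node 632 (.node 628 (.node 626 (.node 625 (.leaf 0x1c1c)
(.leaf 0x1c2b))
(.node 627 (.leaf 0x1c36)
(.leaf 0x1c48)))
(.node 630 (.node 629 (.leaf 0x1c4c)
(.leaf 0x1c57))
(.node 631 (.leaf 0x1c5b)
(.leaf 0x1c5c))))
(.node 636 (.node 634 (.node 633 (.leaf 0x1c6c)
(.leaf 0x1c7b))
(.node 635 (.leaf 0x1c8b)
(.leaf 0x1c96)))
(.node 638 (.node 637 (.leaf 0x1ca5)
(.leaf 0x1ca7))
(.node 639 (.leaf 0x1cbb)
(.leaf 0x1cbc))))))))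
(.node 704 (.node 672 (.node 656 (.node 648 (.node 644 (.node 642 (.node 641 (.leaf 0x1ccc)
(.leaf 0x1cdb))
(.node 643 (.leaf 0x1ceb)
(.leaf 0x1cf6)))
(.node 646 (.node 645 (.leaf 0x1d06)
(.leaf 0x1d15))
(.node 647 (.leaf 0x1d17)
(.leaf 0x1d35))))
(.node 652 (.node 650 (.node 649 (.leaf 0x1d5c)
(.leaf 0x1d6b))
(.node 651 (.leaf 0x1d76)
(.leaf 0x1d8b)))
(.node 654 (.node 653 (.leaf 0x1d96)
(.leaf 0x1da7))
(.node 655 (.leaf 0x1dbb)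
(.leaf 0x1dcb)))))
(.node 664 (.node 660 (.node 658 (.node 657 (.leaf 0x1dd6)
(.leaf 0x1de5))
(.node 659 (.leaf 0x1de7)
(.leaf 0x1df7)))
(.node 662 (.node 661 (.leaf 0x1e16)
(.leaf 0x1e25))
(.node 663 (.leaf 0x1e27)
(.leaf 0x1e34))))
(.node 668 (.node 666 (.node 665 (.leaf 0x1e37)
(.leaf 0x1e68))
(.node 667 (.leaf 0x1e6c)
(.leaf 0x1e7b)))
(.node 670 (.node 669 (.leaf 0x1e8c)
(.leaf 0x1e9b))
(.node 671 (.leaf 0x1eb6)
(.leaf 0x1ec6))))))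
(.node 688 (.node 680 (.node 676 (.node 674 (.node 673 (.leaf 0x1ec8)
(.leaf 0x1ecc))
(.node 675 (.leaf 0x1edb)
(.leaf 0x1ee9)))
(.node 678 (.node 677 (.leaf 0x1eec)
(.leaf 0x1efb))
(.node 679 (.leaf 0x1f18)
(.leaf 0x1f1b))))
(.node 684 (.node 682 (.node 681 (.leaf 0x1f1c)
(.leaf 0x1f2c))
(.node 683 (.leaf 0x1f3b)
(.leaf 0x1f46)))
(.node 686 (.node 685 (.leaf 0x1f5b)
(.leaf 0x1f66))
(.node 687 (.leaf 0x1f7c)
(.leaf 0x1f8b)))))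
(.node 696 (.node 692 (.node 690 (.node 689 (.leaf 0x1f96)
(.leaf 0x1fa7))
(.node 691 (.leaf 0x1fb5)
(.leaf 0x1fc8)))
(.node 694 (.node 693 (.leaf 0x1fd6)
(.leaf 0x1fd8))
(.node 695 (.leaf 0x1fdc)
(.leaf 0x1feb))))
(.node 700 (.node 698 (.node 697 (.leaf 0x1ff8)
(.leaf 0x1ffb))
(.node 699 (.leaf 0x1ffc)
(.leaf 0x2009)))
(.node 702 (.node 701 (.leaf 0x200c)
(.leaf 0x201b))
(.node 703 (.leaf 0x2026)
(.leaf 0x203c)))))))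
(.node 736 (.node 720 (.node 712 (.node 708 (.node 706 (.node 705 (.leaf 0x204b)
(.leaf 0x2056))
(.node 707 (.leaf 0x2065)
(.leaf 0x2068)))
(.node 710 (.node 709 (.leaf 0x206b)
(.leaf 0x206c))
(.node 711 (.leaf 0x207c)
(.leaf 0x208b))))
(.node 716 (.node 714 (.node 713 (.leaf 0x2096)
(.leaf 0x20a7))
(.node 715 (.leaf 0x20ab)
(.leaf 0x20ac)))
(.node 718 (.node 717 (.leaf 0x20bc)
(.leaf 0x20cb))
(.node 719 (.leaf 0x20db)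
(.leaf 0x20e6)))))
(.node 728 (.node 724 (.node 722 (.node 721 (.leaf 0x20f7)
(.leaf 0x2106))
(.node 723 (.leaf 0x2115)
(.leaf 0x212c)))
(.node 726 (.node 725 (.leaf 0x213c)
(.leaf 0x214b))
(.node 727 (.leaf 0x2156)
(.leaf 0x2165))))
(.node 732 (.node 730 (.node 729 (.leaf 0x2167)
(.leaf 0x217b))
(.node 731 (.leaf 0x2186)
(.leaf 0x2195)))
(.node 734 (.node 733 (.leaf 0x2197)
(.leaf 0x21a8))
(.node 735 (.leaf 0x21b4)
(.leaf 0x21d8))))))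
(.node 752 (.node 744 (.node 740 (.node 738 (.node 737 (.leaf 0x21f6)
(.leaf 0x21f8))
(.node 739 (.leaf 0x21fc)
(.leaf 0x220b)))
(.node 742 (.node 741 (.leaf 0x2215)
(.leaf 0x2218))
(.node 743 (.leaf 0x221b)
(.leaf 0x221c))))
(.node 748 (.node 746 (.node 745 (.leaf 0x2229)
(.leaf 0x222c))
(.node 747 (.leaf 0x223b)
(.leaf 0x2246)))
(.node 750 (.node 749 (.leaf 0x2257)
(.leaf 0x2259))
(.node 751 (.leaf 0x225b)
(.leaf 0x225c)))))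
(.node 760 (.node 756 (.node 754 (.node 753 (.leaf 0x226c)
(.leaf 0x227b))
(.node 755 (.leaf 0x228c)
(.leaf 0x229b)))
(.node 758 (.node 757 (.leaf 0x22a6)
(.leaf 0x22b7))
(.node 759 (.leaf 0x22cb)
(.leaf 0x22d6))))
(.node 764 (.node 762 (.node 761 (.leaf 0x22e5)
(.leaf 0x22f8))
(.node 763 (.leaf 0x22fc)
(.leaf 0x231b)))
(.node 766 (.node 765 (.leaf 0x2326)
(.leaf 0x2338))
(.node 767 (.leaf 0x233c)
(.leaf 0x2347)))))))))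

/-- part of a trie -/
def parPart3 : Tr :=
(.node 896 (.node 832 (.node 800 (.node 784 (.node 776 (.node 772 (.node 770 (.node 769 (.leaf 0x234b)
(.leaf 0x234c))
(.node 771 (.leaf 0x235c)
(.leaf 0x236b)))
(.node 774 (.node 773 (.leaf 0x237b)
(.leaf 0x2386))
(.node 775 (.leaf 0x2395)
(.leaf 0x2397))))
(.node 780 (.node 778 (.node 777 (.leaf 0x23ab)
(.leaf 0x23ac))
(.node 779 (.leaf 0x23bc)
(.leaf 0x23cb)))
(.node 782 (.node 781 (.leaf 0x23db)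
(.leaf 0x23e6))
(.node 783 (.leaf 0x23f6)
(.leaf 0x2405)))))
(.node 792 (.node 788 (.node 786 (.node 785 (.leaf 0x2407)
(.leaf 0x2425))
(.node 787 (.leaf 0x2456)
(.leaf 0x246b)))
(.node 790 (.node 789 (.leaf 0x247b)
(.leaf 0x2486))
(.node 791 (.leaf 0x2495)
(.leaf 0x2497))))
(.node 796 (.node 794 (.node 793 (.leaf 0x24a7)
(.leaf 0x24c6))
(.node 795 (.leaf 0x24d5)
(.leaf 0x24d7)))
(.node 798 (.node 797 (.leaf 0x24e4)
(.leaf 0x24e7))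
(.node 799 (.leaf 0x24f8)
(.leaf 0x2506))))))
(.node 816 (.node 808 (.node 804 (.node 802 (.node 801 (.leaf 0x2508)
(.leaf 0x250c))
(.node 803 (.leaf 0x2528)
(.leaf 0x252c)))
(.node 806 (.node 805 (.leaf 0x2539)
(.leaf 0x253c))
(.node 807 (.leaf 0x254b)
(.leaf 0x2556))))
(.node 812 (.node 810 (.node 809 (.leaf 0x2568)
(.leaf 0x256c))
(.node 811 (.leaf 0x2577)
(.leaf 0x2579)))
(.node 814 (.node 813 (.leaf 0x257b)
(.leaf 0x257c))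
(.node 815 (.leaf 0x258c)
(.leaf 0x259b)))))
(.node 824 (.node 820 (.node 818 (.node 817 (.leaf 0x25ac)
(.leaf 0x25bb))
(.node 819 (.leaf 0x25c6)
(.leaf 0x25d5)))
(.node 822 (.node 821 (.leaf 0x25d7)
(.leaf 0x25e9))
(.node 823 (.leaf 0x25eb)
(.leaf 0x25ec))))
(.node 828 (.node 826 (.node 825 (.leaf 0x25fb)
(.leaf 0x25fc))
(.node 827 (.leaf 0x260c)
(.leaf 0x261b)))
(.node 830 (.node 829 (.leaf 0x262b)
(.leaf 0x2636))
(.node 831 (.leaf 0x264b)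
(.leaf 0x2656)))))))
(.node 864 (.node 848 (.node 840 (.node 836 (.node 834 (.node 833 (.leaf 0x2665)
(.leaf 0x2667))
(.node 835 (.leaf 0x2695)
(.leaf 0x2697)))
(.node 838 (.node 837 (.leaf 0x26a8)
(.leaf 0x26ac))
(.node 839 (.leaf 0x26bc)
(.leaf 0x26cb))))
(.node 844 (.node 842 (.node 841 (.leaf 0x26d6)
(.leaf 0x26e7))
(.node 843 (.leaf 0x26ec)
(.leaf 0x26fb)))
(.node 846 (.node 845 (.leaf 0x2716)
(.leaf 0x2727))
(.node 847 (.leaf 0x2737)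
(.leaf 0x273c)))))
(.node 856 (.node 852 (.node 850 (.node 849 (.leaf 0x274b)
(.leaf 0x275b))
(.node 851 (.leaf 0x275c)
(.leaf 0x276c)))
(.node 854 (.node 853 (.leaf 0x277b)
(.leaf 0x278b))
(.node 855 (.leaf 0x2796)
(.leaf 0x27a6))))
(.node 860 (.node 858 (.node 857 (.leaf 0x27b5)
(.leaf 0x27b7))
(.node 859 (.leaf 0x27c7)
(.leaf 0x27d8)))
(.node 862 (.node 861 (.leaf 0x27e6)
(.leaf 0x27ec))
(.node 863 (.leaf 0x27fb)
(.leaf 0x280b))))))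
(.node 880 (.node 872 (.node 868 (.node 866 (.node 865 (.leaf 0x2816)
(.leaf 0x2826))
(.node 867 (.leaf 0x2835)
(.leaf 0x2837)))
(.node 870 (.node 869 (.leaf 0x2845)
(.leaf 0x2854))
(.node 871 (.leaf 0x2857)
(.leaf 0x2874))))
(.node 876 (.node 874 (.node 873 (.leaf 0x288b)
(.leaf 0x2896))
(.node 875 (.leaf 0x28a7)
(.leaf 0x28b6)))
(.node 878 (.node 877 (.leaf 0x28c5)
(.leaf 0x28c7))
(.node 879 (.leaf 0x28e6)
(.leaf 0x28f6)))))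
(.node 888 (.node 884 (.node 882 (.node 881 (.leaf 0x2905)
(.leaf 0x2907))
(.node 883 (.leaf 0x2914)
(.leaf 0x2917)))
(.node 886 (.node 885 (.leaf 0x2945)
(.leaf 0x2954))
(.node 887 (.leaf 0x2957)
(.leaf 0x2977))))
(.node 892 (.node 890 (.node 889 (.leaf 0x2999)
(.leaf 0x299c))
(.node 891 (.leaf 0x29ab)
(.leaf 0x29cb)))
(.node 894 (.node 893 (.leaf 0x29d6)
(.leaf 0x29e5))
(.node 895 (.leaf 0x29f8)
(.leaf 0x29fc))))))))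
(.node 960 (.node 928 (.node 912 (.node 904 (.node 900 (.node 898 (.node 897 (.leaf 0x2a09)
(.leaf 0x2a0c))
(.node 899 (.leaf 0x2a1b)
(.leaf 0x2a3c)))
(.node 902 (.node 901 (.leaf 0x2a4b)
(.leaf 0x2a56))
(.node 903 (.leaf 0x2a67)
(.leaf 0x2a6b))))
(.node 908 (.node 906 (.node 905 (.leaf 0x2a6c)
(.leaf 0x2a7c))
(.node 907 (.leaf 0x2a8b)
(.leaf 0x2a9b)))
(.node 910 (.node 909 (.leaf 0x2aa6)
(.leaf 0x2ab7))
(.node 911 (.leaf 0x2ac6)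
(.leaf 0x2ad5)))))
(.node 920 (.node 916 (.node 914 (.node 913 (.leaf 0x2aeb)
(.leaf 0x2af6))
(.node 915 (.leaf 0x2b05)
(.leaf 0x2b07)))
(.node 918 (.node 917 (.leaf 0x2b18)
(.leaf 0x2b24))
(.node 919 (.leaf 0x2b45)
(.leaf 0x2b48))))
(.node 924 (.node 922 (.node 921 (.leaf 0x2b4b)
(.leaf 0x2b4c))
(.node 923 (.leaf 0x2b59)
(.leaf 0x2b5c)))
(.node 926 (.node 925 (.leaf 0x2b6b)
(.leaf 0x2b76))
(.node 927 (.leaf 0x2b87)
(.leaf 0x2b89))))))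
(.node 944 (.node 936 (.node 932 (.node 930 (.node 929 (.leaf 0x2b8b)
(.leaf 0x2b8c))
(.node 931 (.leaf 0x2b9c)
(.leaf 0x2bab)))
(.node 934 (.node 933 (.leaf 0x2bbc)
(.leaf 0x2bcb))
(.node 935 (.leaf 0x2bd6)
(.leaf 0x2be7))))
(.node 940 (.node 938 (.node 937 (.leaf 0x2bfb)
(.leaf 0x2c06))
(.node 939 (.leaf 0x2c15)
(.leaf 0x2c28)))
(.node 942 (.node 941 (.leaf 0x2c2c)
(.leaf 0x2c37))
(.node 943 (.leaf 0x2c3b)
(.leaf 0x2c3c)))))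
(.node 952 (.node 948 (.node 946 (.node 945 (.leaf 0x2c4c)
(.leaf 0x2c5b))
(.node 947 (.leaf 0x2c6b)
(.leaf 0x2c76)))
(.node 950 (.node 949 (.leaf 0x2c85)
(.leaf 0x2c87))
(.node 951 (.leaf 0x2c9b)
(.leaf 0x2c9c))))
(.node 956 (.node 954 (.node 953 (.leaf 0x2cac)
(.leaf 0x2cbb))
(.node 955 (.leaf 0x2ccb)
(.leaf 0x2cd6)))
(.node 958 (.node 957 (.leaf 0x2ce6)
(.leaf 0x2cf5))
(.node 959 (.leaf 0x2cf7)
(.leaf 0x2d08)))))))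
(.node 992 (.node 976 (.node 968 (.node 964 (.node 962 (.node 961 (.leaf 0x2d15)
(.leaf 0x2d17))
(.node 963 (.leaf 0x2d24)
(.leaf 0x2d3b)))
(.node 966 (.node 965 (.leaf 0x2d4b)
(.leaf 0x2d56))
(.node 967 (.leaf 0x2d65)
(.leaf 0x2d67))))
(.node 972 (.node 970 (.node 969 (.leaf 0x2d77)
(.leaf 0x2d88))
(.node 971 (.leaf 0x2d96)
(.leaf 0x2da5)))
(.node 974 (.node 973 (.leaf 0x2da7)
(.leaf 0x2db4))
(.node 975 (.leaf 0x2db7)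
(.leaf 0x2dc8)))))
(.node 984 (.node 980 (.node 978 (.node 977 (.leaf 0x2de3)
(.leaf 0x2e08))
(.node 979 (.leaf 0x2e0c)
(.leaf 0x2e19)))
(.node 982 (.node 981 (.leaf 0x2e1c)
(.leaf 0x2e2b))
(.node 983 (.leaf 0x2e36)
(.leaf 0x2e48))))
(.node 988 (.node 986 (.node 985 (.leaf 0x2e4c)
(.leaf 0x2e57))
(.node 987 (.leaf 0x2e59)
(.leaf 0x2e5b)))
(.node 990 (.node 989 (.leaf 0x2e5c)
(.leaf 0x2e6c))
(.node 991 (.leaf 0x2e7b)
(.leaf 0x2e8c))))))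
(.node 1008 (.node 1000 (.node 996 (.node 994 (.node 993 (.leaf 0x2e9b)
(.leaf 0x2ea6))
(.node 995 (.leaf 0x2eb5)
(.leaf 0x2eb7)))
(.node 998 (.node 997 (.leaf 0x2ec9)
(.leaf 0x2ecb))
(.node 999 (.leaf 0x2ecc)
(.leaf 0x2edb))))
(.node 1004 (.node 1002 (.node 1001 (.leaf 0x2edc)
(.leaf 0x2eec))
(.node 1003 (.leaf 0x2efb)
(.leaf 0x2f0b)))
(.node 1006 (.node 1005 (.leaf 0x2f16)
(.leaf 0x2f2b))
(.node 1007 (.leaf 0x2f36)
(.leaf 0x2f45)))))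
(.node 1016 (.node 1012 (.node 1010 (.node 1009 (.leaf 0x2f47)
(.leaf 0x2f66))
(.node 1011 (.leaf 0x2f75)
(.leaf 0x2f77)))
(.node 1014 (.node 1013 (.leaf 0x2f97)
(.leaf 0x2f9c))
(.node 1015 (.leaf 0x2fab)
(.leaf 0x2fb6))))
(.node 1020 (.node 1018 (.node 1017 (.leaf 0x2fc7)
(.leaf 0x2fd7))
(.node 1019 (.leaf 0x2fdc)
(.leaf 0x2feb)))
(.node 1022 (.node 1021 (.leaf 0x2ffb)
(.leaf 0x2ffc))
(.node 1023 (.leaf 0x300c)
(.leaf 0x301b)))))))))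

/-- part of a trie -/
def parPart4 : Tr :=
(.node 1152 (.node 1088 (.node 1056 (.node 1040 (.node 1032 (.node 1028 (.node 1026 (.node 1025 (.leaf 0x302b)
(.leaf 0x3036))
(.node 1027 (.leaf 0x3046)
(.leaf 0x3055)))
(.node 1030 (.node 1029 (.leaf 0x3057)
(.leaf 0x3067))
(.node 1031 (.leaf 0x308c)
(.leaf 0x309b))))
(.node 1036 (.node 1034 (.node 1033 (.leaf 0x30ab)
(.leaf 0x30b6))
(.node 1035 (.leaf 0x30c6)
(.leaf 0x30d5)))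
(.node 1038 (.node 1037 (.leaf 0x30d7)
(.leaf 0x30e5))
(.node 1039 (.leaf 0x30e7)
(.leaf 0x30f4)))))
(.node 1048 (.node 1044 (.node 1042 (.node 1041 (.leaf 0x30f7)
(.leaf 0x3108))
(.node 1043 (.leaf 0x3114)
(.leaf 0x3136)))
(.node 1046 (.node 1045 (.leaf 0x3146)
(.leaf 0x3155))
(.node 1047 (.leaf 0x3157)
(.leaf 0x3164))))
(.node 1052 (.node 1050 (.node 1049 (.leaf 0x3167)
(.leaf 0x3186))
(.node 1051 (.leaf 0x3195)
(.leaf 0x3197)))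
(.node 1054 (.node 1053 (.leaf 0x31a4)
(.leaf 0x31a7))
(.node 1055 (.leaf 0x31b8)
(.leaf 0x31c3))))))
(.node 1072 (.node 1064 (.node 1060 (.node 1058 (.node 1057 (.leaf 0x31c7)
(.leaf 0x31d8))
(.node 1059 (.leaf 0x31f8)
(.leaf 0x31fc)))
(.node 1062 (.node 1061 (.leaf 0x3209)
(.leaf 0x320c))
(.node 1063 (.leaf 0x321b)
(.leaf 0x3227))))
(.node 1068 (.node 1066 (.node 1065 (.leaf 0x3229)
(.leaf 0x322c))
(.node 1067 (.leaf 0x323b)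
(.leaf 0x324c)))
(.node 1070 (.node 1069 (.leaf 0x325b)
(.leaf 0x3266))
(.node 1071 (.leaf 0x3277)
(.leaf 0x3287)))))
(.node 1080 (.node 1076 (.node 1074 (.node 1073 (.leaf 0x3289)
(.leaf 0x328c))
(.node 1075 (.leaf 0x329b)
(.leaf 0x32a9)))
(.node 1078 (.node 1077 (.leaf 0x32ab)
(.leaf 0x32ac))
(.node 1079 (.leaf 0x32bb)
(.leaf 0x32bc))))
(.node 1084 (.node 1082 (.node 1081 (.leaf 0x32cc)
(.leaf 0x32db))
(.node 1083 (.leaf 0x32eb)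
(.leaf 0x32f6)))
(.node 1086 (.node 1085 (.leaf 0x330b)
(.leaf 0x3316))
(.node 1087 (.leaf 0x3325)
(.leaf 0x3327)))))))
(.node 1120 (.node 1104 (.node 1096 (.node 1092 (.node 1090 (.node 1089 (.leaf 0x3337)
(.leaf 0x3348))
(.node 1091 (.leaf 0x3358)
(.leaf 0x335b)))
(.node 1094 (.node 1093 (.leaf 0x335c)
(.leaf 0x336c))
(.node 1095 (.leaf 0x337b)
(.leaf 0x339b))))
(.node 1100 (.node 1098 (.node 1097 (.leaf 0x33ab)
(.leaf 0x33b6))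
(.node 1099 (.leaf 0x33c6)
(.leaf 0x33d5)))
(.node 1102 (.node 1101 (.leaf 0x33d7)
(.leaf 0x33e6))
(.node 1103 (.leaf 0x33f5)
(.leaf 0x33f7)))))
(.node 1112 (.node 1108 (.node 1106 (.node 1105 (.leaf 0x3404)
(.leaf 0x3407))
(.node 1107 (.leaf 0x3418)
(.leaf 0x3424)))
(.node 1110 (.node 1109 (.leaf 0x3427)
(.leaf 0x3447))
(.node 1111 (.leaf 0x344c)
(.leaf 0x345b))))
(.node 1116 (.node 1114 (.node 1113 (.leaf 0x346b)
(.leaf 0x3476))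
(.node 1115 (.leaf 0x3487)
(.leaf 0x349c)))
(.node 1118 (.node 1117 (.leaf 0x34ab)
(.leaf 0x34b6))
(.node 1119 (.leaf 0x34c5)
(.leaf 0x34c7))))))
(.node 1136 (.node 1128 (.node 1124 (.node 1122 (.node 1121 (.leaf 0x34d8)
(.leaf 0x34e6))
(.node 1123 (.leaf 0x34ec)
(.leaf 0x34fb)))
(.node 1126 (.node 1125 (.leaf 0x3506)
(.leaf 0x351c))
(.node 1127 (.leaf 0x352b)
(.leaf 0x353b))))
(.node 1132 (.node 1130 (.node 1129 (.leaf 0x3546)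
(.leaf 0x3556))
(.node 1131 (.leaf 0x3565)
(.leaf 0x3567)))
(.node 1134 (.node 1133 (.leaf 0x3575)
(.leaf 0x3577))
(.node 1135 (.leaf 0x3584)
(.leaf 0x3587)))))
(.node 1144 (.node 1140 (.node 1138 (.node 1137 (.leaf 0x3598)
(.leaf 0x35a6))
(.node 1139 (.leaf 0x35a8)
(.leaf 0x35cc)))
(.node 1142 (.node 1141 (.leaf 0x35db)
(.leaf 0x35e6))
(.node 1143 (.leaf 0x35f6)
(.leaf 0x3605))))
(.node 1148 (.node 1146 (.node 1145 (.leaf 0x3607)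
(.leaf 0x3615))
(.node 1147 (.leaf 0x3617)
(.leaf 0x3624)))
(.node 1150 (.node 1149 (.leaf 0x3627)
(.leaf 0x3638))
(.node 1151 (.leaf 0x3644)
(.leaf 0x3653))))))))
(.node 1216 (.node 1184 (.node 1168 (.node 1160 (.node 1156 (.node 1154 (.node 1153 (.leaf 0x3657)
(.leaf 0x3686))
(.node 1155 (.leaf 0x3695)
(.leaf 0x3697)))
(.node 1158 (.node 1157 (.leaf 0x36b5)
(.leaf 0x36b7))
(.node 1159 (.leaf 0x36c4)
(.leaf 0x36c7))))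
(.node 1164 (.node 1162 (.node 1161 (.leaf 0x36e5)
(.leaf 0x36f5))
(.node 1163 (.leaf 0x3704)
(.leaf 0x3707)))
(.node 1166 (.node 1165 (.leaf 0x3723)
(.leaf 0x3727))
(.node 1167 (.leaf 0x3736)
(.leaf 0x3744)))))
(.node 1176 (.node 1172 (.node 1170 (.node 1169 (.leaf 0x3747)
(.leaf 0x3753))
(.node 1171 (.leaf 0x3757)
(.leaf 0x3766)))
(.node 1174 (.node 1173 (.leaf 0x3778)
(.leaf 0x378c))
(.node 1175 (.leaf 0x379b)
(.leaf 0x37a6))))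
(.node 1180 (.node 1178 (.node 1177 (.leaf 0x37b6)
(.leaf 0x37c5))
(.node 1179 (.leaf 0x37d4)
(.leaf 0x37e7)))
(.node 1182 (.node 1181 (.leaf 0x37e9)
(.leaf 0x37eb))
(.node 1183 (.leaf 0x37ec)
(.leaf 0x37fb))))))
(.node 1200 (.node 1192 (.node 1188 (.node 1186 (.node 1185 (.leaf 0x380c)
(.leaf 0x381b))
(.node 1187 (.leaf 0x3826)
(.leaf 0x383b)))
(.node 1190 (.node 1189 (.leaf 0x3846)
(.leaf 0x3855))
(.node 1191 (.leaf 0x386b)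
(.leaf 0x386c))))
(.node 1196 (.node 1194 (.node 1193 (.leaf 0x387c)
(.leaf 0x388b))
(.node 1195 (.leaf 0x389b)
(.leaf 0x38a6)))
(.node 1198 (.node 1197 (.leaf 0x38b6)
(.leaf 0x38c5))
(.node 1199 (.leaf 0x38c7)
(.leaf 0x38d8)))))
(.node 1208 (.node 1204 (.node 1202 (.node 1201 (.leaf 0x38e5)
(.leaf 0x38e7))
(.node 1203 (.leaf 0x38f4)
(.leaf 0x3906)))
(.node 1206 (.node 1205 (.leaf 0x3915)
(.leaf 0x3917))
(.node 1207 (.leaf 0x3924)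
(.leaf 0x3927))))
(.node 1212 (.node 1210 (.node 1209 (.leaf 0x3938)
(.leaf 0x3953))
(.node 1211 (.leaf 0x3968)
(.leaf 0x396c)))
(.node 1214 (.node 1213 (.leaf 0x3977)
(.leaf 0x3979))
(.node 1215 (.leaf 0x397b)
(.leaf 0x397c)))))))
(.node 1248 (.node 1232 (.node 1224 (.node 1220 (.node 1218 (.node 1217 (.leaf 0x398c)
(.leaf 0x399b))
(.node 1219 (.leaf 0x39ac)
(.leaf 0x39bb)))
(.node 1222 (.node 1221 (.leaf 0x39c6)
(.leaf 0x39d7))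
(.node 1223 (.leaf 0x39e9)
(.leaf 0x39eb))))
(.node 1228 (.node 1226 (.node 1225 (.leaf 0x39ec)
(.leaf 0x39fb))
(.node 1227 (.leaf 0x39fc)
(.leaf 0x3a0c)))
(.node 1230 (.node 1229 (.leaf 0x3a1b)
(.leaf 0x3a2b))
(.node 1231 (.leaf 0x3a36)
(.leaf 0x3a4b)))))
(.node 1240 (.node 1236 (.node 1234 (.node 1233 (.leaf 0x3a56)
(.leaf 0x3a65))
(.node 1235 (.leaf 0x3a67)
(.leaf 0x3a86)))
(.node 1238 (.node 1237 (.leaf 0x3a95)
(.leaf 0x3a97))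
(.node 1239 (.leaf 0x3ab7)
(.leaf 0x3abc))))
(.node 1244 (.node 1242 (.node 1241 (.leaf 0x3acb)
(.leaf 0x3adb))
(.node 1243 (.leaf 0x3adc)
(.leaf 0x3aec)))
(.node 1246 (.node 1245 (.leaf 0x3afb)
(.leaf 0x3b0b))
(.node 1247 (.leaf 0x3b16)
(.leaf 0x3b26))))))
(.node 1264 (.node 1256 (.node 1252 (.node 1250 (.node 1249 (.leaf 0x3b35)
(.leaf 0x3b37))
(.node 1251 (.leaf 0x3b47)
(.leaf 0x3b58)))
(.node 1254 (.node 1253 (.leaf 0x3b66)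
(.leaf 0x3b6c))
(.node 1255 (.leaf 0x3b7b)
(.leaf 0x3b8b))))
(.node 1260 (.node 1258 (.node 1257 (.leaf 0x3b96)
(.leaf 0x3ba6))
(.node 1259 (.leaf 0x3bb5)
(.leaf 0x3bb7)))
(.node 1262 (.node 1261 (.leaf 0x3bc5)
(.leaf 0x3bc7))
(.node 1263 (.leaf 0x3bd4)
(.leaf 0x3bd7)))))
(.node 1272 (.node 1268 (.node 1266 (.node 1265 (.leaf 0x3be8)
(.leaf 0x3bf9))
(.node 1267 (.leaf 0x3c04)
(.leaf 0x3c07)))
(.node 1270 (.node 1269 (.leaf 0x3c23)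
(.leaf 0x3c36))
(.node 1271 (.leaf 0x3c46)
(.leaf 0x3c55))))
(.node 1276 (.node 1274 (.node 1273 (.leaf 0x3c57)
(.leaf 0x3c64))
(.node 1275 (.leaf 0x3c67)
(.leaf 0x3c78)))
(.node 1278 (.node 1277 (.leaf 0x3c86)
(.leaf 0x3c99))
(.node 1279 (.leaf 0x3ca5)
(.leaf 0x3ca7)))))))))

/-- part of a trie -/
def parPart5 : Tr :=
(.node 1408 (.node 1344 (.node 1312 (.node 1296 (.node 1288 (.node 1284 (.node 1282 (.node 1281 (.leaf 0x3cb4)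
(.leaf 0x3cb7))
(.node 1283 (.leaf 0x3cc8)
(.leaf 0x3cd3)))
(.node 1286 (.node 1285 (.leaf 0x3cd7)
(.leaf 0x3ce8))
(.node 1287 (.leaf 0x3cf9)
(.leaf 0x3d17))))
(.node 1292 (.node 1290 (.node 1289 (.leaf 0x3d1c)
(.leaf 0x3d2b))
(.node 1291 (.leaf 0x3d3c)
(.leaf 0x3d4b)))
(.node 1294 (.node 1293 (.leaf 0x3d56)
(.leaf 0x3d67))
(.node 1295 (.leaf 0x3d77)
(.leaf 0x3d79)))))
(.node 1304 (.node 1300 (.node 1298 (.node 1297 (.leaf 0x3d7c)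
(.leaf 0x3d8b))
(.node 1299 (.leaf 0x3d99)
(.leaf 0x3d9b)))
(.node 1302 (.node 1301 (.leaf 0x3d9c)
(.leaf 0x3dab))
(.node 1303 (.leaf 0x3dac)
(.leaf 0x3dbc))))
(.node 1308 (.node 1306 (.node 1305 (.leaf 0x3dcb)
(.leaf 0x3ddb))
(.node 1307 (.leaf 0x3de6)
(.leaf 0x3dfb)))
(.node 1310 (.node 1309 (.leaf 0x3e06)
(.leaf 0x3e15))
(.node 1311 (.leaf 0x3e17)
(.leaf 0x3e27))))))
(.node 1328 (.node 1320 (.node 1316 (.node 1314 (.node 1313 (.leaf 0x3e48)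
(.leaf 0x3e4b))
(.node 1315 (.leaf 0x3e4c)
(.leaf 0x3e5c)))
(.node 1318 (.node 1317 (.leaf 0x3e6b)
(.leaf 0x3e7c))
(.node 1319 (.leaf 0x3e8b)
(.leaf 0x3e9b))))
(.node 1324 (.node 1322 (.node 1321 (.leaf 0x3ea6)
(.leaf 0x3eb6))
(.node 1323 (.leaf 0x3ec5)
(.leaf 0x3ec7)))
(.node 1326 (.node 1325 (.leaf 0x3ed6)
(.leaf 0x3ee5))
(.node 1327 (.leaf 0x3ee7)
(.leaf 0x3ef4)))))
(.node 1336 (.node 1332 (.node 1330 (.node 1329 (.leaf 0x3ef7)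
(.leaf 0x3f08))
(.node 1331 (.leaf 0x3f15)
(.leaf 0x3f17)))
(.node 1334 (.node 1333 (.leaf 0x3f27)
(.leaf 0x3f4c))
(.node 1335 (.leaf 0x3f5b)
(.leaf 0x3f66))))
(.node 1340 (.node 1338 (.node 1337 (.leaf 0x3f75)
(.leaf 0x3f77))
(.node 1339 (.leaf 0x3f9c)
(.leaf 0x3fab)))
(.node 1342 (.node 1341 (.leaf 0x3fb6)
(.leaf 0x3fc6))
(.node 1343 (.leaf 0x3fcc)
(.leaf 0x3fdb)))))))
(.node 1376 (.node 1360 (.node 1352 (.node 1348 (.node 1346 (.node 1345 (.leaf 0x3feb)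
(.leaf 0x3ff6))
(.node 1347 (.leaf 0x4006)
(.leaf 0x4015)))
(.node 1350 (.node 1349 (.leaf 0x4017)
(.leaf 0x4025))
(.node 1351 (.leaf 0x4027)
(.leaf 0x4034))))
(.node 1356 (.node 1354 (.node 1353 (.leaf 0x4037)
(.leaf 0x4048))
(.node 1355 (.leaf 0x4056)
(.leaf 0x4058)))
(.node 1358 (.node 1357 (.leaf 0x406b)
(.leaf 0x4076))
(.node 1359 (.leaf 0x4086)
(.leaf 0x4095)))))
(.node 1368 (.node 1364 (.node 1362 (.node 1361 (.leaf 0x4097)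
(.leaf 0x40a5))
(.node 1363 (.leaf 0x40a7)
(.leaf 0x40b4)))
(.node 1366 (.node 1365 (.leaf 0x40b7)
(.leaf 0x40c8))
(.node 1367 (.leaf 0x40d4)
(.leaf 0x40d7))))
(.node 1372 (.node 1370 (.node 1369 (.leaf 0x40e8)
(.leaf 0x40f3))
(.node 1371 (.leaf 0x40f7)
(.leaf 0x4108)))
(.node 1374 (.node 1373 (.leaf 0x4135)
(.leaf 0x4145))
(.node 1375 (.leaf 0x4147)
(.leaf 0x4154))))))
(.node 1392 (.node 1384 (.node 1380 (.node 1378 (.node 1377 (.leaf 0x4157)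
(.leaf 0x4173))
(.node 1379 (.leaf 0x4177)
(.leaf 0x4186)))
(.node 1382 (.node 1381 (.leaf 0x419b)
(.leaf 0x41a4))
(.node 1383 (.leaf 0x41a7)
(.leaf 0x41b8))))
(.node 1388 (.node 1386 (.node 1385 (.leaf 0x41c3)
(.leaf 0x41c7))
(.node 1387 (.leaf 0x41d6)
(.leaf 0x41d8)))
(.node 1390 (.node 1389 (.leaf 0x41f7)
(.leaf 0x4208))
(.node 1391 (.leaf 0x4219)
(.leaf 0x4227)))))
(.node 1400 (.node 1396 (.node 1394 (.node 1393 (.leaf 0x4229)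
(.leaf 0x422c))
(.node 1395 (.leaf 0x423b)
(.leaf 0x424c)))
(.node 1398 (.node 1397 (.leaf 0x425b)
(.leaf 0x4266))
(.node 1399 (.leaf 0x4279)
(.leaf 0x427c))))
(.node 1404 (.node 1402 (.node 1401 (.leaf 0x428c)
(.leaf 0x429b))
(.node 1403 (.leaf 0x42a6)
(.leaf 0x42bb)))
(.node 1406 (.node 1405 (.leaf 0x42c6)
(.leaf 0x42d5))
(.node 1407 (.leaf 0x42d7)
(.leaf 0x42e8))))))))
(.node 1472 (.node 1440 (.node 1424 (.node 1416 (.node 1412 (.node 1410 (.node 1409 (.leaf 0x42f9)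
(.leaf 0x42fc))
(.node 1411 (.leaf 0x430c)
(.leaf 0x431b)))
(.node 1414 (.node 1413 (.leaf 0x4326)
(.leaf 0x4338))
(.node 1415 (.leaf 0x433b)
(.leaf 0x433c))))
(.node 1420 (.node 1418 (.node 1417 (.leaf 0x434c)
(.leaf 0x435b))
(.node 1419 (.leaf 0x436c)
(.leaf 0x437b)))
(.node 1422 (.node 1421 (.leaf 0x438b)
(.leaf 0x4396))
(.node 1423 (.leaf 0x43a6)
(.leaf 0x43b5)))))
(.node 1432 (.node 1428 (.node 1426 (.node 1425 (.leaf 0x43b7)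
(.leaf 0x43c6))
(.node 1427 (.leaf 0x43d5)
(.leaf 0x43d7)))
(.node 1430 (.node 1429 (.leaf 0x43e4)
(.leaf 0x43e7))
(.node 1431 (.leaf 0x43f8)
(.leaf 0x4406))))
(.node 1436 (.node 1434 (.node 1433 (.leaf 0x4408)
(.leaf 0x442b))
(.node 1435 (.leaf 0x4436)
(.leaf 0x443c)))
(.node 1438 (.node 1437 (.leaf 0x444b)
(.leaf 0x445b))
(.node 1439 (.leaf 0x4466)
(.leaf 0x4476))))))
(.node 1456 (.node 1448 (.node 1444 (.node 1442 (.node 1441 (.leaf 0x4486)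
(.leaf 0x4495))
(.node 1443 (.leaf 0x4497)
(.leaf 0x44a5)))
(.node 1446 (.node 1445 (.leaf 0x44a7)
(.leaf 0x44b4))
(.node 1447 (.leaf 0x44b7)
(.leaf 0x44c8))))
(.node 1452 (.node 1450 (.node 1449 (.leaf 0x44d5)
(.leaf 0x44d7))
(.node 1451 (.leaf 0x44e4)
(.leaf 0x44e7)))
(.node 1454 (.node 1453 (.leaf 0x44f8)
(.leaf 0x4507))
(.node 1455 (.leaf 0x4518)
(.leaf 0x4546)))))
(.node 1464 (.node 1460 (.node 1458 (.node 1457 (.leaf 0x455c)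
(.leaf 0x456b))
(.node 1459 (.leaf 0x4576)
(.leaf 0x4586)))
(.node 1462 (.node 1461 (.leaf 0x4595)
(.leaf 0x4597))
(.node 1463 (.leaf 0x45bb)
(.leaf 0x45c6))))
(.node 1468 (.node 1466 (.node 1465 (.leaf 0x45d5)
(.leaf 0x45d7))
(.node 1467 (.leaf 0x45e4)
(.leaf 0x45e7)))
(.node 1470 (.node 1469 (.leaf 0x45f8)
(.leaf 0x461c))
(.node 1471 (.leaf 0x462b)
(.leaf 0x4636)))))))
(.node 1504 (.node 1488 (.node 1480 (.node 1476 (.node 1474 (.node 1473 (.leaf 0x4645)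
(.leaf 0x465b))
(.node 1475 (.leaf 0x4666)
(.leaf 0x4676)))
(.node 1478 (.node 1477 (.leaf 0x4685)
(.leaf 0x4687))
(.node 1479 (.leaf 0x4695)
(.leaf 0x4697))))
(.node 1484 (.node 1482 (.node 1481 (.leaf 0x46a4)
(.leaf 0x46a7))
(.node 1483 (.leaf 0x46b8)
(.leaf 0x46c4)))
(.node 1486 (.node 1485 (.leaf 0x46c7)
(.leaf 0x46e3))
(.node 1487 (.leaf 0x46e7)
(.leaf 0x46f6)))))
(.node 1496 (.node 1492 (.node 1490 (.node 1489 (.leaf 0x46f8)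
(.leaf 0x4718))
(.node 1491 (.leaf 0x473b)
(.leaf 0x4746)))
(.node 1494 (.node 1493 (.leaf 0x4755)
(.leaf 0x4757))
(.node 1495 (.leaf 0x4765)
(.leaf 0x4767))))
(.node 1500 (.node 1498 (.node 1497 (.leaf 0x4774)
(.leaf 0x4777))
(.node 1499 (.leaf 0x4788)
(.leaf 0x4794)))
(.node 1502 (.node 1501 (.leaf 0x4797)
(.leaf 0x47a8))
(.node 1503 (.leaf 0x47b3)
(.leaf 0x47b7))))))
(.node 1520 (.node 1512 (.node 1508 (.node 1506 (.node 1505 (.leaf 0x47c6)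
(.leaf 0x47c8))
(.node 1507 (.leaf 0x47d9)
(.leaf 0x47e3)))
(.node 1510 (.node 1509 (.leaf 0x47e7)
(.leaf 0x47f7))
(.node 1511 (.leaf 0x4808)
(.leaf 0x4815))))
(.node 1516 (.node 1514 (.node 1513 (.leaf 0x4817)
(.leaf 0x4824))
(.node 1515 (.leaf 0x4827)
(.leaf 0x4844)))
(.node 1518 (.node 1517 (.leaf 0x4847)
(.leaf 0x4863))
(.node 1519 (.leaf 0x4867)
(.leaf 0x4884)))))
(.node 1528 (.node 1524 (.node 1522 (.node 1521 (.leaf 0x4894)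
(.leaf 0x4897))
(.node 1523 (.leaf 0x48a3)
(.leaf 0x48a7)))
(.node 1526 (.node 1525 (.leaf 0x48b6)
(.leaf 0x48c7))
(.node 1527 (.leaf 0x48d6)
(.leaf 0x48d8))))
(.node 1532 (.node 1530 (.node 1529 (.leaf 0x48eb)
(.leaf 0x48f3))
(.node 1531 (.leaf 0x48f7)
(.leaf 0x4917)))
(.node 1534 (.node 1533 (.leaf 0x4926)
(.leaf 0x4928))
(.node 1535 (.leaf 0x495b)
(.leaf 0x4966)))))))))

/-- part of a trie -/
def parPart6 : Tr :=
(.node 1664 (.node 1600 (.node 1568 (.node 1552 (.node 1544 (.node 1540 (.node 1538 (.node 1537 (.leaf 0x4975)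
(.leaf 0x4985))
(.node 1539 (.leaf 0x4987)
(.leaf 0x4994)))
(.node 1542 (.node 1541 (.leaf 0x49a3)
(.leaf 0x49b9))
(.node 1543 (.leaf 0x49bb)
(.leaf 0x49bc))))
(.node 1548 (.node 1546 (.node 1545 (.leaf 0x49cb)
(.leaf 0x49cc))
(.node 1547 (.leaf 0x49dc)
(.leaf 0x49eb)))
(.node 1550 (.node 1549 (.leaf 0x49f6)
(.leaf 0x4a0b))
(.node 1551 (.leaf 0x4a16)
(.leaf 0x4a25)))))
(.node 1560 (.node 1556 (.node 1554 (.node 1553 (.leaf 0x4a36)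
(.leaf 0x4a45))
(.node 1555 (.leaf 0x4a47)
(.leaf 0x4a66)))
(.node 1558 (.node 1557 (.leaf 0x4a6c)
(.leaf 0x4a7b))
(.node 1559 (.leaf 0x4a8b)
(.leaf 0x4a96))))
(.node 1564 (.node 1562 (.node 1561 (.leaf 0x4aa6)
(.leaf 0x4ab5))
(.node 1563 (.leaf 0x4ab7)
(.leaf 0x4ac5)))
(.node 1566 (.node 1565 (.leaf 0x4ac7)
(.leaf 0x4ad4))
(.node 1567 (.leaf 0x4ad7)
(.leaf 0x4ae8))))))
(.node 1584 (.node 1576 (.node 1572 (.node 1570 (.node 1569 (.leaf 0x4af9)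
(.leaf 0x4b04))
(.node 1571 (.leaf 0x4b07)
(.leaf 0x4b23)))
(.node 1574 (.node 1573 (.leaf 0x4b35)
(.leaf 0x4b37))
(.node 1575 (.leaf 0x4b44)
(.leaf 0x4b47))))
(.node 1580 (.node 1578 (.node 1577 (.leaf 0x4b58)
(.leaf 0x4b63))
(.node 1579 (.leaf 0x4b67)
(.leaf 0x4b78)))
(.node 1582 (.node 1581 (.leaf 0x4ba7)
(.leaf 0x4ba9))
(.node 1583 (.leaf 0x4bac)
(.leaf 0x4bbb)))))
(.node 1592 (.node 1588 (.node 1586 (.node 1585 (.leaf 0x4bc9)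
(.leaf 0x4bcb))
(.node 1587 (.leaf 0x4bcc)
(.leaf 0x4bdb)))
(.node 1590 (.node 1589 (.leaf 0x4bdc)
(.leaf 0x4bec))
(.node 1591 (.leaf 0x4bfb)
(.leaf 0x4c0b))))
(.node 1596 (.node 1594 (.node 1593 (.leaf 0x4c16)
(.leaf 0x4c2b))
(.node 1595 (.leaf 0x4c36)
(.leaf 0x4c45)))
(.node 1598 (.node 1597 (.leaf 0x4c47)
(.leaf 0x4c68))
(.node 1599 (.leaf 0x4c6b)
(.leaf 0x4c6c)))))))
(.node 1632 (.node 1616 (.node 1608 (.node 1604 (.node 1602 (.node 1601 (.leaf 0x4c76)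
(.leaf 0x4c7c))
(.node 1603 (.leaf 0x4c8b)
(.leaf 0x4c9c)))
(.node 1606 (.node 1605 (.leaf 0x4cab)
(.leaf 0x4cbb))
(.node 1607 (.leaf 0x4cc6)
(.leaf 0x4cd6))))
(.node 1612 (.node 1610 (.node 1609 (.leaf 0x4ce5)
(.leaf 0x4ce7))
(.node 1611 (.leaf 0x4cf6)
(.leaf 0x4d05)))
(.node 1614 (.node 1613 (.leaf 0x4d07)
(.leaf 0x4d14))
(.node 1615 (.leaf 0x4d17)
(.leaf 0x4d28)))))
(.node 1624 (.node 1620 (.node 1618 (.node 1617 (.leaf 0x4d35)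
(.leaf 0x4d37))
(.node 1619 (.leaf 0x4d44)
(.leaf 0x4d47)))
(.node 1622 (.node 1621 (.leaf 0x4d6c)
(.leaf 0x4d7b))
(.node 1623 (.leaf 0x4d86)
(.leaf 0x4d96))))
(.node 1628 (.node 1626 (.node 1625 (.leaf 0x4d9c)
(.leaf 0x4dab))
(.node 1627 (.leaf 0x4dbb)
(.leaf 0x4dc6)))
(.node 1630 (.node 1629 (.leaf 0x4dd6)
(.leaf 0x4de5))
(.node 1631 (.leaf 0x4de7)
(.leaf 0x4df5))))))
(.node 1648 (.node 1640 (.node 1636 (.node 1634 (.node 1633 (.leaf 0x4df7)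
(.leaf 0x4e04))
(.node 1635 (.leaf 0x4e07)
(.leaf 0x4e18)))
(.node 1638 (.node 1637 (.leaf 0x4e26)
(.leaf 0x4e39))
(.node 1639 (.leaf 0x4e45)
(.leaf 0x4e4c))))
(.node 1644 (.node 1642 (.node 1641 (.leaf 0x4e5b)
(.leaf 0x4e66))
(.node 1643 (.leaf 0x4e76)
(.leaf 0x4e85)))
(.node 1646 (.node 1645 (.leaf 0x4e87)
(.leaf 0x4e95))
(.node 1647 (.leaf 0x4e97)
(.leaf 0x4ea4)))))
(.node 1656 (.node 1652 (.node 1650 (.node 1649 (.leaf 0x4ea7)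
(.leaf 0x4eb8))
(.node 1651 (.leaf 0x4ec4)
(.leaf 0x4ec7)))
(.node 1654 (.node 1653 (.leaf 0x4ed8)
(.leaf 0x4ee3))
(.node 1655 (.leaf 0x4ee7)
(.leaf 0x4ef8))))
(.node 1660 (.node 1658 (.node 1657 (.leaf 0x4f09)
(.leaf 0x4f23))
(.node 1659 (.leaf 0x4f27)
(.leaf 0x4f36)))
(.node 1662 (.node 1661 (.leaf 0x4f55)
(.leaf 0x4f57))
(.node 1663 (.leaf 0x4f65)
(.leaf 0x4f67))))))))
(.node 1728 (.node 1696 (.node 1680 (.node 1672 (.node 1668 (.node 1666 (.node 1665 (.leaf 0x4f74)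
(.leaf 0x4f77))
(.node 1667 (.leaf 0x4f88)
(.leaf 0x4f93)))
(.node 1670 (.node 1669 (.leaf 0x4f97)
(.leaf 0x4fa6))
(.node 1671 (.leaf 0x4fa8)
(.leaf 0x4fb9))))
(.node 1676 (.node 1674 (.node 1673 (.leaf 0x4fcb)
(.leaf 0x4fe4))
(.node 1675 (.leaf 0x4fe7)
(.leaf 0x4ff8)))
(.node 1678 (.node 1677 (.leaf 0x5003)
(.leaf 0x5007))
(.node 1679 (.leaf 0x5016)
(.leaf 0x5018)))))
(.node 1688 (.node 1684 (.node 1682 (.node 1681 (.leaf 0x5029)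
(.leaf 0x5037))
(.node 1683 (.leaf 0x5048)
(.leaf 0x5059)))
(.node 1686 (.node 1685 (.leaf 0x5079)
(.leaf 0x507c))
(.node 1687 (.leaf 0x508b)
(.leaf 0x5096))))
(.node 1692 (.node 1690 (.node 1689 (.leaf 0x50ab)
(.leaf 0x50b6))
(.node 1691 (.leaf 0x50c5)
(.leaf 0x50c7)))
(.node 1694 (.node 1693 (.leaf 0x50e6)
(.leaf 0x50e9))
(.node 1695 (.leaf 0x50ec)
(.leaf 0x50fc))))))
(.node 1712 (.node 1704 (.node 1700 (.node 1698 (.node 1697 (.leaf 0x510b)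
(.leaf 0x5116))
(.node 1699 (.leaf 0x5128)
(.leaf 0x512b)))
(.node 1702 (.node 1701 (.leaf 0x512c)
(.leaf 0x513c))
(.node 1703 (.leaf 0x514b)
(.leaf 0x515c))))
(.node 1708 (.node 1706 (.node 1705 (.leaf 0x516b)
(.leaf 0x517b))
(.node 1707 (.leaf 0x5186)
(.leaf 0x5196)))
(.node 1710 (.node 1709 (.leaf 0x51a5)
(.leaf 0x51a7))
(.node 1711 (.leaf 0x51b6)
(.leaf 0x51c5)))))
(.node 1720 (.node 1716 (.node 1714 (.node 1713 (.leaf 0x51c7)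
(.leaf 0x51d4))
(.node 1715 (.leaf 0x51d7)
(.leaf 0x51e8)))
(.node 1718 (.node 1717 (.leaf 0x51f6)
(.leaf 0x51f8))
(.node 1719 (.leaf 0x520b)
(.leaf 0x520c))))
(.node 1724 (.node 1722 (.node 1721 (.leaf 0x5216)
(.leaf 0x521c))
(.node 1723 (.leaf 0x522b)
(.leaf 0x523b)))
(.node 1726 (.node 1725 (.leaf 0x5246)
(.leaf 0x525b))
(.node 1727 (.leaf 0x5266)
(.leaf 0x5276)))))))
(.node 1760 (.node 1744 (.node 1736 (.node 1732 (.node 1730 (.node 1729 (.leaf 0x5285)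
(.leaf 0x5287))
(.node 1731 (.leaf 0x5295)
(.leaf 0x52a4)))
(.node 1734 (.node 1733 (.leaf 0x52a7)
(.leaf 0x52b8))
(.node 1735 (.leaf 0x52c5)
(.leaf 0x52c7))))
(.node 1740 (.node 1738 (.node 1737 (.leaf 0x52d4)
(.leaf 0x52d7))
(.node 1739 (.leaf 0x52e8)
(.leaf 0x52f7)))
(.node 1742 (.node 1741 (.leaf 0x5308)
(.leaf 0x5327))
(.node 1743 (.leaf 0x5346)
(.leaf 0x535b)))))
(.node 1752 (.node 1748 (.node 1746 (.node 1745 (.leaf 0x5366)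
(.leaf 0x5375))
(.node 1747 (.leaf 0x5377)
(.leaf 0x5384)))
(.node 1750 (.node 1749 (.leaf 0x5387)
(.leaf 0x53ab))
(.node 1751 (.leaf 0x53b6)
(.leaf 0x53c5))))
(.node 1756 (.node 1754 (.node 1753 (.leaf 0x53c7)
(.leaf 0x53dc))
(.node 1755 (.leaf 0x53eb)
(.leaf 0x53f6)))
(.node 1758 (.node 1757 (.leaf 0x5406)
(.leaf 0x5415))
(.node 1759 (.leaf 0x5417)
(.leaf 0x5425))))))
(.node 1776 (.node 1768 (.node 1764 (.node 1762 (.node 1761 (.leaf 0x5434)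
(.leaf 0x5437))
(.node 1763 (.leaf 0x5448)
(.leaf 0x5454)))
(.node 1766 (.node 1765 (.leaf 0x5457)
(.leaf 0x5468))
(.node 1767 (.leaf 0x5473)
(.leaf 0x5477))))
(.node 1772 (.node 1770 (.node 1769 (.leaf 0x5486)
(.leaf 0x5488))
(.node 1771 (.leaf 0x54a8)
(.leaf 0x54ab)))
(.node 1774 (.node 1773 (.leaf 0x54c6)
(.leaf 0x54d5))
(.node 1775 (.leaf 0x54d7)
(.leaf 0x54e5)))))
(.node 1784 (.node 1780 (.node 1778 (.node 1777 (.leaf 0x54e7)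
(.leaf 0x54f4))
(.node 1779 (.leaf 0x54f7)
(.leaf 0x5508)))
(.node 1782 (.node 1781 (.leaf 0x5514)
(.leaf 0x5517))
(.node 1783 (.leaf 0x5528)
(.leaf 0x5533))))
(.node 1788 (.node 1786 (.node 1785 (.leaf 0x5537)
(.leaf 0x5546))
(.node 1787 (.leaf 0x5548)
(.leaf 0x5563)))
(.node 1790 (.node 1789 (.leaf 0x5567)
(.leaf 0x5576))
(.node 1791 (.leaf 0x5597)
(.leaf 0x55a8)))))))))

/-- part of a trie -/
def parPart7 : Tr :=
(.node 1920 (.node 1856 (.node 1824 (.node 1808 (.node 1800 (.node 1796 (.node 1794 (.node 1793 (.leaf 0x55b9)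
(.leaf 0x55c4))
(.node 1795 (.leaf 0x55c7)
(.leaf 0x55d4)))
(.node 1798 (.node 1797 (.leaf 0x55d7)
(.leaf 0x55e8))
(.node 1799 (.leaf 0x55f3)
(.leaf 0x55f7))))
(.node 1804 (.node 1802 (.node 1801 (.leaf 0x5606)
(.leaf 0x5612))
(.node 1803 (.leaf 0x5617)
(.leaf 0x5626)))
(.node 1806 (.node 1805 (.leaf 0x5628)
(.leaf 0x563b))
(.node 1807 (.leaf 0x5653)
(.leaf 0x5657)))))
(.node 1816 (.node 1812 (.node 1810 (.node 1809 (.leaf 0x5666)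
(.leaf 0x5668))
(.node 1811 (.leaf 0x5679)
(.leaf 0x5682)))
(.node 1814 (.node 1813 (.leaf 0x5687)
(.leaf 0x5696))
(.node 1815 (.leaf 0x5698)
(.leaf 0x56a8))))
(.node 1820 (.node 1818 (.node 1817 (.leaf 0x56b9)
(.leaf 0x56c8))
(.node 1819 (.leaf 0x56d9)
(.leaf 0x56f9)))
(.node 1822 (.node 1821 (.leaf 0x56fc)
(.leaf 0x570c))
(.node 1823 (.leaf 0x571b)
(.leaf 0x5726))))))
(.node 1840 (.node 1832 (.node 1828 (.node 1826 (.node 1825 (.leaf 0x573b)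
(.leaf 0x5746))
(.node 1827 (.leaf 0x5755)
(.leaf 0x5768)))
(.node 1830 (.node 1829 (.leaf 0x576c)
(.leaf 0x577b))
(.node 1831 (.leaf 0x578b)
(.leaf 0x5796))))
(.node 1836 (.node 1834 (.node 1833 (.leaf 0x57a5)
(.leaf 0x57a7))
(.node 1835 (.leaf 0x57b6)
(.leaf 0x57c5)))
(.node 1838 (.node 1837 (.leaf 0x57c7)
(.leaf 0x57d4))
(.node 1839 (.leaf 0x57d7)
(.leaf 0x57e8)))))
(.node 1848 (.node 1844 (.node 1842 (.node 1841 (.leaf 0x57f9)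
(.leaf 0x5808))
(.node 1843 (.leaf 0x580c)
(.leaf 0x581b)))
(.node 1846 (.node 1845 (.leaf 0x582b)
(.leaf 0x5836))
(.node 1847 (.leaf 0x5845)
(.leaf 0x5847))))
(.node 1852 (.node 1850 (.node 1849 (.leaf 0x585b)
(.leaf 0x585c))
(.node 1851 (.leaf 0x5866)
(.leaf 0x586c)))
(.node 1854 (.node 1853 (.leaf 0x587b)
(.leaf 0x588b))
(.node 1855 (.leaf 0x5896)
(.leaf 0x58ab)))))))
(.node 1888 (.node 1872 (.node 1864 (.node 1860 (.node 1858 (.node 1857 (.leaf 0x58b6)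
(.leaf 0x58c6))
(.node 1859 (.leaf 0x58d5)
(.leaf 0x58d7)))
(.node 1862 (.node 1861 (.leaf 0x58e5)
(.leaf 0x58e7))
(.node 1863 (.leaf 0x58f4)
(.leaf 0x58f7))))
(.node 1868 (.node 1866 (.node 1865 (.leaf 0x5908)
(.leaf 0x5915))
(.node 1867 (.leaf 0x5917)
(.leaf 0x5924)))
(.node 1870 (.node 1869 (.leaf 0x5927)
(.leaf 0x5938))
(.node 1871 (.leaf 0x5947)
(.leaf 0x5956)))))
(.node 1880 (.node 1876 (.node 1874 (.node 1873 (.leaf 0x5958)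
(.leaf 0x5978))
(.node 1875 (.leaf 0x5996)
(.leaf 0x599c)))
(.node 1878 (.node 1877 (.leaf 0x59ac)
(.leaf 0x59bb))
(.node 1879 (.leaf 0x59c6)
(.leaf 0x59d6))))
(.node 1884 (.node 1882 (.node 1881 (.leaf 0x59e5)
(.leaf 0x59e7))
(.node 1883 (.leaf 0x59f5)
(.leaf 0x59f7)))
(.node 1886 (.node 1885 (.leaf 0x5a05)
(.leaf 0x5a07))
(.node 1887 (.leaf 0x5a14)
(.leaf 0x5a17))))))
(.node 1904 (.node 1896 (.node 1892 (.node 1890 (.node 1889 (.leaf 0x5a28)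
(.leaf 0x5a34))
(.node 1891 (.leaf 0x5a37)
(.leaf 0x5a48)))
(.node 1894 (.node 1893 (.leaf 0x5a53)
(.leaf 0x5a57))
(.node 1895 (.leaf 0x5a68)
(.leaf 0x5a79))))
(.node 1900 (.node 1898 (.node 1897 (.leaf 0x5a84)
(.leaf 0x5a87))
(.node 1899 (.leaf 0x5a98)
(.leaf 0x5aa3)))
(.node 1902 (.node 1901 (.leaf 0x5aa7)
(.leaf 0x5ab6))
(.node 1903 (.leaf 0x5ab8)
(.leaf 0x5ad8)))))
(.node 1912 (.node 1908 (.node 1906 (.node 1905 (.leaf 0x5b0b)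
(.leaf 0x5b16))
(.node 1907 (.leaf 0x5b25)
(.leaf 0x5b27)))
(.node 1910 (.node 1909 (.leaf 0x5b35)
(.leaf 0x5b37))
(.node 1911 (.leaf 0x5b44)
(.leaf 0x5b47))))
(.node 1916 (.node 1914 (.node 1913 (.leaf 0x5b58)
(.leaf 0x5b66))
(.node 1915 (.leaf 0x5b75)
(.leaf 0x5b77)))
(.node 1918 (.node 1917 (.leaf 0x5b84)
(.leaf 0x5b87))
(.node 1919 (.leaf 0x5b98)
(.leaf 0x5ba3))))))))
(.node 1984 (.node 1952 (.node 1936 (.node 1928 (.node 1924 (.node 1922 (.node 1921 (.leaf 0x5ba7)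
(.leaf 0x5bb8))
(.node 1923 (.leaf 0x5bdb)
(.leaf 0x5be6)))
(.node 1926 (.node 1925 (.leaf 0x5bf5)
(.leaf 0x5bf7))
(.node 1927 (.leaf 0x5c04)
(.leaf 0x5c07))))
(.node 1932 (.node 1930 (.node 1929 (.leaf 0x5c16)
(.leaf 0x5c25))
(.node 1931 (.leaf 0x5c27)
(.leaf 0x5c35)))
(.node 1934 (.node 1933 (.leaf 0x5c37)
(.leaf 0x5c44))
(.node 1935 (.leaf 0x5c47)
(.leaf 0x5c58)))))
(.node 1944 (.node 1940 (.node 1938 (.node 1937 (.leaf 0x5c64)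
(.leaf 0x5c67))
(.node 1939 (.leaf 0x5c78)
(.leaf 0x5c83)))
(.node 1942 (.node 1941 (.leaf 0x5c87)
(.leaf 0x5c96))
(.node 1943 (.leaf 0x5c98)
(.leaf 0x5ca9))))
(.node 1948 (.node 1946 (.node 1945 (.leaf 0x5cd7)
(.leaf 0x5ce6))
(.node 1947 (.leaf 0x5ce8)
(.leaf 0x5cf8)))
(.node 1950 (.node 1949 (.leaf 0x5cfb)
(.leaf 0x5d1b))
(.node 1951 (.leaf 0x5d26)
(.leaf 0x5d35))))))
(.node 1968 (.node 1960 (.node 1956 (.node 1954 (.node 1953 (.leaf 0x5d37)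
(.leaf 0x5d44))
(.node 1955 (.leaf 0x5d47)
(.leaf 0x5d64)))
(.node 1958 (.node 1957 (.leaf 0x5d67)
(.leaf 0x5d78))
(.node 1959 (.leaf 0x5d83)
(.leaf 0x5d87))))
(.node 1964 (.node 1962 (.node 1961 (.leaf 0x5d96)
(.leaf 0x5d98))
(.node 1963 (.leaf 0x5db3)
(.leaf 0x5db7)))
(.node 1966 (.node 1965 (.leaf 0x5dc8)
(.leaf 0x5dd9))
(.node 1967 (.leaf 0x5de2)
(.leaf 0x5de7)))))
(.node 1976 (.node 1972 (.node 1970 (.node 1969 (.leaf 0x5df6)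
(.leaf 0x5df8))
(.node 1971 (.leaf 0x5e08)
(.leaf 0x5e19)))
(.node 1974 (.node 1973 (.leaf 0x5e37)
(.leaf 0x5e58))
(.node 1975 (.leaf 0x5e74)
(.leaf 0x5e77))))
(.node 1980 (.node 1978 (.node 1977 (.leaf 0x5e93)
(.leaf 0x5e97))
(.node 1979 (.leaf 0x5eb3)
(.leaf 0x5eb7)))
(.node 1982 (.node 1981 (.leaf 0x5ed7)
(.leaf 0x5ef3))
(.node 1983 (.leaf 0x5f03)
(.leaf 0x5f07)))))))
(.node 2016 (.node 2000 (.node 1992 (.node 1988 (.node 1986 (.node 1985 (.leaf 0x5f27)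
(.leaf 0x5f36))
(.node 1987 (.leaf 0x5f38)
(.leaf 0x5f4b)))
(.node 1990 (.node 1989 (.leaf 0x5f56)
(.leaf 0x5f6b))
(.node 1991 (.leaf 0x5f97)
(.leaf 0x5fa6))))
(.node 1996 (.node 1994 (.node 1993 (.leaf 0x5fa8)
(.leaf 0x5fb6))
(.node 1995 (.leaf 0x5fb8)
(.leaf 0x5fe6)))
(.node 1998 (.node 1997 (.leaf 0x5ff5)
(.leaf 0x6014))
(.node 1999 (.leaf 0x6017)
(.leaf 0x6033)))))
(.node 2008 (.node 2004 (.node 2002 (.node 2001 (.leaf 0x6058)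
(.leaf 0x605b))
(.node 2003 (.leaf 0x605c)
(.leaf 0x6066)))
(.node 2006 (.node 2005 (.leaf 0x606c)
(.leaf 0x607b))
(.node 2007 (.leaf 0x608c)
(.leaf 0x609b))))
(.node 2012 (.node 2010 (.node 2009 (.leaf 0x60ab)
(.leaf 0x60b6))
(.node 2011 (.leaf 0x60c5)
(.leaf 0x60d6)))
(.node 2014 (.node 2013 (.leaf 0x60e5)
(.leaf 0x60f4))
(.node 2015 (.leaf 0x6105)
(.leaf 0x6107))))))
(.node 2032 (.node 2024 (.node 2020 (.node 2018 (.node 2017 (.leaf 0x6114)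
(.leaf 0x6117))
(.node 2019 (.leaf 0x613c)
(.leaf 0x614b)))
(.node 2022 (.node 2021 (.leaf 0x6156)
(.leaf 0x6166))
(.node 2023 (.leaf 0x6175)
(.leaf 0x6177))))
(.node 2028 (.node 2026 (.node 2025 (.leaf 0x6185)
(.leaf 0x6187))
(.node 2027 (.leaf 0x6194)
(.leaf 0x6197)))
(.node 2030 (.node 2029 (.leaf 0x61a8)
(.leaf 0x61b4))
(.node 2031 (.leaf 0x61b7)
(.leaf 0x61c8)))))
(.node 2040 (.node 2036 (.node 2034 (.node 2033 (.leaf 0x61d3)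
(.leaf 0x61d7))
(.node 2035 (.leaf 0x61e8)
(.leaf 0x61f9)))
(.node 2038 (.node 2037 (.leaf 0x6213)
(.leaf 0x6217))
(.node 2039 (.leaf 0x6226)
(.leaf 0x6244))))
(.node 2044 (.node 2042 (.node 2041 (.leaf 0x6247)
(.leaf 0x6258))
(.node 2043 (.leaf 0x6263)
(.leaf 0x6267)))
(.node 2046 (.node 2045 (.leaf 0x6276)
(.leaf 0x6278))
(.node 2047 (.leaf 0x6289)
(.leaf 0x6297)))))))))

/-- part of a trie -/
def parPart8 : Tr :=
(.node 2176 (.node 2112 (.node 2080 (.node 2064 (.node 2056 (.node 2052 (.node 2050 (.node 2049 (.leaf 0x62a8)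
(.leaf 0x62b9))
(.node 2051 (.leaf 0x62c6)
(.leaf 0x62c9)))
(.node 2054 (.node 2053 (.leaf 0x62cc)
(.leaf 0x62dc))
(.node 2055 (.leaf 0x62eb)
(.leaf 0x62f6))))
(.node 2060 (.node 2058 (.node 2057 (.leaf 0x6308)
(.leaf 0x630b))
(.node 2059 (.leaf 0x630c)
(.leaf 0x6316)))
(.node 2062 (.node 2061 (.leaf 0x631c)
(.leaf 0x632b))
(.node 2063 (.leaf 0x633c)
(.leaf 0x634b)))))
(.node 2072 (.node 2068 (.node 2066 (.node 2065 (.leaf 0x635b)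
(.leaf 0x6366))
(.node 2067 (.leaf 0x6376)
(.leaf 0x6385)))
(.node 2070 (.node 2069 (.leaf 0x6387)
(.leaf 0x6396))
(.node 2071 (.leaf 0x63b4)
(.leaf 0x63b7))))
(.node 2076 (.node 2074 (.node 2073 (.leaf 0x63c8)
(.leaf 0x63db))
(.node 2075 (.leaf 0x63dc)
(.leaf 0x63e6)))
(.node 2078 (.node 2077 (.leaf 0x63ec)
(.leaf 0x63fb))
(.node 2079 (.leaf 0x640c)
(.leaf 0x641b))))))
(.node 2096 (.node 2088 (.node 2084 (.node 2082 (.node 2081 (.leaf 0x6426)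
(.leaf 0x643b))
(.node 2083 (.leaf 0x6446)
(.leaf 0x6456)))
(.node 2086 (.node 2085 (.leaf 0x6465)
(.leaf 0x6467))
(.node 2087 (.leaf 0x6475)
(.leaf 0x6477))))
(.node 2092 (.node 2090 (.node 2089 (.leaf 0x6484)
(.leaf 0x6487))
(.node 2091 (.leaf 0x6498)
(.leaf 0x64a5)))
(.node 2094 (.node 2093 (.leaf 0x64a7)
(.leaf 0x64b4))
(.node 2095 (.leaf 0x64b7)
(.leaf 0x64c8)))))
(.node 2104 (.node 2100 (.node 2098 (.node 2097 (.leaf 0x64d7)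
(.leaf 0x6504))
(.node 2099 (.leaf 0x6507)
(.leaf 0x6523)))
(.node 2102 (.node 2101 (.leaf 0x6527)
(.leaf 0x6536))
(.node 2103 (.leaf 0x654b)
(.leaf 0x6556))))
(.node 2108 (.node 2106 (.node 2105 (.leaf 0x6565)
(.leaf 0x6567))
(.node 2107 (.leaf 0x657c)
(.leaf 0x658b)))
(.node 2110 (.node 2109 (.leaf 0x6596)
(.leaf 0x65a6))
(.node 2111 (.leaf 0x65b5)
(.leaf 0x65b7)))))))
(.node 2144 (.node 2128 (.node 2120 (.node 2116 (.node 2114 (.node 2113 (.leaf 0x65c5)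
(.leaf 0x65c7))
(.node 2115 (.leaf 0x65d4)
(.leaf 0x65d7)))
(.node 2118 (.node 2117 (.leaf 0x65e8)
(.leaf 0x65f4))
(.node 2119 (.leaf 0x65f7)
(.leaf 0x6608))))
(.node 2124 (.node 2122 (.node 2121 (.leaf 0x6613)
(.leaf 0x6617))
(.node 2123 (.leaf 0x6626)
(.leaf 0x6628)))
(.node 2126 (.node 2125 (.leaf 0x6639)
(.leaf 0x666c))
(.node 2127 (.leaf 0x667b)
(.leaf 0x6686)))))
(.node 2136 (.node 2132 (.node 2130 (.node 2129 (.leaf 0x6695)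
(.leaf 0x6697))
(.node 2131 (.leaf 0x66a5)
(.leaf 0x66a7)))
(.node 2134 (.node 2133 (.leaf 0x66b4)
(.leaf 0x66b7))
(.node 2135 (.leaf 0x66c8)
(.leaf 0x66d4))))
(.node 2140 (.node 2138 (.node 2137 (.leaf 0x66d7)
(.leaf 0x66e8))
(.node 2139 (.leaf 0x66f3)
(.leaf 0x66f7)))
(.node 2142 (.node 2141 (.leaf 0x6706)
(.leaf 0x6708))
(.node 2143 (.leaf 0x6719)
(.leaf 0x6723))))))
(.node 2160 (.node 2152 (.node 2148 (.node 2146 (.node 2145 (.leaf 0x6727)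
(.leaf 0x6736))
(.node 2147 (.leaf 0x6738)
(.leaf 0x6749)))
(.node 2150 (.node 2149 (.leaf 0x6752)
(.leaf 0x6757))
(.node 2151 (.leaf 0x6768)
(.leaf 0x6779))))
(.node 2156 (.node 2154 (.node 2153 (.leaf 0x6792)
(.leaf 0x6797))
(.node 2155 (.leaf 0x67a6)
(.leaf 0x67bb)))
(.node 2158 (.node 2157 (.leaf 0x67c4)
(.leaf 0x67c7))
(.node 2159 (.leaf 0x67e4)
(.leaf 0x67e7)))))
(.node 2168 (.node 2164 (.node 2162 (.node 2161 (.leaf 0x67f8)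
(.leaf 0x6803))
(.node 2163 (.leaf 0x6807)
(.leaf 0x6816)))
(.node 2166 (.node 2165 (.leaf 0x6818)
(.leaf 0x6829))
(.node 2167 (.leaf 0x6837)
(.leaf 0x6846))))
(.node 2172 (.node 2170 (.node 2169 (.leaf 0x6848)
(.leaf 0x685b))
(.node 2171 (.leaf 0x6869)
(.leaf 0x6893)))
(.node 2174 (.node 2173 (.leaf 0x6897)
(.leaf 0x68a6))
(.node 2175 (.leaf 0x68a8)
(.leaf 0x68b9))))))))
(.node 2240 (.node 2208 (.node 2192 (.node 2184 (.node 2180 (.node 2178 (.node 2177 (.leaf 0x68c7)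
(.leaf 0x68d6))
(.node 2179 (.leaf 0x68d8)
(.leaf 0x68e8)))
(.node 2182 (.node 2181 (.leaf 0x68f9)
(.leaf 0x6918))
(.node 2183 (.leaf 0x6929)
(.leaf 0x694c))))
(.node 2188 (.node 2186 (.node 2185 (.leaf 0x695b)
(.leaf 0x6966))
(.node 2187 (.leaf 0x6975)
(.leaf 0x6986)))
(.node 2190 (.node 2189 (.leaf 0x6995)
(.leaf 0x6997))
(.node 2191 (.leaf 0x69a4)
(.leaf 0x69a7)))))
(.node 2200 (.node 2196 (.node 2194 (.node 2193 (.leaf 0x69c9)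
(.leaf 0x69cc))
(.node 2195 (.leaf 0x69d8)
(.leaf 0x69dc)))
(.node 2198 (.node 2197 (.leaf 0x69eb)
(.leaf 0x69fb))
(.node 2199 (.leaf 0x6a06)
(.leaf 0x6a15))))
(.node 2204 (.node 2202 (.node 2201 (.leaf 0x6a17)
(.leaf 0x6a2b))
(.node 2203 (.leaf 0x6a3c)
(.leaf 0x6a4b)))
(.node 2206 (.node 2205 (.leaf 0x6a5b)
(.leaf 0x6a66))
(.node 2207 (.leaf 0x6a7b)
(.leaf 0x6a86))))))
(.node 2224 (.node 2216 (.node 2212 (.node 2210 (.node 2209 (.leaf 0x6a96)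
(.leaf 0x6aa5))
(.node 2211 (.leaf 0x6aa7)
(.leaf 0x6ab5)))
(.node 2214 (.node 2213 (.leaf 0x6ab7)
(.leaf 0x6ac4))
(.node 2215 (.leaf 0x6ac7)
(.leaf 0x6ad8))))
(.node 2220 (.node 2218 (.node 2217 (.leaf 0x6ae5)
(.leaf 0x6ae7))
(.node 2219 (.leaf 0x6af4)
(.leaf 0x6af7)))
(.node 2222 (.node 2221 (.leaf 0x6b08)
(.leaf 0x6b13))
(.node 2223 (.leaf 0x6b17)
(.leaf 0x6b26)))))
(.node 2232 (.node 2228 (.node 2226 (.node 2225 (.leaf 0x6b28)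
(.leaf 0x6b48))
(.node 2227 (.leaf 0x6b59)
(.leaf 0x6b66)))
(.node 2230 (.node 2229 (.leaf 0x6b6c)
(.leaf 0x6b7b))
(.node 2231 (.leaf 0x6b8c)
(.leaf 0x6b9b))))
(.node 2236 (.node 2234 (.node 2233 (.leaf 0x6ba6)
(.leaf 0x6bb6))
(.node 2235 (.leaf 0x6bc5)
(.leaf 0x6bc7)))
(.node 2238 (.node 2237 (.leaf 0x6bd6)
(.leaf 0x6be5))
(.node 2239 (.leaf 0x6be7)
(.leaf 0x6bf5)))))))
(.node 2272 (.node 2256 (.node 2248 (.node 2244 (.node 2242 (.node 2241 (.leaf 0x6bf7)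
(.leaf 0x6c04))
(.node 2243 (.leaf 0x6c07)
(.leaf 0x6c18)))
(.node 2246 (.node 2245 (.leaf 0x6c24)
(.leaf 0x6c27))
(.node 2247 (.leaf 0x6c33)
(.leaf 0x6c37))))
(.node 2252 (.node 2250 (.node 2249 (.leaf 0x6c46)
(.leaf 0x6c48))
(.node 2251 (.leaf 0x6c64)
(.leaf 0x6c67)))
(.node 2254 (.node 2253 (.leaf 0x6c78)
(.leaf 0x6c83))
(.node 2255 (.leaf 0x6c87)
(.leaf 0x6c98)))))
(.node 2264 (.node 2260 (.node 2258 (.node 2257 (.leaf 0x6cb8)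
(.leaf 0x6cd6))
(.node 2259 (.leaf 0x6ceb)
(.leaf 0x6cf6)))
(.node 2262 (.node 2261 (.leaf 0x6d05)
(.leaf 0x6d07))
(.node 2263 (.leaf 0x6d14)
(.leaf 0x6d17))))
(.node 2268 (.node 2266 (.node 2265 (.leaf 0x6d28)
(.leaf 0x6d33))
(.node 2267 (.leaf 0x6d37)
(.leaf 0x6d48)))
(.node 2270 (.node 2269 (.leaf 0x6d56)
(.leaf 0x6d65))
(.node 2271 (.leaf 0x6d67)
(.leaf 0x6d74))))))
(.node 2288 (.node 2280 (.node 2276 (.node 2274 (.node 2273 (.leaf 0x6d77)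
(.leaf 0x6d88))
(.node 2275 (.leaf 0x6d9b)
(.leaf 0x6da6)))
(.node 2278 (.node 2277 (.leaf 0x6db5)
(.leaf 0x6db7))
(.node 2279 (.leaf 0x6dc5)
(.leaf 0x6dc7))))
(.node 2284 (.node 2282 (.node 2281 (.leaf 0x6dd4)
(.leaf 0x6dd7))
(.node 2283 (.leaf 0x6de8)
(.leaf 0x6df4)))
(.node 2286 (.node 2285 (.leaf 0x6df7)
(.leaf 0x6e03))
(.node 2287 (.leaf 0x6e07)
(.leaf 0x6e16)))))
(.node 2296 (.node 2292 (.node 2290 (.node 2289 (.leaf 0x6e18)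
(.leaf 0x6e33))
(.node 2291 (.leaf 0x6e37)
(.leaf 0x6e48)))
(.node 2294 (.node 2293 (.leaf 0x6e62)
(.leaf 0x6e67))
(.node 2295 (.leaf 0x6e76)
(.leaf 0x6e78))))
(.node 2300 (.node 2298 (.node 2297 (.leaf 0x6e88)
(.leaf 0x6e8b))
(.node 2299 (.leaf 0x6eab)
(.leaf 0x6ec5)))
(.node 2302 (.node 2301 (.leaf 0x6ec7)
(.leaf 0x6ed4))
(.node 2303 (.leaf 0x6ef4)
(.leaf 0x6ef7)))))))))

/-- part of a trie -/
def parPart9 : Tr :=
(.node 2432 (.node 2368 (.node 2336 (.node 2320 (.node 2312 (.node 2308 (.node 2306 (.node 2305 (.leaf 0x6f08)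
(.leaf 0x6f13))
(.node 2307 (.leaf 0x6f17)
(.leaf 0x6f26)))
(.node 2310 (.node 2309 (.leaf 0x6f28)
(.leaf 0x6f43))
(.node 2311 (.leaf 0x6f47)
(.leaf 0x6f58))))
(.node 2316 (.node 2314 (.node 2313 (.leaf 0x6f72)
(.leaf 0x6f77))
(.node 2315 (.leaf 0x6f86)
(.leaf 0x6f88)))
(.node 2318 (.node 2317 (.leaf 0x6fa9)
(.leaf 0x6fb7))
(.node 2319 (.leaf 0x6fc6)
(.leaf 0x6fe8)))))
(.node 2328 (.node 2324 (.node 2322 (.node 2321 (.leaf 0x6ff9)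
(.leaf 0x7013))
(.node 2323 (.leaf 0x7017)
(.leaf 0x7026)))
(.node 2326 (.node 2325 (.leaf 0x7028)
(.leaf 0x7033))
(.node 2327 (.leaf 0x7037)
(.leaf 0x7048))))
(.node 2332 (.node 2330 (.node 2329 (.leaf 0x7059)
(.leaf 0x7062))
(.node 2331 (.leaf 0x7067)
(.leaf 0x7076)))
(.node 2334 (.node 2333 (.leaf 0x7078)
(.leaf 0x708b))
(.node 2335 (.leaf 0x7097)
(.leaf 0x70a6))))))
(.node 2352 (.node 2344 (.node 2340 (.node 2338 (.node 2337 (.leaf 0x70a8)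
(.leaf 0x70bb))
(.node 2339 (.leaf 0x70e2)
(.leaf 0x70e7)))
(.node 2342 (.node 2341 (.leaf 0x70f6)
(.leaf 0x70f8))
(.node 2343 (.leaf 0x7119)
(.leaf 0x7131))))
(.node 2348 (.node 2346 (.node 2345 (.leaf 0x7137)
(.leaf 0x7146))
(.node 2347 (.leaf 0x7148)
(.leaf 0x7158)))
(.node 2350 (.node 2349 (.leaf 0x7199)
(.leaf 0x71bc))
(.node 2351 (.leaf 0x71db)
(.leaf 0x71e6)))))
(.node 2360 (.node 2356 (.node 2354 (.node 2353 (.leaf 0x71f5)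
(.leaf 0x7206))
(.node 2355 (.leaf 0x7215)
(.leaf 0x7217)))
(.node 2358 (.node 2357 (.leaf 0x7224)
(.leaf 0x723c))
(.node 2359 (.leaf 0x724b)
(.leaf 0x7256))))
(.node 2364 (.node 2362 (.node 2361 (.leaf 0x7266)
(.leaf 0x7275))
(.node 2363 (.leaf 0x7287)
(.leaf 0x7298)))
(.node 2366 (.node 2365 (.leaf 0x72a5)
(.leaf 0x72a7))
(.node 2367 (.leaf 0x72b4)
(.leaf 0x72b7)))))))
(.node 2400 (.node 2384 (.node 2376 (.node 2372 (.node 2370 (.node 2369 (.leaf 0x72e8)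
(.leaf 0x731c))
(.node 2371 (.leaf 0x732b)
(.leaf 0x7336)))
(.node 2374 (.node 2373 (.leaf 0x7346)
(.leaf 0x7355))
(.node 2375 (.leaf 0x7357)
(.leaf 0x7364))))
(.node 2380 (.node 2378 (.node 2377 (.leaf 0x7367)
(.leaf 0x7378))
(.node 2379 (.leaf 0x7386)
(.leaf 0x738c)))
(.node 2382 (.node 2381 (.leaf 0x739b)
(.leaf 0x73ac))
(.node 2383 (.leaf 0x73c6)
(.leaf 0x73d6)))))
(.node 2392 (.node 2388 (.node 2386 (.node 2385 (.leaf 0x73e5)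
(.leaf 0x73e7))
(.node 2387 (.leaf 0x7405)
(.leaf 0x7407)))
(.node 2390 (.node 2389 (.leaf 0x7415)
(.leaf 0x7424))
(.node 2391 (.leaf 0x7427)
(.leaf 0x7438))))
(.node 2396 (.node 2394 (.node 2393 (.leaf 0x7444)
(.leaf 0x7447))
(.node 2395 (.leaf 0x7458)
(.leaf 0x7463)))
(.node 2398 (.node 2397 (.leaf 0x7467)
(.leaf 0x7476))
(.node 2399 (.leaf 0x7478)
(.leaf 0x7489))))))
(.node 2416 (.node 2408 (.node 2404 (.node 2402 (.node 2401 (.leaf 0x7494)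
(.leaf 0x7497))
(.node 2403 (.leaf 0x74a8)
(.leaf 0x74b3)))
(.node 2406 (.node 2405 (.leaf 0x74b7)
(.leaf 0x74c6))
(.node 2407 (.leaf 0x74e8)
(.leaf 0x74f8))))
(.node 2412 (.node 2410 (.node 2409 (.leaf 0x74fb)
(.leaf 0x751b))
(.node 2411 (.leaf 0x7527)
(.leaf 0x752c)))
(.node 2414 (.node 2413 (.leaf 0x754b)
(.leaf 0x7556))
(.node 2415 (.leaf 0x7565)
(.leaf 0x7567)))))
(.node 2424 (.node 2420 (.node 2418 (.node 2417 (.leaf 0x7575)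
(.leaf 0x7577))
(.node 2419 (.leaf 0x7584)
(.leaf 0x7587)))
(.node 2422 (.node 2421 (.leaf 0x7598)
(.leaf 0x75a4))
(.node 2423 (.leaf 0x75a7)
(.leaf 0x75c4))))
(.node 2428 (.node 2426 (.node 2425 (.leaf 0x75c7)
(.leaf 0x75d8))
(.node 2427 (.leaf 0x75e3)
(.leaf 0x75e7)))
(.node 2430 (.node 2429 (.leaf 0x75f6)
(.leaf 0x75f8))
(.node 2431 (.leaf 0x7617)
(.leaf 0x7628))))))))
(.node 2496 (.node 2464 (.node 2448 (.node 2440 (.node 2436 (.node 2434 (.node 2433 (.leaf 0x7639)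
(.leaf 0x7642))
(.node 2435 (.leaf 0x7647)
(.leaf 0x7656)))
(.node 2438 (.node 2437 (.leaf 0x7658)
(.leaf 0x7669))
(.node 2439 (.leaf 0x7683)
(.leaf 0x7687))))
(.node 2444 (.node 2442 (.node 2441 (.leaf 0x7696)
(.leaf 0x7698))
(.node 2443 (.leaf 0x76b7)
(.leaf 0x76c6)))
(.node 2446 (.node 2445 (.leaf 0x76d8)
(.leaf 0x76db))
(.node 2447 (.leaf 0x7706)
(.leaf 0x7715)))))
(.node 2456 (.node 2452 (.node 2450 (.node 2449 (.leaf 0x7717)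
(.leaf 0x7724))
(.node 2451 (.leaf 0x7727)
(.leaf 0x7738)))
(.node 2454 (.node 2453 (.leaf 0x7744)
(.leaf 0x7747))
(.node 2455 (.leaf 0x7758)
(.leaf 0x7763))))
(.node 2460 (.node 2458 (.node 2457 (.leaf 0x7767)
(.leaf 0x7795))
(.node 2459 (.leaf 0x7797)
(.leaf 0x77a4)))
(.node 2462 (.node 2461 (.leaf 0x77a7)
(.leaf 0x77b8))
(.node 2463 (.leaf 0x77c3)
(.leaf 0x77c7))))))
(.node 2480 (.node 2472 (.node 2468 (.node 2466 (.node 2465 (.leaf 0x77d6)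
(.leaf 0x77d8))
(.node 2467 (.leaf 0x77f7)
(.leaf 0x7808)))
(.node 2470 (.node 2469 (.leaf 0x7826)
(.leaf 0x7835))
(.node 2471 (.leaf 0x7837)
(.leaf 0x7844))))
(.node 2476 (.node 2474 (.node 2473 (.leaf 0x7863)
(.leaf 0x7867))
(.node 2475 (.leaf 0x7876)
(.leaf 0x7878)))
(.node 2478 (.node 2477 (.leaf 0x7885)
(.leaf 0x7887))
(.node 2479 (.leaf 0x7894)
(.leaf 0x7897)))))
(.node 2488 (.node 2484 (.node 2482 (.node 2481 (.leaf 0x78b4)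
(.leaf 0x78b7))
(.node 2483 (.leaf 0x78d3)
(.leaf 0x78d7)))
(.node 2486 (.node 2485 (.leaf 0x78e6)
(.leaf 0x78e8))
(.node 2487 (.leaf 0x7903)
(.leaf 0x7907))))
(.node 2492 (.node 2490 (.node 2489 (.leaf 0x7918)
(.leaf 0x7929))
(.node 2491 (.leaf 0x7932)
(.leaf 0x7937)))
(.node 2494 (.node 2493 (.leaf 0x7946)
(.leaf 0x7948))
(.node 2495 (.leaf 0x7958)
(.leaf 0x795b)))))))
(.node 2528 (.node 2512 (.node 2504 (.node 2500 (.node 2498 (.node 2497 (.leaf 0x7969)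
(.leaf 0x7986))
(.node 2499 (.leaf 0x7988)
(.leaf 0x7998)))
(.node 2502 (.node 2501 (.leaf 0x799b)
(.leaf 0x79b7))
(.node 2503 (.leaf 0x79bb)
(.leaf 0x79e5))))
(.node 2508 (.node 2506 (.node 2505 (.leaf 0x79f4)
(.leaf 0x79f7))
(.node 2507 (.leaf 0x7a08)
(.leaf 0x7a13)))
(.node 2510 (.node 2509 (.leaf 0x7a26)
(.leaf 0x7a33))
(.node 2511 (.leaf 0x7a37)
(.leaf 0x7a46)))))
(.node 2520 (.node 2516 (.node 2514 (.node 2513 (.leaf 0x7a48)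
(.leaf 0x7a67))
(.node 2515 (.leaf 0x7a76)
(.leaf 0x7a78)))
(.node 2518 (.node 2517 (.leaf 0x7a88)
(.leaf 0x7a8b))
(.node 2519 (.leaf 0x7aa7)
(.leaf 0x7ab6))))
(.node 2524 (.node 2522 (.node 2521 (.leaf 0x7ab8)
(.leaf 0x7ac9))
(.node 2523 (.leaf 0x7ae7)
(.leaf 0x7af6)))
(.node 2526 (.node 2525 (.leaf 0x7af8)
(.leaf 0x7b05))
(.node 2527 (.leaf 0x7b08)
(.leaf 0x7b19))))))
(.node 2544 (.node 2536 (.node 2532 (.node 2530 (.node 2529 (.leaf 0x7b27)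
(.leaf 0x7b48))
(.node 2531 (.leaf 0x7b63)
(.leaf 0x7b67)))
(.node 2534 (.node 2533 (.leaf 0x7b76)
(.leaf 0x7b87))
(.node 2535 (.leaf 0x7ba7)
(.leaf 0x7bd7))))
(.node 2540 (.node 2538 (.node 2537 (.leaf 0x7be7)
(.leaf 0x7bf8))
(.node 2539 (.leaf 0x7c06)
(.leaf 0x7c08)))
(.node 2542 (.node 2541 (.leaf 0x7c1b)
(.leaf 0x7c4b))
(.node 2543 (.leaf 0x7c66)
(.leaf 0x7c68)))))
(.node 2552 (.node 2548 (.node 2546 (.node 2545 (.leaf 0x7cb5)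
(.leaf 0x7cc4))
(.node 2547 (.leaf 0x7cd3)
(.leaf 0x7cd7)))
(.node 2550 (.node 2549 (.leaf 0x7d0b)
(.leaf 0x7d0c))
(.node 2551 (.leaf 0x7d16)
(.leaf 0x7d1c))))
(.node 2556 (.node 2554 (.node 2553 (.leaf 0x7d2b)
(.leaf 0x7d3c))
(.node 2555 (.leaf 0x7d4b)
(.leaf 0x7d56)))
(.node 2558 (.node 2557 (.leaf 0x7d6b)
(.leaf 0x7d76))
(.node 2559 (.leaf 0x7d86)
(.leaf 0x7d95)))))))))

/-- part of a trie -/
def parPart10 : Tr :=
(.node 2688 (.node 2624 (.node 2592 (.node 2576 (.node 2568 (.node 2564 (.node 2562 (.node 2561 (.leaf 0x7d97)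
(.leaf 0x7da4))
(.node 2563 (.leaf 0x7db7)
(.leaf 0x7dc4)))
(.node 2566 (.node 2565 (.leaf 0x7de4)
(.leaf 0x7de7))
(.node 2567 (.leaf 0x7e03)
(.leaf 0x7e07))))
(.node 2572 (.node 2570 (.node 2569 (.leaf 0x7e16)
(.leaf 0x7e2b))
(.node 2571 (.leaf 0x7e36)
(.leaf 0x7e45)))
(.node 2574 (.node 2573 (.leaf 0x7e47)
(.leaf 0x7e55))
(.node 2575 (.leaf 0x7e57)
(.leaf 0x7e64)))))
(.node 2584 (.node 2580 (.node 2578 (.node 2577 (.leaf 0x7e67)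
(.leaf 0x7e78))
(.node 2579 (.leaf 0x7e84)
(.leaf 0x7e87)))
(.node 2582 (.node 2581 (.leaf 0x7e98)
(.leaf 0x7ea3))
(.node 2583 (.leaf 0x7ea7)
(.leaf 0x7eb6))))
(.node 2588 (.node 2586 (.node 2585 (.leaf 0x7eb8)
(.leaf 0x7ed3))
(.node 2587 (.leaf 0x7ed7)
(.leaf 0x7ee6)))
(.node 2590 (.node 2589 (.leaf 0x7ee8)
(.leaf 0x7ef9))
(.node 2591 (.leaf 0x7f07)
(.leaf 0x7f18))))))
(.node 2608 (.node 2600 (.node 2596 (.node 2594 (.node 2593 (.leaf 0x7f29)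
(.leaf 0x7f47))
(.node 2595 (.leaf 0x7f56)
(.leaf 0x7f6b)))
(.node 2598 (.node 2597 (.leaf 0x7f73)
(.leaf 0x7f77))
(.node 2599 (.leaf 0x7f86)
(.leaf 0x7f88))))
(.node 2604 (.node 2602 (.node 2601 (.leaf 0x7fa7)
(.leaf 0x7fd9))
(.node 2603 (.leaf 0x7ff8)
(.leaf 0x8009)))
(.node 2606 (.node 2605 (.leaf 0x8029)
(.leaf 0x802c))
(.node 2607 (.leaf 0x8038)
(.leaf 0x803c)))))
(.node 2616 (.node 2612 (.node 2610 (.node 2609 (.leaf 0x804b)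
(.leaf 0x805b))
(.node 2611 (.leaf 0x8066)
(.leaf 0x8075)))
(.node 2614 (.node 2613 (.leaf 0x808b)
(.leaf 0x808c))
(.node 2615 (.leaf 0x8096)
(.leaf 0x809c))))
(.node 2620 (.node 2618 (.node 2617 (.leaf 0x80ab)
(.leaf 0x80bc))
(.node 2619 (.leaf 0x80cb)
(.leaf 0x80d6)))
(.node 2622 (.node 2621 (.leaf 0x80eb)
(.leaf 0x80f6))
(.node 2623 (.leaf 0x8106)
(.leaf 0x8115)))))))
(.node 2656 (.node 2640 (.node 2632 (.node 2628 (.node 2626 (.node 2625 (.leaf 0x8117)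
(.leaf 0x8125))
(.node 2627 (.leaf 0x8127)
(.leaf 0x8134)))
(.node 2630 (.node 2629 (.leaf 0x8137)
(.leaf 0x8148))
(.node 2631 (.leaf 0x8157)
(.leaf 0x8167))))
(.node 2636 (.node 2634 (.node 2633 (.leaf 0x8196)
(.leaf 0x819c))
(.node 2635 (.leaf 0x81ab)
(.leaf 0x81b5)))
(.node 2638 (.node 2637 (.leaf 0x81bc)
(.leaf 0x81cb))
(.node 2639 (.leaf 0x81d6)
(.leaf 0x81eb)))))
(.node 2648 (.node 2644 (.node 2642 (.node 2641 (.leaf 0x81f6)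
(.leaf 0x8205))
(.node 2643 (.leaf 0x8207)
(.leaf 0x8216)))
(.node 2646 (.node 2645 (.leaf 0x8225)
(.leaf 0x8227))
(.node 2647 (.leaf 0x8235)
(.leaf 0x8237))))
(.node 2652 (.node 2650 (.node 2649 (.leaf 0x8244)
(.leaf 0x8247))
(.node 2651 (.leaf 0x8258)
(.leaf 0x8267)))
(.node 2654 (.node 2653 (.leaf 0x8278)
(.leaf 0x8283))
(.node 2655 (.leaf 0x8287)
(.leaf 0x8296))))))
(.node 2672 (.node 2664 (.node 2660 (.node 2658 (.node 2657 (.leaf 0x8298)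
(.leaf 0x82a9))
(.node 2659 (.leaf 0x82b4)
(.leaf 0x82b7)))
(.node 2662 (.node 2661 (.leaf 0x82c8)
(.leaf 0x82d3))
(.node 2663 (.leaf 0x82d7)
(.leaf 0x8308))))
(.node 2668 (.node 2666 (.node 2665 (.leaf 0x8313)
(.leaf 0x8317))
(.node 2667 (.leaf 0x8326)
(.leaf 0x8337)))
(.node 2670 (.node 2669 (.leaf 0x8346)
(.leaf 0x8366))
(.node 2671 (.leaf 0x8375)
(.leaf 0x8377)))))
(.node 2680 (.node 2676 (.node 2674 (.node 2673 (.leaf 0x8384)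
(.leaf 0x8387))
(.node 2675 (.leaf 0x8398)
(.leaf 0x83ab)))
(.node 2678 (.node 2677 (.leaf 0x83b6)
(.leaf 0x83c5))
(.node 2679 (.leaf 0x83d5)
(.leaf 0x83d7))))
(.node 2684 (.node 2682 (.node 2681 (.leaf 0x83e4)
(.leaf 0x83e7))
(.node 2683 (.leaf 0x83f8)
(.leaf 0x8404)))
(.node 2686 (.node 2685 (.leaf 0x8407)
(.leaf 0x8418))
(.node 2687 (.leaf 0x8423)
(.leaf 0x8427))))))))
(.node 2752 (.node 2720 (.node 2704 (.node 2696 (.node 2692 (.node 2690 (.node 2689 (.leaf 0x8436)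
(.leaf 0x8438))
(.node 2691 (.leaf 0x8449)
(.leaf 0x8453)))
(.node 2694 (.node 2693 (.leaf 0x8457)
(.leaf 0x8487))
(.node 2695 (.leaf 0x8498)
(.leaf 0x84ab))))
(.node 2700 (.node 2698 (.node 2697 (.leaf 0x84b9)
(.leaf 0x84db))
(.node 2699 (.leaf 0x84e6)
(.leaf 0x84f5)))
(.node 2702 (.node 2701 (.leaf 0x84f7)
(.leaf 0x8504))
(.node 2703 (.leaf 0x8507)
(.leaf 0x8518)))))
(.node 2712 (.node 2708 (.node 2706 (.node 2705 (.leaf 0x8524)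
(.leaf 0x8527))
(.node 2707 (.leaf 0x8538)
(.leaf 0x8543)))
(.node 2710 (.node 2709 (.leaf 0x8547)
(.leaf 0x8556))
(.node 2711 (.leaf 0x8558)
(.leaf 0x8573))))
(.node 2716 (.node 2714 (.node 2713 (.leaf 0x8577)
(.leaf 0x8586))
(.node 2715 (.leaf 0x8588)
(.leaf 0x85a2)))
(.node 2718 (.node 2717 (.leaf 0x85a7)
(.leaf 0x85b6))
(.node 2719 (.leaf 0x85b8)
(.leaf 0x85d9))))))
(.node 2736 (.node 2728 (.node 2724 (.node 2722 (.node 2721 (.leaf 0x85f2)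
(.leaf 0x85f7))
(.node 2723 (.leaf 0x8606)
(.leaf 0x8608)))
(.node 2726 (.node 2725 (.leaf 0x8618)
(.leaf 0x861b))
(.node 2727 (.leaf 0x8629)
(.leaf 0x8647))))
(.node 2732 (.node 2730 (.node 2729 (.leaf 0x8658)
(.leaf 0x8669))
(.node 2731 (.leaf 0x8687)
(.leaf 0x8696)))
(.node 2734 (.node 2733 (.leaf 0x86a5)
(.leaf 0x86ab))
(.node 2735 (.leaf 0x86c3)
(.leaf 0x86c7)))))
(.node 2744 (.node 2740 (.node 2738 (.node 2737 (.leaf 0x86d6)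
(.leaf 0x86e3))
(.node 2739 (.leaf 0x86e7)
(.leaf 0x86f6)))
(.node 2742 (.node 2741 (.leaf 0x86f8)
(.leaf 0x8709))
(.node 2743 (.leaf 0x8717)
(.leaf 0x8726))))
(.node 2748 (.node 2746 (.node 2745 (.leaf 0x8728)
(.leaf 0x8738))
(.node 2747 (.leaf 0x873b)
(.leaf 0x8749)))
(.node 2750 (.node 2749 (.leaf 0x8766)
(.leaf 0x8768))
(.node 2751 (.leaf 0x877b)
(.leaf 0x87b7)))))))
(.node 2784 (.node 2768 (.node 2760 (.node 2756 (.node 2754 (.node 2753 (.leaf 0x87c6)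
(.leaf 0x87c8))
(.node 2755 (.leaf 0x87e9)
(.leaf 0x8815)))
(.node 2758 (.node 2757 (.leaf 0x8829)
(.leaf 0x8859))
(.node 2759 (.leaf 0x887b)
(.leaf 0x8895))))
(.node 2764 (.node 2762 (.node 2761 (.leaf 0x88a4)
(.leaf 0x88a7))
(.node 2763 (.leaf 0x88b5)
(.leaf 0x88b7)))
(.node 2766 (.node 2765 (.leaf 0x88c4)
(.leaf 0x88c7))
(.node 2767 (.leaf 0x88e3)
(.leaf 0x88e7)))))
(.node 2776 (.node 2772 (.node 2770 (.node 2769 (.leaf 0x8908)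
(.leaf 0x890c))
(.node 2771 (.leaf 0x891b)
(.leaf 0x892c)))
(.node 2774 (.node 2773 (.leaf 0x893b)
(.leaf 0x8946))
(.node 2775 (.leaf 0x8956)
(.leaf 0x8965))))
(.node 2780 (.node 2778 (.node 2777 (.leaf 0x8967)
(.leaf 0x8974))
(.node 2779 (.leaf 0x8977)
(.leaf 0x8988)))
(.node 2782 (.node 2781 (.leaf 0x899c)
(.leaf 0x89ab))
(.node 2783 (.leaf 0x89b6)
(.leaf 0x89d5))))))
(.node 2800 (.node 2792 (.node 2788 (.node 2786 (.node 2785 (.leaf 0x89d7)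
(.leaf 0x89e6))
(.node 2787 (.leaf 0x89f5)
(.leaf 0x89f7)))
(.node 2790 (.node 2789 (.leaf 0x8a05)
(.leaf 0x8a07))
(.node 2791 (.leaf 0x8a14)
(.leaf 0x8a17))))
(.node 2796 (.node 2794 (.node 2793 (.leaf 0x8a28)
(.leaf 0x8a37))
(.node 2795 (.leaf 0x8a48)
(.leaf 0x8a53)))
(.node 2798 (.node 2797 (.leaf 0x8a57)
(.leaf 0x8a66))
(.node 2799 (.leaf 0x8a68)
(.leaf 0x8a84)))))
(.node 2808 (.node 2804 (.node 2802 (.node 2801 (.leaf 0x8a87)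
(.leaf 0x8a98))
(.node 2803 (.leaf 0x8aa3)
(.leaf 0x8aa7)))
(.node 2806 (.node 2805 (.leaf 0x8ab6)
(.leaf 0x8ab8))
(.node 2807 (.leaf 0x8ad7)
(.leaf 0x8ae6))))
(.node 2812 (.node 2810 (.node 2809 (.leaf 0x8ae8)
(.leaf 0x8afb))
(.node 2811 (.leaf 0x8b19)
(.leaf 0x8b1b)))
(.node 2814 (.node 2813 (.leaf 0x8b3c)
(.leaf 0x8b4b))
(.node 2815 (.leaf 0x8b6b)
(.leaf 0x8b76)))))))))

/-- part of a trie -/
def parPart11 : Tr :=
(.node 2944 (.node 2880 (.node 2848 (.node 2832 (.node 2824 (.node 2820 (.node 2818 (.node 2817 (.leaf 0x8b85)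
(.leaf 0x8b87))
(.node 2819 (.leaf 0x8b95)
(.leaf 0x8b97)))
(.node 2822 (.node 2821 (.leaf 0x8ba4)
(.leaf 0x8ba7))
(.node 2823 (.leaf 0x8bc5)
(.leaf 0x8bc7))))
(.node 2828 (.node 2826 (.node 2825 (.leaf 0x8bd4)
(.leaf 0x8bd7))
(.node 2827 (.leaf 0x8be8)
(.leaf 0x8bf4)))
(.node 2830 (.node 2829 (.leaf 0x8bf7)
(.leaf 0x8c08))
(.node 2831 (.leaf 0x8c13)
(.leaf 0x8c17)))))
(.node 2840 (.node 2836 (.node 2834 (.node 2833 (.leaf 0x8c26)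
(.leaf 0x8c28))
(.node 2835 (.leaf 0x8c47)
(.leaf 0x8c67)))
(.node 2838 (.node 2837 (.leaf 0x8c76)
(.leaf 0x8c78))
(.node 2839 (.leaf 0x8c88)
(.leaf 0x8c99))))
(.node 2844 (.node 2842 (.node 2841 (.leaf 0x8ca3)
(.leaf 0x8ca7))
(.node 2843 (.leaf 0x8cb6)
(.leaf 0x8cb8)))
(.node 2846 (.node 2845 (.leaf 0x8cd7)
(.leaf 0x8ce6))
(.node 2847 (.leaf 0x8ce8)
(.leaf 0x8d1b))))))
(.node 2864 (.node 2856 (.node 2852 (.node 2850 (.node 2849 (.leaf 0x8d35)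
(.leaf 0x8d37))
(.node 2851 (.leaf 0x8d47)
(.leaf 0x8d58)))
(.node 2854 (.node 2853 (.leaf 0x8d63)
(.leaf 0x8d67))
(.node 2855 (.leaf 0x8d97)
(.leaf 0x8da8))))
(.node 2860 (.node 2858 (.node 2857 (.leaf 0x8dc7)
(.leaf 0x8dd4))
(.node 2859 (.leaf 0x8dd7)
(.leaf 0x8de8)))
(.node 2862 (.node 2861 (.leaf 0x8df3)
(.leaf 0x8df7))
(.node 2863 (.leaf 0x8e06)
(.leaf 0x8e08)))))
(.node 2872 (.node 2868 (.node 2866 (.node 2865 (.leaf 0x8e26)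
(.leaf 0x8e35))
(.node 2867 (.leaf 0x8e37)
(.leaf 0x8e44)))
(.node 2870 (.node 2869 (.leaf 0x8e47)
(.leaf 0x8e58))
(.node 2871 (.leaf 0x8e64)
(.leaf 0x8e67))))
(.node 2876 (.node 2874 (.node 2873 (.leaf 0x8e78)
(.leaf 0x8e83))
(.node 2875 (.leaf 0x8e87)
(.leaf 0x8e96)))
(.node 2878 (.node 2877 (.leaf 0x8e98)
(.leaf 0x8eb3))
(.node 2879 (.leaf 0x8eb7)
(.leaf 0x8ec6)))))))
(.node 2912 (.node 2896 (.node 2888 (.node 2884 (.node 2882 (.node 2881 (.leaf 0x8ec8)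
(.leaf 0x8ed2))
(.node 2883 (.leaf 0x8ed7)
(.leaf 0x8ee6)))
(.node 2886 (.node 2885 (.leaf 0x8ee8)
(.leaf 0x8ef8))
(.node 2887 (.leaf 0x8efb)
(.leaf 0x8f12))))
(.node 2892 (.node 2890 (.node 2889 (.leaf 0x8f17)
(.leaf 0x8f26))
(.node 2891 (.leaf 0x8f28)
(.leaf 0x8f39)))
(.node 2894 (.node 2893 (.leaf 0x8f47)
(.leaf 0x8f56))
(.node 2895 (.leaf 0x8f58)
(.leaf 0x8f68)))))
(.node 2904 (.node 2900 (.node 2898 (.node 2897 (.leaf 0x8f6b)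
(.leaf 0x8f8b))
(.node 2899 (.leaf 0x8fb4)
(.leaf 0x8fb7)))
(.node 2902 (.node 2901 (.leaf 0x8fc8)
(.leaf 0x8fe3))
(.node 2903 (.leaf 0x8fe7)
(.leaf 0x8ff6))))
(.node 2908 (.node 2906 (.node 2905 (.leaf 0x8ff8)
(.leaf 0x9012))
(.node 2907 (.leaf 0x9017)
(.leaf 0x9026)))
(.node 2910 (.node 2909 (.leaf 0x9028)
(.leaf 0x9038))
(.node 2911 (.leaf 0x9049)
(.leaf 0x9052))))))
(.node 2928 (.node 2920 (.node 2916 (.node 2914 (.node 2913 (.leaf 0x9057)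
(.leaf 0x9066))
(.node 2915 (.leaf 0x9068)
(.leaf 0x9079)))
(.node 2918 (.node 2917 (.leaf 0x9081)
(.leaf 0x9087))
(.node 2919 (.leaf 0x9096)
(.leaf 0x9098))))
(.node 2924 (.node 2922 (.node 2921 (.leaf 0x90a8)
(.leaf 0x90d6))
(.node 2923 (.leaf 0x90d8)
(.leaf 0x90e5)))
(.node 2926 (.node 2925 (.leaf 0x90eb)
(.leaf 0x90f9))
(.node 2927 (.leaf 0x9112)
(.leaf 0x9117)))))
(.node 2936 (.node 2932 (.node 2930 (.node 2929 (.leaf 0x9126)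
(.leaf 0x9128))
(.node 2931 (.leaf 0x9138)
(.leaf 0x913b)))
(.node 2934 (.node 2933 (.leaf 0x9152)
(.leaf 0x9157))
(.node 2935 (.leaf 0x9166)
(.leaf 0x9168))))
(.node 2940 (.node 2938 (.node 2937 (.leaf 0x9179)
(.leaf 0x9191))
(.node 2939 (.leaf 0x9197)
(.leaf 0x91a6)))
(.node 2942 (.node 2941 (.leaf 0x91a8)
(.leaf 0x91bb))
(.node 2943 (.leaf 0x91e8)
(.leaf 0x91fb))))))))
(.node 3008 (.node 2976 (.node 2960 (.node 2952 (.node 2948 (.node 2946 (.node 2945 (.leaf 0x9209)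
(.leaf 0x9227))
(.node 2947 (.leaf 0x9236)
(.leaf 0x9238)))
(.node 2950 (.node 2949 (.leaf 0x9245)
(.leaf 0x9259))
(.node 2951 (.leaf 0x9277)
(.leaf 0x9295))))
(.node 2956 (.node 2954 (.node 2953 (.leaf 0x92db)
(.leaf 0x92e6))
(.node 2955 (.leaf 0x92f5)
(.leaf 0x92f7)))
(.node 2958 (.node 2957 (.leaf 0x9304)
(.leaf 0x9315))
(.node 2959 (.leaf 0x9317)
(.leaf 0x9324)))))
(.node 2968 (.node 2964 (.node 2962 (.node 2961 (.leaf 0x9327)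
(.leaf 0x935b))
(.node 2963 (.leaf 0x9366)
(.leaf 0x9375)))
(.node 2966 (.node 2965 (.leaf 0x9385)
(.leaf 0x9387))
(.node 2967 (.leaf 0x9394)
(.leaf 0x93a8))))
(.node 2972 (.node 2970 (.node 2969 (.leaf 0x93b9)
(.leaf 0x93c4))
(.node 2971 (.leaf 0x93c7)
(.leaf 0x93d8)))
(.node 2974 (.node 2973 (.leaf 0x93e7)
(.leaf 0x941b))
(.node 2975 (.leaf 0x9426)
(.leaf 0x9435))))))
(.node 2992 (.node 2984 (.node 2980 (.node 2978 (.node 2977 (.leaf 0x9437)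
(.leaf 0x9445))
(.node 2979 (.leaf 0x9447)
(.leaf 0x9454)))
(.node 2982 (.node 2981 (.leaf 0x9457)
(.leaf 0x9468))
(.node 2983 (.leaf 0x9473)
(.leaf 0x9477))))
(.node 2988 (.node 2986 (.node 2985 (.leaf 0x9486)
(.leaf 0x9488))
(.node 2987 (.leaf 0x94a7)
(.leaf 0x94ac)))
(.node 2990 (.node 2989 (.leaf 0x94c6)
(.leaf 0x94e5))
(.node 2991 (.leaf 0x94e7)
(.leaf 0x94f5)))))
(.node 3000 (.node 2996 (.node 2994 (.node 2993 (.leaf 0x94f7)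
(.leaf 0x9504))
(.node 2995 (.leaf 0x9507)
(.leaf 0x9518)))
(.node 2998 (.node 2997 (.leaf 0x9524)
(.leaf 0x9527))
(.node 2999 (.leaf 0x9538)
(.leaf 0x9544))))
(.node 3004 (.node 3002 (.node 3001 (.leaf 0x9547)
(.leaf 0x9553))
(.node 3003 (.leaf 0x9557)
(.leaf 0x9566)))
(.node 3006 (.node 3005 (.leaf 0x9568)
(.leaf 0x9583))
(.node 3007 (.leaf 0x9587)
(.leaf 0x9596)))))))
(.node 3040 (.node 3024 (.node 3016 (.node 3012 (.node 3010 (.node 3009 (.leaf 0x9598)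
(.leaf 0x95a9))
(.node 3011 (.leaf 0x95b2)
(.leaf 0x95b7)))
(.node 3014 (.node 3013 (.leaf 0x95c6)
(.leaf 0x95c8))
(.node 3015 (.leaf 0x95d8)
(.leaf 0x95db))))
(.node 3020 (.node 3018 (.node 3017 (.leaf 0x95e9)
(.leaf 0x9603))
(.node 3019 (.leaf 0x9607)
(.leaf 0x9616)))
(.node 3022 (.node 3021 (.leaf 0x9618)
(.leaf 0x9632))
(.node 3023 (.leaf 0x9637)
(.leaf 0x9646)))))
(.node 3032 (.node 3028 (.node 3026 (.node 3025 (.leaf 0x9677)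
(.leaf 0x967b))
(.node 3027 (.leaf 0x96ac)
(.leaf 0x96bb)))
(.node 3030 (.node 3029 (.leaf 0x96c6)
(.leaf 0x96e7))
(.node 3031 (.leaf 0x9704)
(.leaf 0x9707))))
(.node 3036 (.node 3034 (.node 3033 (.leaf 0x9718)
(.leaf 0x9723))
(.node 3035 (.leaf 0x9727)
(.leaf 0x9736)))
(.node 3038 (.node 3037 (.leaf 0x9738)
(.leaf 0x9753))
(.node 3039 (.leaf 0x9757)
(.leaf 0x9766))))))
(.node 3056 (.node 3048 (.node 3044 (.node 3042 (.node 3041 (.leaf 0x9768)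
(.leaf 0x9773))
(.node 3043 (.leaf 0x9777)
(.leaf 0x9786)))
(.node 3046 (.node 3045 (.leaf 0x9788)
(.leaf 0x97a7))
(.node 3047 (.leaf 0x97b6)
(.leaf 0x97b8))))
(.node 3052 (.node 3050 (.node 3049 (.leaf 0x97c8)
(.leaf 0x97cb))
(.node 3051 (.leaf 0x97e6)
(.leaf 0x97e8)))
(.node 3054 (.node 3053 (.leaf 0x97f9)
(.leaf 0x9817))
(.node 3055 (.leaf 0x9826)
(.leaf 0x9828)))))
(.node 3064 (.node 3060 (.node 3058 (.node 3057 (.leaf 0x9835)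
(.leaf 0x9838))
(.node 3059 (.leaf 0x9849)
(.leaf 0x9867)))
(.node 3062 (.node 3061 (.leaf 0x9876)
(.leaf 0x9878))
(.node 3063 (.leaf 0x9888)
(.leaf 0x988b))))
(.node 3068 (.node 3066 (.node 3065 (.leaf 0x9899)
(.leaf 0x98a6))
(.node 3067 (.leaf 0x98b5)
(.leaf 0x98bb)))
(.node 3070 (.node 3069 (.leaf 0x98cb)
(.leaf 0x98dc))
(.node 3071 (.leaf 0x98e5)
(.leaf 0x98e7)))))))))

/-- part of a trie -/
def parPart12 : Tr :=
(.node 3200 (.node 3136 (.node 3104 (.node 3088 (.node 3080 (.node 3076 (.node 3074 (.node 3073 (.leaf 0x98f4)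
(.leaf 0x98f7))
(.node 3075 (.leaf 0x9908)
(.leaf 0x9913)))
(.node 3078 (.node 3077 (.leaf 0x9917)
(.leaf 0x9926))
(.node 3079 (.leaf 0x9943)
(.leaf 0x9947))))
(.node 3084 (.node 3082 (.node 3081 (.leaf 0x9958)
(.leaf 0x9977))
(.node 3083 (.leaf 0x9994)
(.leaf 0x9997)))
(.node 3086 (.node 3085 (.leaf 0x99a8)
(.leaf 0x99b3))
(.node 3087 (.leaf 0x99b7)
(.leaf 0x99c6)))))
(.node 3096 (.node 3092 (.node 3090 (.node 3089 (.leaf 0x99c8)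
(.leaf 0x99e7))
(.node 3091 (.leaf 0x99f6)
(.leaf 0x99f8)))
(.node 3094 (.node 3093 (.leaf 0x9a08)
(.leaf 0x9a28))
(.node 3095 (.leaf 0x9a45)
(.leaf 0x9a57))))
(.node 3100 (.node 3098 (.node 3097 (.leaf 0x9a73)
(.leaf 0x9a77))
(.node 3099 (.leaf 0x9a82)
(.leaf 0x9a87)))
(.node 3102 (.node 3101 (.leaf 0x9a96)
(.leaf 0x9a98))
(.node 3103 (.leaf 0x9aa8)
(.leaf 0x9ab9))))))
(.node 3120 (.node 3112 (.node 3108 (.node 3106 (.node 3105 (.leaf 0x9ac4)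
(.leaf 0x9ac7))
(.node 3107 (.leaf 0x9ae3)
(.leaf 0x9ae7)))
(.node 3110 (.node 3109 (.leaf 0x9af6)
(.leaf 0x9b03))
(.node 3111 (.leaf 0x9b07)
(.leaf 0x9b22))))
(.node 3116 (.node 3114 (.node 3113 (.leaf 0x9b27)
(.leaf 0x9b36))
(.node 3115 (.leaf 0x9b38)
(.leaf 0x9b48)))
(.node 3118 (.node 3117 (.leaf 0x9b67)
(.leaf 0x9b76))
(.node 3119 (.leaf 0x9b78)
(.leaf 0x9b89)))))
(.node 3128 (.node 3124 (.node 3122 (.node 3121 (.leaf 0x9ba7)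
(.leaf 0x9bb6))
(.node 3123 (.leaf 0x9bb8)
(.leaf 0x9bc5)))
(.node 3126 (.node 3125 (.leaf 0x9bc8)
(.leaf 0x9bcb))
(.node 3127 (.leaf 0x9bd9)
(.leaf 0x9be7))))
(.node 3132 (.node 3130 (.node 3129 (.leaf 0x9beb)
(.leaf 0x9c18))
(.node 3131 (.leaf 0x9c1b)
(.leaf 0x9c3b)))
(.node 3134 (.node 3133 (.leaf 0x9c5b)
(.leaf 0x9c74))
(.node 3135 (.leaf 0x9c83)
(.leaf 0x9c87)))))))
(.node 3168 (.node 3152 (.node 3144 (.node 3140 (.node 3138 (.node 3137 (.leaf 0x9c96)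
(.leaf 0x9c98))
(.node 3139 (.leaf 0x9ca9)
(.leaf 0x9ccb)))
(.node 3142 (.node 3141 (.leaf 0x9cd7)
(.leaf 0x9ce6))
(.node 3143 (.leaf 0x9ce8)
(.leaf 0x9cf8))))
(.node 3148 (.node 3146 (.node 3145 (.leaf 0x9d16)
(.leaf 0x9d18))
(.node 3147 (.leaf 0x9d28)
(.leaf 0x9d47)))
(.node 3150 (.node 3149 (.leaf 0x9d66)
(.leaf 0x9d75))
(.node 3151 (.leaf 0x9d78)
(.leaf 0x9d89)))))
(.node 3160 (.node 3156 (.node 3154 (.node 3153 (.leaf 0x9da6)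
(.leaf 0x9da8))
(.node 3155 (.leaf 0x9db5)
(.leaf 0x9db8)))
(.node 3158 (.node 3157 (.leaf 0x9dd8)
(.leaf 0x9de7))
(.node 3159 (.leaf 0x9de9)
(.leaf 0x9dfa))))
(.node 3164 (.node 3162 (.node 3161 (.leaf 0x9e27)
(.leaf 0x9e66))
(.node 3163 (.leaf 0x9e76)
(.leaf 0x9e86)))
(.node 3166 (.node 3165 (.leaf 0x9e88)
(.leaf 0x9eab))
(.node 3167 (.leaf 0x9ee5)
(.leaf 0x9f04))))))
(.node 3184 (.node 3176 (.node 3172 (.node 3170 (.node 3169 (.leaf 0x9f27)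
(.leaf 0x9f46))
(.node 3171 (.leaf 0x9f4c)
(.leaf 0x9f5b)))
(.node 3174 (.node 3173 (.leaf 0x9f6c)
(.leaf 0x9f7b))
(.node 3175 (.leaf 0x9f86)
(.leaf 0x9f9b))))
(.node 3180 (.node 3178 (.node 3177 (.leaf 0x9fa6)
(.leaf 0x9fb5))
(.node 3179 (.leaf 0x9fb7)
(.leaf 0x9fc6)))
(.node 3182 (.node 3181 (.leaf 0x9fd5)
(.leaf 0x9fd7))
(.node 3183 (.leaf 0x9fe5)
(.leaf 0x9fe7)))))
(.node 3192 (.node 3188 (.node 3186 (.node 3185 (.leaf 0x9ff4)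
(.leaf 0x9ff7))
(.node 3187 (.leaf 0xa008)
(.leaf 0xa028)))
(.node 3190 (.node 3189 (.leaf 0xa033)
(.leaf 0xa043))
(.node 3191 (.leaf 0xa047)
(.leaf 0xa056))))
(.node 3196 (.node 3194 (.node 3193 (.leaf 0xa058)
(.leaf 0xa067))
(.node 3195 (.leaf 0xa076)
(.leaf 0xa096)))
(.node 3198 (.node 3197 (.leaf 0xa0a5)
(.leaf 0xa0a7))
(.node 3199 (.leaf 0xa0b4)
(.leaf 0xa0b7))))))))
(.node 3264 (.node 3232 (.node 3216 (.node 3208 (.node 3204 (.node 3202 (.node 3201 (.leaf 0xa0c8)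
(.leaf 0xa0d4))
(.node 3203 (.leaf 0xa0d7)
(.leaf 0xa0e8)))
(.node 3206 (.node 3205 (.leaf 0xa0f3)
(.leaf 0xa0f7))
(.node 3207 (.leaf 0xa106)
(.leaf 0xa108))))
(.node 3212 (.node 3210 (.node 3209 (.leaf 0xa123)
(.leaf 0xa127))
(.node 3211 (.leaf 0xa136)
(.leaf 0xa138)))
(.node 3214 (.node 3213 (.leaf 0xa157)
(.leaf 0xa168))
(.node 3215 (.leaf 0xa178)
(.leaf 0xa189)))))
(.node 3224 (.node 3220 (.node 3218 (.node 3217 (.leaf 0xa1a6)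
(.leaf 0xa1a8))
(.node 3219 (.leaf 0xa1b8)
(.leaf 0xa1c9)))
(.node 3222 (.node 3221 (.leaf 0xa1e8)
(.leaf 0xa1f9))
(.node 3223 (.leaf 0xa216)
(.leaf 0xa2a9))))
(.node 3228 (.node 3226 (.node 3225 (.leaf 0xa2c8)
(.leaf 0xa2cc))
(.node 3227 (.leaf 0xa2db)
(.leaf 0xa2ec)))
(.node 3230 (.node 3229 (.leaf 0xa2fb)
(.leaf 0xa306))
(.node 3231 (.leaf 0xa316)
(.leaf 0xa327))))))
(.node 3248 (.node 3240 (.node 3236 (.node 3234 (.node 3233 (.leaf 0xa334)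
(.leaf 0xa337))
(.node 3235 (.leaf 0xa346)
(.leaf 0xa34c)))
(.node 3238 (.node 3237 (.leaf 0xa35b)
(.leaf 0xa36c))
(.node 3239 (.leaf 0xa37b)
(.leaf 0xa386))))
(.node 3244 (.node 3242 (.node 3241 (.leaf 0xa39b)
(.leaf 0xa3a6))
(.node 3243 (.leaf 0xa3b5)
(.leaf 0xa3c6)))
(.node 3246 (.node 3245 (.leaf 0xa3d5)
(.leaf 0xa3d7))
(.node 3247 (.leaf 0xa3e5)
(.leaf 0xa3e7)))))
(.node 3256 (.node 3252 (.node 3250 (.node 3249 (.leaf 0xa3f4)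
(.leaf 0xa3f7))
(.node 3251 (.leaf 0xa408)
(.leaf 0xa414)))
(.node 3254 (.node 3253 (.leaf 0xa417)
(.leaf 0xa428))
(.node 3255 (.leaf 0xa433)
(.leaf 0xa437))))
(.node 3260 (.node 3258 (.node 3257 (.leaf 0xa446)
(.leaf 0xa448))
(.node 3259 (.leaf 0xa459)
(.leaf 0xa468)))
(.node 3262 (.node 3261 (.leaf 0xa478)
(.leaf 0xa487))
(.node 3263 (.leaf 0xa48c)
(.leaf 0xa49b)))))))
(.node 3296 (.node 3280 (.node 3272 (.node 3268 (.node 3266 (.node 3265 (.leaf 0xa4a6)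
(.leaf 0xa4bc))
(.node 3267 (.leaf 0xa4cb)
(.leaf 0xa4d6)))
(.node 3270 (.node 3269 (.leaf 0xa4e5)
(.leaf 0xa4e7))
(.node 3271 (.leaf 0xa4f6)
(.leaf 0xa505))))
(.node 3276 (.node 3274 (.node 3273 (.leaf 0xa514)
(.leaf 0xa517))
(.node 3275 (.leaf 0xa528)
(.leaf 0xa535)))
(.node 3278 (.node 3277 (.leaf 0xa544)
(.leaf 0xa547))
(.node 3279 (.leaf 0xa558)
(.leaf 0xa564)))))
(.node 3288 (.node 3284 (.node 3282 (.node 3281 (.leaf 0xa567)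
(.leaf 0xa578))
(.node 3283 (.leaf 0xa583)
(.leaf 0xa587)))
(.node 3286 (.node 3285 (.leaf 0xa596)
(.leaf 0xa598))
(.node 3287 (.leaf 0xa5b6)
(.leaf 0xa5b8))))
(.node 3292 (.node 3290 (.node 3289 (.leaf 0xa5d7)
(.leaf 0xa5e6))
(.node 3291 (.leaf 0xa5e8)
(.leaf 0xa5f8)))
(.node 3294 (.node 3293 (.leaf 0xa609)
(.leaf 0xa623))
(.node 3295 (.leaf 0xa627)
(.leaf 0xa636))))))
(.node 3312 (.node 3304 (.node 3300 (.node 3298 (.node 3297 (.leaf 0xa638)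
(.leaf 0xa657))
(.node 3299 (.leaf 0xa682)
(.leaf 0xa687)))
(.node 3302 (.node 3301 (.leaf 0xa696)
(.leaf 0xa6a8))
(.node 3303 (.leaf 0xa6ab)
(.leaf 0xa6b6))))
(.node 3308 (.node 3306 (.node 3305 (.leaf 0xa6d7)
(.leaf 0xa6e4))
(.node 3307 (.leaf 0xa6e7)
(.leaf 0xa6f8)))
(.node 3310 (.node 3309 (.leaf 0xa703)
(.leaf 0xa707))
(.node 3311 (.leaf 0xa716)
(.leaf 0xa718)))))
(.node 3320 (.node 3316 (.node 3314 (.node 3313 (.leaf 0xa736)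
(.leaf 0xa745))
(.node 3315 (.leaf 0xa747)
(.leaf 0xa754)))
(.node 3318 (.node 3317 (.leaf 0xa764)
(.leaf 0xa767))
(.node 3319 (.leaf 0xa778)
(.leaf 0xa783))))
(.node 3324 (.node 3322 (.node 3321 (.leaf 0xa787)
(.leaf 0xa796))
(.node 3323 (.leaf 0xa798)
(.leaf 0xa7b3)))
(.node 3326 (.node 3325 (.leaf 0xa7b7)
(.leaf 0xa7c6))
(.node 3327 (.leaf 0xa7c8)
(.leaf 0xa7e2)))))))))

/-- part of a trie -/
def parPart13 : Tr :=
(.node 3456 (.node 3392 (.node 3360 (.node 3344 (.node 3336 (.node 3332 (.node 3330 (.node 3329 (.leaf 0xa7e7)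
(.leaf 0xa7f6))
(.node 3331 (.leaf 0xa7f8)
(.leaf 0xa808)))
(.node 3334 (.node 3333 (.leaf 0xa80b)
(.leaf 0xa819))
(.node 3335 (.leaf 0xa832)
(.leaf 0xa837))))
(.node 3340 (.node 3338 (.node 3337 (.leaf 0xa846)
(.leaf 0xa856))
(.node 3339 (.leaf 0xa858)
(.leaf 0xa8b4)))
(.node 3342 (.node 3341 (.leaf 0xa8b7)
(.leaf 0xa8c8))
(.node 3343 (.leaf 0xa8d3)
(.leaf 0xa8d7)))))
(.node 3352 (.node 3348 (.node 3346 (.node 3345 (.leaf 0xa8e6)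
(.leaf 0xa8e8))
(.node 3347 (.leaf 0xa903)
(.leaf 0xa907)))
(.node 3350 (.node 3349 (.leaf 0xa916)
(.leaf 0xa918))
(.node 3351 (.leaf 0xa932)
(.leaf 0xa937))))
(.node 3356 (.node 3354 (.node 3353 (.leaf 0xa946)
(.leaf 0xa948))
(.node 3355 (.leaf 0xa958)
(.leaf 0xa95b)))
(.node 3358 (.node 3357 (.leaf 0xa969)
(.leaf 0xa977))
(.node 3359 (.leaf 0xa986)
(.leaf 0xa988))))))
(.node 3376 (.node 3368 (.node 3364 (.node 3362 (.node 3361 (.leaf 0xa998)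
(.leaf 0xa9b7))
(.node 3363 (.leaf 0xa9c6)
(.leaf 0xa9c8)))
(.node 3366 (.node 3365 (.leaf 0xa9d5)
(.leaf 0xa9d8))
(.node 3367 (.leaf 0xa9e9)
(.leaf 0xaa01))))
(.node 3372 (.node 3370 (.node 3369 (.leaf 0xaa07)
(.leaf 0xaa16))
(.node 3371 (.leaf 0xaa18)
(.leaf 0xaa25)))
(.node 3374 (.node 3373 (.leaf 0xaa28)
(.leaf 0xaa2b))
(.node 3375 (.leaf 0xaa39)
(.leaf 0xaa4b)))))
(.node 3384 (.node 3380 (.node 3378 (.node 3377 (.leaf 0xaa78)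
(.leaf 0xaa89))
(.node 3379 (.leaf 0xaaa6)
(.leaf 0xaab5)))
(.node 3382 (.node 3381 (.leaf 0xaacb)
(.leaf 0xaae2))
(.node 3383 (.leaf 0xaae7)
(.leaf 0xaaf6))))
(.node 3388 (.node 3386 (.node 3385 (.leaf 0xab08)
(.leaf 0xab0b))
(.node 3387 (.leaf 0xab17)
(.leaf 0xab26)))
(.node 3390 (.node 3389 (.leaf 0xab49)
(.leaf 0xab66))
(.node 3391 (.leaf 0xab68)
(.leaf 0xab75)))))))
(.node 3424 (.node 3408 (.node 3400 (.node 3396 (.node 3394 (.node 3393 (.leaf 0xab78)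
(.leaf 0xab7b))
(.node 3395 (.leaf 0xab89)
(.leaf 0xabcb)))
(.node 3398 (.node 3397 (.leaf 0xabd9)
(.leaf 0xac74))
(.node 3399 (.leaf 0xac77)
(.leaf 0xac83))))
(.node 3404 (.node 3402 (.node 3401 (.leaf 0xac87)
(.leaf 0xac96))
(.node 3403 (.leaf 0xaca4)
(.leaf 0xaca7)))
(.node 3406 (.node 3405 (.leaf 0xacc7)
(.leaf 0xace7))
(.node 3407 (.leaf 0xad07)
(.leaf 0xad0c)))))
(.node 3416 (.node 3412 (.node 3410 (.node 3409 (.leaf 0xad1b)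
(.leaf 0xad26))
(.node 3411 (.leaf 0xad3b)
(.leaf 0xad46)))
(.node 3414 (.node 3413 (.leaf 0xad55)
(.leaf 0xad57))
(.node 3415 (.leaf 0xad65)
(.leaf 0xad67))))
(.node 3420 (.node 3418 (.node 3417 (.leaf 0xad74)
(.leaf 0xad77))
(.node 3419 (.leaf 0xad93)
(.leaf 0xad97)))
(.node 3422 (.node 3421 (.leaf 0xada6)
(.leaf 0xada8))
(.node 3423 (.leaf 0xadb9)
(.leaf 0xadcb))))))
(.node 3440 (.node 3432 (.node 3428 (.node 3426 (.node 3425 (.leaf 0xadd6)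
(.leaf 0xade5))
(.node 3427 (.leaf 0xade7)
(.leaf 0xadf4)))
(.node 3430 (.node 3429 (.leaf 0xadf7)
(.leaf 0xae08))
(.node 3431 (.leaf 0xae15)
(.leaf 0xae17))))
(.node 3436 (.node 3434 (.node 3433 (.leaf 0xae24)
(.leaf 0xae27))
(.node 3435 (.leaf 0xae38)
(.leaf 0xae44)))
(.node 3438 (.node 3437 (.leaf 0xae47)
(.leaf 0xae58))
(.node 3439 (.leaf 0xae63)
(.leaf 0xae67)))))
(.node 3448 (.node 3444 (.node 3442 (.node 3441 (.leaf 0xae76)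
(.leaf 0xae78))
(.node 3443 (.leaf 0xae96)
(.leaf 0xae98)))
(.node 3446 (.node 3445 (.leaf 0xaeb2)
(.leaf 0xaeb7))
(.node 3447 (.leaf 0xaec6)
(.leaf 0xaec8))))
(.node 3452 (.node 3450 (.node 3449 (.leaf 0xaed8)
(.leaf 0xaedb))
(.node 3451 (.leaf 0xaee9)
(.leaf 0xaef3)))
(.node 3454 (.node 3453 (.leaf 0xaef7)
(.leaf 0xaf06))
(.node 3455 (.leaf 0xaf08)
(.leaf 0xaf27))))))))
(.node 3520 (.node 3488 (.node 3472 (.node 3464 (.node 3460 (.node 3458 (.node 3457 (.leaf 0xaf36)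
(.leaf 0xaf38))
(.node 3459 (.leaf 0xaf59)
(.leaf 0xaf66)))
(.node 3462 (.node 3461 (.leaf 0xaf7b)
(.leaf 0xafab))
(.node 3463 (.leaf 0xafcb)
(.leaf 0xafd6))))
(.node 3468 (.node 3466 (.node 3465 (.leaf 0xafe6)
(.leaf 0xaff5))
(.node 3467 (.leaf 0xb004)
(.leaf 0xb007)))
(.node 3470 (.node 3469 (.leaf 0xb018)
(.leaf 0xb024))
(.node 3471 (.leaf 0xb027)
(.leaf 0xb038)))))
(.node 3480 (.node 3476 (.node 3474 (.node 3473 (.leaf 0xb043)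
(.leaf 0xb047))
(.node 3475 (.leaf 0xb058)
(.leaf 0xb064)))
(.node 3478 (.node 3477 (.leaf 0xb067)
(.leaf 0xb078))
(.node 3479 (.leaf 0xb083)
(.leaf 0xb087))))
(.node 3484 (.node 3482 (.node 3481 (.leaf 0xb096)
(.leaf 0xb098))
(.node 3483 (.leaf 0xb0a9)
(.leaf 0xb0b3)))
(.node 3486 (.node 3485 (.leaf 0xb0b7)
(.leaf 0xb0c6))
(.node 3487 (.leaf 0xb0c8)
(.leaf 0xb0e2))))))
(.node 3504 (.node 3496 (.node 3492 (.node 3490 (.node 3489 (.leaf 0xb0e7)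
(.leaf 0xb0f6))
(.node 3491 (.leaf 0xb0f8)
(.leaf 0xb108)))
(.node 3494 (.node 3493 (.leaf 0xb119)
(.leaf 0xb126))
(.node 3495 (.leaf 0xb128)
(.leaf 0xb136))))
(.node 3500 (.node 3498 (.node 3497 (.leaf 0xb138)
(.leaf 0xb145))
(.node 3499 (.leaf 0xb148)
(.leaf 0xb159)))
(.node 3502 (.node 3501 (.leaf 0xb167)
(.leaf 0xb169))
(.node 3503 (.leaf 0xb187)
(.leaf 0xb196)))))
(.node 3512 (.node 3508 (.node 3506 (.node 3505 (.leaf 0xb198)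
(.leaf 0xb1a8))
(.node 3507 (.leaf 0xb1ab)
(.leaf 0xb1c6)))
(.node 3510 (.node 3509 (.leaf 0xb1c8)
(.leaf 0xb204))
(.node 3511 (.leaf 0xb207)
(.leaf 0xb218))))
(.node 3516 (.node 3514 (.node 3513 (.leaf 0xb226)
(.leaf 0xb228))
(.node 3515 (.leaf 0xb242)
(.leaf 0xb247)))
(.node 3518 (.node 3517 (.leaf 0xb258)
(.leaf 0xb268))
(.node 3519 (.leaf 0xb293)
(.leaf 0xb297)))))))
(.node 3552 (.node 3536 (.node 3528 (.node 3524 (.node 3522 (.node 3521 (.leaf 0xb2a6)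
(.leaf 0xb2a8))
(.node 3523 (.leaf 0xb2c2)
(.leaf 0xb2c7)))
(.node 3526 (.node 3525 (.leaf 0xb2d6)
(.leaf 0xb2d8))
(.node 3527 (.leaf 0xb2e8)
(.leaf 0xb2eb))))
(.node 3532 (.node 3530 (.node 3529 (.leaf 0xb305)
(.leaf 0xb314))
(.node 3531 (.leaf 0xb317)
(.leaf 0xb328)))
(.node 3534 (.node 3533 (.leaf 0xb333)
(.leaf 0xb337))
(.node 3535 (.leaf 0xb346)
(.leaf 0xb348)))))
(.node 3544 (.node 3540 (.node 3538 (.node 3537 (.leaf 0xb363)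
(.leaf 0xb367))
(.node 3539 (.leaf 0xb392)
(.leaf 0xb397)))
(.node 3542 (.node 3541 (.leaf 0xb3a6)
(.leaf 0xb3a8))
(.node 3543 (.leaf 0xb3b8)
(.leaf 0xb3bb))))
(.node 3548 (.node 3546 (.node 3545 (.leaf 0xb3d2)
(.leaf 0xb3d7))
(.node 3547 (.leaf 0xb3e6)
(.leaf 0xb3e8)))
(.node 3550 (.node 3549 (.leaf 0xb3f8)
(.leaf 0xb409))
(.node 3551 (.leaf 0xb411)
(.leaf 0xb417))))))
(.node 3568 (.node 3560 (.node 3556 (.node 3554 (.node 3553 (.leaf 0xb426)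
(.leaf 0xb428))
(.node 3555 (.leaf 0xb435)
(.leaf 0xb438)))
(.node 3558 (.node 3557 (.leaf 0xb43b)
(.leaf 0xb457))
(.node 3559 (.leaf 0xb45b)
(.leaf 0xb471))))
(.node 3564 (.node 3562 (.node 3561 (.leaf 0xb477)
(.leaf 0xb49b))
(.node 3563 (.leaf 0xb4a9)
(.leaf 0xb4c8)))
(.node 3566 (.node 3565 (.leaf 0xb4d8)
(.leaf 0xb4db))
(.node 3567 (.leaf 0xb4e9)
(.leaf 0xb4fb)))))
(.node 3576 (.node 3572 (.node 3570 (.node 3569 (.leaf 0xb523)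
(.leaf 0xb527))
(.node 3571 (.leaf 0xb536)
(.leaf 0xb538)))
(.node 3574 (.node 3573 (.leaf 0xb552)
(.leaf 0xb557))
(.node 3575 (.leaf 0xb566)
(.leaf 0xb568))))
(.node 3580 (.node 3578 (.node 3577 (.leaf 0xb578)
(.leaf 0xb589))
(.node 3579 (.leaf 0xb591)
(.leaf 0xb597)))
(.node 3582 (.node 3581 (.leaf 0xb5a6)
(.leaf 0xb5a8))
(.node 3583 (.leaf 0xb5b5)
(.leaf 0xb5b8)))))))))

/-- part of a trie -/
def parPart14 : Tr :=
(.node 3712 (.node 3648 (.node 3616 (.node 3600 (.node 3592 (.node 3588 (.node 3586 (.node 3585 (.leaf 0xb5bb)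
(.leaf 0xb5c9))
(.node 3587 (.leaf 0xb5d9)
(.leaf 0xb5f7)))
(.node 3590 (.node 3589 (.leaf 0xb606)
(.leaf 0xb608))
(.node 3591 (.leaf 0xb615)
(.leaf 0xb618))))
(.node 3596 (.node 3594 (.node 3593 (.leaf 0xb647)
(.leaf 0xb658))
(.node 3595 (.leaf 0xb665)
(.leaf 0xb668)))
(.node 3598 (.node 3597 (.leaf 0xb689)
(.leaf 0xb695))
(.node 3599 (.leaf 0xb69b)
(.leaf 0xb6bb)))))
(.node 3608 (.node 3604 (.node 3602 (.node 3601 (.leaf 0xb6e7)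
(.leaf 0xb6f6))
(.node 3603 (.leaf 0xb708)
(.leaf 0xb70b)))
(.node 3606 (.node 3605 (.leaf 0xb72b)
(.leaf 0xb747))
(.node 3607 (.leaf 0xb756)
(.leaf 0xb758))))
(.node 3612 (.node 3610 (.node 3609 (.leaf 0xb765)
(.leaf 0xb768))
(.node 3611 (.leaf 0xb779)
(.leaf 0xb797)))
(.node 3614 (.node 3613 (.leaf 0xb7a6)
(.leaf 0xb7b5))
(.node 3615 (.leaf 0xb7b8)
(.leaf 0xb7bb))))))
(.node 3632 (.node 3624 (.node 3620 (.node 3618 (.node 3617 (.leaf 0xb7e9)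
(.leaf 0xb895))
(.node 3619 (.leaf 0xb897)
(.leaf 0xb8a4)))
(.node 3622 (.node 3621 (.leaf 0xb8a7)
(.leaf 0xb8d4))
(.node 3623 (.leaf 0xb8d7)
(.leaf 0xb8f7))))
(.node 3628 (.node 3626 (.node 3625 (.leaf 0xb906)
(.leaf 0xb916))
(.node 3627 (.leaf 0xb925)
(.leaf 0xb927)))
(.node 3630 (.node 3629 (.leaf 0xb934)
(.leaf 0xb937))
(.node 3631 (.leaf 0xb944)
(.leaf 0xb947)))))
(.node 3640 (.node 3636 (.node 3634 (.node 3633 (.leaf 0xb958)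
(.leaf 0xb963))
(.node 3635 (.leaf 0xb979)
(.leaf 0xb993)))
(.node 3638 (.node 3637 (.leaf 0xb997)
(.leaf 0xb9a6))
(.node 3639 (.leaf 0xb9a8)
(.leaf 0xb9d6))))
(.node 3644 (.node 3642 (.node 3641 (.leaf 0xb9e5)
(.leaf 0xb9e7))
(.node 3643 (.leaf 0xb9f4)
(.leaf 0xb9f7)))
(.node 3646 (.node 3645 (.leaf 0xba14)
(.leaf 0xba17))
(.node 3647 (.leaf 0xba33)
(.leaf 0xba37)))))))
(.node 3680 (.node 3664 (.node 3656 (.node 3652 (.node 3650 (.node 3649 (.leaf 0xba46)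
(.leaf 0xba48))
(.node 3651 (.leaf 0xba62)
(.leaf 0xba67)))
(.node 3654 (.node 3653 (.leaf 0xba76)
(.leaf 0xba78))
(.node 3655 (.leaf 0xba88)
(.leaf 0xba8b))))
(.node 3660 (.node 3658 (.node 3657 (.leaf 0xbaac)
(.leaf 0xbabb))
(.node 3659 (.leaf 0xbac5)
(.leaf 0xbad4)))
(.node 3662 (.node 3661 (.leaf 0xbad7)
(.leaf 0xbaf4))
(.node 3663 (.leaf 0xbaf7)
(.leaf 0xbb08)))))
(.node 3672 (.node 3668 (.node 3666 (.node 3665 (.leaf 0xbb13)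
(.leaf 0xbb17))
(.node 3667 (.leaf 0xbb26)
(.leaf 0xbb28)))
(.node 3670 (.node 3669 (.leaf 0xbb47)
(.leaf 0xbb56))
(.node 3671 (.leaf 0xbb73)
(.leaf 0xbb77))))
(.node 3676 (.node 3674 (.node 3673 (.leaf 0xbb92)
(.leaf 0xbb97))
(.node 3675 (.leaf 0xbba6)
(.leaf 0xbba8)))
(.node 3678 (.node 3677 (.leaf 0xbbb8)
(.leaf 0xbbbb))
(.node 3679 (.leaf 0xbbd7)
(.leaf 0xbbe6))))))
(.node 3696 (.node 3688 (.node 3684 (.node 3682 (.node 3681 (.leaf 0xbbe8)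
(.leaf 0xbc09))
(.node 3683 (.leaf 0xbc27)
(.leaf 0xbc36)))
(.node 3686 (.node 3685 (.leaf 0xbc45)
(.leaf 0xbc48))
(.node 3687 (.leaf 0xbc4b)
(.leaf 0xbc59))))
(.node 3692 (.node 3690 (.node 3689 (.leaf 0xbc67)
(.leaf 0xbc6b))
(.node 3691 (.leaf 0xbc92)
(.leaf 0xbc97)))
(.node 3694 (.node 3693 (.leaf 0xbca6)
(.leaf 0xbca8))
(.node 3695 (.leaf 0xbcb8)
(.leaf 0xbcd7)))))
(.node 3704 (.node 3700 (.node 3698 (.node 3697 (.leaf 0xbce6)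
(.leaf 0xbcf5))
(.node 3699 (.leaf 0xbd0b)
(.leaf 0xbd2b)))
(.node 3702 (.node 3701 (.leaf 0xbd36)
(.leaf 0xbd45))
(.node 3703 (.leaf 0xbd56)
(.leaf 0xbd63))))
(.node 3708 (.node 3706 (.node 3705 (.leaf 0xbd67)
(.leaf 0xbd76))
(.node 3707 (.leaf 0xbd78)
(.leaf 0xbd89)))
(.node 3710 (.node 3709 (.leaf 0xbd97)
(.leaf 0xbda6))
(.node 3711 (.leaf 0xbda8)
(.leaf 0xbdb8))))))))
(.node 3776 (.node 3744 (.node 3728 (.node 3720 (.node 3716 (.node 3714 (.node 3713 (.leaf 0xbdbb)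
(.leaf 0xbdd7))
(.node 3715 (.leaf 0xbde6)
(.leaf 0xbde8)))
(.node 3718 (.node 3717 (.leaf 0xbdf8)
(.leaf 0xbdfb))
(.node 3719 (.leaf 0xbe09)
(.leaf 0xbe12))))
(.node 3724 (.node 3722 (.node 3721 (.leaf 0xbe17)
(.leaf 0xbe26))
(.node 3723 (.leaf 0xbe28)
(.leaf 0xbe38)))
(.node 3726 (.node 3725 (.leaf 0xbe56)
(.leaf 0xbe58))
(.node 3727 (.leaf 0xbe65)
(.leaf 0xbe68)))))
(.node 3736 (.node 3732 (.node 3730 (.node 3729 (.leaf 0xbe8b)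
(.leaf 0xbea5))
(.node 3731 (.leaf 0xbea8)
(.leaf 0xbeb9)))
(.node 3734 (.node 3733 (.leaf 0xbed6)
(.leaf 0xbed8))
(.node 3735 (.leaf 0xbee5)
(.leaf 0xbee8))))
(.node 3740 (.node 3738 (.node 3737 (.leaf 0xbf08)
(.leaf 0xbf19))
(.node 3739 (.leaf 0xbf2a)
(.leaf 0xbf36)))
(.node 3742 (.node 3741 (.leaf 0xbf45)
(.leaf 0xbf48))
(.node 3743 (.leaf 0xbf59)
(.leaf 0xbf67))))))
(.node 3760 (.node 3752 (.node 3748 (.node 3746 (.node 3745 (.leaf 0xbf69)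
(.leaf 0xbf6b))
(.node 3747 (.leaf 0xbf9b)
(.leaf 0xbfab)))
(.node 3750 (.node 3749 (.leaf 0xbfbc)
(.leaf 0xbfcc))
(.node 3751 (.leaf 0xbfe4)
(.leaf 0xbfe7))))
(.node 3756 (.node 3754 (.node 3753 (.leaf 0xbff8)
(.leaf 0xc003))
(.node 3755 (.leaf 0xc007)
(.leaf 0xc037)))
(.node 3758 (.node 3757 (.leaf 0xc046)
(.leaf 0xc058))
(.node 3759 (.leaf 0xc067)
(.leaf 0xc078)))))
(.node 3768 (.node 3764 (.node 3762 (.node 3761 (.leaf 0xc098)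
(.leaf 0xc0a3))
(.node 3763 (.leaf 0xc0a7)
(.leaf 0xc0b6)))
(.node 3766 (.node 3765 (.leaf 0xc0b8)
(.leaf 0xc0d2))
(.node 3767 (.leaf 0xc0d7)
(.leaf 0xc0e6))))
(.node 3772 (.node 3770 (.node 3769 (.leaf 0xc0e8)
(.leaf 0xc0f8))
(.node 3771 (.leaf 0xc116)
(.leaf 0xc118)))
(.node 3774 (.node 3773 (.leaf 0xc128)
(.leaf 0xc147))
(.node 3775 (.leaf 0xc167)
(.leaf 0xc178)))))))
(.node 3808 (.node 3792 (.node 3784 (.node 3780 (.node 3778 (.node 3777 (.leaf 0xc187)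
(.leaf 0xc198))
(.node 3779 (.leaf 0xc1a1)
(.leaf 0xc1a7)))
(.node 3782 (.node 3781 (.leaf 0xc1b6)
(.leaf 0xc1b8))
(.node 3783 (.leaf 0xc1c8)
(.leaf 0xc1d9))))
(.node 3788 (.node 3786 (.node 3785 (.leaf 0xc1e9)
(.leaf 0xc203))
(.node 3787 (.leaf 0xc216)
(.leaf 0xc218)))
(.node 3790 (.node 3789 (.leaf 0xc222)
(.leaf 0xc227))
(.node 3791 (.leaf 0xc236)
(.leaf 0xc24b)))))
(.node 3800 (.node 3796 (.node 3794 (.node 3793 (.leaf 0xc252)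
(.leaf 0xc257))
(.node 3795 (.leaf 0xc266)
(.leaf 0xc268)))
(.node 3798 (.node 3797 (.leaf 0xc277)
(.leaf 0xc286))
(.node 3799 (.leaf 0xc288)
(.leaf 0xc298))))
(.node 3804 (.node 3802 (.node 3801 (.leaf 0xc2b7)
(.leaf 0xc2c6))
(.node 3803 (.leaf 0xc2c8)
(.leaf 0xc2d5)))
(.node 3806 (.node 3805 (.leaf 0xc2d8)
(.leaf 0xc2db))
(.node 3807 (.leaf 0xc2e9)
(.leaf 0xc306))))))
(.node 3824 (.node 3816 (.node 3812 (.node 3810 (.node 3809 (.leaf 0xc315)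
(.leaf 0xc318))
(.node 3811 (.leaf 0xc31b)
(.leaf 0xc338)))
(.node 3814 (.node 3813 (.leaf 0xc347)
(.leaf 0xc349))
(.node 3815 (.leaf 0xc34b)
(.leaf 0xc36a))))
(.node 3820 (.node 3818 (.node 3817 (.leaf 0xc37b)
(.leaf 0xc39b))
(.node 3819 (.leaf 0xc3c6)
(.leaf 0xc3d7)))
(.node 3822 (.node 3821 (.leaf 0xc3e2)
(.leaf 0xc3e7))
(.node 3823 (.leaf 0xc3f6)
(.leaf 0xc3f8)))))
(.node 3832 (.node 3828 (.node 3826 (.node 3825 (.leaf 0xc408)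
(.leaf 0xc419))
(.node 3827 (.leaf 0xc42a)
(.leaf 0xc446)))
(.node 3830 (.node 3829 (.leaf 0xc448)
(.leaf 0xc458))
(.node 3831 (.leaf 0xc485)
(.leaf 0xc488))))
(.node 3836 (.node 3834 (.node 3833 (.leaf 0xc499)
(.leaf 0xc4a7))
(.node 3835 (.leaf 0xc4c5)
(.leaf 0xc4d8)))
(.node 3838 (.node 3837 (.leaf 0xc4fa)
(.leaf 0xc505))
(.node 3839 (.leaf 0xc508)
(.leaf 0xc524)))))))))

/-- part of a trie -/
def parPart15 : Tr :=
(.node 3968 (.node 3904 (.node 3872 (.node 3856 (.node 3848 (.node 3844 (.node 3842 (.node 3841 (.leaf 0xc528)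
(.leaf 0xc537))
(.node 3843 (.leaf 0xc539)
(.leaf 0xc549)))
(.node 3846 (.node 3845 (.leaf 0xc56a)
(.leaf 0xc586))
(.node 3847 (.leaf 0xc5b5)
(.leaf 0xc5b8))))
(.node 3852 (.node 3850 (.node 3849 (.leaf 0xc5f3)
(.leaf 0xc5f7))
(.node 3851 (.leaf 0xc617)
(.leaf 0xc61c)))
(.node 3854 (.node 3853 (.leaf 0xc64b)
(.leaf 0xc656))
(.node 3855 (.leaf 0xc665)
(.leaf 0xc667)))))
(.node 3864 (.node 3860 (.node 3858 (.node 3857 (.leaf 0xc676)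
(.leaf 0xc685))
(.node 3859 (.leaf 0xc687)
(.leaf 0xc694)))
(.node 3862 (.node 3861 (.leaf 0xc697)
(.leaf 0xc6a8))
(.node 3863 (.leaf 0xc6b5)
(.leaf 0xc6b7))))
(.node 3868 (.node 3866 (.node 3865 (.leaf 0xc6c4)
(.leaf 0xc6c7))
(.node 3867 (.leaf 0xc6d8)
(.leaf 0xc6e4)))
(.node 3870 (.node 3869 (.leaf 0xc6e7)
(.leaf 0xc6f8))
(.node 3871 (.leaf 0xc703)
(.leaf 0xc707))))))
(.node 3888 (.node 3880 (.node 3876 (.node 3874 (.node 3873 (.leaf 0xc716)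
(.leaf 0xc718))
(.node 3875 (.leaf 0xc757)
(.leaf 0xc766)))
(.node 3878 (.node 3877 (.leaf 0xc768)
(.leaf 0xc778))
(.node 3879 (.leaf 0xc796)
(.leaf 0xc7c7))))
(.node 3884 (.node 3882 (.node 3881 (.leaf 0xc7d8)
(.leaf 0xc7e7))
(.node 3883 (.leaf 0xc7f6)
(.leaf 0xc7f8)))
(.node 3886 (.node 3885 (.leaf 0xc813)
(.leaf 0xc817))
(.node 3887 (.leaf 0xc826)
(.leaf 0xc828)))))
(.node 3896 (.node 3892 (.node 3890 (.node 3889 (.leaf 0xc847)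
(.leaf 0xc856))
(.node 3891 (.leaf 0xc858)
(.leaf 0xc868)))
(.node 3894 (.node 3893 (.leaf 0xc879)
(.leaf 0xc898))
(.node 3895 (.leaf 0xc8a8)
(.leaf 0xc8b9))))
(.node 3900 (.node 3898 (.node 3897 (.leaf 0xc8c8)
(.leaf 0xc908))
(.node 3899 (.leaf 0xc919)
(.leaf 0xc929)))
(.node 3902 (.node 3901 (.leaf 0xc92b)
(.leaf 0xc949))
(.node 3903 (.leaf 0xc98c)
(.leaf 0xc99b)))))))
(.node 3936 (.node 3920 (.node 3912 (.node 3908 (.node 3906 (.node 3905 (.leaf 0xc9a6)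
(.leaf 0xc9bb))
(.node 3907 (.leaf 0xc9c6)
(.leaf 0xc9d5)))
(.node 3910 (.node 3909 (.leaf 0xc9d7)
(.leaf 0xc9e5))
(.node 3911 (.leaf 0xc9e7)
(.leaf 0xca03))))
(.node 3916 (.node 3914 (.node 3913 (.leaf 0xca07)
(.leaf 0xca16))
(.node 3915 (.leaf 0xca27)
(.leaf 0xca2c)))
(.node 3918 (.node 3917 (.leaf 0xca3b)
(.leaf 0xca46))
(.node 3919 (.leaf 0xca5b)
(.leaf 0xca66)))))
(.node 3928 (.node 3924 (.node 3922 (.node 3921 (.leaf 0xca75)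
(.leaf 0xca86))
(.node 3923 (.leaf 0xca95)
(.leaf 0xcaa4)))
(.node 3926 (.node 3925 (.leaf 0xcab5)
(.leaf 0xcab7))
(.node 3927 (.leaf 0xcac4)
(.leaf 0xcac7))))
(.node 3932 (.node 3930 (.node 3929 (.leaf 0xcad8)
(.leaf 0xcae4))
(.node 3931 (.leaf 0xcae7)
(.leaf 0xcaf8)))
(.node 3934 (.node 3933 (.leaf 0xcb03)
(.leaf 0xcb07))
(.node 3935 (.leaf 0xcb18)
(.leaf 0xcb33))))))
(.node 3952 (.node 3944 (.node 3940 (.node 3938 (.node 3937 (.leaf 0xcb37)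
(.leaf 0xcb46))
(.node 3939 (.leaf 0xcb48)
(.leaf 0xcb67)))
(.node 3942 (.node 3941 (.leaf 0xcb76)
(.leaf 0xcb78))
(.node 3943 (.leaf 0xcb88)
(.leaf 0xcb99))))
(.node 3948 (.node 3946 (.node 3945 (.leaf 0xcbdc)
(.leaf 0xcbeb))
(.node 3947 (.leaf 0xcbf6)
(.leaf 0xcc05)))
(.node 3950 (.node 3949 (.leaf 0xcc07)
(.leaf 0xcc1b))
(.node 3951 (.leaf 0xcc26)
(.leaf 0xcc35)))))
(.node 3960 (.node 3956 (.node 3954 (.node 3953 (.leaf 0xcc44)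
(.leaf 0xcc47))
(.node 3955 (.leaf 0xcc58)
(.leaf 0xcc74)))
(.node 3958 (.node 3957 (.leaf 0xcc83)
(.leaf 0xcc87))
(.node 3959 (.leaf 0xcc96)
(.leaf 0xcc98))))
(.node 3964 (.node 3962 (.node 3961 (.leaf 0xccb4)
(.leaf 0xccb7))
(.node 3963 (.leaf 0xccc3)
(.leaf 0xccc7)))
(.node 3966 (.node 3965 (.leaf 0xccd6)
(.leaf 0xccd8))
(.node 3967 (.leaf 0xcce9)
(.leaf 0xccf3))))))))
(.node 4032 (.node 4000 (.node 3984 (.node 3976 (.node 3972 (.node 3970 (.node 3969 (.leaf 0xccf7)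
(.leaf 0xcd06))
(.node 3971 (.leaf 0xcd08)
(.leaf 0xcd22)))
(.node 3974 (.node 3973 (.leaf 0xcd27)
(.leaf 0xcd36))
(.node 3975 (.leaf 0xcd38)
(.leaf 0xcd48))))
(.node 3980 (.node 3978 (.node 3977 (.leaf 0xcd4b)
(.leaf 0xcd59))
(.node 3979 (.leaf 0xcd68)
(.leaf 0xcd88)))
(.node 3982 (.node 3981 (.leaf 0xcd95)
(.leaf 0xcd98))
(.node 3983 (.leaf 0xcda9)
(.leaf 0xcdb7)))))
(.node 3992 (.node 3988 (.node 3986 (.node 3985 (.leaf 0xcdb9)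
(.leaf 0xcdd2))
(.node 3987 (.leaf 0xcdd7)
(.leaf 0xcde6)))
(.node 3990 (.node 3989 (.leaf 0xcde8)
(.leaf 0xcdf8))
(.node 3991 (.leaf 0xcdfb)
(.leaf 0xce27))))
(.node 3996 (.node 3994 (.node 3993 (.leaf 0xce36)
(.leaf 0xce45))
(.node 3995 (.leaf 0xce48)
(.leaf 0xce4b)))
(.node 3998 (.node 3997 (.leaf 0xce5b)
(.leaf 0xce75))
(.node 3999 (.leaf 0xce93)
(.leaf 0xce97))))))
(.node 4016 (.node 4008 (.node 4004 (.node 4002 (.node 4001 (.leaf 0xcea6)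
(.leaf 0xcea8))
(.node 4003 (.leaf 0xcec2)
(.leaf 0xcec7)))
(.node 4006 (.node 4005 (.leaf 0xced6)
(.leaf 0xced8))
(.node 4007 (.leaf 0xcee8)
(.leaf 0xceeb))))
(.node 4012 (.node 4010 (.node 4009 (.leaf 0xcf05)
(.leaf 0xcf14))
(.node 4011 (.leaf 0xcf17)
(.leaf 0xcf28)))
(.node 4014 (.node 4013 (.leaf 0xcf43)
(.leaf 0xcf47))
(.node 4015 (.leaf 0xcf72)
(.leaf 0xcf77)))))
(.node 4024 (.node 4020 (.node 4018 (.node 4017 (.leaf 0xcf86)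
(.leaf 0xcf88))
(.node 4019 (.leaf 0xcf98)
(.leaf 0xcfb7)))
(.node 4022 (.node 4021 (.leaf 0xcfc6)
(.leaf 0xcfc8))
(.node 4023 (.leaf 0xcfd8)
(.leaf 0xcfe9))))
(.node 4028 (.node 4026 (.node 4025 (.leaf 0xcff7)
(.leaf 0xd006))
(.node 4027 (.leaf 0xd008)
(.leaf 0xd015)))
(.node 4030 (.node 4029 (.leaf 0xd018)
(.leaf 0xd01b))
(.node 4031 (.leaf 0xd029)
(.leaf 0xd037)))))))
(.node 4064 (.node 4048 (.node 4040 (.node 4036 (.node 4034 (.node 4033 (.leaf 0xd039)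
(.leaf 0xd03b))
(.node 4035 (.leaf 0xd061)
(.leaf 0xd067)))
(.node 4038 (.node 4037 (.leaf 0xd085)
(.leaf 0xd08b))
(.node 4039 (.leaf 0xd098)
(.leaf 0xd0a9))))
(.node 4044 (.node 4042 (.node 4041 (.leaf 0xd0b7)
(.leaf 0xd0c6))
(.node 4043 (.leaf 0xd0c8)
(.leaf 0xd0e7)))
(.node 4046 (.node 4045 (.leaf 0xd0f6)
(.leaf 0xd0f8))
(.node 4047 (.leaf 0xd108)
(.leaf 0xd10b)))))
(.node 4056 (.node 4052 (.node 4050 (.node 4049 (.leaf 0xd127)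
(.leaf 0xd136))
(.node 4051 (.leaf 0xd138)
(.leaf 0xd148)))
(.node 4054 (.node 4053 (.leaf 0xd159)
(.leaf 0xd167))
(.node 4055 (.leaf 0xd178)
(.leaf 0xd185))))
(.node 4060 (.node 4058 (.node 4057 (.leaf 0xd188)
(.leaf 0xd18b))
(.node 4059 (.leaf 0xd199)
(.leaf 0xd1a7)))
(.node 4062 (.node 4061 (.leaf 0xd1a9)
(.leaf 0xd1ab))
(.node 4063 (.leaf 0xd1d8)
(.leaf 0xd1e8))))))
(.node 4080 (.node 4072 (.node 4068 (.node 4066 (.node 4065 (.leaf 0xd207)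
(.leaf 0xd218))
(.node 4067 (.leaf 0xd225)
(.leaf 0xd257)))
(.node 4070 (.node 4069 (.leaf 0xd26a)
(.leaf 0xd277))
(.node 4071 (.leaf 0xd286)
(.leaf 0xd288))))
(.node 4076 (.node 4074 (.node 4073 (.leaf 0xd295)
(.leaf 0xd298))
(.node 4075 (.leaf 0xd2a9)
(.leaf 0xd2bb)))
(.node 4078 (.node 4077 (.leaf 0xd2cb)
(.leaf 0xd325))
(.node 4079 (.leaf 0xd346)
(.leaf 0xd357)))))
(.node 4088 (.node 4084 (.node 4082 (.node 4081 (.leaf 0xd366)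
(.leaf 0xd375))
(.node 4083 (.leaf 0xd378)
(.leaf 0xd37b)))
(.node 4086 (.node 4085 (.leaf 0xd38b)
(.leaf 0xd3a6))
(.node 4087 (.leaf 0xd3db)
(.leaf 0xd409))))
(.node 4092 (.node 4090 (.node 4089 (.leaf 0xd457)
(.leaf 0xd477))
(.node 4091 (.leaf 0xd486)
(.leaf 0xd4a7)))
(.node 4094 (.node 4093 (.leaf 0xd4ec)
(.leaf 0xd4fb))
(.node 4095 (.leaf 0xd506)
(.leaf 0xd515)))))))))

/-- part of a trie -/
def parPart16 : Tr :=
(.node 4224 (.node 4160 (.node 4128 (.node 4112 (.node 4104 (.node 4100 (.node 4098 (.node 4097 (.leaf 0xd517)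
(.leaf 0xd526))
(.node 4099 (.leaf 0xd535)
(.leaf 0xd537)))
(.node 4102 (.node 4101 (.leaf 0xd544)
(.leaf 0xd547))
(.node 4103 (.leaf 0xd564)
(.leaf 0xd567))))
(.node 4108 (.node 4106 (.node 4105 (.leaf 0xd578)
(.leaf 0xd587))
(.node 4107 (.leaf 0xd596)
(.leaf 0xd5a2)))
(.node 4110 (.node 4109 (.leaf 0xd5a7)
(.leaf 0xd5b6))
(.node 4111 (.leaf 0xd5b8)
(.leaf 0xd5cb)))))
(.node 4120 (.node 4116 (.node 4114 (.node 4113 (.leaf 0xd5d9)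
(.leaf 0xd5ea))
(.node 4115 (.leaf 0xd5f6)
(.leaf 0xd605)))
(.node 4118 (.node 4117 (.leaf 0xd607)
(.leaf 0xd614))
(.node 4119 (.leaf 0xd617)
(.leaf 0xd628))))
(.node 4124 (.node 4122 (.node 4121 (.leaf 0xd633)
(.leaf 0xd637))
(.node 4123 (.leaf 0xd646)
(.leaf 0xd648)))
(.node 4126 (.node 4125 (.leaf 0xd664)
(.leaf 0xd667))
(.node 4127 (.leaf 0xd678)
(.leaf 0xd683))))))
(.node 4144 (.node 4136 (.node 4132 (.node 4130 (.node 4129 (.leaf 0xd687)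
(.leaf 0xd696))
(.node 4131 (.leaf 0xd698)
(.leaf 0xd6a9)))
(.node 4134 (.node 4133 (.leaf 0xd6b3)
(.leaf 0xd6b7))
(.node 4135 (.leaf 0xd6c6)
(.leaf 0xd6c8))))
(.node 4140 (.node 4138 (.node 4137 (.leaf 0xd6e7)
(.leaf 0xd6f6))
(.node 4139 (.leaf 0xd6f8)
(.leaf 0xd708)))
(.node 4142 (.node 4141 (.leaf 0xd719)
(.leaf 0xd728))
(.node 4143 (.leaf 0xd72b)
(.leaf 0xd741)))))
(.node 4152 (.node 4148 (.node 4146 (.node 4145 (.leaf 0xd747)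
(.leaf 0xd756))
(.node 4147 (.leaf 0xd758)
(.leaf 0xd765)))
(.node 4150 (.node 4149 (.leaf 0xd768)
(.leaf 0xd76b))
(.node 4151 (.leaf 0xd779)
(.leaf 0xd787))))
(.node 4156 (.node 4154 (.node 4153 (.leaf 0xd789)
(.leaf 0xd7b7))
(.node 4155 (.leaf 0xd7c6)
(.leaf 0xd7c8)))
(.node 4158 (.node 4157 (.leaf 0xd7d8)
(.leaf 0xd7db))
(.node 4159 (.leaf 0xd7e9)
(.leaf 0xd7f6)))))))
(.node 4192 (.node 4176 (.node 4168 (.node 4164 (.node 4162 (.node 4161 (.leaf 0xd7f8)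
(.leaf 0xd805))
(.node 4163 (.leaf 0xd808)
(.leaf 0xd80b)))
(.node 4166 (.node 4165 (.leaf 0xd819)
(.leaf 0xd83b))
(.node 4167 (.leaf 0xd866)
(.leaf 0xd877))))
(.node 4172 (.node 4170 (.node 4169 (.leaf 0xd885)
(.leaf 0xd894))
(.node 4171 (.leaf 0xd897)
(.leaf 0xd8a3)))
(.node 4174 (.node 4173 (.leaf 0xd8a7)
(.leaf 0xd8b6))
(.node 4175 (.leaf 0xd8b8)
(.leaf 0xd8d3)))))
(.node 4184 (.node 4180 (.node 4178 (.node 4177 (.leaf 0xd8d7)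
(.leaf 0xd8e6))
(.node 4179 (.leaf 0xd8e8)
(.leaf 0xd907)))
(.node 4182 (.node 4181 (.leaf 0xd916)
(.leaf 0xd918))
(.node 4183 (.leaf 0xd929)
(.leaf 0xd933))))
(.node 4188 (.node 4186 (.node 4185 (.leaf 0xd937)
(.leaf 0xd948))
(.node 4187 (.leaf 0xd959)
(.leaf 0xd962)))
(.node 4190 (.node 4189 (.leaf 0xd967)
(.leaf 0xd976))
(.node 4191 (.leaf 0xd978)
(.leaf 0xd988))))))
(.node 4208 (.node 4200 (.node 4196 (.node 4194 (.node 4193 (.leaf 0xd98b)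
(.leaf 0xd999))
(.node 4195 (.leaf 0xd9b2)
(.leaf 0xd9b7)))
(.node 4198 (.node 4197 (.leaf 0xd9c6)
(.leaf 0xd9c8))
(.node 4199 (.leaf 0xd9d8)
(.leaf 0xd9f1))))
(.node 4204 (.node 4202 (.node 4201 (.leaf 0xd9f7)
(.leaf 0xda06))
(.node 4203 (.leaf 0xda08)
(.leaf 0xda18)))
(.node 4206 (.node 4205 (.leaf 0xda29)
(.leaf 0xda37))
(.node 4207 (.leaf 0xda39)
(.leaf 0xda4a)))))
(.node 4216 (.node 4212 (.node 4210 (.node 4209 (.leaf 0xda55)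
(.leaf 0xda58))
(.node 4211 (.leaf 0xda75)
(.leaf 0xda78)))
(.node 4214 (.node 4213 (.leaf 0xda98)
(.leaf 0xdaa7))
(.node 4215 (.leaf 0xdaa9)
(.leaf 0xdac9))))
(.node 4220 (.node 4218 (.node 4217 (.leaf 0xdae6)
(.leaf 0xdaf5))
(.node 4219 (.leaf 0xdaf8)
(.leaf 0xdb17)))
(.node 4222 (.node 4221 (.leaf 0xdb35)
(.leaf 0xdb38))
(.node 4223 (.leaf 0xdb3b)
(.leaf 0xdb49))))))))
(.node 4288 (.node 4256 (.node 4240 (.node 4232 (.node 4228 (.node 4226 (.node 4225 (.leaf 0xdb53)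
(.leaf 0xdb57))
(.node 4227 (.leaf 0xdb66)
(.leaf 0xdb68)))
(.node 4230 (.node 4229 (.leaf 0xdb88)
(.leaf 0xdba1))
(.node 4231 (.leaf 0xdba7)
(.leaf 0xdbb8))))
(.node 4236 (.node 4234 (.node 4233 (.leaf 0xdbe2)
(.leaf 0xdbe7))
(.node 4235 (.leaf 0xdbf6)
(.leaf 0xdbf8)))
(.node 4238 (.node 4237 (.leaf 0xdc0b)
(.leaf 0xdc21))
(.node 4239 (.leaf 0xdc27)
(.leaf 0xdc36)))))
(.node 4248 (.node 4244 (.node 4242 (.node 4241 (.leaf 0xdc38)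
(.leaf 0xdc45))
(.node 4243 (.leaf 0xdc48)
(.leaf 0xdc4b)))
(.node 4246 (.node 4245 (.leaf 0xdc59)
(.leaf 0xdc87))
(.node 4247 (.leaf 0xdc93)
(.leaf 0xdca8))))
(.node 4252 (.node 4250 (.node 4249 (.leaf 0xdcc7)
(.leaf 0xdcd6))
(.node 4251 (.leaf 0xdcd8)
(.leaf 0xdce8)))
(.node 4254 (.node 4253 (.leaf 0xdceb)
(.leaf 0xdcf9))
(.node 4255 (.leaf 0xdd07)
(.leaf 0xdd18))))))
(.node 4272 (.node 4264 (.node 4260 (.node 4258 (.node 4257 (.leaf 0xdd21)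
(.leaf 0xdd27))
(.node 4259 (.leaf 0xdd36)
(.leaf 0xdd38)))
(.node 4262 (.node 4261 (.leaf 0xdd45)
(.leaf 0xdd48))
(.node 4263 (.leaf 0xdd4b)
(.leaf 0xdd59))))
(.node 4268 (.node 4266 (.node 4265 (.leaf 0xdd67)
(.leaf 0xdd6b))
(.node 4267 (.leaf 0xdd87)
(.leaf 0xdd96)))
(.node 4270 (.node 4269 (.leaf 0xdd98)
(.leaf 0xdda5))
(.node 4271 (.leaf 0xdda8)
(.leaf 0xddab)))))
(.node 4280 (.node 4276 (.node 4274 (.node 4273 (.leaf 0xddb9)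
(.leaf 0xddc7))
(.node 4275 (.leaf 0xddc9)
(.leaf 0xdde7)))
(.node 4278 (.node 4277 (.leaf 0xddf6)
(.leaf 0xddf8))
(.node 4279 (.leaf 0xde05)
(.leaf 0xde08))))
(.node 4284 (.node 4282 (.node 4281 (.leaf 0xde0b)
(.leaf 0xde28))
(.node 4283 (.leaf 0xde37)
(.leaf 0xde3b)))
(.node 4286 (.node 4285 (.leaf 0xde5b)
(.leaf 0xde77))
(.node 4287 (.leaf 0xdeb9)
(.leaf 0xdecb)))))))
(.node 4320 (.node 4304 (.node 4296 (.node 4292 (.node 4290 (.node 4289 (.leaf 0xdf07)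
(.leaf 0xdf16))
(.node 4291 (.leaf 0xdf18)
(.leaf 0xdf28)))
(.node 4294 (.node 4293 (.leaf 0xdf39)
(.leaf 0xdf41))
(.node 4295 (.leaf 0xdf47)
(.leaf 0xdf56))))
(.node 4300 (.node 4298 (.node 4297 (.leaf 0xdf58)
(.leaf 0xdf65))
(.node 4299 (.leaf 0xdf68)
(.leaf 0xdf87)))
(.node 4302 (.node 4301 (.leaf 0xdf89)
(.leaf 0xdfa7))
(.node 4303 (.leaf 0xdfb6)
(.leaf 0xdfb8)))))
(.node 4312 (.node 4308 (.node 4306 (.node 4305 (.leaf 0xdfc5)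
(.leaf 0xdfc8))
(.node 4307 (.leaf 0xdfcb)
(.leaf 0xdfd9)))
(.node 4310 (.node 4309 (.leaf 0xdfe8)
(.leaf 0xdfeb))
(.node 4311 (.leaf 0xdff9)
(.leaf 0xe038))))
(.node 4316 (.node 4314 (.node 4313 (.leaf 0xe048)
(.leaf 0xe059))
(.node 4315 (.leaf 0xe077)
(.leaf 0xe088)))
(.node 4318 (.node 4317 (.leaf 0xe0a4)
(.leaf 0xe0a8))
(.node 4319 (.leaf 0xe0db)
(.leaf 0xe0f6))))))
(.node 4336 (.node 4328 (.node 4324 (.node 4322 (.node 4321 (.leaf 0xe106)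
(.leaf 0xe11b))
(.node 4323 (.leaf 0xe12b)
(.leaf 0xe156)))
(.node 4326 (.node 4325 (.leaf 0xe165)
(.leaf 0xe168))
(.node 4327 (.leaf 0xe199)
(.leaf 0xe1b6))))
(.node 4332 (.node 4330 (.node 4329 (.leaf 0xe214)
(.leaf 0xe217))
(.node 4331 (.leaf 0xe237)
(.leaf 0xe246)))
(.node 4334 (.node 4333 (.leaf 0xe253)
(.leaf 0xe257))
(.node 4335 (.leaf 0xe266)
(.leaf 0xe276)))))
(.node 4344 (.node 4340 (.node 4338 (.node 4337 (.leaf 0xe295)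
(.leaf 0xe297))
(.node 4339 (.leaf 0xe2a4)
(.leaf 0xe2a7)))
(.node 4342 (.node 4341 (.leaf 0xe2b8)
(.leaf 0xe2c3))
(.node 4343 (.leaf 0xe2c7)
(.leaf 0xe2e7))))
(.node 4348 (.node 4346 (.node 4345 (.leaf 0xe2f6)
(.leaf 0xe2f8))
(.node 4347 (.leaf 0xe312)
(.leaf 0xe317)))
(.node 4350 (.node 4349 (.leaf 0xe332)
(.leaf 0xe337))
(.node 4351 (.leaf 0xe346)
(.leaf 0xe358)))))))))

/-- part of a trie -/
def parPart17 : Tr :=
(.node 4480 (.node 4416 (.node 4384 (.node 4368 (.node 4360 (.node 4356 (.node 4354 (.node 4353 (.leaf 0xe375)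
(.leaf 0xe377))
(.node 4355 (.leaf 0xe384)
(.leaf 0xe387)))
(.node 4358 (.node 4357 (.leaf 0xe398)
(.leaf 0xe3a3))
(.node 4359 (.leaf 0xe3a7)
(.leaf 0xe3b6))))
(.node 4364 (.node 4362 (.node 4361 (.leaf 0xe3b8)
(.leaf 0xe3c7))
(.node 4363 (.leaf 0xe3d6)
(.leaf 0xe3e2)))
(.node 4366 (.node 4365 (.leaf 0xe3e7)
(.leaf 0xe3f6))
(.node 4367 (.leaf 0xe3f8)
(.leaf 0xe408)))))
(.node 4376 (.node 4372 (.node 4370 (.node 4369 (.leaf 0xe40b)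
(.leaf 0xe421))
(.node 4371 (.leaf 0xe427)
(.leaf 0xe436)))
(.node 4374 (.node 4373 (.leaf 0xe438)
(.leaf 0xe445))
(.node 4375 (.leaf 0xe448)
(.leaf 0xe44b))))
(.node 4380 (.node 4378 (.node 4377 (.leaf 0xe467)
(.leaf 0xe48b))
(.node 4379 (.leaf 0xe4a4)
(.leaf 0xe4a7)))
(.node 4382 (.node 4381 (.leaf 0xe4b3)
(.leaf 0xe4b7))
(.node 4383 (.leaf 0xe4c6)
(.leaf 0xe4d3))))))
(.node 4400 (.node 4392 (.node 4388 (.node 4386 (.node 4385 (.leaf 0xe4d7)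
(.leaf 0xe4e8))
(.node 4387 (.leaf 0xe4f9)
(.leaf 0xe502)))
(.node 4390 (.node 4389 (.leaf 0xe507)
(.leaf 0xe516))
(.node 4391 (.leaf 0xe518)
(.leaf 0xe528))))
(.node 4396 (.node 4394 (.node 4393 (.leaf 0xe52b)
(.leaf 0xe546))
(.node 4395 (.leaf 0xe55b)
(.leaf 0xe562)))
(.node 4398 (.node 4397 (.leaf 0xe567)
(.leaf 0xe576))
(.node 4399 (.leaf 0xe581)
(.leaf 0xe587)))))
(.node 4408 (.node 4404 (.node 4402 (.node 4401 (.leaf 0xe596)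
(.leaf 0xe598))
(.node 4403 (.leaf 0xe5a5)
(.leaf 0xe5a8)))
(.node 4406 (.node 4405 (.leaf 0xe5ab)
(.leaf 0xe5c7))
(.node 4407 (.leaf 0xe5cb)
(.leaf 0xe5dc))))
(.node 4412 (.node 4410 (.node 4409 (.leaf 0xe5e6)
(.leaf 0xe5e8))
(.node 4411 (.leaf 0xe5f5)
(.leaf 0xe5f8)))
(.node 4414 (.node 4413 (.leaf 0xe609)
(.leaf 0xe626))
(.node 4415 (.leaf 0xe635)
(.leaf 0xe638)))))))
(.node 4448 (.node 4432 (.node 4424 (.node 4420 (.node 4418 (.node 4417 (.leaf 0xe648)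
(.leaf 0xe64b))
(.node 4419 (.leaf 0xe657)
(.leaf 0xe659)))
(.node 4422 (.node 4421 (.leaf 0xe65b)
(.leaf 0xe67a))
(.node 4423 (.leaf 0xe68b)
(.leaf 0xe6a7))))
(.node 4428 (.node 4426 (.node 4425 (.leaf 0xe6b6)
(.leaf 0xe6c5))
(.node 4427 (.leaf 0xe6c8)
(.leaf 0xe6e7)))
(.node 4430 (.node 4429 (.leaf 0xe6eb)
(.leaf 0xe6f6))
(.node 4431 (.leaf 0xe6f8)
(.leaf 0xe705)))))
(.node 4440 (.node 4436 (.node 4434 (.node 4433 (.leaf 0xe70b)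
(.leaf 0xe71b))
(.node 4435 (.leaf 0xe726)
(.leaf 0xe736)))
(.node 4438 (.node 4437 (.leaf 0xe745)
(.leaf 0xe747))
(.node 4439 (.leaf 0xe768)
(.leaf 0xe76b))))
(.node 4444 (.node 4442 (.node 4441 (.leaf 0xe772)
(.leaf 0xe777))
(.node 4443 (.leaf 0xe786)
(.leaf 0xe788)))
(.node 4446 (.node 4445 (.leaf 0xe798)
(.leaf 0xe7a9))
(.node 4447 (.leaf 0xe7ba)
(.leaf 0xe7c6))))))
(.node 4464 (.node 4456 (.node 4452 (.node 4450 (.node 4449 (.leaf 0xe7d5)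
(.leaf 0xe7d8))
(.node 4451 (.leaf 0xe7fb)
(.leaf 0xe816)))
(.node 4454 (.node 4453 (.leaf 0xe825)
(.leaf 0xe828))
(.node 4455 (.leaf 0xe839)
(.leaf 0xe847))))
(.node 4460 (.node 4458 (.node 4457 (.leaf 0xe849)
(.leaf 0xe84b))
(.node 4459 (.leaf 0xe877)
(.leaf 0xe886)))
(.node 4462 (.node 4461 (.leaf 0xe888)
(.leaf 0xe898))
(.node 4463 (.leaf 0xe8c5)
(.leaf 0xe8c8)))))
(.node 4472 (.node 4468 (.node 4466 (.node 4465 (.leaf 0xe8d9)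
(.leaf 0xe8e8))
(.node 4467 (.leaf 0xe90c)
(.leaf 0xe918)))
(.node 4470 (.node 4469 (.leaf 0xe93a)
(.leaf 0xe945))
(.node 4471 (.leaf 0xe948)
(.leaf 0xe964))))
(.node 4476 (.node 4474 (.node 4473 (.leaf 0xe968)
(.leaf 0xe989))
(.node 4475 (.leaf 0xe99a)
(.leaf 0xe9b5)))
(.node 4478 (.node 4477 (.leaf 0xe9c8)
(.leaf 0xe9d7))
(.node 4479 (.leaf 0xe9d9)
(.leaf 0xe9db))))))))
(.node 4544 (.node 4512 (.node 4496 (.node 4488 (.node 4484 (.node 4482 (.node 4481 (.leaf 0xe9f9)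
(.leaf 0xe9fb))
(.node 4483 (.leaf 0xea0b)
(.leaf 0xea2c)))
(.node 4486 (.node 4485 (.leaf 0xea36)
(.leaf 0xea3c))
(.node 4487 (.leaf 0xea67)
(.leaf 0xea76))))
(.node 4492 (.node 4490 (.node 4489 (.leaf 0xea78)
(.leaf 0xea97))
(.node 4491 (.leaf 0xeab6)
(.leaf 0xeab8)))
(.node 4494 (.node 4493 (.leaf 0xeac8)
(.leaf 0xeae8))
(.node 4495 (.leaf 0xeb17)
(.leaf 0xeb26)))))
(.node 4504 (.node 4500 (.node 4498 (.node 4497 (.leaf 0xeb28)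
(.leaf 0xeb38))
(.node 4499 (.leaf 0xeb3b)
(.leaf 0xeb51)))
(.node 4502 (.node 4501 (.leaf 0xeb57)
(.leaf 0xeb68))
(.node 4503 (.leaf 0xeb78)
(.leaf 0xeb97))))
(.node 4508 (.node 4506 (.node 4505 (.leaf 0xeba8)
(.leaf 0xebc7))
(.node 4507 (.leaf 0xebe8)
(.leaf 0xec08)))
(.node 4510 (.node 4509 (.leaf 0xec19)
(.leaf 0xec27))
(.node 4511 (.leaf 0xec36)
(.leaf 0xec38))))))
(.node 4528 (.node 4520 (.node 4516 (.node 4514 (.node 4513 (.leaf 0xec48)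
(.leaf 0xec59))
(.node 4515 (.leaf 0xec69)
(.leaf 0xeca8)))
(.node 4518 (.node 4517 (.leaf 0xecc7)
(.leaf 0xecd6))
(.node 4519 (.leaf 0xeceb)
(.leaf 0xed07))))
(.node 4524 (.node 4522 (.node 4521 (.leaf 0xed16)
(.leaf 0xed18))
(.node 4523 (.leaf 0xed28)
(.leaf 0xed46)))
(.node 4526 (.node 4525 (.leaf 0xed48)
(.leaf 0xed55))
(.node 4527 (.leaf 0xed58)
(.leaf 0xed69)))))
(.node 4536 (.node 4532 (.node 4530 (.node 4529 (.leaf 0xed77)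
(.leaf 0xed89))
(.node 4531 (.leaf 0xed95)
(.leaf 0xed98)))
(.node 4534 (.node 4533 (.leaf 0xeda9)
(.leaf 0xedb8))
(.node 4535 (.leaf 0xedbb)
(.leaf 0xedc9))))
(.node 4540 (.node 4538 (.node 4537 (.leaf 0xedea)
(.leaf 0xee08))
(.node 4539 (.leaf 0xee17)
(.leaf 0xee19)))
(.node 4542 (.node 4541 (.leaf 0xee1b)
(.leaf 0xee37))
(.node 4543 (.leaf 0xee39)
(.leaf 0xee5a)))))))
(.node 4576 (.node 4560 (.node 4552 (.node 4548 (.node 4546 (.node 4545 (.leaf 0xee86)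
(.leaf 0xeea5))
(.node 4547 (.leaf 0xeec7)
(.leaf 0xeed6)))
(.node 4550 (.node 4549 (.leaf 0xeed8)
(.leaf 0xeee8))
(.node 4551 (.leaf 0xeef9)
(.leaf 0xef1a))))
(.node 4556 (.node 4554 (.node 4553 (.leaf 0xef38)
(.leaf 0xef49))
(.node 4555 (.leaf 0xef57)
(.leaf 0xef68)))
(.node 4558 (.node 4557 (.leaf 0xef77)
(.leaf 0xef79))
(.node 4559 (.leaf 0xefd4)
(.leaf 0xefd8)))))
(.node 4568 (.node 4564 (.node 4562 (.node 4561 (.leaf 0xeff8)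
(.leaf 0xf019))
(.node 4563 (.leaf 0xf03a)
(.leaf 0xf087)))
(.node 4566 (.node 4565 (.leaf 0xf0ac)
(.leaf 0xf0bb))
(.node 4567 (.leaf 0xf0c6)
(.leaf 0xf0d5))))
(.node 4572 (.node 4570 (.node 4569 (.leaf 0xf0d7)
(.leaf 0xf0e4))
(.node 4571 (.leaf 0xf0e7)
(.leaf 0xf117)))
(.node 4574 (.node 4573 (.leaf 0xf128)
(.leaf 0xf137))
(.node 4575 (.leaf 0xf146)
(.leaf 0xf148))))))
(.node 4592 (.node 4584 (.node 4580 (.node 4578 (.node 4577 (.leaf 0xf164)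
(.leaf 0xf167))
(.node 4579 (.leaf 0xf178)
(.leaf 0xf183)))
(.node 4582 (.node 4581 (.leaf 0xf187)
(.leaf 0xf196))
(.node 4583 (.leaf 0xf198)
(.leaf 0xf1b7))))
(.node 4588 (.node 4586 (.node 4585 (.leaf 0xf1c6)
(.leaf 0xf1c8))
(.node 4587 (.leaf 0xf1e7)
(.leaf 0xf1f6)))
(.node 4590 (.node 4589 (.leaf 0xf1f8)
(.leaf 0xf208))
(.node 4591 (.leaf 0xf219)
(.leaf 0xf226)))))
(.node 4600 (.node 4596 (.node 4594 (.node 4593 (.leaf 0xf228)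
(.leaf 0xf238))
(.node 4595 (.leaf 0xf276)
(.leaf 0xf278)))
(.node 4598 (.node 4597 (.leaf 0xf296)
(.leaf 0xf298))
(.node 4599 (.leaf 0xf2a8)
(.leaf 0xf2d6))))
(.node 4604 (.node 4602 (.node 4601 (.leaf 0xf2d8)
(.leaf 0xf2e8))
(.node 4603 (.leaf 0xf2f9)
(.leaf 0xf308)))
(.node 4606 (.node 4605 (.leaf 0xf318)
(.leaf 0xf329))
(.node 4607 (.leaf 0xf337)
(.leaf 0xf339)))))))))

/-- part of a trie -/
def parPart18 : Tr :=
(.node 4736 (.node 4672 (.node 4640 (.node 4624 (.node 4616 (.node 4612 (.node 4610 (.node 4609 (.leaf 0xf33b)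
(.leaf 0xf399))
(.node 4611 (.leaf 0xf3eb)
(.leaf 0xf3f6)))
(.node 4614 (.node 4613 (.leaf 0xf405)
(.leaf 0xf407))
(.node 4615 (.leaf 0xf416)
(.leaf 0xf425))))
(.node 4620 (.node 4618 (.node 4617 (.leaf 0xf427)
(.leaf 0xf437))
(.node 4619 (.leaf 0xf457)
(.leaf 0xf468)))
(.node 4622 (.node 4621 (.leaf 0xf472)
(.leaf 0xf477))
(.node 4623 (.leaf 0xf486)
(.leaf 0xf488)))))
(.node 4632 (.node 4628 (.node 4626 (.node 4625 (.leaf 0xf4ac)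
(.leaf 0xf4c6))
(.node 4627 (.leaf 0xf4d5)
(.leaf 0xf4f5)))
(.node 4630 (.node 4629 (.leaf 0xf4f7)
(.leaf 0xf515))
(.node 4631 (.leaf 0xf524)
(.leaf 0xf544))))
(.node 4636 (.node 4634 (.node 4633 (.leaf 0xf547)
(.leaf 0xf558))
(.node 4635 (.leaf 0xf563)
(.leaf 0xf567)))
(.node 4638 (.node 4637 (.leaf 0xf576)
(.leaf 0xf578))
(.node 4639 (.leaf 0xf589)
(.leaf 0xf593))))))
(.node 4656 (.node 4648 (.node 4644 (.node 4642 (.node 4641 (.leaf 0xf597)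
(.leaf 0xf5a6))
(.node 4643 (.leaf 0xf5a8)
(.leaf 0xf5c2)))
(.node 4646 (.node 4645 (.leaf 0xf5c7)
(.leaf 0xf5d6))
(.node 4647 (.leaf 0xf5d8)
(.leaf 0xf5e9))))
(.node 4652 (.node 4650 (.node 4649 (.leaf 0xf5f7)
(.leaf 0xf606))
(.node 4651 (.leaf 0xf608)
(.leaf 0xf618)))
(.node 4654 (.node 4653 (.leaf 0xf638)
(.leaf 0xf645))
(.node 4655 (.leaf 0xf648)
(.leaf 0xf659)))))
(.node 4664 (.node 4660 (.node 4658 (.node 4657 (.leaf 0xf667)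
(.leaf 0xf669))
(.node 4659 (.leaf 0xf696)
(.leaf 0xf6a7)))
(.node 4662 (.node 4661 (.leaf 0xf6b4)
(.leaf 0xf6b7))
(.node 4663 (.leaf 0xf6c8)
(.leaf 0xf6f4))))
(.node 4668 (.node 4666 (.node 4665 (.leaf 0xf703)
(.leaf 0xf707))
(.node 4667 (.leaf 0xf716)
(.leaf 0xf718)))
(.node 4670 (.node 4669 (.leaf 0xf747)
(.leaf 0xf756))
(.node 4671 (.leaf 0xf758)
(.leaf 0xf768)))))))
(.node 4704 (.node 4688 (.node 4680 (.node 4676 (.node 4674 (.node 4673 (.leaf 0xf76b)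
(.leaf 0xf779))
(.node 4675 (.leaf 0xf783)
(.leaf 0xf787)))
(.node 4678 (.node 4677 (.leaf 0xf796)
(.leaf 0xf798))
(.node 4679 (.leaf 0xf7a2)
(.leaf 0xf7a7))))
(.node 4684 (.node 4682 (.node 4681 (.leaf 0xf7b6)
(.leaf 0xf7b8))
(.node 4683 (.leaf 0xf7c8)
(.leaf 0xf7cb)))
(.node 4686 (.node 4685 (.leaf 0xf7d9)
(.leaf 0xf7f7))
(.node 4687 (.leaf 0xf806)
(.leaf 0xf808)))))
(.node 4696 (.node 4692 (.node 4690 (.node 4689 (.leaf 0xf818)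
(.leaf 0xf837))
(.node 4691 (.leaf 0xf846)
(.leaf 0xf848)))
(.node 4694 (.node 4693 (.leaf 0xf855)
(.leaf 0xf858))
(.node 4695 (.leaf 0xf85b)
(.leaf 0xf869))))
(.node 4700 (.node 4698 (.node 4697 (.leaf 0xf879)
(.leaf 0xf87b))
(.node 4699 (.leaf 0xf89a)
(.leaf 0xf8a7)))
(.node 4702 (.node 4701 (.leaf 0xf8c8)
(.leaf 0xf8d7))
(.node 4703 (.leaf 0xf8d9)
(.leaf 0xf8ea))))))
(.node 4720 (.node 4712 (.node 4708 (.node 4706 (.node 4705 (.leaf 0xf8f9)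
(.leaf 0xf917))
(.node 4707 (.leaf 0xf935)
(.leaf 0xf938)))
(.node 4710 (.node 4709 (.leaf 0xf93b)
(.leaf 0xf957))
(.node 4711 (.leaf 0xf976)
(.leaf 0xf985))))
(.node 4716 (.node 4714 (.node 4713 (.leaf 0xf998)
(.leaf 0xf9a7))
(.node 4715 (.leaf 0xf9ab)
(.leaf 0xf9e2)))
(.node 4718 (.node 4717 (.leaf 0xf9e7)
(.leaf 0xf9f6))
(.node 4719 (.leaf 0xf9f8)
(.leaf 0xfa08)))))
(.node 4728 (.node 4724 (.node 4722 (.node 4721 (.leaf 0xfa27)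
(.leaf 0xfa36))
(.node 4723 (.leaf 0xfa38)
(.leaf 0xfa45)))
(.node 4726 (.node 4725 (.leaf 0xfa48)
(.leaf 0xfa4b))
(.node 4727 (.leaf 0xfa67)
(.leaf 0xfa87))))
(.node 4732 (.node 4730 (.node 4729 (.leaf 0xfa97)
(.leaf 0xfaa8))
(.node 4731 (.leaf 0xfac7)
(.leaf 0xfae7)))
(.node 4734 (.node 4733 (.leaf 0xfaf6)
(.leaf 0xfaf8))
(.node 4735 (.leaf 0xfb08)
(.leaf 0xfb27))))))))
(.node 4800 (.node 4768 (.node 4752 (.node 4744 (.node 4740 (.node 4738 (.node 4737 (.leaf 0xfb36)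
(.leaf 0xfb38))
(.node 4739 (.leaf 0xfb48)
(.leaf 0xfb59)))
(.node 4742 (.node 4741 (.leaf 0xfb67)
(.leaf 0xfb69))
(.node 4743 (.leaf 0xfb6b)
(.leaf 0xfb86))))
(.node 4748 (.node 4746 (.node 4745 (.leaf 0xfb88)
(.leaf 0xfb95))
(.node 4747 (.leaf 0xfb98)
(.leaf 0xfb9b)))
(.node 4750 (.node 4749 (.leaf 0xfba9)
(.leaf 0xfbb8))
(.node 4751 (.leaf 0xfbc7)
(.leaf 0xfbc9)))))
(.node 4760 (.node 4756 (.node 4754 (.node 4753 (.leaf 0xfbea)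
(.leaf 0xfc27))
(.node 4755 (.leaf 0xfc4b)
(.leaf 0xfc86)))
(.node 4758 (.node 4757 (.leaf 0xfc88)
(.leaf 0xfcb6))
(.node 4759 (.leaf 0xfcc5)
(.leaf 0xfcc8))))
(.node 4764 (.node 4762 (.node 4761 (.leaf 0xfccb)
(.leaf 0xfceb))
(.node 4763 (.leaf 0xfd06)
(.leaf 0xfd08)))
(.node 4766 (.node 4765 (.leaf 0xfd15)
(.leaf 0xfd18))
(.node 4767 (.leaf 0xfd37)
(.leaf 0xfd39))))))
(.node 4784 (.node 4776 (.node 4772 (.node 4770 (.node 4769 (.leaf 0xfd58)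
(.leaf 0xfd69))
(.node 4771 (.leaf 0xfd78)
(.leaf 0xfd7b)))
(.node 4774 (.node 4773 (.leaf 0xfd89)
(.leaf 0xfd8b))
(.node 4775 (.leaf 0xfdbb)
(.leaf 0xfdca))))
(.node 4780 (.node 4778 (.node 4777 (.leaf 0xfe65)
(.leaf 0xfe68))
(.node 4779 (.leaf 0xfe88)
(.leaf 0xfeb6)))
(.node 4782 (.node 4781 (.leaf 0xfee7)
(.leaf 0xfef6))
(.node 4783 (.leaf 0xff05)
(.leaf 0xff0b)))))
(.node 4792 (.node 4788 (.node 4786 (.node 4785 (.leaf 0xff96)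
(.leaf 0xffa5))
(.node 4787 (.leaf 0xffa8)
(.leaf 0xffcb)))
(.node 4790 (.node 4789 (.leaf 0xffd6)
(.leaf 0xffe5))
(.node 4791 (.leaf 0xffe7)
(.leaf 0xfff4))))
(.node 4796 (.node 4794 (.node 4793 (.leaf 0xfff7)
(.leaf 0x10015))
(.node 4795 (.leaf 0x10024)
(.leaf 0x10027)))
(.node 4798 (.node 4797 (.leaf 0x10038)
(.leaf 0x10043))
(.node 4799 (.leaf 0x10063)
(.leaf 0x10067)))))))
(.node 4832 (.node 4816 (.node 4808 (.node 4804 (.node 4802 (.node 4801 (.leaf 0x10076)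
(.leaf 0x10078))
(.node 4803 (.leaf 0x10096)
(.leaf 0x100b1)))
(.node 4806 (.node 4805 (.leaf 0x100b7)
(.leaf 0x100c6))
(.node 4807 (.leaf 0x100c8)
(.leaf 0x100d5))))
(.node 4812 (.node 4810 (.node 4809 (.leaf 0x100d8)
(.leaf 0x100db))
(.node 4811 (.leaf 0x100e9)
(.leaf 0x1010a)))
(.node 4814 (.node 4813 (.leaf 0x10125)
(.leaf 0x10127))
(.node 4815 (.leaf 0x10134)
(.leaf 0x10137)))))
(.node 4824 (.node 4820 (.node 4818 (.node 4817 (.leaf 0x10148)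
(.leaf 0x10153))
(.node 4819 (.leaf 0x10157)
(.leaf 0x10166)))
(.node 4822 (.node 4821 (.leaf 0x10168)
(.leaf 0x10187))
(.node 4823 (.leaf 0x10196)
(.leaf 0x10198))))
(.node 4828 (.node 4826 (.node 4825 (.leaf 0x101a8)
(.leaf 0x101c3))
(.node 4827 (.leaf 0x101c7)
(.leaf 0x101d6)))
(.node 4830 (.node 4829 (.leaf 0x101d8)
(.leaf 0x101e9))
(.node 4831 (.leaf 0x101f2)
(.leaf 0x101f7))))))
(.node 4848 (.node 4840 (.node 4836 (.node 4834 (.node 4833 (.leaf 0x10206)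
(.leaf 0x10208))
(.node 4835 (.leaf 0x10218)
(.leaf 0x1021b)))
(.node 4838 (.node 4837 (.leaf 0x10229)
(.leaf 0x10242))
(.node 4839 (.leaf 0x10247)
(.leaf 0x10256))))
(.node 4844 (.node 4842 (.node 4841 (.leaf 0x10268)
(.leaf 0x10286))
(.node 4843 (.leaf 0x10288)
(.leaf 0x10295)))
(.node 4846 (.node 4845 (.leaf 0x10298)
(.leaf 0x1029b))
(.node 4847 (.leaf 0x102a9)
(.leaf 0x102b7)))))
(.node 4856 (.node 4852 (.node 4850 (.node 4849 (.leaf 0x102bb)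
(.leaf 0x102d7))
(.node 4851 (.leaf 0x102db)
(.leaf 0x102f7)))
(.node 4854 (.node 4853 (.leaf 0x10306)
(.leaf 0x10308))
(.node 4855 (.leaf 0x10315)
(.leaf 0x10318))))
(.node 4860 (.node 4858 (.node 4857 (.leaf 0x1031b)
(.leaf 0x10338))
(.node 4859 (.leaf 0x1033b)
(.leaf 0x10347)))
(.node 4862 (.node 4861 (.leaf 0x10349)
(.leaf 0x1034b))
(.node 4863 (.leaf 0x10379)
(.leaf 0x10396)))))))))

/-- part of a trie -/
def parPart19 : Tr :=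
(.node 4992 (.node 4928 (.node 4896 (.node 4880 (.node 4872 (.node 4868 (.node 4866 (.node 4865 (.leaf 0x10398)
(.leaf 0x103a5))
(.node 4867 (.leaf 0x103ab)
(.leaf 0x103b9)))
(.node 4870 (.node 4869 (.leaf 0x103c7)
(.leaf 0x103cb))
(.node 4871 (.leaf 0x103f5)
(.leaf 0x103f8))))
(.node 4876 (.node 4874 (.node 4873 (.leaf 0x103fb)
(.leaf 0x10409))
(.node 4875 (.leaf 0x10418)
(.leaf 0x1041b)))
(.node 4878 (.node 4877 (.leaf 0x1042b)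
(.leaf 0x10465))
(.node 4879 (.leaf 0x10467)
(.leaf 0x10497)))))
(.node 4888 (.node 4884 (.node 4882 (.node 4881 (.leaf 0x104b7)
(.leaf 0x104c6))
(.node 4883 (.leaf 0x104c8)
(.leaf 0x104d8)))
(.node 4886 (.node 4885 (.leaf 0x104db)
(.leaf 0x104e9))
(.node 4887 (.leaf 0x104f7)
(.leaf 0x10506))))
(.node 4892 (.node 4890 (.node 4889 (.leaf 0x10508)
(.leaf 0x10518))
(.node 4891 (.leaf 0x10536)
(.leaf 0x10538)))
(.node 4894 (.node 4893 (.leaf 0x10548)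
(.leaf 0x10559))
(.node 4895 (.leaf 0x10572)
(.leaf 0x10577))))))
(.node 4912 (.node 4904 (.node 4900 (.node 4898 (.node 4897 (.leaf 0x10586)
(.leaf 0x10588))
(.node 4899 (.leaf 0x10599)
(.leaf 0x105b7)))
(.node 4902 (.node 4901 (.leaf 0x105c6)
(.leaf 0x105c8))
(.node 4903 (.leaf 0x105d5)
(.leaf 0x105d8))))
(.node 4908 (.node 4906 (.node 4905 (.leaf 0x105db)
(.leaf 0x105e9))
(.node 4907 (.leaf 0x105f7)
(.leaf 0x105f9)))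
(.node 4910 (.node 4909 (.leaf 0x105fb)
(.leaf 0x10621))
(.node 4911 (.leaf 0x10627)
(.leaf 0x10636)))))
(.node 4920 (.node 4916 (.node 4914 (.node 4913 (.leaf 0x10638)
(.leaf 0x10648))
(.node 4915 (.leaf 0x10677)
(.leaf 0x10686)))
(.node 4918 (.node 4917 (.leaf 0x10688)
(.leaf 0x10695))
(.node 4919 (.leaf 0x10698)
(.leaf 0x1069b))))
(.node 4924 (.node 4922 (.node 4921 (.leaf 0x106a9)
(.leaf 0x106b7))
(.node 4923 (.leaf 0x106b9)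
(.leaf 0x106ea)))
(.node 4926 (.node 4925 (.leaf 0x10708)
(.leaf 0x10717))
(.node 4927 (.leaf 0x10728)
(.leaf 0x10747)))))))
(.node 4960 (.node 4944 (.node 4936 (.node 4932 (.node 4930 (.node 4929 (.leaf 0x10749)
(.leaf 0x10759))
(.node 4931 (.leaf 0x10785)
(.leaf 0x10798)))
(.node 4934 (.node 4933 (.leaf 0x107a7)
(.leaf 0x107ab))
(.node 4935 (.leaf 0x107c4)
(.leaf 0x107c8))))
(.node 4940 (.node 4938 (.node 4937 (.leaf 0x107cb)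
(.leaf 0x107d9))
(.node 4939 (.leaf 0x10807)
(.leaf 0x10816)))
(.node 4942 (.node 4941 (.leaf 0x10818)
(.leaf 0x10828))
(.node 4943 (.leaf 0x1082b)
(.leaf 0x10847)))))
(.node 4952 (.node 4948 (.node 4946 (.node 4945 (.leaf 0x10857)
(.leaf 0x10866))
(.node 4947 (.leaf 0x10868)
(.leaf 0x10881)))
(.node 4950 (.node 4949 (.leaf 0x10887)
(.leaf 0x10898))
(.node 4951 (.leaf 0x108a8)
(.leaf 0x108ab))))
(.node 4956 (.node 4954 (.node 4953 (.leaf 0x108b9)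
(.leaf 0x108d7))
(.node 4955 (.leaf 0x108e6)
(.leaf 0x108e8)))
(.node 4958 (.node 4957 (.leaf 0x108f8)
(.leaf 0x10909))
(.node 4959 (.leaf 0x10918)
(.leaf 0x10927))))))
(.node 4976 (.node 4968 (.node 4964 (.node 4962 (.node 4961 (.leaf 0x10929)
(.leaf 0x1092b))
(.node 4963 (.leaf 0x10958)
(.leaf 0x10986)))
(.node 4966 (.node 4965 (.leaf 0x10995)
(.leaf 0x10998))
(.node 4967 (.leaf 0x109a9)
(.leaf 0x109b7))))
(.node 4972 (.node 4970 (.node 4969 (.leaf 0x109b9)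
(.leaf 0x109bb))
(.node 4971 (.leaf 0x109e8)
(.leaf 0x10a07)))
(.node 4974 (.node 4973 (.leaf 0x10a16)
(.leaf 0x10a18))
(.node 4975 (.leaf 0x10a25)
(.leaf 0x10a28)))))
(.node 4984 (.node 4980 (.node 4978 (.node 4977 (.leaf 0x10a39)
(.leaf 0x10a48))
(.node 4979 (.leaf 0x10a57)
(.leaf 0x10a5b)))
(.node 4982 (.node 4981 (.leaf 0x10a89)
(.leaf 0x10aa6))
(.node 4983 (.leaf 0x10aa8)
(.leaf 0x10ab5))))
(.node 4988 (.node 4986 (.node 4985 (.leaf 0x10ab8)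
(.leaf 0x10ac9))
(.node 4987 (.leaf 0x10ad8)
(.leaf 0x10adb)))
(.node 4990 (.node 4989 (.leaf 0x10ae7)
(.leaf 0x10ae9))
(.node 4991 (.leaf 0x10aeb)
(.leaf 0x10afc))))))))
(.node 5056 (.node 5024 (.node 5008 (.node 5000 (.node 4996 (.node 4994 (.node 4993 (.leaf 0x10b19)
(.leaf 0x10b36))
(.node 4995 (.leaf 0x10b38)
(.leaf 0x10b48)))
(.node 4998 (.node 4997 (.leaf 0x10b64)
(.leaf 0x10b68))
(.node 4999 (.leaf 0x10b6b)
(.leaf 0x10b77))))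
(.node 5004 (.node 5002 (.node 5001 (.leaf 0x10b7b)
(.leaf 0x10b97))
(.node 5003 (.leaf 0x10b99)
(.leaf 0x10bab)))
(.node 5006 (.node 5005 (.leaf 0x10bc6)
(.leaf 0x10c06))
(.node 5007 (.leaf 0x10c18)
(.leaf 0x10c29)))))
(.node 5016 (.node 5012 (.node 5010 (.node 5009 (.leaf 0x10c39)
(.leaf 0x10c57))
(.node 5011 (.leaf 0x10c66)
(.leaf 0x10c75)))
(.node 5014 (.node 5013 (.leaf 0x10c78)
(.leaf 0x10c89))
(.node 5015 (.leaf 0x10c98)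
(.leaf 0x10ca7))))
(.node 5020 (.node 5018 (.node 5017 (.leaf 0x10cd6)
(.leaf 0x10cd8))
(.node 5019 (.leaf 0x10ce8)
(.leaf 0x10d04)))
(.node 5022 (.node 5021 (.leaf 0x10d08)
(.leaf 0x10d0b))
(.node 5023 (.leaf 0x10d19)
(.leaf 0x10d49))))))
(.node 5040 (.node 5032 (.node 5028 (.node 5026 (.node 5025 (.leaf 0x10d56)
(.leaf 0x10dc8))
(.node 5027 (.leaf 0x10de6)
(.leaf 0x10df7)))
(.node 5030 (.node 5029 (.leaf 0x10e05)
(.leaf 0x10e83))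
(.node 5031 (.leaf 0x10e87)
(.leaf 0x10e96))))
(.node 5036 (.node 5034 (.node 5033 (.leaf 0x10ea6)
(.leaf 0x10ec2))
(.node 5035 (.leaf 0x10ec7)
(.leaf 0x10ed6)))
(.node 5038 (.node 5037 (.leaf 0x10efb)
(.leaf 0x10f04))
(.node 5039 (.leaf 0x10f07)
(.leaf 0x10f18)))))
(.node 5048 (.node 5044 (.node 5042 (.node 5041 (.leaf 0x10f23)
(.leaf 0x10f27))
(.node 5043 (.leaf 0x10f36)
(.leaf 0x10f38)))
(.node 5046 (.node 5045 (.leaf 0x10f57)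
(.leaf 0x10f66))
(.node 5047 (.leaf 0x10f76)
(.leaf 0x10f78))))
(.node 5052 (.node 5050 (.node 5049 (.leaf 0x10f88)
(.leaf 0x10fa1))
(.node 5051 (.leaf 0x10fa7)
(.leaf 0x10fb8)))
(.node 5054 (.node 5053 (.leaf 0x10fc7)
(.leaf 0x10fd6))
(.node 5055 (.leaf 0x10feb)
(.leaf 0x10ff7)))))))
(.node 5088 (.node 5072 (.node 5064 (.node 5060 (.node 5058 (.node 5057 (.leaf 0x10ffb)
(.leaf 0x11004))
(.node 5059 (.leaf 0x11007)
(.leaf 0x11018)))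
(.node 5062 (.node 5061 (.leaf 0x11023)
(.leaf 0x11027))
(.node 5063 (.leaf 0x11036)
(.leaf 0x11038))))
(.node 5068 (.node 5066 (.node 5065 (.leaf 0x11057)
(.leaf 0x11066))
(.node 5067 (.leaf 0x11068)
(.leaf 0x1107b)))
(.node 5070 (.node 5069 (.leaf 0x11089)
(.leaf 0x11096))
(.node 5071 (.leaf 0x110ab)
(.leaf 0x110b1)))))
(.node 5080 (.node 5076 (.node 5074 (.node 5073 (.leaf 0x110b7)
(.leaf 0x110c6))
(.node 5075 (.leaf 0x110c8)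
(.leaf 0x110d5)))
(.node 5078 (.node 5077 (.leaf 0x110d8)
(.leaf 0x110db))
(.node 5079 (.leaf 0x110f7)
(.leaf 0x110fb))))
(.node 5084 (.node 5082 (.node 5081 (.leaf 0x1110c)
(.leaf 0x11117))
(.node 5083 (.leaf 0x11126)
(.leaf 0x11128)))
(.node 5086 (.node 5085 (.leaf 0x11135)
(.leaf 0x11138))
(.node 5087 (.leaf 0x11158)
(.leaf 0x1115b))))))
(.node 5104 (.node 5096 (.node 5092 (.node 5090 (.node 5089 (.leaf 0x11167)
(.leaf 0x1116b))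
(.node 5091 (.leaf 0x11196)
(.leaf 0x111a3)))
(.node 5094 (.node 5093 (.leaf 0x111a7)
(.leaf 0x111b6))
(.node 5095 (.leaf 0x111c2)
(.leaf 0x111c7))))
(.node 5100 (.node 5098 (.node 5097 (.leaf 0x111d6)
(.leaf 0x111eb))
(.node 5099 (.leaf 0x111f2)
(.leaf 0x111f7)))
(.node 5102 (.node 5101 (.leaf 0x11206)
(.leaf 0x11208))
(.node 5103 (.leaf 0x11219)
(.leaf 0x11231)))))
(.node 5112 (.node 5108 (.node 5106 (.node 5105 (.leaf 0x11237)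
(.leaf 0x11246))
(.node 5107 (.leaf 0x11248)
(.leaf 0x11255)))
(.node 5110 (.node 5109 (.leaf 0x11258)
(.leaf 0x1125b))
(.node 5111 (.leaf 0x11277)
(.leaf 0x1127b))))
(.node 5116 (.node 5114 (.node 5113 (.leaf 0x11295)
(.leaf 0x1129b))
(.node 5115 (.leaf 0x112ac)
(.leaf 0x112b7)))
(.node 5118 (.node 5117 (.leaf 0x112c6)
(.leaf 0x112c8))
(.node 5119 (.leaf 0x112d8)
(.leaf 0x112e7)))))))))

/-- part of a trie -/
def parPart20 : Tr :=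
(.node 5248 (.node 5184 (.node 5152 (.node 5136 (.node 5128 (.node 5124 (.node 5122 (.node 5121 (.leaf 0x112f6)
(.leaf 0x112f8))
(.node 5123 (.leaf 0x11305)
(.leaf 0x11308)))
(.node 5126 (.node 5125 (.leaf 0x1130b)
(.leaf 0x11319))
(.node 5127 (.leaf 0x11328)
(.leaf 0x1132b))))
(.node 5132 (.node 5130 (.node 5129 (.leaf 0x11337)
(.leaf 0x1133b))
(.node 5131 (.leaf 0x1134c)
(.leaf 0x1135b)))
(.node 5134 (.node 5133 (.leaf 0x11385)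
(.leaf 0x11388))
(.node 5135 (.leaf 0x11399)
(.leaf 0x113a8)))))
(.node 5144 (.node 5140 (.node 5138 (.node 5137 (.leaf 0x113b7)
(.leaf 0x113b9))
(.node 5139 (.leaf 0x113ca)
(.leaf 0x113e8)))
(.node 5142 (.node 5141 (.leaf 0x113f7)
(.leaf 0x113fb))
(.node 5143 (.leaf 0x11407)
(.leaf 0x11409))))
(.node 5148 (.node 5146 (.node 5145 (.leaf 0x1140b)
(.leaf 0x1142b))
(.node 5147 (.leaf 0x1143a)
(.leaf 0x11466)))
(.node 5150 (.node 5149 (.leaf 0x11476)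
(.leaf 0x11485))
(.node 5151 (.leaf 0x11498)
(.leaf 0x114a7))))))
(.node 5168 (.node 5160 (.node 5156 (.node 5154 (.node 5153 (.leaf 0x114ab)
(.leaf 0x114bb))
(.node 5155 (.leaf 0x114d5)
(.leaf 0x114d8)))
(.node 5158 (.node 5157 (.leaf 0x114fb)
(.leaf 0x11516))
(.node 5159 (.leaf 0x11525)
(.leaf 0x11537))))
(.node 5164 (.node 5162 (.node 5161 (.leaf 0x11547)
(.leaf 0x11567))
(.node 5163 (.leaf 0x1156b)
(.leaf 0x11587)))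
(.node 5166 (.node 5165 (.leaf 0x11596)
(.leaf 0x11598))
(.node 5167 (.leaf 0x115a5)
(.leaf 0x115a8)))))
(.node 5176 (.node 5172 (.node 5170 (.node 5169 (.leaf 0x115b9)
(.leaf 0x115da))
(.node 5171 (.leaf 0x115f5)
(.leaf 0x115f8)))
(.node 5174 (.node 5173 (.leaf 0x11608)
(.leaf 0x1161b))
(.node 5175 (.leaf 0x1162c)
(.leaf 0x11635))))
(.node 5180 (.node 5178 (.node 5177 (.leaf 0x1163b)
(.leaf 0x11648))
(.node 5179 (.leaf 0x11657)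
(.leaf 0x11659)))
(.node 5182 (.node 5181 (.leaf 0x1165b)
(.leaf 0x11679))
(.node 5183 (.leaf 0x1167b)
(.leaf 0x1168b)))))))
(.node 5216 (.node 5200 (.node 5192 (.node 5188 (.node 5186 (.node 5185 (.leaf 0x116a6)
(.leaf 0x116a8))
(.node 5187 (.leaf 0x116b5)
(.leaf 0x116b8)))
(.node 5190 (.node 5189 (.leaf 0x116c9)
(.leaf 0x116e4))
(.node 5191 (.leaf 0x116e8)
(.leaf 0x116f9))))
(.node 5196 (.node 5194 (.node 5193 (.leaf 0x11754)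
(.leaf 0x11758))
(.node 5195 (.leaf 0x11778)
(.leaf 0x1179a)))
(.node 5198 (.node 5197 (.leaf 0x117b8)
(.leaf 0x117c7))
(.node 5199 (.leaf 0x117cb)
(.leaf 0x117d9)))))
(.node 5208 (.node 5204 (.node 5202 (.node 5201 (.leaf 0x117db)
(.leaf 0x117eb))
(.node 5203 (.leaf 0x1180b)
(.leaf 0x11847)))
(.node 5206 (.node 5205 (.leaf 0x1184c)
(.leaf 0x11866))
(.node 5207 (.leaf 0x11868)
(.leaf 0x11898))))
(.node 5212 (.node 5210 (.node 5209 (.leaf 0x118a8)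
(.leaf 0x118e6))
(.node 5211 (.leaf 0x118e8)
(.leaf 0x118f5)))
(.node 5214 (.node 5213 (.leaf 0x118f8)
(.leaf 0x1191b))
(.node 5215 (.leaf 0x11937)
(.leaf 0x11946))))))
(.node 5232 (.node 5224 (.node 5220 (.node 5218 (.node 5217 (.leaf 0x11948)
(.leaf 0x11967))
(.node 5219 (.leaf 0x119b9)
(.leaf 0x119d6)))
(.node 5222 (.node 5221 (.leaf 0x119d8)
(.leaf 0x119e8))
(.node 5223 (.leaf 0x11a09)
(.leaf 0x11a37))))
(.node 5228 (.node 5226 (.node 5225 (.leaf 0x11a46)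
(.leaf 0x11a5b))
(.node 5227 (.leaf 0x11a76)
(.leaf 0x11a78)))
(.node 5230 (.node 5229 (.leaf 0x11a88)
(.leaf 0x11a99))
(.node 5231 (.leaf 0x11ab8)
(.leaf 0x11ad8)))))
(.node 5240 (.node 5236 (.node 5234 (.node 5233 (.leaf 0x11ae7)
(.leaf 0x11ae9))
(.node 5235 (.leaf 0x11b28)
(.leaf 0x11b37)))
(.node 5238 (.node 5237 (.leaf 0x11b39)
(.leaf 0x11b57))
(.node 5239 (.leaf 0x11b59)
(.leaf 0x11b5b))))
(.node 5244 (.node 5242 (.node 5241 (.leaf 0x11b7a)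
(.leaf 0x11b97))
(.node 5243 (.leaf 0x11b99)
(.leaf 0x11bd6)))
(.node 5246 (.node 5245 (.leaf 0x11bd9)
(.leaf 0x11bea))
(.node 5247 (.leaf 0x11c05)
(.leaf 0x11c26))))))))
(.node 5312 (.node 5280 (.node 5264 (.node 5256 (.node 5252 (.node 5250 (.node 5249 (.leaf 0x11c28)
(.leaf 0x11c38))
(.node 5251 (.leaf 0x11c49)
(.leaf 0x11c6a)))
(.node 5254 (.node 5253 (.leaf 0x11c87)
(.leaf 0x11c89))
(.node 5255 (.leaf 0x11cb9)
(.leaf 0x11cc9))))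
(.node 5260 (.node 5258 (.node 5257 (.leaf 0x11cda)
(.leaf 0x11ce8))
(.node 5259 (.leaf 0x11d4b)
(.leaf 0x11d56)))
(.node 5262 (.node 5261 (.leaf 0x11d77)
(.leaf 0x11d88))
(.node 5263 (.leaf 0x11d97)
(.leaf 0x11da6)))))
(.node 5272 (.node 5268 (.node 5266 (.node 5265 (.leaf 0x11da8)
(.leaf 0x11db6))
(.node 5267 (.leaf 0x11db8)
(.leaf 0x11dd6)))
(.node 5270 (.node 5269 (.leaf 0x11dd8)
(.leaf 0x11de8))
(.node 5271 (.leaf 0x11df9)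
(.leaf 0x11e07))))
(.node 5276 (.node 5274 (.node 5273 (.leaf 0x11e16)
(.leaf 0x11e18))
(.node 5275 (.leaf 0x11e37)
(.leaf 0x11e46)))
(.node 5278 (.node 5277 (.leaf 0x11e48)
(.leaf 0x11e58))
(.node 5279 (.leaf 0x11e69)
(.leaf 0x11e76))))))
(.node 5296 (.node 5288 (.node 5284 (.node 5282 (.node 5281 (.leaf 0x11e78)
(.leaf 0x11e88))
(.node 5283 (.leaf 0x11ea6)
(.leaf 0x11ea8)))
(.node 5286 (.node 5285 (.leaf 0x11eb8)
(.leaf 0x11ec9))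
(.node 5287 (.leaf 0x11ed7)
(.leaf 0x11ed9))))
(.node 5292 (.node 5290 (.node 5289 (.leaf 0x11edb)
(.leaf 0x11ef8))
(.node 5291 (.leaf 0x11f28)
(.leaf 0x11f48)))
(.node 5294 (.node 5293 (.leaf 0x11f6b)
(.leaf 0x11f78))
(.node 5295 (.leaf 0x11f97)
(.leaf 0x11f99)))))
(.node 5304 (.node 5300 (.node 5298 (.node 5297 (.leaf 0x11feb)
(.leaf 0x11ffa))
(.node 5299 (.leaf 0x12026)
(.leaf 0x12035)))
(.node 5302 (.node 5301 (.leaf 0x12037)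
(.leaf 0x12047))
(.node 5303 (.leaf 0x12065)
(.leaf 0x12067))))
(.node 5308 (.node 5306 (.node 5305 (.leaf 0x12074)
(.leaf 0x12077))
(.node 5307 (.leaf 0x12088)
(.leaf 0x120a6)))
(.node 5310 (.node 5309 (.leaf 0x120a8)
(.leaf 0x120c7))
(.node 5311 (.leaf 0x120d6)
(.leaf 0x120d8)))))))
(.node 5344 (.node 5328 (.node 5320 (.node 5316 (.node 5314 (.node 5313 (.leaf 0x120e8)
(.leaf 0x120f9))
(.node 5315 (.leaf 0x12115)
(.leaf 0x12117)))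
(.node 5318 (.node 5317 (.leaf 0x12134)
(.leaf 0x12148))
(.node 5319 (.leaf 0x12173)
(.leaf 0x12177))))
(.node 5324 (.node 5322 (.node 5321 (.leaf 0x12188)
(.leaf 0x121a2))
(.node 5323 (.leaf 0x121a7)
(.leaf 0x121b6)))
(.node 5326 (.node 5325 (.leaf 0x121b8)
(.leaf 0x121c8))
(.node 5327 (.leaf 0x121d9)
(.leaf 0x121f7)))))
(.node 5336 (.node 5332 (.node 5330 (.node 5329 (.leaf 0x12206)
(.leaf 0x12208))
(.node 5331 (.leaf 0x12218)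
(.leaf 0x12229)))
(.node 5334 (.node 5333 (.leaf 0x12237)
(.leaf 0x12246))
(.node 5335 (.leaf 0x12248)
(.leaf 0x12258))))
(.node 5340 (.node 5338 (.node 5337 (.leaf 0x12269)
(.leaf 0x12286))
(.node 5339 (.leaf 0x12288)
(.leaf 0x12298)))
(.node 5342 (.node 5341 (.leaf 0x122b7)
(.leaf 0x122d8))
(.node 5343 (.leaf 0x122e7)
(.leaf 0x122e9))))))
(.node 5360 (.node 5352 (.node 5348 (.node 5346 (.node 5345 (.leaf 0x122fa)
(.leaf 0x12309))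
(.node 5347 (.leaf 0x12327)
(.leaf 0x12343)))
(.node 5350 (.node 5349 (.leaf 0x12347)
(.leaf 0x12356))
(.node 5351 (.leaf 0x12358)
(.leaf 0x12387))))
(.node 5356 (.node 5354 (.node 5353 (.leaf 0x12396)
(.leaf 0x12398))
(.node 5355 (.leaf 0x123a8)
(.leaf 0x123ab)))
(.node 5358 (.node 5357 (.leaf 0x123b9)
(.leaf 0x123c6))
(.node 5359 (.leaf 0x123d5)
(.leaf 0x123d8)))))
(.node 5368 (.node 5364 (.node 5362 (.node 5361 (.leaf 0x123db)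
(.leaf 0x123e9))
(.node 5363 (.leaf 0x123fb)
(.leaf 0x12422)))
(.node 5366 (.node 5365 (.leaf 0x12427)
(.leaf 0x12436))
(.node 5367 (.leaf 0x12438)
(.leaf 0x12448))))
(.node 5372 (.node 5370 (.node 5369 (.leaf 0x12459)
(.leaf 0x12467))
(.node 5371 (.leaf 0x12476)
(.leaf 0x12478)))
(.node 5374 (.node 5373 (.leaf 0x12488)
(.leaf 0x12499))
(.node 5375 (.leaf 0x124a7)
(.leaf 0x124a9)))))))))

/-- part of a trie -/
def parPart21 : Tr :=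
(.node 5504 (.node 5440 (.node 5408 (.node 5392 (.node 5384 (.node 5380 (.node 5378 (.node 5377 (.leaf 0x124ab)
(.leaf 0x124d6))
(.node 5379 (.leaf 0x124d8)
(.leaf 0x124e8)))
(.node 5382 (.node 5381 (.leaf 0x12507)
(.leaf 0x12509))
(.node 5383 (.leaf 0x12518)
(.leaf 0x12525))))
(.node 5388 (.node 5386 (.node 5385 (.leaf 0x12528)
(.leaf 0x12539))
(.node 5387 (.leaf 0x1254b)
(.leaf 0x12559)))
(.node 5390 (.node 5389 (.leaf 0x1258a)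
(.leaf 0x125b9))
(.node 5391 (.leaf 0x125c7)
(.leaf 0x125d9)))))
(.node 5400 (.node 5396 (.node 5394 (.node 5393 (.leaf 0x12616)
(.leaf 0x12628))
(.node 5395 (.leaf 0x12637)
(.leaf 0x1263b)))
(.node 5398 (.node 5397 (.leaf 0x12678)
(.leaf 0x12687))
(.node 5399 (.leaf 0x1268b)
(.leaf 0x1269b))))
(.node 5404 (.node 5402 (.node 5401 (.leaf 0x126b7)
(.leaf 0x126c6))
(.node 5403 (.leaf 0x126c8)
(.leaf 0x126d8)))
(.node 5406 (.node 5405 (.leaf 0x126f7)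
(.leaf 0x12706))
(.node 5407 (.leaf 0x12708)
(.leaf 0x12715))))))
(.node 5424 (.node 5416 (.node 5412 (.node 5410 (.node 5409 (.leaf 0x12718)
(.leaf 0x1271b))
(.node 5411 (.leaf 0x12738)
(.leaf 0x12747)))
(.node 5414 (.node 5413 (.leaf 0x12749)
(.leaf 0x1274b))
(.node 5415 (.leaf 0x12778)
(.leaf 0x12788))))
(.node 5420 (.node 5418 (.node 5417 (.leaf 0x127a8)
(.leaf 0x127b6))
(.node 5419 (.leaf 0x127b8)
(.leaf 0x127c8)))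
(.node 5422 (.node 5421 (.leaf 0x127e7)
(.leaf 0x12808))
(.node 5423 (.leaf 0x12827)
(.leaf 0x12829)))))
(.node 5432 (.node 5428 (.node 5426 (.node 5425 (.leaf 0x1282b)
(.leaf 0x12849))
(.node 5427 (.leaf 0x12878)
(.leaf 0x128a7)))
(.node 5430 (.node 5429 (.leaf 0x128d7)
(.leaf 0x128e9))
(.node 5431 (.leaf 0x128fa)
(.leaf 0x12926))))
(.node 5436 (.node 5434 (.node 5433 (.leaf 0x12935)
(.leaf 0x12938))
(.node 5435 (.leaf 0x12955)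
(.leaf 0x1296b)))
(.node 5438 (.node 5437 (.leaf 0x1297b)
(.leaf 0x129a5))
(.node 5439 (.leaf 0x129c8)
(.leaf 0x129d7)))))))
(.node 5472 (.node 5456 (.node 5448 (.node 5444 (.node 5442 (.node 5441 (.leaf 0x129fa)
(.leaf 0x12a29))
(.node 5443 (.leaf 0x12a2b)
(.leaf 0x12a36)))
(.node 5446 (.node 5445 (.leaf 0x12a88)
(.leaf 0x12ab7))
(.node 5447 (.leaf 0x12ac8)
(.leaf 0x12b05))))
(.node 5452 (.node 5450 (.node 5449 (.leaf 0x12b08)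
(.leaf 0x12b18))
(.node 5451 (.leaf 0x12b27)
(.leaf 0x12b36)))
(.node 5454 (.node 5453 (.leaf 0x12b45)
(.leaf 0x12b47))
(.node 5455 (.leaf 0x12b54)
(.leaf 0x12b57)))))
(.node 5464 (.node 5460 (.node 5458 (.node 5457 (.leaf 0x12b73)
(.leaf 0x12b94))
(.node 5459 (.leaf 0x12ba3)
(.leaf 0x12ba7)))
(.node 5462 (.node 5461 (.leaf 0x12bb6)
(.leaf 0x12bb8))
(.node 5463 (.leaf 0x12be7)
(.leaf 0x12bf6))))
(.node 5468 (.node 5466 (.node 5465 (.leaf 0x12bf8)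
(.leaf 0x12c08))
(.node 5467 (.leaf 0x12c0b)
(.leaf 0x12c37)))
(.node 5470 (.node 5469 (.leaf 0x12c46)
(.leaf 0x12c48))
(.node 5471 (.leaf 0x12c58)
(.leaf 0x12c69))))))
(.node 5488 (.node 5480 (.node 5476 (.node 5474 (.node 5473 (.leaf 0x12c78)
(.leaf 0x12c7b))
(.node 5475 (.leaf 0x12c87)
(.leaf 0x12c8b)))
(.node 5478 (.node 5477 (.leaf 0x12caa)
(.leaf 0x12cc4))
(.node 5479 (.leaf 0x12cc7)
(.leaf 0x12cd8))))
(.node 5484 (.node 5482 (.node 5481 (.leaf 0x12ce3)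
(.leaf 0x12ce7))
(.node 5483 (.leaf 0x12cf6)
(.leaf 0x12cf8)))
(.node 5486 (.node 5485 (.leaf 0x12d17)
(.leaf 0x12d26))
(.node 5487 (.leaf 0x12d28)
(.leaf 0x12d38)))))
(.node 5496 (.node 5492 (.node 5490 (.node 5489 (.leaf 0x12d3b)
(.leaf 0x12d49))
(.node 5491 (.leaf 0x12d56)
(.leaf 0x12d65)))
(.node 5494 (.node 5493 (.leaf 0x12d68)
(.leaf 0x12d8b))
(.node 5495 (.leaf 0x12d92)
(.leaf 0x12d97))))
(.node 5500 (.node 5498 (.node 5497 (.leaf 0x12da6)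
(.leaf 0x12da8))
(.node 5499 (.leaf 0x12dc9)
(.leaf 0x12de7)))
(.node 5502 (.node 5501 (.leaf 0x12df6)
(.leaf 0x12df8))
(.node 5503 (.leaf 0x12e05)
(.leaf 0x12e08))))))))
(.node 5568 (.node 5536 (.node 5520 (.node 5512 (.node 5508 (.node 5506 (.node 5505 (.leaf 0x12e0b)
(.leaf 0x12e19))
(.node 5507 (.leaf 0x12e27)
(.leaf 0x12e29)))
(.node 5510 (.node 5509 (.leaf 0x12e2b)
(.leaf 0x12e3c))
(.node 5511 (.leaf 0x12e51)
(.leaf 0x12e57))))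
(.node 5516 (.node 5514 (.node 5513 (.leaf 0x12e66)
(.leaf 0x12e68))
(.node 5515 (.leaf 0x12e78)
(.leaf 0x12e87)))
(.node 5518 (.node 5517 (.leaf 0x12e8b)
(.leaf 0x12e95))
(.node 5519 (.leaf 0x12e98)
(.leaf 0x12e9b)))))
(.node 5528 (.node 5524 (.node 5522 (.node 5521 (.leaf 0x12ea9)
(.leaf 0x12eb8))
(.node 5523 (.leaf 0x12ebb)
(.leaf 0x12ec7)))
(.node 5526 (.node 5525 (.leaf 0x12ec9)
(.leaf 0x12ecb))
(.node 5527 (.leaf 0x12f1b)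
(.leaf 0x12f36))))
(.node 5532 (.node 5530 (.node 5529 (.leaf 0x12f48)
(.leaf 0x12f64))
(.node 5531 (.leaf 0x12f68)
(.leaf 0x12f6b)))
(.node 5534 (.node 5533 (.leaf 0x12f97)
(.leaf 0x12f9b))
(.node 5535 (.leaf 0x12fb9)
(.leaf 0x12fbb))))))
(.node 5552 (.node 5544 (.node 5540 (.node 5538 (.node 5537 (.leaf 0x12ff5)
(.leaf 0x12ff8))
(.node 5539 (.leaf 0x13009)
(.leaf 0x1301b)))
(.node 5542 (.node 5541 (.leaf 0x1304b)
(.leaf 0x13064))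
(.node 5543 (.leaf 0x13068)
(.leaf 0x1306b))))
(.node 5548 (.node 5546 (.node 5545 (.leaf 0x13079)
(.leaf 0x130ab))
(.node 5547 (.leaf 0x130b6)
(.leaf 0x130d7)))
(.node 5550 (.node 5549 (.leaf 0x130f6)
(.leaf 0x13106))
(.node 5551 (.leaf 0x13108)
(.leaf 0x13115)))))
(.node 5560 (.node 5556 (.node 5554 (.node 5553 (.leaf 0x13118)
(.leaf 0x1311b))
(.node 5555 (.leaf 0x13129)
(.leaf 0x13137)))
(.node 5558 (.node 5557 (.leaf 0x13139)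
(.leaf 0x1313b))
(.node 5559 (.leaf 0x13166)
(.leaf 0x13178))))
(.node 5564 (.node 5562 (.node 5561 (.leaf 0x131a5)
(.leaf 0x131a8))
(.node 5563 (.leaf 0x131b9)
(.leaf 0x131e7)))
(.node 5566 (.node 5565 (.leaf 0x131f6)
(.leaf 0x131f8))
(.node 5567 (.leaf 0x13205)
(.leaf 0x13208)))))))
(.node 5600 (.node 5584 (.node 5576 (.node 5572 (.node 5570 (.node 5569 (.leaf 0x13219)
(.leaf 0x13236))
(.node 5571 (.leaf 0x13238)
(.leaf 0x13245)))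
(.node 5574 (.node 5573 (.leaf 0x13248)
(.leaf 0x1324b))
(.node 5575 (.leaf 0x13259)
(.leaf 0x13268))))
(.node 5580 (.node 5578 (.node 5577 (.leaf 0x13277)
(.leaf 0x13279))
(.node 5579 (.leaf 0x1327b)
(.leaf 0x1329a)))
(.node 5582 (.node 5581 (.leaf 0x132a9)
(.leaf 0x132ab))
(.node 5583 (.leaf 0x132d7)
(.leaf 0x132e6)))))
(.node 5592 (.node 5588 (.node 5586 (.node 5585 (.leaf 0x132e8)
(.leaf 0x132f5))
(.node 5587 (.leaf 0x132f8)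
(.leaf 0x13309)))
(.node 5590 (.node 5589 (.leaf 0x13326)
(.leaf 0x13335))
(.node 5591 (.leaf 0x13338)
(.leaf 0x13349))))
(.node 5596 (.node 5594 (.node 5593 (.leaf 0x13354)
(.leaf 0x13358))
(.node 5595 (.leaf 0x1335b)
(.leaf 0x13369)))
(.node 5598 (.node 5597 (.leaf 0x13399)
(.leaf 0x133aa))
(.node 5599 (.leaf 0x133c7)
(.leaf 0x133c9))))))
(.node 5616 (.node 5608 (.node 5604 (.node 5602 (.node 5601 (.leaf 0x133d9)
(.leaf 0x133f6))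
(.node 5603 (.leaf 0x133f9)
(.leaf 0x13418)))
(.node 5606 (.node 5605 (.leaf 0x1341a)
(.leaf 0x13424))
(.node 5607 (.leaf 0x13428)
(.leaf 0x1342b))))
(.node 5612 (.node 5610 (.node 5609 (.leaf 0x13437)
(.leaf 0x1343b))
(.node 5611 (.leaf 0x1344b)
(.leaf 0x13468)))
(.node 5614 (.node 5613 (.leaf 0x1346b)
(.leaf 0x13479))
(.node 5615 (.leaf 0x13486)
(.leaf 0x134a6)))))
(.node 5624 (.node 5620 (.node 5618 (.node 5617 (.leaf 0x134a8)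
(.leaf 0x134b8))
(.node 5619 (.leaf 0x134d7)
(.leaf 0x134db)))
(.node 5622 (.node 5621 (.leaf 0x13506)
(.leaf 0x13518))
(.node 5623 (.leaf 0x13537)
(.leaf 0x13546))))
(.node 5628 (.node 5626 (.node 5625 (.leaf 0x13548)
(.leaf 0x13559))
(.node 5627 (.leaf 0x13569)
(.leaf 0x1356b)))
(.node 5630 (.node 5629 (.leaf 0x13598)
(.leaf 0x135a8))
(.node 5631 (.leaf 0x135c9)
(.leaf 0x135cb)))))))))

/-- part of a trie -/
def parPart22 : Tr :=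
(.node 5760 (.node 5696 (.node 5664 (.node 5648 (.node 5640 (.node 5636 (.node 5634 (.node 5633 (.leaf 0x135e9)
(.leaf 0x135eb))
(.node 5635 (.leaf 0x135f9)
(.leaf 0x135fb)))
(.node 5638 (.node 5637 (.leaf 0x1360b)
(.leaf 0x13635))
(.node 5639 (.leaf 0x13638)
(.leaf 0x13648))))
(.node 5644 (.node 5642 (.node 5641 (.leaf 0x13657)
(.leaf 0x13659))
(.node 5643 (.leaf 0x1365b)
(.leaf 0x13679)))
(.node 5646 (.node 5645 (.leaf 0x1368a)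
(.leaf 0x1368b))
(.node 5647 (.leaf 0x136a9)
(.leaf 0x136b6)))))
(.node 5656 (.node 5652 (.node 5650 (.node 5649 (.leaf 0x136b8)
(.leaf 0x136c8))
(.node 5651 (.leaf 0x136e4)
(.leaf 0x136e8)))
(.node 5654 (.node 5653 (.leaf 0x136eb)
(.leaf 0x136f7))
(.node 5655 (.leaf 0x136f9)
(.leaf 0x1371b))))
(.node 5660 (.node 5658 (.node 5657 (.leaf 0x1374a)
(.leaf 0x13758))
(.node 5659 (.leaf 0x13778)
(.leaf 0x13789)))
(.node 5662 (.node 5661 (.leaf 0x137a7)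
(.leaf 0x137ab))
(.node 5663 (.leaf 0x137c9)
(.leaf 0x13818))))))
(.node 5680 (.node 5672 (.node 5668 (.node 5666 (.node 5665 (.leaf 0x13837)
(.leaf 0x13848))
(.node 5667 (.leaf 0x1384b)
(.leaf 0x1385b)))
(.node 5670 (.node 5669 (.leaf 0x13896)
(.leaf 0x13899))
(.node 5671 (.leaf 0x138b6)
(.leaf 0x138d8))))
(.node 5676 (.node 5674 (.node 5673 (.leaf 0x138e9)
(.leaf 0x13916))
(.node 5675 (.leaf 0x13938)
(.leaf 0x13947)))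
(.node 5678 (.node 5677 (.leaf 0x13949)
(.leaf 0x13967))
(.node 5679 (.leaf 0x13988)
(.leaf 0x139b8)))))
(.node 5688 (.node 5684 (.node 5682 (.node 5681 (.leaf 0x139c9)
(.leaf 0x139d6))
(.node 5683 (.leaf 0x13a07)
(.leaf 0x13a27)))
(.node 5686 (.node 5685 (.leaf 0x13a57)
(.leaf 0x13a66))
(.node 5687 (.leaf 0x13a8b)
(.leaf 0x13a97))))
(.node 5692 (.node 5690 (.node 5689 (.leaf 0x13aa6)
(.leaf 0x13abb))
(.node 5691 (.leaf 0x13ad3)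
(.leaf 0x13ad7)))
(.node 5694 (.node 5693 (.leaf 0x13ae6)
(.leaf 0x13ae8))
(.node 5695 (.leaf 0x13b07)
(.leaf 0x13b16)))))))
(.node 5728 (.node 5712 (.node 5704 (.node 5700 (.node 5698 (.node 5697 (.leaf 0x13b18)
(.leaf 0x13b28))
(.node 5699 (.leaf 0x13b46)
(.leaf 0x13b65)))
(.node 5702 (.node 5701 (.leaf 0x13b68)
(.leaf 0x13b79))
(.node 5703 (.leaf 0x13b87)
(.leaf 0x13b97))))
(.node 5708 (.node 5706 (.node 5705 (.leaf 0x13ba6)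
(.leaf 0x13ba8))
(.node 5707 (.leaf 0x13bc6)
(.leaf 0x13bdb)))
(.node 5710 (.node 5709 (.leaf 0x13bfb)
(.leaf 0x13c13))
(.node 5711 (.leaf 0x13c17)
(.leaf 0x13c26)))))
(.node 5720 (.node 5716 (.node 5714 (.node 5713 (.leaf 0x13c28)
(.leaf 0x13c47))
(.node 5715 (.leaf 0x13c56)
(.leaf 0x13c58)))
(.node 5718 (.node 5717 (.leaf 0x13c68)
(.leaf 0x13c6b))
(.node 5719 (.leaf 0x13c79)
(.leaf 0x13c86))))
(.node 5724 (.node 5722 (.node 5721 (.leaf 0x13c88)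
(.leaf 0x13c95))
(.node 5723 (.leaf 0x13c9b)
(.leaf 0x13ca9)))
(.node 5726 (.node 5725 (.leaf 0x13cd5)
(.leaf 0x13cdb))
(.node 5727 (.leaf 0x13cec)
(.leaf 0x13cf7))))))
(.node 5744 (.node 5736 (.node 5732 (.node 5730 (.node 5729 (.leaf 0x13d06)
(.leaf 0x13d08))
(.node 5731 (.leaf 0x13d15)
(.leaf 0x13d18)))
(.node 5734 (.node 5733 (.leaf 0x13d38)
(.leaf 0x13d3b))
(.node 5735 (.leaf 0x13d47)
(.leaf 0x13d5c))))
(.node 5740 (.node 5738 (.node 5737 (.leaf 0x13d6b)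
(.leaf 0x13d96))
(.node 5739 (.leaf 0x13d98)
(.leaf 0x13da8)))
(.node 5742 (.node 5741 (.leaf 0x13dc8)
(.leaf 0x13dd7))
(.node 5743 (.leaf 0x13de7)
(.leaf 0x13de9)))))
(.node 5752 (.node 5748 (.node 5746 (.node 5745 (.leaf 0x13deb)
(.leaf 0x13e0b))
(.node 5747 (.leaf 0x13e37)
(.leaf 0x13e46)))
(.node 5750 (.node 5749 (.leaf 0x13e61)
(.leaf 0x13e67))
(.node 5751 (.leaf 0x13e76)
(.leaf 0x13e85))))
(.node 5756 (.node 5754 (.node 5753 (.leaf 0x13e8b)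
(.leaf 0x13ea7))
(.node 5755 (.leaf 0x13eb6)
(.leaf 0x13eb8)))
(.node 5758 (.node 5757 (.leaf 0x13ec5)
(.leaf 0x13ec8))
(.node 5759 (.leaf 0x13ed9)
(.leaf 0x13ef7))))))))
(.node 5824 (.node 5792 (.node 5776 (.node 5768 (.node 5764 (.node 5762 (.node 5761 (.leaf 0x13f06)
(.leaf 0x13f08))
(.node 5763 (.leaf 0x13f15)
(.leaf 0x13f18)))
(.node 5766 (.node 5765 (.leaf 0x13f1b)
(.leaf 0x13f29))
(.node 5767 (.leaf 0x13f38)
(.leaf 0x13f3b))))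
(.node 5772 (.node 5770 (.node 5769 (.leaf 0x13f47)
(.leaf 0x13f4b))
(.node 5771 (.leaf 0x13f6b)
(.leaf 0x13f8b)))
(.node 5774 (.node 5773 (.leaf 0x13f9c)
(.leaf 0x13fb6))
(.node 5775 (.leaf 0x13fb8)
(.leaf 0x13fc5)))))
(.node 5784 (.node 5780 (.node 5778 (.node 5777 (.leaf 0x13fc8)
(.leaf 0x13fd9))
(.node 5779 (.leaf 0x13ff6)
(.leaf 0x14005)))
(.node 5782 (.node 5781 (.leaf 0x14008)
(.leaf 0x1400b))
(.node 5783 (.leaf 0x14019)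
(.leaf 0x14024))))
(.node 5788 (.node 5786 (.node 5785 (.leaf 0x14028)
(.leaf 0x1402b))
(.node 5787 (.leaf 0x14037)
(.leaf 0x14039)))
(.node 5790 (.node 5789 (.leaf 0x1403b)
(.leaf 0x14067))
(.node 5791 (.leaf 0x1406b)
(.leaf 0x1407c))))))
(.node 5808 (.node 5800 (.node 5796 (.node 5794 (.node 5793 (.leaf 0x1408b)
(.leaf 0x140b6))
(.node 5795 (.leaf 0x140c8)
(.leaf 0x140d7)))
(.node 5798 (.node 5797 (.leaf 0x140d9)
(.leaf 0x140f7))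
(.node 5799 (.leaf 0x140fb)
(.leaf 0x1411a))))
(.node 5804 (.node 5802 (.node 5801 (.leaf 0x14137)
(.leaf 0x1413b))
(.node 5803 (.leaf 0x14149)
(.leaf 0x1414b)))
(.node 5806 (.node 5805 (.leaf 0x14166)
(.leaf 0x14169))
(.node 5807 (.leaf 0x1416b)
(.leaf 0x1417a)))))
(.node 5816 (.node 5812 (.node 5810 (.node 5809 (.leaf 0x141b5)
(.leaf 0x141c5))
(.node 5811 (.leaf 0x141cb)
(.leaf 0x141d8)))
(.node 5814 (.node 5813 (.leaf 0x141e7)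
(.leaf 0x141eb))
(.node 5815 (.leaf 0x141fb)
(.leaf 0x14224))))
(.node 5820 (.node 5818 (.node 5817 (.leaf 0x14228)
(.leaf 0x1422b))
(.node 5819 (.leaf 0x1423b)
(.leaf 0x14246)))
(.node 5822 (.node 5821 (.leaf 0x14257)
(.leaf 0x1425c))
(.node 5823 (.leaf 0x1429b)
(.leaf 0x142b6)))))))
(.node 5856 (.node 5840 (.node 5832 (.node 5828 (.node 5826 (.node 5825 (.leaf 0x142b8)
(.leaf 0x142c5))
(.node 5827 (.leaf 0x142c8)
(.leaf 0x142d9)))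
(.node 5830 (.node 5829 (.leaf 0x142e8)
(.leaf 0x142f9))
(.node 5831 (.leaf 0x1430a)
(.leaf 0x14324))))
(.node 5836 (.node 5834 (.node 5833 (.leaf 0x14328)
(.leaf 0x1433b))
(.node 5835 (.leaf 0x1435c)
(.leaf 0x14378)))
(.node 5838 (.node 5837 (.leaf 0x1437b)
(.leaf 0x14397))
(.node 5839 (.leaf 0x1439b)
(.leaf 0x143a9)))))
(.node 5848 (.node 5844 (.node 5842 (.node 5841 (.leaf 0x143ab)
(.leaf 0x143bb))
(.node 5843 (.leaf 0x143db)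
(.leaf 0x14405)))
(.node 5846 (.node 5845 (.leaf 0x14408)
(.leaf 0x14419))
(.node 5847 (.leaf 0x14424)
(.leaf 0x14428))))
(.node 5852 (.node 5850 (.node 5849 (.leaf 0x1442b)
(.leaf 0x14437))
(.node 5851 (.leaf 0x14439)
(.leaf 0x1443b)))
(.node 5854 (.node 5853 (.leaf 0x14458)
(.leaf 0x14469))
(.node 5855 (.leaf 0x1447a)
(.leaf 0x14488))))))
(.node 5872 (.node 5864 (.node 5860 (.node 5858 (.node 5857 (.leaf 0x144c7)
(.leaf 0x144cb))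
(.node 5859 (.leaf 0x144d6)
(.leaf 0x144d9)))
(.node 5862 (.node 5861 (.leaf 0x144db)
(.leaf 0x144fb))
(.node 5863 (.leaf 0x14526)
(.leaf 0x14538))))
(.node 5868 (.node 5866 (.node 5865 (.leaf 0x1453c)
(.leaf 0x1454b))
(.node 5867 (.leaf 0x14555)
(.leaf 0x14558)))
(.node 5870 (.node 5869 (.leaf 0x14595)
(.leaf 0x14598))
(.node 5871 (.leaf 0x145cb)
(.leaf 0x145e6)))))
(.node 5880 (.node 5876 (.node 5874 (.node 5873 (.leaf 0x145f8)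
(.leaf 0x14638))
(.node 5875 (.leaf 0x1468b)
(.leaf 0x1469c)))
(.node 5878 (.node 5877 (.leaf 0x146a8)
(.leaf 0x146f7))
(.node 5879 (.leaf 0x146f9)
(.leaf 0x14727))))
(.node 5884 (.node 5882 (.node 5881 (.leaf 0x14739)
(.leaf 0x1474a))
(.node 5883 (.leaf 0x1475b)
(.leaf 0x14796)))
(.node 5886 (.node 5885 (.leaf 0x14799)
(.leaf 0x147b9))
(.node 5887 (.leaf 0x147ca)
(.leaf 0x147f8)))))))))

/-- part of a trie -/
def parPart23 : Tr :=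
(.node 6016 (.node 5952 (.node 5920 (.node 5904 (.node 5896 (.node 5892 (.node 5890 (.node 5889 (.leaf 0x14809)
(.leaf 0x14819))
(.node 5891 (.leaf 0x1482a)
(.leaf 0x1486a)))
(.node 5894 (.node 5893 (.leaf 0x1487a)
(.leaf 0x148c6))
(.node 5895 (.leaf 0x148c8)
(.leaf 0x148e6))))
(.node 5900 (.node 5898 (.node 5897 (.leaf 0x148e8)
(.leaf 0x148f8))
(.node 5899 (.leaf 0x14909)
(.leaf 0x14918)))
(.node 5902 (.node 5901 (.leaf 0x14938)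
(.leaf 0x14949))
(.node 5903 (.leaf 0x14959)
(.leaf 0x1495b)))))
(.node 5912 (.node 5908 (.node 5906 (.node 5905 (.leaf 0x14976)
(.leaf 0x14978))
(.node 5907 (.leaf 0x14988)
(.leaf 0x149a6)))
(.node 5910 (.node 5909 (.leaf 0x149a8)
(.leaf 0x149b8))
(.node 5911 (.leaf 0x149c9)
(.leaf 0x149d7))))
(.node 5916 (.node 5914 (.node 5913 (.leaf 0x149d9)
(.leaf 0x149ea))
(.node 5915 (.leaf 0x149f8)
(.leaf 0x14a19)))
(.node 5918 (.node 5917 (.leaf 0x14a28)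
(.leaf 0x14a39))
(.node 5919 (.leaf 0x14a47)
(.leaf 0x14a49))))))
(.node 5936 (.node 5928 (.node 5924 (.node 5922 (.node 5921 (.leaf 0x14a6b)
(.leaf 0x14a97))
(.node 5923 (.leaf 0x14aa7)
(.leaf 0x14abb)))
(.node 5926 (.node 5925 (.leaf 0x14b25)
(.leaf 0x14b27))
(.node 5927 (.leaf 0x14b37)
(.leaf 0x14b48))))
(.node 5932 (.node 5930 (.node 5929 (.leaf 0x14b78)
(.leaf 0x14b87))
(.node 5931 (.leaf 0x14b96)
(.leaf 0x14b98)))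
(.node 5934 (.node 5933 (.leaf 0x14bb8)
(.leaf 0x14bd6))
(.node 5935 (.leaf 0x14bd8)
(.leaf 0x14be8)))))
(.node 5944 (.node 5940 (.node 5938 (.node 5937 (.leaf 0x14bf9)
(.leaf 0x14c07))
(.node 5939 (.leaf 0x14c24)
(.leaf 0x14c27)))
(.node 5942 (.node 5941 (.leaf 0x14c38)
(.leaf 0x14c67))
(.node 5943 (.leaf 0x14c78)
(.leaf 0x14c89))))
(.node 5948 (.node 5946 (.node 5945 (.leaf 0x14c97)
(.leaf 0x14ca6))
(.node 5947 (.leaf 0x14ca8)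
(.leaf 0x14cb5)))
(.node 5950 (.node 5949 (.leaf 0x14cb8)
(.leaf 0x14cc9))
(.node 5951 (.leaf 0x14cd7)
(.leaf 0x14cd9)))))))
(.node 5984 (.node 5968 (.node 5960 (.node 5956 (.node 5954 (.node 5953 (.leaf 0x14cf6)
(.leaf 0x14cf8))
(.node 5955 (.leaf 0x14d08)
(.leaf 0x14d19)))
(.node 5958 (.node 5957 (.leaf 0x14d27)
(.leaf 0x14d46))
(.node 5959 (.leaf 0x14d48)
(.leaf 0x14d55))))
(.node 5964 (.node 5962 (.node 5961 (.leaf 0x14d58)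
(.leaf 0x14d69))
(.node 5963 (.leaf 0x14d98)
(.leaf 0x14db7)))
(.node 5966 (.node 5965 (.leaf 0x14dd7)
(.leaf 0x14de9))
(.node 5967 (.leaf 0x14dfa)
(.leaf 0x14e37)))))
(.node 5976 (.node 5972 (.node 5970 (.node 5969 (.leaf 0x14e46)
(.leaf 0x14e48))
(.node 5971 (.leaf 0x14e58)
(.leaf 0x14e76)))
(.node 5974 (.node 5973 (.leaf 0x14e88)
(.leaf 0x14e8b))
(.node 5975 (.leaf 0x14e99)
(.leaf 0x14ea7))))
(.node 5980 (.node 5978 (.node 5977 (.leaf 0x14ea9)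
(.leaf 0x14eab))
(.node 5979 (.leaf 0x14ed5)
(.leaf 0x14eeb)))
(.node 5982 (.node 5981 (.leaf 0x14ef9)
(.leaf 0x14efb))
(.node 5983 (.leaf 0x14f37)
(.leaf 0x14f46))))))
(.node 6000 (.node 5992 (.node 5988 (.node 5986 (.node 5985 (.leaf 0x14f48)
(.leaf 0x14f58))
(.node 5987 (.leaf 0x14f69)
(.leaf 0x14f77)))
(.node 5990 (.node 5989 (.leaf 0x14f79)
(.leaf 0x14f96))
(.node 5991 (.leaf 0x14fa5)
(.leaf 0x14fa8))))
(.node 5996 (.node 5994 (.node 5993 (.leaf 0x14fb9)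
(.leaf 0x14fc7))
(.node 5995 (.leaf 0x14fc9)
(.leaf 0x14fda)))
(.node 5998 (.node 5997 (.leaf 0x14fe9)
(.leaf 0x14feb))
(.node 5999 (.leaf 0x14ffa)
(.leaf 0x15015)))))
(.node 6008 (.node 6004 (.node 6002 (.node 6001 (.leaf 0x15018)
(.leaf 0x15029))
(.node 6003 (.leaf 0x15049)
(.leaf 0x1505a)))
(.node 6006 (.node 6005 (.leaf 0x15069)
(.leaf 0x15089))
(.node 6007 (.leaf 0x1509a)
(.leaf 0x150ba))))
(.node 6012 (.node 6010 (.node 6009 (.leaf 0x150d8)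
(.leaf 0x150e6))
(.node 6011 (.leaf 0x150e9)
(.leaf 0x150f8)))
(.node 6014 (.node 6013 (.leaf 0x15117)
(.leaf 0x1511b))
(.node 6015 (.leaf 0x1512b)
(.leaf 0x15147))))))))
(.node 6080 (.node 6048 (.node 6032 (.node 6024 (.node 6020 (.node 6018 (.node 6017 (.leaf 0x1515b)
(.leaf 0x15186))
(.node 6019 (.leaf 0x15188)
(.leaf 0x15198)))
(.node 6022 (.node 6021 (.leaf 0x151b7)
(.leaf 0x151d8))
(.node 6023 (.leaf 0x151f8)
(.leaf 0x15207))))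
(.node 6028 (.node 6026 (.node 6025 (.leaf 0x15209)
(.leaf 0x1520b))
(.node 6027 (.leaf 0x1523b)
(.leaf 0x15298)))
(.node 6030 (.node 6029 (.leaf 0x152b7)
(.leaf 0x152d7))
(.node 6031 (.leaf 0x152e9)
(.leaf 0x15327)))))
(.node 6040 (.node 6036 (.node 6034 (.node 6033 (.leaf 0x1535a)
(.leaf 0x15377))
(.node 6035 (.leaf 0x15388)
(.leaf 0x153ab)))
(.node 6038 (.node 6037 (.leaf 0x153e7)
(.leaf 0x15437))
(.node 6039 (.leaf 0x15458)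
(.leaf 0x15478))))
(.node 6044 (.node 6042 (.node 6041 (.leaf 0x15487)
(.leaf 0x15497))
(.node 6043 (.leaf 0x154b7)
(.leaf 0x154c4)))
(.node 6046 (.node 6045 (.leaf 0x154c7)
(.leaf 0x154e3))
(.node 6047 (.leaf 0x154f6)
(.leaf 0x154f8))))))
(.node 6064 (.node 6056 (.node 6052 (.node 6050 (.node 6049 (.leaf 0x15513)
(.leaf 0x15527))
(.node 6051 (.leaf 0x15536)
(.leaf 0x15538)))
(.node 6054 (.node 6053 (.leaf 0x15548)
(.leaf 0x1554b))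
(.node 6055 (.leaf 0x15559)
(.leaf 0x15566))))
(.node 6060 (.node 6058 (.node 6057 (.leaf 0x15575)
(.leaf 0x15578))
(.node 6059 (.leaf 0x1557b)
(.leaf 0x15597)))
(.node 6062 (.node 6061 (.leaf 0x1559b)
(.leaf 0x155ac))
(.node 6063 (.leaf 0x155b6)
(.leaf 0x155b8)))))
(.node 6072 (.node 6068 (.node 6066 (.node 6065 (.leaf 0x155c8)
(.leaf 0x155d9))
(.node 6067 (.leaf 0x155e7)
(.leaf 0x155e9)))
(.node 6070 (.node 6069 (.leaf 0x155fa)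
(.leaf 0x15607))
(.node 6071 (.leaf 0x15609)
(.leaf 0x1560b))))
(.node 6076 (.node 6074 (.node 6073 (.leaf 0x15629)
(.leaf 0x1562b))
(.node 6075 (.leaf 0x15653)
(.leaf 0x15657)))
(.node 6078 (.node 6077 (.leaf 0x15666)
(.leaf 0x15668))
(.node 6079 (.leaf 0x15687)
(.leaf 0x15696)))))))
(.node 6112 (.node 6096 (.node 6088 (.node 6084 (.node 6082 (.node 6081 (.leaf 0x15698)
(.leaf 0x156a8))
(.node 6083 (.leaf 0x156c6)
(.leaf 0x156d5)))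
(.node 6086 (.node 6085 (.leaf 0x156d8)
(.leaf 0x156db))
(.node 6087 (.leaf 0x156e9)
(.leaf 0x156f9))))
(.node 6092 (.node 6090 (.node 6089 (.leaf 0x156fb)
(.leaf 0x15725))
(.node 6091 (.leaf 0x15738)
(.leaf 0x1574b)))
(.node 6094 (.node 6093 (.leaf 0x15767)
(.leaf 0x15776))
(.node 6095 (.leaf 0x15778)
(.leaf 0x15785)))))
(.node 6104 (.node 6100 (.node 6098 (.node 6097 (.leaf 0x15788)
(.leaf 0x15799))
(.node 6099 (.leaf 0x157b6)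
(.leaf 0x157b8)))
(.node 6102 (.node 6101 (.leaf 0x157c5)
(.leaf 0x157c8))
(.node 6103 (.leaf 0x157d9)
(.leaf 0x157e8))))
(.node 6108 (.node 6106 (.node 6105 (.leaf 0x157eb)
(.leaf 0x157f7))
(.node 6107 (.leaf 0x157f9)
(.leaf 0x157fb)))
(.node 6110 (.node 6109 (.leaf 0x1580c)
(.leaf 0x1581a))
(.node 6111 (.leaf 0x15829)
(.leaf 0x1582b))))))
(.node 6128 (.node 6120 (.node 6116 (.node 6114 (.node 6113 (.leaf 0x15867)
(.leaf 0x15876))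
(.node 6115 (.leaf 0x15878)
(.leaf 0x15885)))
(.node 6118 (.node 6117 (.leaf 0x15888)
(.leaf 0x158bb))
(.node 6119 (.leaf 0x158d4)
(.leaf 0x158d8))))
(.node 6124 (.node 6122 (.node 6121 (.leaf 0x158db)
(.leaf 0x158e9))
(.node 6123 (.leaf 0x15917)
(.leaf 0x1591b)))
(.node 6126 (.node 6125 (.leaf 0x15926)
(.leaf 0x15939))
(.node 6127 (.leaf 0x1593b)
(.leaf 0x1594a)))))
(.node 6136 (.node 6132 (.node 6130 (.node 6129 (.leaf 0x15966)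
(.leaf 0x15978))
(.node 6131 (.leaf 0x15987)
(.leaf 0x15998)))
(.node 6134 (.node 6133 (.leaf 0x1599b)
(.leaf 0x159ab))
(.node 6135 (.leaf 0x159c6)
(.leaf 0x159c9))))
(.node 6140 (.node 6138 (.node 6137 (.leaf 0x159cb)
(.leaf 0x159e8))
(.node 6139 (.leaf 0x159eb)
(.leaf 0x159f6)))
(.node 6142 (.node 6141 (.leaf 0x15a04)
(.leaf 0x15a08))
(.node 6143 (.leaf 0x15a0b)
(.leaf 0x15a19)))))))))

end Cfsg.Agent.H96.Fi24Mult.Zthree
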