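import Cfsg.Agent.H25.Fi24.Table

/-!
Generated data of a scan certificate.
-/

set_option autoImplicit false

namespace Cfsg.Agent.H96.Fi24Mult.Zthree

open Cfsg.Agent.H25.Fi24 (Tr)

/-- part of a trie -/
def parPart24 : Tr :=
(.node 6272 (.node 6208 (.node 6176 (.node 6160 (.node 6152 (.node 6148 (.node 6146 (.node 6145 (.leaf 0x15a46)
(.leaf 0x15a58))
(.node 6147 (.leaf 0x15a5b)
(.leaf 0x15a69)))
(.node 6150 (.node 6149 (.leaf 0x15a6b)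
(.leaf 0x15a76))
(.node 6151 (.leaf 0x15a8a)
(.leaf 0x15a96))))
(.node 6156 (.node 6154 (.node 6153 (.leaf 0x15aa7)
(.leaf 0x15ad5))
(.node 6155 (.leaf 0x15ad8)
(.leaf 0x15ae9)))
(.node 6158 (.node 6157 (.leaf 0x15af8)
(.leaf 0x15afb))
(.node 6159 (.leaf 0x15b07)
(.leaf 0x15b09)))))
(.node 6168 (.node 6164 (.node 6162 (.node 6161 (.leaf 0x15b0b)
(.leaf 0x15b1c))
(.node 6163 (.leaf 0x15b39)
(.leaf 0x15b3b)))
(.node 6166 (.node 6165 (.leaf 0x15b4b)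
(.leaf 0x15b68))
(.node 6167 (.leaf 0x15b88)
(.leaf 0x15b99))))
(.node 6172 (.node 6170 (.node 6169 (.leaf 0x15b9b)
(.leaf 0x15bb6))
(.node 6171 (.leaf 0x15bb8)
(.leaf 0x15bc5)))
(.node 6174 (.node 6173 (.leaf 0x15bc8)
(.leaf 0x15bd9))
(.node 6175 (.leaf 0x15be8)
(.leaf 0x15bf9))))))
(.node 6192 (.node 6184 (.node 6180 (.node 6178 (.node 6177 (.leaf 0x15c15)
(.leaf 0x15c18))
(.node 6179 (.leaf 0x15c29)
(.leaf 0x15c38)))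
(.node 6182 (.node 6181 (.leaf 0x15c3b)
(.leaf 0x15c49))
(.node 6183 (.leaf 0x15c77)
(.leaf 0x15c79))))
(.node 6188 (.node 6186 (.node 6185 (.leaf 0x15c7b)
(.leaf 0x15c8b))
(.node 6187 (.leaf 0x15c9a)
(.leaf 0x15ccb)))
(.node 6190 (.node 6189 (.leaf 0x15ce6)
(.leaf 0x15cf5))
(.node 6191 (.leaf 0x15cf8)
(.leaf 0x15d09)))))
(.node 6200 (.node 6196 (.node 6194 (.node 6193 (.leaf 0x15d14)
(.leaf 0x15d18))
(.node 6195 (.leaf 0x15d29)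
(.leaf 0x15d48)))
(.node 6198 (.node 6197 (.leaf 0x15d58)
(.leaf 0x15d69))
(.node 6199 (.leaf 0x15d88)
(.leaf 0x15d8b))))
(.node 6204 (.node 6202 (.node 6201 (.leaf 0x15d99)
(.leaf 0x15da6))
(.node 6203 (.leaf 0x15dca)
(.leaf 0x15de6)))
(.node 6206 (.node 6205 (.leaf 0x15de9)
(.leaf 0x15e19))
(.node 6207 (.leaf 0x15e28)
(.leaf 0x15e58)))))))
(.node 6240 (.node 6224 (.node 6216 (.node 6212 (.node 6210 (.node 6209 (.leaf 0x15e5b)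
(.leaf 0x15e67))
(.node 6211 (.leaf 0x15e6b)
(.leaf 0x15e8b)))
(.node 6214 (.node 6213 (.leaf 0x15eb9)
(.leaf 0x15ebb))
(.node 6215 (.leaf 0x15ec6)
(.leaf 0x15ee7))))
(.node 6220 (.node 6218 (.node 6217 (.leaf 0x15ef8)
(.leaf 0x15f1b))
(.node 6219 (.leaf 0x15f48)
(.leaf 0x15f66)))
(.node 6222 (.node 6221 (.leaf 0x15f78)
(.leaf 0x15fab))
(.node 6223 (.leaf 0x15fdb)
(.leaf 0x1602b)))))
(.node 6232 (.node 6228 (.node 6226 (.node 6225 (.leaf 0x16054)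
(.leaf 0x16058))
(.node 6227 (.leaf 0x1605b)
(.leaf 0x16067)))
(.node 6230 (.node 6229 (.leaf 0x16069)
(.leaf 0x1606b))
(.node 6231 (.leaf 0x1607b)
(.leaf 0x16089))))
(.node 6236 (.node 6234 (.node 6233 (.leaf 0x1609a)
(.leaf 0x1609b))
(.node 6235 (.leaf 0x160ba)
(.leaf 0x160f8)))
(.node 6238 (.node 6237 (.leaf 0x16117)
(.leaf 0x16128))
(.node 6239 (.leaf 0x1612b)
(.leaf 0x16139))))))
(.node 6256 (.node 6248 (.node 6244 (.node 6242 (.node 6241 (.leaf 0x1613b)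
(.leaf 0x1616a))
(.node 6243 (.leaf 0x161cb)
(.leaf 0x161f7)))
(.node 6246 (.node 6245 (.leaf 0x1621b)
(.leaf 0x16249))
(.node 6247 (.leaf 0x16279)
(.leaf 0x162a7))))
(.node 6252 (.node 6250 (.node 6249 (.leaf 0x162f9)
(.leaf 0x1630a))
(.node 6251 (.leaf 0x16317)
(.leaf 0x16346)))
(.node 6254 (.node 6253 (.leaf 0x1635b)
(.leaf 0x16376))
(.node 6255 (.leaf 0x1638b)
(.leaf 0x163a7)))))
(.node 6264 (.node 6260 (.node 6258 (.node 6257 (.leaf 0x163b6)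
(.leaf 0x163b8))
(.node 6259 (.leaf 0x163c8)
(.leaf 0x163e6)))
(.node 6262 (.node 6261 (.leaf 0x163f5)
(.leaf 0x163f8))
(.node 6263 (.leaf 0x16417)
(.leaf 0x16425))))
(.node 6268 (.node 6266 (.node 6265 (.leaf 0x16438)
(.leaf 0x16447))
(.node 6267 (.leaf 0x16449)
(.leaf 0x16476)))
(.node 6270 (.node 6269 (.leaf 0x16485)
(.leaf 0x16488))
(.node 6271 (.leaf 0x16499)
(.leaf 0x164ab))))))))
(.node 6336 (.node 6304 (.node 6288 (.node 6280 (.node 6276 (.node 6274 (.node 6273 (.leaf 0x164d7)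
(.leaf 0x164e6))
(.node 6275 (.leaf 0x164e8)
(.leaf 0x164f8)))
(.node 6278 (.node 6277 (.leaf 0x16516)
(.leaf 0x16518))
(.node 6279 (.leaf 0x16525)
(.leaf 0x16528))))
(.node 6284 (.node 6282 (.node 6281 (.leaf 0x1652b)
(.leaf 0x16539))
(.node 6283 (.leaf 0x16547)
(.leaf 0x16575)))
(.node 6286 (.node 6285 (.leaf 0x16578)
(.leaf 0x16589))
(.node 6287 (.leaf 0x16598)
(.leaf 0x1659b)))))
(.node 6296 (.node 6292 (.node 6290 (.node 6289 (.leaf 0x165cb)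
(.leaf 0x165dc))
(.node 6291 (.leaf 0x165f6)
(.leaf 0x165f8)))
(.node 6294 (.node 6293 (.leaf 0x16605)
(.leaf 0x16608))
(.node 6295 (.leaf 0x1660b)
(.leaf 0x16624))))
(.node 6300 (.node 6298 (.node 6297 (.leaf 0x16628)
(.leaf 0x1662b))
(.node 6299 (.leaf 0x16637)
(.leaf 0x1663b)))
(.node 6302 (.node 6301 (.leaf 0x16647)
(.leaf 0x1665c))
(.node 6303 (.leaf 0x16686)
(.leaf 0x16698))))))
(.node 6320 (.node 6312 (.node 6308 (.node 6306 (.node 6305 (.leaf 0x166b7)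
(.leaf 0x166c7))
(.node 6307 (.leaf 0x166c9)
(.leaf 0x166cb)))
(.node 6310 (.node 6309 (.leaf 0x166e9)
(.leaf 0x166eb))
(.node 6311 (.leaf 0x166fb)
(.leaf 0x16726))))
(.node 6316 (.node 6314 (.node 6313 (.leaf 0x16728)
(.leaf 0x16735))
(.node 6315 (.leaf 0x16747)
(.leaf 0x16756)))
(.node 6318 (.node 6317 (.leaf 0x16765)
(.leaf 0x1676b))
(.node 6319 (.leaf 0x16778)
(.leaf 0x1677b)))))
(.node 6328 (.node 6324 (.node 6322 (.node 6321 (.leaf 0x16796)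
(.leaf 0x16798))
(.node 6323 (.leaf 0x167a5)
(.leaf 0x167a8)))
(.node 6326 (.node 6325 (.leaf 0x167b9)
(.leaf 0x167c8))
(.node 6327 (.leaf 0x167d9)
(.leaf 0x167ea))))
(.node 6332 (.node 6330 (.node 6329 (.leaf 0x167f6)
(.leaf 0x16805))
(.node 6331 (.leaf 0x16808)
(.leaf 0x1680b)))
(.node 6334 (.node 6333 (.leaf 0x16819)
(.leaf 0x16824))
(.node 6335 (.leaf 0x16828)
(.leaf 0x1682b)))))))
(.node 6368 (.node 6352 (.node 6344 (.node 6340 (.node 6338 (.node 6337 (.leaf 0x16837)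
(.leaf 0x16839))
(.node 6339 (.leaf 0x1683b)
(.leaf 0x16867)))
(.node 6342 (.node 6341 (.leaf 0x1686b)
(.leaf 0x1687c))
(.node 6343 (.leaf 0x1688b)
(.leaf 0x168a6))))
(.node 6348 (.node 6346 (.node 6345 (.leaf 0x168bc)
(.leaf 0x168d5))
(.node 6347 (.leaf 0x168d8)
(.leaf 0x168e9)))
(.node 6350 (.node 6349 (.leaf 0x168f4)
(.leaf 0x168f8))
(.node 6351 (.leaf 0x168fb)
(.leaf 0x16909)))))
(.node 6360 (.node 6356 (.node 6354 (.node 6353 (.leaf 0x1690b)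
(.leaf 0x16925))
(.node 6355 (.leaf 0x16928)
(.leaf 0x16934)))
(.node 6358 (.node 6357 (.leaf 0x16938)
(.leaf 0x1693b))
(.node 6359 (.leaf 0x16947)
(.leaf 0x16949))))
(.node 6364 (.node 6362 (.node 6361 (.leaf 0x1694b)
(.leaf 0x16978))
(.node 6363 (.leaf 0x1697b)
(.leaf 0x16987)))
(.node 6366 (.node 6365 (.leaf 0x16989)
(.leaf 0x1698b))
(.node 6367 (.leaf 0x1699c)
(.leaf 0x169a9))))))
(.node 6384 (.node 6376 (.node 6372 (.node 6370 (.node 6369 (.leaf 0x169ab)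
(.leaf 0x169db))
(.node 6371 (.leaf 0x16a15)
(.leaf 0x16a27)))
(.node 6374 (.node 6373 (.leaf 0x16a39)
(.leaf 0x16a4a))
(.node 6375 (.leaf 0x16a56)
(.leaf 0x16a59))))
(.node 6380 (.node 6378 (.node 6377 (.leaf 0x16a5b)
(.leaf 0x16a86))
(.node 6379 (.leaf 0x16a89)
(.leaf 0x16a8b)))
(.node 6382 (.node 6381 (.leaf 0x16aa8)
(.leaf 0x16aab))
(.node 6383 (.leaf 0x16ab6)
(.leaf 0x16ac9)))))
(.node 6392 (.node 6388 (.node 6386 (.node 6385 (.leaf 0x16ad8)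
(.leaf 0x16ada))
(.node 6387 (.leaf 0x16adb)
(.leaf 0x16b04)))
(.node 6390 (.node 6389 (.leaf 0x16b1b)
(.leaf 0x16b37))
(.node 6391 (.leaf 0x16b3b)
(.leaf 0x16b46))))
(.node 6396 (.node 6394 (.node 6393 (.leaf 0x16b4b)
(.leaf 0x16b78))
(.node 6395 (.leaf 0x16b7b)
(.leaf 0x16b8b)))
(.node 6398 (.node 6397 (.leaf 0x16b96)
(.leaf 0x16bb7))
(.node 6399 (.leaf 0x16bbc)
(.leaf 0x16bcc)))))))))

/-- part of a trie -/
def parPart25 : Tr :=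
(.node 6528 (.node 6464 (.node 6432 (.node 6416 (.node 6408 (.node 6404 (.node 6402 (.node 6401 (.leaf 0x16bdb)
(.leaf 0x16be6))
(.node 6403 (.leaf 0x16bf5)
(.leaf 0x16bf8)))
(.node 6406 (.node 6405 (.leaf 0x16c09)
(.leaf 0x16c14))
(.node 6407 (.leaf 0x16c18)
(.leaf 0x16c29))))
(.node 6412 (.node 6410 (.node 6409 (.leaf 0x16c3a)
(.leaf 0x16c49))
(.node 6411 (.leaf 0x16c5a)
(.leaf 0x16c78)))
(.node 6414 (.node 6413 (.leaf 0x16c89)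
(.leaf 0x16c9c))
(.node 6415 (.leaf 0x16cb7)
(.leaf 0x16cbb)))))
(.node 6424 (.node 6420 (.node 6418 (.node 6417 (.leaf 0x16cd9)
(.leaf 0x16cdb))
(.node 6419 (.leaf 0x16cfb)
(.leaf 0x16d26)))
(.node 6422 (.node 6421 (.leaf 0x16d34)
(.leaf 0x16d38))
(.node 6423 (.leaf 0x16d3b)
(.leaf 0x16d47))))
(.node 6428 (.node 6426 (.node 6425 (.leaf 0x16d49)
(.leaf 0x16d4b))
(.node 6427 (.leaf 0x16d68)
(.leaf 0x16d6b)))
(.node 6430 (.node 6429 (.leaf 0x16d77)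
(.leaf 0x16d79))
(.node 6431 (.leaf 0x16d7b)
(.leaf 0x16d9b))))))
(.node 6448 (.node 6440 (.node 6436 (.node 6434 (.node 6433 (.leaf 0x16dab)
(.leaf 0x16dc9))
(.node 6435 (.leaf 0x16dda)
(.leaf 0x16df9)))
(.node 6438 (.node 6437 (.leaf 0x16e06)
(.leaf 0x16e09))
(.node 6439 (.leaf 0x16e0b)
(.leaf 0x16e2b))))
(.node 6444 (.node 6442 (.node 6441 (.leaf 0x16e3b)
(.leaf 0x16e56))
(.node 6443 (.leaf 0x16e7c)
(.leaf 0x16e8b)))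
(.node 6446 (.node 6445 (.leaf 0x16ea8)
(.leaf 0x16edb))
(.node 6447 (.leaf 0x16ef8)
(.leaf 0x16f07)))))
(.node 6456 (.node 6452 (.node 6450 (.node 6449 (.leaf 0x16f2c)
(.leaf 0x16f56))
(.node 6451 (.leaf 0x16f59)
(.leaf 0x16f6a)))
(.node 6454 (.node 6453 (.leaf 0x16f8a)
(.leaf 0x16fa6))
(.node 6455 (.leaf 0x16fb9)
(.leaf 0x16fda))))
(.node 6460 (.node 6458 (.node 6457 (.leaf 0x16ff9)
(.leaf 0x1700a))
(.node 6459 (.leaf 0x17058)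
(.leaf 0x17078)))
(.node 6462 (.node 6461 (.leaf 0x17089)
(.leaf 0x17097))
(.node 6463 (.leaf 0x17099)
(.leaf 0x1709b)))))))
(.node 6496 (.node 6480 (.node 6472 (.node 6468 (.node 6466 (.node 6465 (.leaf 0x170b7)
(.leaf 0x170b9))
(.node 6467 (.leaf 0x170c9)
(.leaf 0x170cb)))
(.node 6470 (.node 6469 (.leaf 0x17108)
(.leaf 0x17127))
(.node 6471 (.leaf 0x17129)
(.leaf 0x17138))))
(.node 6476 (.node 6474 (.node 6473 (.leaf 0x17149)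
(.leaf 0x17157))
(.node 6475 (.leaf 0x17159)
(.leaf 0x1716a)))
(.node 6478 (.node 6477 (.leaf 0x17179)
(.leaf 0x171a9))
(.node 6479 (.leaf 0x171ba)
(.leaf 0x171c9)))))
(.node 6488 (.node 6484 (.node 6482 (.node 6481 (.leaf 0x17247)
(.leaf 0x17258))
(.node 6483 (.leaf 0x17266)
(.leaf 0x17268)))
(.node 6486 (.node 6485 (.leaf 0x17296)
(.leaf 0x17298))
(.node 6487 (.leaf 0x172a8)
(.leaf 0x172c7))))
(.node 6492 (.node 6490 (.node 6489 (.leaf 0x172cb)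
(.leaf 0x172d8))
(.node 6491 (.leaf 0x172e9)
(.leaf 0x172f7)))
(.node 6494 (.node 6493 (.leaf 0x172f9)
(.leaf 0x1730a))
(.node 6495 (.leaf 0x17319)
(.leaf 0x17327))))))
(.node 6512 (.node 6504 (.node 6500 (.node 6498 (.node 6497 (.leaf 0x17336)
(.leaf 0x17338))
(.node 6499 (.leaf 0x17356)
(.leaf 0x17358)))
(.node 6502 (.node 6501 (.leaf 0x17369)
(.leaf 0x17386))
(.node 6503 (.leaf 0x17388)
(.leaf 0x17395))))
(.node 6508 (.node 6506 (.node 6505 (.leaf 0x17398)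
(.leaf 0x173a9))
(.node 6507 (.leaf 0x173b8)
(.leaf 0x173c7)))
(.node 6510 (.node 6509 (.leaf 0x173c9)
(.leaf 0x173da))
(.node 6511 (.leaf 0x173e9)
(.leaf 0x17405)))))
(.node 6520 (.node 6516 (.node 6514 (.node 6513 (.leaf 0x17408)
(.leaf 0x17419))
(.node 6515 (.leaf 0x17427)
(.leaf 0x17455)))
(.node 6518 (.node 6517 (.leaf 0x17458)
(.leaf 0x17469))
(.node 6519 (.leaf 0x17478)
(.leaf 0x17487))))
(.node 6524 (.node 6522 (.node 6521 (.leaf 0x17489)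
(.leaf 0x1749a))
(.node 6523 (.leaf 0x174a7)
(.leaf 0x174c9)))
(.node 6526 (.node 6525 (.leaf 0x174d8)
(.leaf 0x174da))
(.node 6527 (.leaf 0x174f6)
(.leaf 0x17508))))))))
(.node 6592 (.node 6560 (.node 6544 (.node 6536 (.node 6532 (.node 6530 (.node 6529 (.leaf 0x17527)
(.leaf 0x17535))
(.node 6531 (.leaf 0x17538)
(.leaf 0x1753b)))
(.node 6534 (.node 6533 (.leaf 0x17547)
(.leaf 0x17549))
(.node 6535 (.leaf 0x1754b)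
(.leaf 0x17579))))
(.node 6540 (.node 6538 (.node 6537 (.leaf 0x1757b)
(.leaf 0x1758b))
(.node 6539 (.leaf 0x175a4)
(.leaf 0x175ab)))
(.node 6542 (.node 6541 (.leaf 0x175cb)
(.leaf 0x175e6))
(.node 6543 (.leaf 0x175e8)
(.leaf 0x175f5)))))
(.node 6552 (.node 6548 (.node 6546 (.node 6545 (.leaf 0x175f8)
(.leaf 0x17617))
(.node 6547 (.leaf 0x17619)
(.leaf 0x17639)))
(.node 6550 (.node 6549 (.leaf 0x1764a)
(.leaf 0x17679))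
(.node 6551 (.leaf 0x1768a)
(.leaf 0x17699))))
(.node 6556 (.node 6554 (.node 6553 (.leaf 0x176aa)
(.leaf 0x176ca))
(.node 6555 (.leaf 0x176cb)
(.leaf 0x17709)))
(.node 6558 (.node 6557 (.leaf 0x17728)
(.leaf 0x17799))
(.node 6559 (.leaf 0x177a8)
(.leaf 0x177cb))))))
(.node 6576 (.node 6568 (.node 6564 (.node 6562 (.node 6561 (.leaf 0x17806)
(.leaf 0x17818))
(.node 6563 (.leaf 0x17837)
(.leaf 0x17857)))
(.node 6566 (.node 6565 (.leaf 0x17867)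
(.leaf 0x178b7))
(.node 6567 (.leaf 0x17958)
(.leaf 0x17977))))
(.node 6572 (.node 6570 (.node 6569 (.leaf 0x17996)
(.leaf 0x17999))
(.node 6571 (.leaf 0x179b3)
(.leaf 0x179b7)))
(.node 6574 (.node 6573 (.leaf 0x179e8)
(.leaf 0x17a07))
(.node 6575 (.leaf 0x17a16)
(.leaf 0x17a18)))))
(.node 6584 (.node 6580 (.node 6578 (.node 6577 (.leaf 0x17a25)
(.leaf 0x17a28))
(.node 6579 (.leaf 0x17a2b)
(.leaf 0x17a39)))
(.node 6582 (.node 6581 (.leaf 0x17a47)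
(.leaf 0x17a49))
(.node 6583 (.leaf 0x17a4b)
(.leaf 0x17a75))))
(.node 6588 (.node 6586 (.node 6585 (.leaf 0x17a88)
(.leaf 0x17a8b))
(.node 6587 (.leaf 0x17aac)
(.leaf 0x17ab9)))
(.node 6590 (.node 6589 (.leaf 0x17abb)
(.leaf 0x17ae8))
(.node 6591 (.leaf 0x17af9)
(.leaf 0x17b07)))))))
(.node 6624 (.node 6608 (.node 6600 (.node 6596 (.node 6594 (.node 6593 (.leaf 0x17b09)
(.leaf 0x17b1a))
(.node 6595 (.leaf 0x17b29)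
(.leaf 0x17b59)))
(.node 6598 (.node 6597 (.leaf 0x17b5b)
(.leaf 0x17b6b))
(.node 6599 (.leaf 0x17b88)
(.leaf 0x17ba7))))
(.node 6604 (.node 6602 (.node 6601 (.leaf 0x17bb6)
(.leaf 0x17bb8))
(.node 6603 (.leaf 0x17bc8)
(.leaf 0x17be6)))
(.node 6606 (.node 6605 (.leaf 0x17bf8)
(.leaf 0x17c17))
(.node 6607 (.leaf 0x17c25)
(.leaf 0x17c28)))))
(.node 6616 (.node 6612 (.node 6610 (.node 6609 (.leaf 0x17c38)
(.leaf 0x17c3b))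
(.node 6611 (.leaf 0x17c49)
(.leaf 0x17c4b)))
(.node 6614 (.node 6613 (.leaf 0x17c7b)
(.leaf 0x17c94))
(.node 6615 (.leaf 0x17c98)
(.leaf 0x17c9b))))
(.node 6620 (.node 6618 (.node 6617 (.leaf 0x17cab)
(.leaf 0x17cc6))
(.node 6619 (.leaf 0x17cc8)
(.leaf 0x17cd5)))
(.node 6622 (.node 6621 (.leaf 0x17cd8)
(.leaf 0x17ce9))
(.node 6623 (.leaf 0x17cf8)
(.leaf 0x17d09))))))
(.node 6640 (.node 6632 (.node 6628 (.node 6626 (.node 6625 (.leaf 0x17d25)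
(.leaf 0x17d28))
(.node 6627 (.leaf 0x17d39)
(.leaf 0x17d44)))
(.node 6630 (.node 6629 (.leaf 0x17d48)
(.leaf 0x17d4b))
(.node 6631 (.leaf 0x17d57)
(.leaf 0x17d59))))
(.node 6636 (.node 6634 (.node 6633 (.leaf 0x17d77)
(.leaf 0x17d79))
(.node 6635 (.leaf 0x17d7b)
(.leaf 0x17d8c)))
(.node 6638 (.node 6637 (.leaf 0x17d99)
(.leaf 0x17daa))
(.node 6639 (.leaf 0x17df6)
(.leaf 0x17e15)))))
(.node 6648 (.node 6644 (.node 6642 (.node 6641 (.leaf 0x17e18)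
(.leaf 0x17e34))
(.node 6643 (.leaf 0x17e38)
(.leaf 0x17e56)))
(.node 6646 (.node 6645 (.leaf 0x17e68)
(.leaf 0x17e6b))
(.node 6647 (.leaf 0x17e79)
(.leaf 0x17e7b))))
(.node 6652 (.node 6650 (.node 6649 (.leaf 0x17e86)
(.leaf 0x17e9a))
(.node 6651 (.leaf 0x17ea6)
(.leaf 0x17ea9)))
(.node 6654 (.node 6653 (.leaf 0x17eb6)
(.leaf 0x17ec7))
(.node 6655 (.leaf 0x17ed8)
(.leaf 0x17eda)))))))))

/-- part of a trie -/
def parPart26 : Tr :=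
(.node 6784 (.node 6720 (.node 6688 (.node 6672 (.node 6664 (.node 6660 (.node 6658 (.node 6657 (.leaf 0x17edb)
(.leaf 0x17ee6))
(.node 6659 (.leaf 0x17f05)
(.leaf 0x17f17)))
(.node 6662 (.node 6661 (.leaf 0x17f3b)
(.leaf 0x17f69))
(.node 6663 (.leaf 0x17f78)
(.leaf 0x17f7a))))
(.node 6668 (.node 6666 (.node 6665 (.leaf 0x17f9b)
(.leaf 0x17fa6))
(.node 6667 (.leaf 0x17fc8)
(.leaf 0x17fcb)))
(.node 6670 (.node 6669 (.leaf 0x17fd9)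
(.leaf 0x17fdb))
(.node 6671 (.leaf 0x17fe6)
(.leaf 0x17ffa)))))
(.node 6680 (.node 6676 (.node 6674 (.node 6673 (.leaf 0x18019)
(.leaf 0x1801b))
(.node 6675 (.leaf 0x18026)
(.leaf 0x1803a)))
(.node 6678 (.node 6677 (.leaf 0x1803b)
(.leaf 0x18046))
(.node 6679 (.leaf 0x18057)
(.leaf 0x1805c))))
(.node 6684 (.node 6682 (.node 6681 (.leaf 0x18077)
(.leaf 0x1807c))
(.node 6683 (.leaf 0x18098)
(.leaf 0x180a7)))
(.node 6686 (.node 6685 (.leaf 0x180a9)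
(.leaf 0x180ab))
(.node 6687 (.leaf 0x180c7)
(.leaf 0x180cb))))))
(.node 6704 (.node 6696 (.node 6692 (.node 6690 (.node 6689 (.leaf 0x180dc)
(.leaf 0x180e9))
(.node 6691 (.leaf 0x180eb)
(.leaf 0x180fb)))
(.node 6694 (.node 6693 (.leaf 0x1812b)
(.leaf 0x18136))
(.node 6695 (.leaf 0x18169)
(.leaf 0x1816b))))
(.node 6700 (.node 6698 (.node 6697 (.leaf 0x1818c)
(.leaf 0x18195))
(.node 6699 (.leaf 0x18198)
(.leaf 0x181a9)))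
(.node 6702 (.node 6701 (.leaf 0x181b8)
(.leaf 0x181c9))
(.node 6703 (.leaf 0x181e9)
(.leaf 0x18208)))))
(.node 6712 (.node 6708 (.node 6706 (.node 6705 (.leaf 0x18219)
(.leaf 0x18237))
(.node 6707 (.leaf 0x18239)
(.leaf 0x1823b)))
(.node 6710 (.node 6709 (.leaf 0x18266)
(.leaf 0x18269))
(.node 6711 (.leaf 0x1826b)
(.leaf 0x1827a))))
(.node 6716 (.node 6714 (.node 6713 (.leaf 0x182d4)
(.leaf 0x182d8))
(.node 6715 (.leaf 0x182e9)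
(.leaf 0x18308)))
(.node 6718 (.node 6717 (.leaf 0x18317)
(.leaf 0x18319))
(.node 6719 (.leaf 0x18349)
(.leaf 0x18376)))))))
(.node 6752 (.node 6736 (.node 6728 (.node 6724 (.node 6722 (.node 6721 (.leaf 0x18397)
(.leaf 0x183b9))
(.node 6723 (.leaf 0x183d8)
(.leaf 0x183f7)))
(.node 6726 (.node 6725 (.leaf 0x183fb)
(.leaf 0x18406))
(.node 6727 (.leaf 0x1841b)
(.leaf 0x18426))))
(.node 6732 (.node 6730 (.node 6729 (.leaf 0x18436)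
(.leaf 0x1844b))
(.node 6731 (.leaf 0x18456)
(.leaf 0x1848b)))
(.node 6734 (.node 6733 (.leaf 0x184b8)
(.leaf 0x18508))
(.node 6735 (.leaf 0x1850b)
(.leaf 0x18519)))))
(.node 6744 (.node 6740 (.node 6738 (.node 6737 (.leaf 0x1851b)
(.leaf 0x18539))
(.node 6739 (.leaf 0x1853b)
(.leaf 0x1854a)))
(.node 6742 (.node 6741 (.leaf 0x1854b)
(.leaf 0x1857a))
(.node 6743 (.leaf 0x185b7)
(.leaf 0x185d7))))
(.node 6748 (.node 6746 (.node 6745 (.leaf 0x185d9)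
(.leaf 0x185db))
(.node 6747 (.leaf 0x185fa)
(.leaf 0x18626)))
(.node 6750 (.node 6749 (.leaf 0x1868a)
(.leaf 0x186bb))
(.node 6751 (.leaf 0x186db)
(.leaf 0x186f6))))))
(.node 6768 (.node 6760 (.node 6756 (.node 6754 (.node 6753 (.leaf 0x186f8)
(.leaf 0x18705))
(.node 6755 (.leaf 0x18708)
(.leaf 0x18727)))
(.node 6758 (.node 6757 (.leaf 0x18735)
(.leaf 0x18738))
(.node 6759 (.leaf 0x18748)
(.leaf 0x18757))))
(.node 6764 (.node 6762 (.node 6761 (.leaf 0x18774)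
(.leaf 0x18787))
(.node 6763 (.leaf 0x18799)
(.leaf 0x187b5)))
(.node 6766 (.node 6765 (.leaf 0x187b8)
(.leaf 0x187c4))
(.node 6767 (.leaf 0x187c8)
(.leaf 0x187d7)))))
(.node 6776 (.node 6772 (.node 6770 (.node 6769 (.leaf 0x187d9)
(.leaf 0x18806))
(.node 6771 (.leaf 0x18815)
(.leaf 0x18818)))
(.node 6774 (.node 6773 (.leaf 0x18837)
(.leaf 0x18845))
(.node 6775 (.leaf 0x18848)
(.leaf 0x18859))))
(.node 6780 (.node 6778 (.node 6777 (.leaf 0x18868)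
(.leaf 0x1886b))
(.node 6779 (.leaf 0x18877)
(.leaf 0x188b8)))
(.node 6782 (.node 6781 (.leaf 0x188c7)
(.leaf 0x188c9))
(.node 6783 (.leaf 0x188e7)
(.leaf 0x188eb))))))))
(.node 6848 (.node 6816 (.node 6800 (.node 6792 (.node 6788 (.node 6786 (.node 6785 (.leaf 0x188fc)
(.leaf 0x1890c))
(.node 6787 (.leaf 0x18925)
(.leaf 0x18928)))
(.node 6790 (.node 6789 (.leaf 0x1892b)
(.leaf 0x18944))
(.node 6791 (.leaf 0x18948)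
(.leaf 0x1894b))))
(.node 6796 (.node 6794 (.node 6793 (.leaf 0x18957)
(.leaf 0x1895b))
(.node 6795 (.leaf 0x18978)
(.leaf 0x1897b)))
(.node 6798 (.node 6797 (.leaf 0x18987)
(.leaf 0x1898b))
(.node 6799 (.leaf 0x1899c)
(.leaf 0x189ab)))))
(.node 6808 (.node 6804 (.node 6802 (.node 6801 (.leaf 0x189e5)
(.leaf 0x189f7))
(.node 6803 (.leaf 0x18a19)
(.leaf 0x18a1b)))
(.node 6806 (.node 6805 (.leaf 0x18a2b)
(.leaf 0x18a48))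
(.node 6807 (.leaf 0x18a4a)
(.leaf 0x18a4b))))
(.node 6812 (.node 6810 (.node 6809 (.leaf 0x18a66)
(.leaf 0x18a75))
(.node 6811 (.leaf 0x18a78)
(.leaf 0x18aa6)))
(.node 6814 (.node 6813 (.leaf 0x18abb)
(.leaf 0x18ac8))
(.node 6815 (.leaf 0x18adc)
(.leaf 0x18ae7))))))
(.node 6832 (.node 6824 (.node 6820 (.node 6818 (.node 6817 (.leaf 0x18aeb)
(.leaf 0x18afc))
(.node 6819 (.leaf 0x18b05)
(.leaf 0x18b08)))
(.node 6822 (.node 6821 (.leaf 0x18b19)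
(.leaf 0x18b24))
(.node 6823 (.leaf 0x18b28)
(.leaf 0x18b39))))
(.node 6828 (.node 6826 (.node 6825 (.leaf 0x18b59)
(.leaf 0x18b6a))
(.node 6827 (.leaf 0x18b85)
(.leaf 0x18b88)))
(.node 6830 (.node 6829 (.leaf 0x18b8b)
(.leaf 0x18b94))
(.node 6831 (.leaf 0x18b98)
(.leaf 0x18b9b)))))
(.node 6840 (.node 6836 (.node 6834 (.node 6833 (.leaf 0x18ba7)
(.leaf 0x18ba9))
(.node 6835 (.leaf 0x18bab)
(.leaf 0x18bbc)))
(.node 6838 (.node 6837 (.leaf 0x18bd8)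
(.leaf 0x18bdb))
(.node 6839 (.leaf 0x18be7)
(.leaf 0x18be9))))
(.node 6844 (.node 6842 (.node 6841 (.leaf 0x18beb)
(.leaf 0x18c09))
(.node 6843 (.leaf 0x18c0b)
(.leaf 0x18c1b)))
(.node 6846 (.node 6845 (.leaf 0x18c39)
(.leaf 0x18c3b))
(.node 6847 (.leaf 0x18c4c)
(.leaf 0x18c66)))))))
(.node 6880 (.node 6864 (.node 6856 (.node 6852 (.node 6850 (.node 6849 (.leaf 0x18c75)
(.leaf 0x18c7c))
(.node 6851 (.leaf 0x18c94)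
(.leaf 0x18c98)))
(.node 6854 (.node 6853 (.leaf 0x18c9b)
(.leaf 0x18ca9))
(.node 6855 (.leaf 0x18cab)
(.leaf 0x18cc8))))
(.node 6860 (.node 6858 (.node 6857 (.leaf 0x18ccb)
(.leaf 0x18cd9))
(.node 6859 (.leaf 0x18cdb)
(.leaf 0x18cfb)))
(.node 6862 (.node 6861 (.leaf 0x18d14)
(.leaf 0x18d18))
(.node 6863 (.leaf 0x18d27)
(.leaf 0x18d33)))))
(.node 6872 (.node 6868 (.node 6866 (.node 6865 (.leaf 0x18d38)
(.leaf 0x18d3b))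
(.node 6867 (.leaf 0x18d47)
(.leaf 0x18d49)))
(.node 6870 (.node 6869 (.leaf 0x18d4b)
(.leaf 0x18d69))
(.node 6871 (.leaf 0x18d6b)
(.leaf 0x18d97))))
(.node 6876 (.node 6874 (.node 6873 (.leaf 0x18d99)
(.leaf 0x18d9b))
(.node 6875 (.leaf 0x18dac)
(.leaf 0x18db6)))
(.node 6878 (.node 6877 (.leaf 0x18db9)
(.leaf 0x18dbb))
(.node 6879 (.leaf 0x18dca)
(.leaf 0x18dcb))))))
(.node 6896 (.node 6888 (.node 6884 (.node 6882 (.node 6881 (.leaf 0x18ddc)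
(.leaf 0x18df8))
(.node 6883 (.leaf 0x18dfb)
(.leaf 0x18e06)))
(.node 6886 (.node 6885 (.leaf 0x18e1c)
(.leaf 0x18e24))
(.node 6887 (.leaf 0x18e2c)
(.leaf 0x18e39))))
(.node 6892 (.node 6890 (.node 6889 (.leaf 0x18e4a)
(.leaf 0x18e69))
(.node 6891 (.leaf 0x18e78)
(.leaf 0x18e7b)))
(.node 6894 (.node 6893 (.leaf 0x18e86)
(.leaf 0x18e99))
(.node 6895 (.leaf 0x18ea8)
(.leaf 0x18eaa)))))
(.node 6904 (.node 6900 (.node 6898 (.node 6897 (.leaf 0x18eab)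
(.leaf 0x18ecb))
(.node 6899 (.leaf 0x18ed6)
(.leaf 0x18ee5)))
(.node 6902 (.node 6901 (.leaf 0x18ef8)
(.leaf 0x18efa))
(.node 6903 (.leaf 0x18f0b)
(.leaf 0x18f33))))
(.node 6908 (.node 6906 (.node 6905 (.leaf 0x18f46)
(.leaf 0x18f56))
(.node 6907 (.leaf 0x18f5b)
(.leaf 0x18f7b)))
(.node 6910 (.node 6909 (.leaf 0x18f86)
(.leaf 0x18f9b))
(.node 6911 (.leaf 0x18fa6)
(.leaf 0x18fb6)))))))))

/-- part of a trie -/
def parPart27 : Tr :=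
(.node 7040 (.node 6976 (.node 6944 (.node 6928 (.node 6920 (.node 6916 (.node 6914 (.node 6913 (.leaf 0x18fcc)
(.leaf 0x18fdc))
(.node 6915 (.leaf 0x18ffb)
(.leaf 0x19028)))
(.node 6918 (.node 6917 (.leaf 0x19039)
(.leaf 0x1904a))
(.node 6919 (.leaf 0x19058)
(.leaf 0x19069))))
(.node 6924 (.node 6922 (.node 6921 (.leaf 0x1907a)
(.leaf 0x1909a))
(.node 6923 (.leaf 0x190b9)
(.leaf 0x190e6)))
(.node 6926 (.node 6925 (.leaf 0x190e9)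
(.leaf 0x190eb))
(.node 6927 (.leaf 0x1910b)
(.leaf 0x19126)))))
(.node 6936 (.node 6932 (.node 6930 (.node 6929 (.leaf 0x19148)
(.leaf 0x1914b))
(.node 6931 (.leaf 0x19159)
(.leaf 0x1915b)))
(.node 6934 (.node 6933 (.leaf 0x1917b)
(.leaf 0x1918b))
(.node 6935 (.leaf 0x191a7)
(.leaf 0x191a9))))
(.node 6940 (.node 6938 (.node 6937 (.leaf 0x191ab)
(.leaf 0x191cb))
(.node 6939 (.leaf 0x191db)
(.leaf 0x1921a)))
(.node 6942 (.node 6941 (.leaf 0x19249)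
(.leaf 0x1924b))
(.node 6943 (.leaf 0x1925b)
(.leaf 0x19266))))))
(.node 6960 (.node 6952 (.node 6948 (.node 6946 (.node 6945 (.leaf 0x19286)
(.leaf 0x19295))
(.node 6947 (.leaf 0x192ab)
(.leaf 0x192e7)))
(.node 6950 (.node 6949 (.leaf 0x19319)
(.leaf 0x1932a))
(.node 6951 (.leaf 0x1936a)
(.leaf 0x193a7))))
(.node 6956 (.node 6954 (.node 6953 (.leaf 0x193a9)
(.leaf 0x193b7))
(.node 6955 (.leaf 0x193b9)
(.leaf 0x193bb)))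
(.node 6958 (.node 6957 (.leaf 0x193db)
(.leaf 0x19409))
(.node 6959 (.leaf 0x1942b)
(.leaf 0x19447)))))
(.node 6968 (.node 6964 (.node 6962 (.node 6961 (.leaf 0x19449)
(.leaf 0x19459))
(.node 6963 (.leaf 0x1945b)
(.leaf 0x1946a)))
(.node 6966 (.node 6965 (.leaf 0x19479)
(.leaf 0x19499))
(.node 6967 (.leaf 0x194aa)
(.leaf 0x194ca))))
(.node 6972 (.node 6970 (.node 6969 (.leaf 0x19506)
(.leaf 0x19508))
(.node 6971 (.leaf 0x19528)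
(.leaf 0x19548)))
(.node 6974 (.node 6973 (.leaf 0x19567)
(.leaf 0x1956b))
(.node 6975 (.leaf 0x1957b)
(.leaf 0x19597)))))))
(.node 7008 (.node 6992 (.node 6984 (.node 6980 (.node 6978 (.node 6977 (.leaf 0x19599)
(.leaf 0x195aa))
(.node 6979 (.leaf 0x195b9)
(.leaf 0x195ca)))
(.node 6982 (.node 6981 (.leaf 0x195e8)
(.leaf 0x195f6))
(.node 6983 (.leaf 0x195f8)
(.leaf 0x19608))))
(.node 6988 (.node 6986 (.node 6985 (.leaf 0x19628)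
(.leaf 0x1962b))
(.node 6987 (.leaf 0x19639)
(.leaf 0x19655)))
(.node 6990 (.node 6989 (.leaf 0x19658)
(.leaf 0x19669))
(.node 6991 (.leaf 0x19678)
(.leaf 0x19687)))))
(.node 7000 (.node 6996 (.node 6994 (.node 6993 (.leaf 0x19689)
(.leaf 0x1969a))
(.node 6995 (.leaf 0x196a7)
(.leaf 0x196b9)))
(.node 6998 (.node 6997 (.leaf 0x196f8)
(.leaf 0x19707))
(.node 6999 (.leaf 0x19738)
(.leaf 0x19747))))
(.node 7004 (.node 7002 (.node 7001 (.leaf 0x19749)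
(.leaf 0x19767))
(.node 7003 (.leaf 0x19769)
(.leaf 0x19779)))
(.node 7006 (.node 7005 (.leaf 0x1978a)
(.leaf 0x197a9))
(.node 7007 (.leaf 0x197e5)
(.leaf 0x197e8))))))
(.node 7024 (.node 7016 (.node 7012 (.node 7010 (.node 7009 (.leaf 0x197f7)
(.leaf 0x19814))
(.node 7011 (.leaf 0x19818)
(.leaf 0x19827)))
(.node 7014 (.node 7013 (.leaf 0x19849)
(.leaf 0x1984b))
(.node 7015 (.leaf 0x1985b)
(.leaf 0x1987b))))
(.node 7020 (.node 7018 (.node 7017 (.leaf 0x19886)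
(.leaf 0x198d5))
(.node 7019 (.leaf 0x198d8)
(.leaf 0x198f8)))
(.node 7022 (.node 7021 (.leaf 0x19907)
(.leaf 0x19909))
(.node 7023 (.leaf 0x19919)
(.leaf 0x19938)))))
(.node 7032 (.node 7028 (.node 7026 (.node 7025 (.leaf 0x1997a)
(.leaf 0x199d8))
(.node 7027 (.leaf 0x199f6)
(.leaf 0x19a05)))
(.node 7030 (.node 7029 (.leaf 0x19a17)
(.leaf 0x19a76))
(.node 7031 (.leaf 0x19a79)
(.leaf 0x19a89))))
(.node 7036 (.node 7034 (.node 7033 (.leaf 0x19a98)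
(.leaf 0x19aa7))
(.node 7035 (.leaf 0x19ac7)
(.leaf 0x19ac9)))
(.node 7038 (.node 7037 (.leaf 0x19acb)
(.leaf 0x19ad8))
(.node 7039 (.leaf 0x19ae5)
(.leaf 0x19ae8))))))))
(.node 7104 (.node 7072 (.node 7056 (.node 7048 (.node 7044 (.node 7042 (.node 7041 (.leaf 0x19b08)
(.leaf 0x19b0b))
(.node 7043 (.leaf 0x19b17)
(.leaf 0x19b19)))
(.node 7046 (.node 7045 (.leaf 0x19b1b)
(.leaf 0x19b49))
(.node 7047 (.leaf 0x19b4b)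
(.leaf 0x19b5b))))
(.node 7052 (.node 7050 (.node 7049 (.leaf 0x19b74)
(.leaf 0x19b78))
(.node 7051 (.leaf 0x19b7b)
(.leaf 0x19b9c)))
(.node 7054 (.node 7053 (.leaf 0x19bbb)
(.leaf 0x19bc6))
(.node 7055 (.leaf 0x19bd7)
(.leaf 0x19bf9)))))
(.node 7064 (.node 7060 (.node 7058 (.node 7057 (.leaf 0x19c28)
(.leaf 0x19c3b))
(.node 7059 (.leaf 0x19c76)
(.leaf 0x19c85)))
(.node 7062 (.node 7061 (.leaf 0x19c88)
(.leaf 0x19ca7))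
(.node 7063 (.leaf 0x19cb8)
(.leaf 0x19cc7))))
(.node 7068 (.node 7066 (.node 7065 (.leaf 0x19ce4)
(.leaf 0x19ce8))
(.node 7067 (.leaf 0x19ceb)
(.leaf 0x19cf9)))
(.node 7070 (.node 7069 (.leaf 0x19cfb)
(.leaf 0x19d07))
(.node 7071 (.leaf 0x19d0b)
(.leaf 0x19d1c))))))
(.node 7088 (.node 7080 (.node 7076 (.node 7074 (.node 7073 (.leaf 0x19d2b)
(.leaf 0x19d58))
(.node 7075 (.leaf 0x19d5b)
(.leaf 0x19d6b)))
(.node 7078 (.node 7077 (.leaf 0x19d95)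
(.leaf 0x19d98))
(.node 7079 (.leaf 0x19da9)
(.leaf 0x19db8))))
(.node 7084 (.node 7082 (.node 7081 (.leaf 0x19dc9)
(.leaf 0x19de9))
(.node 7083 (.leaf 0x19e08)
(.leaf 0x19e17)))
(.node 7086 (.node 7085 (.leaf 0x19e19)
(.leaf 0x19e38))
(.node 7087 (.leaf 0x19e3b)
(.leaf 0x19e47)))))
(.node 7096 (.node 7092 (.node 7090 (.node 7089 (.leaf 0x19e49)
(.leaf 0x19e4b))
(.node 7091 (.leaf 0x19e56)
(.leaf 0x19e69)))
(.node 7094 (.node 7093 (.leaf 0x19e7a)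
(.leaf 0x19e86))
(.node 7095 (.leaf 0x19e89)
(.leaf 0x19e9a))))
(.node 7100 (.node 7098 (.node 7097 (.leaf 0x19eac)
(.leaf 0x19ec8))
(.node 7099 (.leaf 0x19eca)
(.leaf 0x19ef4)))
(.node 7102 (.node 7101 (.leaf 0x19ef8)
(.leaf 0x19f18))
(.node 7103 (.leaf 0x19f35)
(.leaf 0x19f49)))))))
(.node 7136 (.node 7120 (.node 7112 (.node 7108 (.node 7106 (.node 7105 (.leaf 0x19f4b)
(.leaf 0x19f56))
(.node 7107 (.leaf 0x19f6a)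
(.leaf 0x19f6b)))
(.node 7110 (.node 7109 (.leaf 0x19f76)
(.leaf 0x19f87))
(.node 7111 (.leaf 0x19fa9)
(.leaf 0x19fb8))))
(.node 7116 (.node 7114 (.node 7113 (.leaf 0x19fc7)
(.leaf 0x19fcc))
(.node 7115 (.leaf 0x19fea)
(.leaf 0x19feb)))
(.node 7118 (.node 7117 (.leaf 0x1a006)
(.leaf 0x1a024))
(.node 7119 (.leaf 0x1a039)
(.leaf 0x1a058)))))
(.node 7128 (.node 7124 (.node 7122 (.node 7121 (.leaf 0x1a05a)
(.leaf 0x1a086))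
(.node 7123 (.leaf 0x1a0a9)
(.leaf 0x1a0ab)))
(.node 7126 (.node 7125 (.leaf 0x1a0b6)
(.leaf 0x1a0ca))
(.node 7127 (.leaf 0x1a0cb)
(.leaf 0x1a10a))))
(.node 7132 (.node 7130 (.node 7129 (.leaf 0x1a10b)
(.leaf 0x1a116))
(.node 7131 (.leaf 0x1a125)
(.leaf 0x1a146)))
(.node 7134 (.node 7133 (.leaf 0x1a14c)
(.leaf 0x1a157))
(.node 7135 (.leaf 0x1a15c)
(.leaf 0x1a16c))))))
(.node 7152 (.node 7144 (.node 7140 (.node 7138 (.node 7137 (.leaf 0x1a18c)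
(.leaf 0x1a1a7))
(.node 7139 (.leaf 0x1a1a9)
(.leaf 0x1a1ab)))
(.node 7142 (.node 7141 (.leaf 0x1a1b9)
(.leaf 0x1a1bb))
(.node 7143 (.leaf 0x1a1cb)
(.leaf 0x1a1eb))))
(.node 7148 (.node 7146 (.node 7145 (.leaf 0x1a1fc)
(.leaf 0x1a21b))
(.node 7147 (.leaf 0x1a246)
(.leaf 0x1a26b)))
(.node 7150 (.node 7149 (.leaf 0x1a27c)
(.leaf 0x1a298))
(.node 7151 (.leaf 0x1a2a9)
(.leaf 0x1a2c9)))))
(.node 7160 (.node 7156 (.node 7154 (.node 7153 (.leaf 0x1a2f9)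
(.leaf 0x1a316))
(.node 7155 (.leaf 0x1a319)
(.leaf 0x1a31b)))
(.node 7158 (.node 7157 (.leaf 0x1a349)
(.leaf 0x1a358))
(.node 7159 (.leaf 0x1a35a)
(.leaf 0x1a35b))))
(.node 7164 (.node 7162 (.node 7161 (.leaf 0x1a388)
(.leaf 0x1a399))
(.node 7163 (.leaf 0x1a3f7)
(.leaf 0x1a418)))
(.node 7166 (.node 7165 (.leaf 0x1a43b)
(.leaf 0x1a446))
(.node 7167 (.leaf 0x1a455)
(.leaf 0x1a466)))))))))

/-- part of a trie -/
def parPart28 : Tr :=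
(.node 7296 (.node 7232 (.node 7200 (.node 7184 (.node 7176 (.node 7172 (.node 7170 (.node 7169 (.leaf 0x1a477)
(.leaf 0x1a485))
(.node 7171 (.leaf 0x1a496)
(.leaf 0x1a4a5)))
(.node 7174 (.node 7173 (.leaf 0x1a4a7)
(.leaf 0x1a4c7))
(.node 7175 (.leaf 0x1a4d9)
(.leaf 0x1a4db))))
(.node 7180 (.node 7178 (.node 7177 (.leaf 0x1a4fa)
(.leaf 0x1a4fb))
(.node 7179 (.leaf 0x1a51a)
(.leaf 0x1a51b)))
(.node 7182 (.node 7181 (.leaf 0x1a53b)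
(.leaf 0x1a579))
(.node 7183 (.leaf 0x1a58a)
(.leaf 0x1a58b)))))
(.node 7192 (.node 7188 (.node 7186 (.node 7185 (.leaf 0x1a5f5)
(.leaf 0x1a5f8))
(.node 7187 (.leaf 0x1a618)
(.leaf 0x1a627)))
(.node 7190 (.node 7189 (.leaf 0x1a648)
(.leaf 0x1a657))
(.node 7191 (.leaf 0x1a667)
(.leaf 0x1a68b))))
(.node 7196 (.node 7194 (.node 7193 (.leaf 0x1a696)
(.leaf 0x1a699))
(.node 7195 (.leaf 0x1a6b4)
(.leaf 0x1a6b8)))
(.node 7198 (.node 7197 (.leaf 0x1a6c7)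
(.leaf 0x1a6d8))
(.node 7199 (.leaf 0x1a6e9)
(.leaf 0x1a715))))))
(.node 7216 (.node 7208 (.node 7204 (.node 7202 (.node 7201 (.leaf 0x1a718)
(.leaf 0x1a737))
(.node 7203 (.leaf 0x1a758)
(.leaf 0x1a767)))
(.node 7206 (.node 7205 (.leaf 0x1a769)
(.leaf 0x1a787))
(.node 7207 (.leaf 0x1a78b)
(.leaf 0x1a79c))))
(.node 7212 (.node 7210 (.node 7209 (.leaf 0x1a7b7)
(.leaf 0x1a7bb))
(.node 7211 (.leaf 0x1a7c9)
(.leaf 0x1a7da)))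
(.node 7214 (.node 7213 (.leaf 0x1a7e9)
(.leaf 0x1a7eb))
(.node 7215 (.leaf 0x1a7fc)
(.leaf 0x1a824)))))
(.node 7224 (.node 7220 (.node 7218 (.node 7217 (.leaf 0x1a828)
(.leaf 0x1a82b))
(.node 7219 (.leaf 0x1a837)
(.leaf 0x1a853)))
(.node 7222 (.node 7221 (.leaf 0x1a858)
(.leaf 0x1a85b))
(.node 7223 (.leaf 0x1a867)
(.leaf 0x1a86b))))
(.node 7228 (.node 7226 (.node 7225 (.leaf 0x1a88b)
(.leaf 0x1a8a7))
(.node 7227 (.leaf 0x1a8ab)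
(.leaf 0x1a8bc)))
(.node 7230 (.node 7229 (.leaf 0x1a8cb)
(.leaf 0x1a8dc))
(.node 7231 (.leaf 0x1a904)
(.leaf 0x1a928)))))))
(.node 7264 (.node 7248 (.node 7240 (.node 7236 (.node 7234 (.node 7233 (.leaf 0x1a92b)
(.leaf 0x1a95a))
(.node 7235 (.leaf 0x1a95b)
(.leaf 0x1a96b)))
(.node 7238 (.node 7237 (.leaf 0x1a994)
(.leaf 0x1a998))
(.node 7239 (.leaf 0x1a9bb)
(.leaf 0x1a9cc))))
(.node 7244 (.node 7242 (.node 7241 (.leaf 0x1a9d7)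
(.leaf 0x1a9db))
(.node 7243 (.leaf 0x1a9f9)
(.leaf 0x1a9fb)))
(.node 7246 (.node 7245 (.leaf 0x1aa0c)
(.leaf 0x1aa24))
(.node 7247 (.leaf 0x1aa28)
(.leaf 0x1aa39)))))
(.node 7256 (.node 7252 (.node 7250 (.node 7249 (.leaf 0x1aa58)
(.leaf 0x1aa67))
(.node 7251 (.leaf 0x1aa69)
(.leaf 0x1aa8a)))
(.node 7254 (.node 7253 (.leaf 0x1aaa4)
(.leaf 0x1aaab))
(.node 7255 (.leaf 0x1aab7)
(.leaf 0x1aabb))))
(.node 7260 (.node 7258 (.node 7257 (.leaf 0x1aacc)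
(.leaf 0x1aad3))
(.node 7259 (.leaf 0x1aad8)
(.leaf 0x1aadb)))
(.node 7262 (.node 7261 (.leaf 0x1aae7)
(.leaf 0x1aae9))
(.node 7263 (.leaf 0x1aaeb)
(.leaf 0x1ab09))))))
(.node 7280 (.node 7272 (.node 7268 (.node 7266 (.node 7265 (.leaf 0x1ab0b)
(.leaf 0x1ab1b))
(.node 7267 (.leaf 0x1ab47)
(.leaf 0x1ab49)))
(.node 7270 (.node 7269 (.leaf 0x1ab4b)
(.leaf 0x1ab66))
(.node 7271 (.leaf 0x1ab69)
(.leaf 0x1ab6b))))
(.node 7276 (.node 7274 (.node 7273 (.leaf 0x1ab7a)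
(.leaf 0x1ab7b))
(.node 7275 (.leaf 0x1ab8c)
(.leaf 0x1ab98)))
(.node 7278 (.node 7277 (.leaf 0x1ab9b)
(.leaf 0x1aba6))
(.node 7279 (.leaf 0x1abac)
(.leaf 0x1abc8)))))
(.node 7288 (.node 7284 (.node 7282 (.node 7281 (.leaf 0x1abcb)
(.leaf 0x1abdc))
(.node 7283 (.leaf 0x1abfc)
(.leaf 0x1ac0c)))
(.node 7286 (.node 7285 (.leaf 0x1ac28)
(.leaf 0x1ac2b))
(.node 7287 (.leaf 0x1ac39)
(.leaf 0x1ac3b))))
(.node 7292 (.node 7290 (.node 7289 (.leaf 0x1ac5b)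
(.leaf 0x1ac79))
(.node 7291 (.leaf 0x1ac7b)
(.leaf 0x1ac9b)))
(.node 7294 (.node 7293 (.leaf 0x1acc3)
(.leaf 0x1acc8))
(.node 7295 (.leaf 0x1acd7)
(.leaf 0x1acd9))))))))
(.node 7360 (.node 7328 (.node 7312 (.node 7304 (.node 7300 (.node 7298 (.node 7297 (.leaf 0x1acf8)
(.leaf 0x1ad07))
(.node 7299 (.leaf 0x1ad09)
(.leaf 0x1ad0b)))
(.node 7302 (.node 7301 (.leaf 0x1ad26)
(.leaf 0x1ad29))
(.node 7303 (.leaf 0x1ad2b)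
(.leaf 0x1ad3b))))
(.node 7308 (.node 7306 (.node 7305 (.leaf 0x1ad46)
(.leaf 0x1ad4c))
(.node 7307 (.leaf 0x1ad58)
(.leaf 0x1ad5b)))
(.node 7310 (.node 7309 (.leaf 0x1ad76)
(.leaf 0x1ad79))
(.node 7311 (.leaf 0x1ad7b)
(.leaf 0x1ad8a)))))
(.node 7320 (.node 7316 (.node 7314 (.node 7313 (.leaf 0x1ad8b)
(.leaf 0x1ad96))
(.node 7315 (.leaf 0x1ad9c)
(.leaf 0x1adb9)))
(.node 7318 (.node 7317 (.leaf 0x1adc8)
(.leaf 0x1adca))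
(.node 7319 (.leaf 0x1adcb)
(.leaf 0x1addc))))
(.node 7324 (.node 7322 (.node 7321 (.leaf 0x1adfc)
(.leaf 0x1ae1b))
(.node 7323 (.leaf 0x1ae26)
(.leaf 0x1ae35)))
(.node 7326 (.node 7325 (.leaf 0x1ae53)
(.leaf 0x1ae78))
(.node 7327 (.leaf 0x1ae98)
(.leaf 0x1ae9b))))))
(.node 7344 (.node 7336 (.node 7332 (.node 7330 (.node 7329 (.leaf 0x1aeab)
(.leaf 0x1aeb6))
(.node 7331 (.leaf 0x1aed8)
(.leaf 0x1aeda)))
(.node 7334 (.node 7333 (.leaf 0x1aedb)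
(.leaf 0x1aeeb))
(.node 7335 (.leaf 0x1af06)
(.leaf 0x1af16))))
(.node 7340 (.node 7338 (.node 7337 (.leaf 0x1af25)
(.leaf 0x1af4a))
(.node 7339 (.leaf 0x1af8c)
(.leaf 0x1af9b)))
(.node 7342 (.node 7341 (.leaf 0x1afa6)
(.leaf 0x1afb6))
(.node 7343 (.leaf 0x1afc7)
(.leaf 0x1afd6)))))
(.node 7352 (.node 7348 (.node 7346 (.node 7345 (.leaf 0x1afec)
(.leaf 0x1b039))
(.node 7347 (.leaf 0x1b04a)
(.leaf 0x1b069)))
(.node 7350 (.node 7349 (.leaf 0x1b07a)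
(.leaf 0x1b0aa))
(.node 7351 (.leaf 0x1b0b9)
(.leaf 0x1b0bb))))
(.node 7356 (.node 7354 (.node 7353 (.leaf 0x1b0cb)
(.leaf 0x1b0d6))
(.node 7355 (.leaf 0x1b0e6)
(.leaf 0x1b0f5)))
(.node 7358 (.node 7357 (.leaf 0x1b109)
(.leaf 0x1b10b))
(.node 7359 (.leaf 0x1b12b)
(.leaf 0x1b16b)))))))
(.node 7392 (.node 7376 (.node 7368 (.node 7364 (.node 7362 (.node 7361 (.leaf 0x1b17b)
(.leaf 0x1b1a6))
(.node 7363 (.leaf 0x1b1cb)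
(.leaf 0x1b1d6)))
(.node 7366 (.node 7365 (.leaf 0x1b1e6)
(.leaf 0x1b1f5))
(.node 7367 (.leaf 0x1b1f7)
(.leaf 0x1b205))))
(.node 7372 (.node 7370 (.node 7369 (.leaf 0x1b24a)
(.leaf 0x1b279))
(.node 7371 (.leaf 0x1b299)
(.leaf 0x1b29b)))
(.node 7374 (.node 7373 (.leaf 0x1b2ab)
(.leaf 0x1b2c6))
(.node 7375 (.leaf 0x1b2d8)
(.leaf 0x1b2f9)))))
(.node 7384 (.node 7380 (.node 7378 (.node 7377 (.leaf 0x1b318)
(.leaf 0x1b31a))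
(.node 7379 (.leaf 0x1b31b)
(.leaf 0x1b388)))
(.node 7382 (.node 7381 (.leaf 0x1b3a7)
(.leaf 0x1b3ab))
(.node 7383 (.leaf 0x1b3b7)
(.leaf 0x1b3bb))))
(.node 7388 (.node 7386 (.node 7385 (.leaf 0x1b3cb)
(.leaf 0x1b3f9))
(.node 7387 (.leaf 0x1b428)
(.leaf 0x1b455)))
(.node 7390 (.node 7389 (.leaf 0x1b458)
(.leaf 0x1b489))
(.node 7391 (.leaf 0x1b48b)
(.leaf 0x1b4b8))))))
(.node 7408 (.node 7400 (.node 7396 (.node 7394 (.node 7393 (.leaf 0x1b4c7)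
(.leaf 0x1b4c9))
(.node 7395 (.leaf 0x1b4e7)
(.leaf 0x1b4f9)))
(.node 7398 (.node 7397 (.leaf 0x1b50a)
(.leaf 0x1b529))
(.node 7399 (.leaf 0x1b538)
(.leaf 0x1b547))))
(.node 7404 (.node 7402 (.node 7401 (.leaf 0x1b549)
(.leaf 0x1b559))
(.node 7403 (.leaf 0x1b567)
(.leaf 0x1b579)))
(.node 7406 (.node 7405 (.leaf 0x1b599)
(.leaf 0x1b5b8))
(.node 7407 (.leaf 0x1b5e8)
(.leaf 0x1b5f7)))))
(.node 7416 (.node 7412 (.node 7410 (.node 7409 (.leaf 0x1b618)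
(.leaf 0x1b627))
(.node 7411 (.leaf 0x1b64b)
(.leaf 0x1b656)))
(.node 7414 (.node 7413 (.leaf 0x1b676)
(.leaf 0x1b698))
(.node 7415 (.leaf 0x1b6a7)
(.leaf 0x1b6b7))))
(.node 7420 (.node 7418 (.node 7417 (.leaf 0x1b6c9)
(.leaf 0x1b6e8))
(.node 7419 (.leaf 0x1b71b)
(.leaf 0x1b725)))
(.node 7422 (.node 7421 (.leaf 0x1b759)
(.leaf 0x1b768))
(.node 7423 (.leaf 0x1b778)
(.leaf 0x1b7a9)))))))))

/-- part of a trie -/
def parPart29 : Tr :=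
(.node 7552 (.node 7488 (.node 7456 (.node 7440 (.node 7432 (.node 7428 (.node 7426 (.node 7425 (.leaf 0x1b7ab)
(.leaf 0x1b7bb))
(.node 7427 (.leaf 0x1b7e4)
(.leaf 0x1b7e8)))
(.node 7430 (.node 7429 (.leaf 0x1b807)
(.leaf 0x1b80b))
(.node 7431 (.leaf 0x1b81c)
(.leaf 0x1b829))))
(.node 7436 (.node 7434 (.node 7433 (.leaf 0x1b82b)
(.leaf 0x1b83b))
(.node 7435 (.leaf 0x1b85b)
(.leaf 0x1b866)))
(.node 7438 (.node 7437 (.leaf 0x1b888)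
(.leaf 0x1b88b))
(.node 7439 (.leaf 0x1b8c6)
(.leaf 0x1b8e9)))))
(.node 7448 (.node 7444 (.node 7442 (.node 7441 (.leaf 0x1b8f8)
(.leaf 0x1b925))
(.node 7443 (.leaf 0x1b928)
(.leaf 0x1b938)))
(.node 7446 (.node 7445 (.leaf 0x1b947)
(.leaf 0x1b967))
(.node 7447 (.leaf 0x1b988)
(.leaf 0x1b98b))))
(.node 7452 (.node 7450 (.node 7449 (.leaf 0x1b997)
(.leaf 0x1b999))
(.node 7451 (.leaf 0x1b99b)
(.leaf 0x1b9bb)))
(.node 7454 (.node 7453 (.leaf 0x1b9d9)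
(.leaf 0x1b9db))
(.node 7455 (.leaf 0x1b9ec)
(.leaf 0x1ba19))))))
(.node 7472 (.node 7464 (.node 7460 (.node 7458 (.node 7457 (.leaf 0x1ba1b)
(.leaf 0x1ba48))
(.node 7459 (.leaf 0x1ba59)
(.leaf 0x1ba79)))
(.node 7462 (.node 7461 (.leaf 0x1baa7)
(.leaf 0x1baa9))
(.node 7463 (.leaf 0x1bab9)
(.leaf 0x1bad9))))
(.node 7468 (.node 7466 (.node 7465 (.leaf 0x1badb)
(.leaf 0x1bae6))
(.node 7467 (.leaf 0x1baf6)
(.leaf 0x1baf9)))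
(.node 7470 (.node 7469 (.leaf 0x1bb0a)
(.leaf 0x1bb0b))
(.node 7471 (.leaf 0x1bb1c)
(.leaf 0x1bb38)))))
(.node 7480 (.node 7476 (.node 7474 (.node 7473 (.leaf 0x1bb59)
(.leaf 0x1bb68))
(.node 7475 (.leaf 0x1bb6a)
(.leaf 0x1bb9a)))
(.node 7478 (.node 7477 (.leaf 0x1bbb8)
(.leaf 0x1bbe4))
(.node 7479 (.leaf 0x1bbfa)
(.leaf 0x1bbfb))))
(.node 7484 (.node 7482 (.node 7481 (.leaf 0x1bc06)
(.leaf 0x1bc15))
(.node 7483 (.leaf 0x1bc17)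
(.leaf 0x1bc36)))
(.node 7486 (.node 7485 (.leaf 0x1bc3c)
(.leaf 0x1bc47))
(.node 7487 (.leaf 0x1bc4c)
(.leaf 0x1bc68)))))))
(.node 7520 (.node 7504 (.node 7496 (.node 7492 (.node 7490 (.node 7489 (.leaf 0x1bc7a)
(.leaf 0x1bc8c))
(.node 7491 (.leaf 0x1bcb6)
(.leaf 0x1bcd3)))
(.node 7494 (.node 7493 (.leaf 0x1bce8)
(.leaf 0x1bcfa))
(.node 7495 (.leaf 0x1bd2a)
(.leaf 0x1bd2b))))
(.node 7500 (.node 7498 (.node 7497 (.leaf 0x1bd45)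
(.leaf 0x1bd66))
(.node 7499 (.leaf 0x1bd6c)
(.leaf 0x1bd7b)))
(.node 7502 (.node 7501 (.leaf 0x1bd86)
(.leaf 0x1bd8c))
(.node 7503 (.leaf 0x1bd95)
(.leaf 0x1bd97)))))
(.node 7512 (.node 7508 (.node 7506 (.node 7505 (.leaf 0x1bdb7)
(.leaf 0x1bdbc))
(.node 7507 (.leaf 0x1bddc)
(.leaf 0x1be19)))
(.node 7510 (.node 7509 (.leaf 0x1be1b)
(.leaf 0x1be2b))
(.node 7511 (.leaf 0x1be4b)
(.leaf 0x1be76))))
(.node 7516 (.node 7514 (.node 7513 (.leaf 0x1be7c)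
(.leaf 0x1be96))
(.node 7515 (.leaf 0x1bebc)
(.leaf 0x1bed7)))
(.node 7518 (.node 7517 (.leaf 0x1bed9)
(.leaf 0x1bf19))
(.node 7519 (.leaf 0x1bf28)
(.leaf 0x1bf2a))))))
(.node 7536 (.node 7528 (.node 7524 (.node 7522 (.node 7521 (.leaf 0x1bf2b)
(.leaf 0x1bf36))
(.node 7523 (.leaf 0x1bf4a)
(.leaf 0x1bf5b)))
(.node 7526 (.node 7525 (.leaf 0x1bf76)
(.leaf 0x1bfc6))
(.node 7527 (.leaf 0x1bfd5)
(.leaf 0x1bfd7))))
(.node 7532 (.node 7530 (.node 7529 (.leaf 0x1bff5)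
(.leaf 0x1bff7))
(.node 7531 (.leaf 0x1c025)
(.leaf 0x1c027)))
(.node 7534 (.node 7533 (.leaf 0x1c037)
(.leaf 0x1c06a))
(.node 7535 (.leaf 0x1c06b)
(.leaf 0x1c08b)))))
(.node 7544 (.node 7540 (.node 7538 (.node 7537 (.leaf 0x1c0ab)
(.leaf 0x1c0da))
(.node 7539 (.leaf 0x1c0eb)
(.leaf 0x1c104)))
(.node 7542 (.node 7541 (.leaf 0x1c108)
(.leaf 0x1c117))
(.node 7543 (.leaf 0x1c127)
(.leaf 0x1c147))))
(.node 7548 (.node 7546 (.node 7545 (.leaf 0x1c149)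
(.leaf 0x1c14b))
(.node 7547 (.leaf 0x1c166)
(.leaf 0x1c169)))
(.node 7550 (.node 7549 (.leaf 0x1c189)
(.leaf 0x1c1a3))
(.node 7551 (.leaf 0x1c1a8)
(.leaf 0x1c1b7))))))))
(.node 7616 (.node 7584 (.node 7568 (.node 7560 (.node 7556 (.node 7554 (.node 7553 (.leaf 0x1c1b9)
(.leaf 0x1c1d9))
(.node 7555 (.leaf 0x1c1f4)
(.leaf 0x1c1f8)))
(.node 7558 (.node 7557 (.leaf 0x1c207)
(.leaf 0x1c227))
(.node 7559 (.leaf 0x1c22b)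
(.leaf 0x1c239))))
(.node 7564 (.node 7562 (.node 7561 (.leaf 0x1c24a)
(.leaf 0x1c259))
(.node 7563 (.leaf 0x1c25b)
(.leaf 0x1c26c)))
(.node 7566 (.node 7565 (.leaf 0x1c289)
(.leaf 0x1c28b))
(.node 7567 (.leaf 0x1c2a8)
(.leaf 0x1c2aa)))))
(.node 7576 (.node 7572 (.node 7570 (.node 7569 (.leaf 0x1c2c8)
(.leaf 0x1c2cb))
(.node 7571 (.leaf 0x1c2dc)
(.leaf 0x1c2f3)))
(.node 7574 (.node 7573 (.leaf 0x1c2f8)
(.leaf 0x1c2fb))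
(.node 7575 (.leaf 0x1c307)
(.leaf 0x1c309))))
(.node 7580 (.node 7578 (.node 7577 (.leaf 0x1c338)
(.leaf 0x1c347))
(.node 7579 (.leaf 0x1c34b)
(.leaf 0x1c36b)))
(.node 7582 (.node 7581 (.leaf 0x1c37c)
(.leaf 0x1c39b))
(.node 7583 (.leaf 0x1c3ac)
(.leaf 0x1c3cc))))))
(.node 7600 (.node 7592 (.node 7588 (.node 7586 (.node 7585 (.leaf 0x1c3e3)
(.leaf 0x1c3fb))
(.node 7587 (.leaf 0x1c41b)
(.leaf 0x1c448)))
(.node 7590 (.node 7589 (.leaf 0x1c46c)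
(.leaf 0x1c486))
(.node 7591 (.leaf 0x1c489)
(.leaf 0x1c48b))))
(.node 7596 (.node 7594 (.node 7593 (.leaf 0x1c4a8)
(.leaf 0x1c4ab))
(.node 7595 (.leaf 0x1c4b6)
(.leaf 0x1c4bc)))
(.node 7598 (.node 7597 (.leaf 0x1c4d8)
(.leaf 0x1c4e7))
(.node 7599 (.leaf 0x1c4e9)
(.leaf 0x1c507)))))
(.node 7608 (.node 7604 (.node 7602 (.node 7601 (.leaf 0x1c509)
(.leaf 0x1c519))
(.node 7603 (.leaf 0x1c52a)
(.leaf 0x1c548)))
(.node 7606 (.node 7605 (.leaf 0x1c54b)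
(.leaf 0x1c56b))
(.node 7607 (.leaf 0x1c57c)
(.leaf 0x1c598))))
(.node 7612 (.node 7610 (.node 7609 (.leaf 0x1c5a7)
(.leaf 0x1c5a9))
(.node 7611 (.leaf 0x1c5ab)
(.leaf 0x1c5c6)))
(.node 7614 (.node 7613 (.leaf 0x1c5c9)
(.leaf 0x1c5cb))
(.node 7615 (.leaf 0x1c5da)
(.leaf 0x1c5db)))))))
(.node 7648 (.node 7632 (.node 7624 (.node 7620 (.node 7618 (.node 7617 (.leaf 0x1c5f8)
(.leaf 0x1c5fb))
(.node 7619 (.leaf 0x1c606)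
(.leaf 0x1c60c)))
(.node 7622 (.node 7621 (.leaf 0x1c626)
(.leaf 0x1c629))
(.node 7623 (.leaf 0x1c62b)
(.leaf 0x1c63a))))
(.node 7628 (.node 7626 (.node 7625 (.leaf 0x1c63b)
(.leaf 0x1c646))
(.node 7627 (.leaf 0x1c64c)
(.leaf 0x1c659)))
(.node 7630 (.node 7629 (.leaf 0x1c668)
(.leaf 0x1c66a))
(.node 7631 (.leaf 0x1c66b)
(.leaf 0x1c67c)))))
(.node 7640 (.node 7636 (.node 7634 (.node 7633 (.leaf 0x1c696)
(.leaf 0x1c69c))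
(.node 7635 (.leaf 0x1c6bb)
(.leaf 0x1c6dc)))
(.node 7638 (.node 7637 (.leaf 0x1c6fb)
(.leaf 0x1c706))
(.node 7639 (.leaf 0x1c70c)
(.leaf 0x1c749))))
(.node 7644 (.node 7642 (.node 7641 (.leaf 0x1c74b)
(.leaf 0x1c76b))
(.node 7643 (.leaf 0x1c79b)
(.leaf 0x1c7b6)))
(.node 7646 (.node 7645 (.leaf 0x1c7bc)
(.leaf 0x1c7c2))
(.node 7647 (.leaf 0x1c7c8)
(.leaf 0x1c7d7))))))
(.node 7664 (.node 7656 (.node 7652 (.node 7650 (.node 7649 (.leaf 0x1c7d9)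
(.leaf 0x1c7e9))
(.node 7651 (.leaf 0x1c807)
(.leaf 0x1c80b)))
(.node 7654 (.node 7653 (.leaf 0x1c816)
(.leaf 0x1c819))
(.node 7655 (.leaf 0x1c81b)
(.leaf 0x1c82b))))
(.node 7660 (.node 7658 (.node 7657 (.leaf 0x1c83c)
(.leaf 0x1c849))
(.node 7659 (.leaf 0x1c858)
(.leaf 0x1c85b)))
(.node 7662 (.node 7661 (.leaf 0x1c86c)
(.leaf 0x1c87c))
(.node 7663 (.leaf 0x1c8ab)
(.leaf 0x1c8c9)))))
(.node 7672 (.node 7668 (.node 7666 (.node 7665 (.leaf 0x1c8d8)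
(.leaf 0x1c8da))
(.node 7667 (.leaf 0x1c8db)
(.leaf 0x1c8ec)))
(.node 7670 (.node 7669 (.leaf 0x1c90c)
(.leaf 0x1c938))
(.node 7671 (.leaf 0x1c93a)
(.leaf 0x1c93b))))
(.node 7676 (.node 7674 (.node 7673 (.leaf 0x1c94a)
(.leaf 0x1c94b))
(.node 7675 (.leaf 0x1c966)
(.leaf 0x1c96c)))
(.node 7678 (.node 7677 (.leaf 0x1c996)
(.leaf 0x1c9a5))
(.node 7679 (.leaf 0x1c9eb)
(.leaf 0x1c9f6)))))))))

/-- part of a trie -/
def parPart30 : Tr :=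
(.node 7808 (.node 7744 (.node 7712 (.node 7696 (.node 7688 (.node 7684 (.node 7682 (.node 7681 (.leaf 0x1ca06)
(.leaf 0x1ca2a))
(.node 7683 (.leaf 0x1ca2b)
(.leaf 0x1ca46)))
(.node 7686 (.node 7685 (.leaf 0x1ca56)
(.leaf 0x1ca65))
(.node 7687 (.leaf 0x1ca75)
(.leaf 0x1ca9b))))
(.node 7692 (.node 7690 (.node 7689 (.leaf 0x1cab6)
(.leaf 0x1cad7))
(.node 7691 (.leaf 0x1cae8)
(.leaf 0x1cb1a)))
(.node 7694 (.node 7693 (.leaf 0x1cb3a)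
(.leaf 0x1cb6b))
(.node 7695 (.leaf 0x1cb76)
(.leaf 0x1cb86)))))
(.node 7704 (.node 7700 (.node 7698 (.node 7697 (.leaf 0x1cb95)
(.leaf 0x1cb97))
(.node 7699 (.leaf 0x1cba5)
(.leaf 0x1cbcb)))
(.node 7702 (.node 7701 (.leaf 0x1cbe6)
(.leaf 0x1cc06))
(.node 7703 (.leaf 0x1cc26)
(.leaf 0x1cc35))))
(.node 7708 (.node 7706 (.node 7705 (.leaf 0x1cc37)
(.leaf 0x1cc45))
(.node 7707 (.leaf 0x1cc47)
(.leaf 0x1cc57)))
(.node 7710 (.node 7709 (.leaf 0x1cc77)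
(.leaf 0x1cc98))
(.node 7711 (.leaf 0x1ccab)
(.leaf 0x1ccb6))))))
(.node 7728 (.node 7720 (.node 7716 (.node 7714 (.node 7713 (.leaf 0x1cd37)
(.leaf 0x1cd3b))
(.node 7715 (.leaf 0x1cd4b)
(.leaf 0x1cd6b)))
(.node 7718 (.node 7717 (.leaf 0x1cd86)
(.leaf 0x1cd98))
(.node 7719 (.leaf 0x1cdb8)
(.leaf 0x1cddb))))
(.node 7724 (.node 7722 (.node 7721 (.leaf 0x1cdf7)
(.leaf 0x1ce09))
(.node 7723 (.leaf 0x1ce29)
(.leaf 0x1ce38)))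
(.node 7726 (.node 7725 (.leaf 0x1ce58)
(.leaf 0x1ce79))
(.node 7727 (.leaf 0x1ce98)
(.leaf 0x1cea9)))))
(.node 7736 (.node 7732 (.node 7730 (.node 7729 (.leaf 0x1ceb8)
(.leaf 0x1cec8))
(.node 7731 (.leaf 0x1cee7)
(.leaf 0x1cf07)))
(.node 7734 (.node 7733 (.leaf 0x1cf16)
(.leaf 0x1cf26))
(.node 7735 (.leaf 0x1cf57)
(.leaf 0x1cf76))))
(.node 7740 (.node 7738 (.node 7737 (.leaf 0x1cfc8)
(.leaf 0x1cfeb))
(.node 7739 (.leaf 0x1cffb)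
(.leaf 0x1d028)))
(.node 7742 (.node 7741 (.leaf 0x1d037)
(.leaf 0x1d039))
(.node 7743 (.leaf 0x1d03b)
(.leaf 0x1d049)))))))
(.node 7776 (.node 7760 (.node 7752 (.node 7748 (.node 7746 (.node 7745 (.leaf 0x1d04b)
(.leaf 0x1d05c))
(.node 7747 (.leaf 0x1d07b)
(.leaf 0x1d086)))
(.node 7750 (.node 7749 (.leaf 0x1d0a6)
(.leaf 0x1d0cb))
(.node 7751 (.leaf 0x1d0e5)
(.leaf 0x1d0f8))))
(.node 7756 (.node 7754 (.node 7753 (.leaf 0x1d114)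
(.leaf 0x1d118))
(.node 7755 (.leaf 0x1d127)
(.leaf 0x1d169)))
(.node 7758 (.node 7757 (.leaf 0x1d16b)
(.leaf 0x1d186))
(.node 7759 (.leaf 0x1d189)
(.leaf 0x1d18b)))))
(.node 7768 (.node 7764 (.node 7762 (.node 7761 (.leaf 0x1d19b)
(.leaf 0x1d1ac))
(.node 7763 (.leaf 0x1d1bc)
(.leaf 0x1d1c8)))
(.node 7766 (.node 7765 (.leaf 0x1d1cb)
(.leaf 0x1d1d6))
(.node 7767 (.leaf 0x1d1dc)
(.leaf 0x1d1fb))))
(.node 7772 (.node 7770 (.node 7769 (.leaf 0x1d206)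
(.leaf 0x1d217))
(.node 7771 (.leaf 0x1d219)
(.leaf 0x1d246)))
(.node 7774 (.node 7773 (.leaf 0x1d249)
(.leaf 0x1d268))
(.node 7775 (.leaf 0x1d27a)
(.leaf 0x1d27b))))))
(.node 7792 (.node 7784 (.node 7780 (.node 7778 (.node 7777 (.leaf 0x1d28c)
(.leaf 0x1d295))
(.node 7779 (.leaf 0x1d2a9)
(.leaf 0x1d2b8)))
(.node 7782 (.node 7781 (.leaf 0x1d2ba)
(.leaf 0x1d2d6))
(.node 7783 (.leaf 0x1d2dc)
(.leaf 0x1d308))))
(.node 7788 (.node 7786 (.node 7785 (.leaf 0x1d30a)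
(.leaf 0x1d31a))
(.node 7787 (.leaf 0x1d347)
(.leaf 0x1d353)))
(.node 7790 (.node 7789 (.leaf 0x1d36b)
(.leaf 0x1d376))
(.node 7791 (.leaf 0x1d37c)
(.leaf 0x1d385)))))
(.node 7800 (.node 7796 (.node 7794 (.node 7793 (.leaf 0x1d387)
(.leaf 0x1d3b7))
(.node 7795 (.leaf 0x1d3bc)
(.leaf 0x1d3dc)))
(.node 7798 (.node 7797 (.leaf 0x1d3f7)
(.leaf 0x1d3fa))
(.node 7799 (.leaf 0x1d46b)
(.leaf 0x1d476))))
(.node 7804 (.node 7802 (.node 7801 (.leaf 0x1d47c)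
(.leaf 0x1d497))
(.node 7803 (.leaf 0x1d49c)
(.leaf 0x1d4b6)))
(.node 7806 (.node 7805 (.leaf 0x1d4bc)
(.leaf 0x1d4c5))
(.node 7807 (.leaf 0x1d4c7)
(.leaf 0x1d4cc))))))))
(.node 7872 (.node 7840 (.node 7824 (.node 7816 (.node 7812 (.node 7810 (.node 7809 (.leaf 0x1d4e7)
(.leaf 0x1d508))
(.node 7811 (.leaf 0x1d50c)
(.leaf 0x1d53b)))
(.node 7814 (.node 7813 (.leaf 0x1d546)
(.leaf 0x1d55c))
(.node 7815 (.leaf 0x1d566)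
(.leaf 0x1d57c))))
(.node 7820 (.node 7818 (.node 7817 (.leaf 0x1d5b6)
(.leaf 0x1d5b9))
(.node 7819 (.leaf 0x1d5d8)
(.leaf 0x1d5da)))
(.node 7822 (.node 7821 (.leaf 0x1d5db)
(.leaf 0x1d5eb))
(.node 7823 (.leaf 0x1d606)
(.leaf 0x1d62b)))))
(.node 7832 (.node 7828 (.node 7826 (.node 7825 (.leaf 0x1d636)
(.leaf 0x1d655))
(.node 7827 (.leaf 0x1d657)
(.leaf 0x1d667)))
(.node 7830 (.node 7829 (.leaf 0x1d684)
(.leaf 0x1d687))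
(.node 7831 (.leaf 0x1d6a7)
(.leaf 0x1d6db))))
(.node 7836 (.node 7834 (.node 7833 (.leaf 0x1d738)
(.leaf 0x1d747))
(.node 7835 (.leaf 0x1d749)
(.leaf 0x1d766)))
(.node 7838 (.node 7837 (.leaf 0x1d769)
(.leaf 0x1d776))
(.node 7839 (.leaf 0x1d779)
(.leaf 0x1d77b))))))
(.node 7856 (.node 7848 (.node 7844 (.node 7842 (.node 7841 (.leaf 0x1d78b)
(.leaf 0x1d79c))
(.node 7843 (.leaf 0x1d7a9)
(.leaf 0x1d7ab)))
(.node 7846 (.node 7845 (.leaf 0x1d7cb)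
(.leaf 0x1d7d2))
(.node 7847 (.leaf 0x1d7d8)
(.leaf 0x1d7e7))))
(.node 7852 (.node 7850 (.node 7849 (.leaf 0x1d7e9)
(.leaf 0x1d7f9))
(.node 7851 (.leaf 0x1d828)
(.leaf 0x1d837)))
(.node 7854 (.node 7853 (.leaf 0x1d856)
(.leaf 0x1d859))
(.node 7855 (.leaf 0x1d85b)
(.leaf 0x1d878)))))
(.node 7864 (.node 7860 (.node 7858 (.node 7857 (.leaf 0x1d87a)
(.leaf 0x1d898))
(.node 7859 (.leaf 0x1d89b)
(.leaf 0x1d8ac)))
(.node 7862 (.node 7861 (.leaf 0x1d8c8)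
(.leaf 0x1d8cb))
(.node 7863 (.leaf 0x1d8ea)
(.leaf 0x1d90b))))
(.node 7868 (.node 7866 (.node 7865 (.leaf 0x1d916)
(.leaf 0x1d91c))
(.node 7867 (.leaf 0x1d932)
(.leaf 0x1d938)))
(.node 7870 (.node 7869 (.leaf 0x1d947)
(.leaf 0x1d949))
(.node 7871 (.leaf 0x1d94b)
(.leaf 0x1d969)))))))
(.node 7904 (.node 7888 (.node 7880 (.node 7876 (.node 7874 (.node 7873 (.leaf 0x1d987)
(.leaf 0x1d98b))
(.node 7875 (.leaf 0x1d999)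
(.leaf 0x1d99b)))
(.node 7878 (.node 7877 (.leaf 0x1d9ac)
(.leaf 0x1d9bc))
(.node 7879 (.leaf 0x1d9dc)
(.leaf 0x1da37))))
(.node 7884 (.node 7882 (.node 7881 (.leaf 0x1da59)
(.leaf 0x1da68))
(.node 7883 (.leaf 0x1da6b)
(.leaf 0x1da76)))
(.node 7886 (.node 7885 (.leaf 0x1da8b)
(.leaf 0x1da96))
(.node 7887 (.leaf 0x1da9c)
(.leaf 0x1dac7)))))
(.node 7896 (.node 7892 (.node 7890 (.node 7889 (.leaf 0x1dac9)
(.leaf 0x1dad9))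
(.node 7891 (.leaf 0x1daea)
(.leaf 0x1daf9)))
(.node 7894 (.node 7893 (.leaf 0x1db0a)
(.leaf 0x1db39))
(.node 7895 (.leaf 0x1db3b)
(.leaf 0x1db56))))
(.node 7900 (.node 7898 (.node 7897 (.leaf 0x1db5c)
(.leaf 0x1db77))
(.node 7899 (.leaf 0x1db7b)
(.leaf 0x1db86)))
(.node 7902 (.node 7901 (.leaf 0x1db89)
(.leaf 0x1db8b))
(.node 7903 (.leaf 0x1db9a)
(.leaf 0x1db9b))))))
(.node 7920 (.node 7912 (.node 7908 (.node 7906 (.node 7905 (.leaf 0x1dba6)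
(.leaf 0x1dbb9))
(.node 7907 (.leaf 0x1dbc8)
(.leaf 0x1dbca)))
(.node 7910 (.node 7909 (.leaf 0x1dbcb)
(.leaf 0x1dbf6))
(.node 7911 (.leaf 0x1dbfc)
(.leaf 0x1dc0b))))
(.node 7916 (.node 7914 (.node 7913 (.leaf 0x1dc2c)
(.leaf 0x1dc49))
(.node 7915 (.leaf 0x1dc58)
(.leaf 0x1dc5a)))
(.node 7918 (.node 7917 (.leaf 0x1dc5b)
(.leaf 0x1dc6c))
(.node 7919 (.leaf 0x1dc86)
(.leaf 0x1dc8c)))))
(.node 7928 (.node 7924 (.node 7922 (.node 7921 (.leaf 0x1dc9c)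
(.leaf 0x1dcb8))
(.node 7923 (.leaf 0x1dcca)
(.leaf 0x1dccb)))
(.node 7926 (.node 7925 (.leaf 0x1dce6)
(.leaf 0x1dcec))
(.node 7927 (.leaf 0x1dd07)
(.leaf 0x1dd0c))))
(.node 7932 (.node 7930 (.node 7929 (.leaf 0x1dd46)
(.leaf 0x1dd4c))
(.node 7931 (.leaf 0x1dd7b)
(.leaf 0x1dd96)))
(.node 7934 (.node 7933 (.leaf 0x1dd9c)
(.leaf 0x1dda6))
(.node 7935 (.leaf 0x1ddb7)
(.leaf 0x1ddbc)))))))))

/-- part of a trie -/
def parPart31 : Tr :=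
(.node 8064 (.node 8000 (.node 7968 (.node 7952 (.node 7944 (.node 7940 (.node 7938 (.node 7937 (.leaf 0x1ddd8)
(.leaf 0x1dde7))
(.node 7939 (.leaf 0x1dde9)
(.leaf 0x1ddf9)))
(.node 7942 (.node 7941 (.leaf 0x1de18)
(.leaf 0x1de26))
(.node 7943 (.leaf 0x1de29)
(.leaf 0x1de2b))))
(.node 7948 (.node 7946 (.node 7945 (.leaf 0x1de49)
(.leaf 0x1de58))
(.node 7947 (.leaf 0x1de5b)
(.leaf 0x1de6c)))
(.node 7950 (.node 7949 (.leaf 0x1de7c)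
(.leaf 0x1deab))
(.node 7951 (.leaf 0x1debc)
(.leaf 0x1def8)))))
(.node 7960 (.node 7956 (.node 7954 (.node 7953 (.leaf 0x1defa)
(.leaf 0x1defb))
(.node 7955 (.leaf 0x1df0a)
(.leaf 0x1df0b)))
(.node 7958 (.node 7957 (.leaf 0x1df2c)
(.leaf 0x1df5a))
(.node 7959 (.leaf 0x1df5b)
(.leaf 0x1df76))))
(.node 7964 (.node 7962 (.node 7961 (.leaf 0x1df96)
(.leaf 0x1df9c))
(.node 7963 (.leaf 0x1dfa5)
(.leaf 0x1dfc5)))
(.node 7966 (.node 7965 (.leaf 0x1dfe6)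
(.leaf 0x1e01b))
(.node 7967 (.leaf 0x1e026)
(.leaf 0x1e02c))))))
(.node 7984 (.node 7976 (.node 7972 (.node 7970 (.node 7969 (.leaf 0x1e035)
(.leaf 0x1e045))
(.node 7971 (.leaf 0x1e087)
(.leaf 0x1e098)))
(.node 7974 (.node 7973 (.leaf 0x1e0d6)
(.leaf 0x1e0e5))
(.node 7975 (.leaf 0x1e0e7)
(.leaf 0x1e0f5))))
(.node 7980 (.node 7978 (.node 7977 (.leaf 0x1e0f7)
(.leaf 0x1e107))
(.node 7979 (.leaf 0x1e127)
(.leaf 0x1e136)))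
(.node 7982 (.node 7981 (.leaf 0x1e147)
(.leaf 0x1e155))
(.node 7983 (.leaf 0x1e157)
(.leaf 0x1e165)))))
(.node 7992 (.node 7988 (.node 7986 (.node 7985 (.leaf 0x1e167)
(.leaf 0x1e177))
(.node 7987 (.leaf 0x1e188)
(.leaf 0x1e197)))
(.node 7990 (.node 7989 (.leaf 0x1e20b)
(.leaf 0x1e226))
(.node 7991 (.leaf 0x1e236)
(.leaf 0x1e245))))
(.node 7996 (.node 7994 (.node 7993 (.leaf 0x1e286)
(.leaf 0x1e289))
(.node 7995 (.leaf 0x1e298)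
(.leaf 0x1e2a8)))
(.node 7998 (.node 7997 (.leaf 0x1e2d8)
(.leaf 0x1e2f8))
(.node 7999 (.leaf 0x1e326)
(.leaf 0x1e336)))))))
(.node 8032 (.node 8016 (.node 8008 (.node 8004 (.node 8002 (.node 8001 (.leaf 0x1e366)
(.leaf 0x1e37b))
(.node 8003 (.leaf 0x1e38b)
(.leaf 0x1e3a6)))
(.node 8006 (.node 8005 (.leaf 0x1e3c6)
(.leaf 0x1e3c9))
(.node 8007 (.leaf 0x1e3cb)
(.leaf 0x1e3db))))
(.node 8012 (.node 8010 (.node 8009 (.leaf 0x1e3ec)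
(.leaf 0x1e3f8))
(.node 8011 (.leaf 0x1e3fb)
(.leaf 0x1e40c)))
(.node 8014 (.node 8013 (.leaf 0x1e426)
(.leaf 0x1e435))
(.node 8015 (.leaf 0x1e445)
(.leaf 0x1e488)))))
(.node 8024 (.node 8020 (.node 8018 (.node 8017 (.leaf 0x1e497)
(.leaf 0x1e4ba))
(.node 8019 (.leaf 0x1e4bb)
(.leaf 0x1e4cc)))
(.node 8022 (.node 8021 (.leaf 0x1e4d9)
(.leaf 0x1e4e8))
(.node 8023 (.leaf 0x1e4eb)
(.leaf 0x1e4f6))))
(.node 8028 (.node 8026 (.node 8025 (.leaf 0x1e506)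
(.leaf 0x1e50c))
(.node 8027 (.leaf 0x1e53b)
(.leaf 0x1e546)))
(.node 8030 (.node 8029 (.leaf 0x1e54c)
(.leaf 0x1e576))
(.node 8031 (.leaf 0x1e58c)
(.leaf 0x1e596))))))
(.node 8048 (.node 8040 (.node 8036 (.node 8034 (.node 8033 (.leaf 0x1e599)
(.leaf 0x1e5b9))
(.node 8035 (.leaf 0x1e5c8)
(.leaf 0x1e5eb)))
(.node 8038 (.node 8037 (.leaf 0x1e5f6)
(.leaf 0x1e5fc))
(.node 8039 (.leaf 0x1e628)
(.leaf 0x1e62a))))
(.node 8044 (.node 8042 (.node 8041 (.leaf 0x1e62b)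
(.leaf 0x1e657))
(.node 8043 (.leaf 0x1e65c)
(.leaf 0x1e677)))
(.node 8046 (.node 8045 (.leaf 0x1e67a)
(.leaf 0x1e67b))
(.node 8047 (.leaf 0x1e68b)
(.leaf 0x1e6c6)))))
(.node 8056 (.node 8052 (.node 8050 (.node 8049 (.leaf 0x1e6cc)
(.leaf 0x1e6d5))
(.node 8051 (.leaf 0x1e6d7)
(.leaf 0x1e6dc)))
(.node 8054 (.node 8053 (.leaf 0x1e6f7)
(.leaf 0x1e718))
(.node 8055 (.leaf 0x1e71c)
(.leaf 0x1e74a))))
(.node 8060 (.node 8058 (.node 8057 (.leaf 0x1e766)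
(.leaf 0x1e76c))
(.node 8059 (.leaf 0x1e775)
(.leaf 0x1e777)))
(.node 8062 (.node 8061 (.leaf 0x1e77c)
(.leaf 0x1e798))
(.node 8063 (.leaf 0x1e79c)
(.leaf 0x1e7b5))))))))
(.node 8128 (.node 8096 (.node 8080 (.node 8072 (.node 8068 (.node 8066 (.node 8065 (.leaf 0x1e7b7)
(.leaf 0x1e7bc))
(.node 8067 (.leaf 0x1e7d7)
(.leaf 0x1e7dc)))
(.node 8070 (.node 8069 (.leaf 0x1e7e8)
(.leaf 0x1e81c))
(.node 8071 (.leaf 0x1e836)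
(.leaf 0x1e83c))))
(.node 8076 (.node 8074 (.node 8073 (.leaf 0x1e84c)
(.leaf 0x1e865))
(.node 8075 (.leaf 0x1e87b)
(.leaf 0x1e889)))
(.node 8078 (.node 8077 (.leaf 0x1e8ab)
(.leaf 0x1e8bb))
(.node 8079 (.leaf 0x1e8c6)
(.leaf 0x1e8d6)))))
(.node 8088 (.node 8084 (.node 8082 (.node 8081 (.leaf 0x1e8e5)
(.leaf 0x1e917))
(.node 8083 (.leaf 0x1e936)
(.leaf 0x1e947)))
(.node 8086 (.node 8085 (.leaf 0x1e968)
(.leaf 0x1e987))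
(.node 8087 (.leaf 0x1e989)
(.leaf 0x1e996))))
(.node 8092 (.node 8090 (.node 8089 (.leaf 0x1e999)
(.leaf 0x1e9b9))
(.node 8091 (.leaf 0x1e9bb)
(.leaf 0x1e9d9)))
(.node 8094 (.node 8093 (.leaf 0x1e9db)
(.leaf 0x1e9eb))
(.node 8095 (.leaf 0x1ea0c)
(.leaf 0x1ea2b))))))
(.node 8112 (.node 8104 (.node 8100 (.node 8098 (.node 8097 (.leaf 0x1ea58)
(.leaf 0x1ea67))
(.node 8099 (.leaf 0x1ea69)
(.leaf 0x1ea79)))
(.node 8102 (.node 8101 (.leaf 0x1ea98)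
(.leaf 0x1eaa7))
(.node 8103 (.leaf 0x1eac9)
(.leaf 0x1ead8))))
(.node 8108 (.node 8106 (.node 8105 (.leaf 0x1eadb)
(.leaf 0x1eafa))
(.node 8107 (.leaf 0x1eb1b)
(.leaf 0x1eb26)))
(.node 8110 (.node 8109 (.leaf 0x1eb2c)
(.leaf 0x1eb4a))
(.node 8111 (.leaf 0x1eb4b)
(.leaf 0x1eb56)))))
(.node 8120 (.node 8116 (.node 8114 (.node 8113 (.leaf 0x1eb76)
(.leaf 0x1eb7c))
(.node 8115 (.leaf 0x1eba8)
(.leaf 0x1ebb7)))
(.node 8118 (.node 8117 (.leaf 0x1ebb9)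
(.leaf 0x1ebbb))
(.node 8119 (.leaf 0x1ebc9)
(.leaf 0x1ebcb))))
(.node 8124 (.node 8122 (.node 8121 (.leaf 0x1ebf8)
(.leaf 0x1ec09))
(.node 8123 (.leaf 0x1ec0b)
(.leaf 0x1ec28)))
(.node 8126 (.node 8125 (.leaf 0x1ec2b)
(.leaf 0x1ec3c))
(.node 8127 (.leaf 0x1ec88)
(.leaf 0x1ec8b)))))))
(.node 8160 (.node 8144 (.node 8136 (.node 8132 (.node 8130 (.node 8129 (.leaf 0x1ec9b)
(.leaf 0x1eca6))
(.node 8131 (.leaf 0x1ecac)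
(.leaf 0x1ecbc)))
(.node 8134 (.node 8133 (.leaf 0x1ecc6)
(.leaf 0x1eccc))
(.node 8135 (.leaf 0x1ecf9)
(.leaf 0x1ed0a))))
(.node 8140 (.node 8138 (.node 8137 (.leaf 0x1ed1a)
(.leaf 0x1ed3a))
(.node 8139 (.leaf 0x1ed5b)
(.leaf 0x1ed66)))
(.node 8142 (.node 8141 (.leaf 0x1ed7c)
(.leaf 0x1ed96))
(.node 8143 (.leaf 0x1ed99)
(.leaf 0x1ed9b)))))
(.node 8152 (.node 8148 (.node 8146 (.node 8145 (.leaf 0x1edb9)
(.leaf 0x1edc8))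
(.node 8147 (.leaf 0x1edca)
(.leaf 0x1edcb)))
(.node 8150 (.node 8149 (.leaf 0x1edf6)
(.leaf 0x1edfc))
(.node 8151 (.leaf 0x1ee0c)
(.leaf 0x1ee18))))
(.node 8156 (.node 8154 (.node 8153 (.leaf 0x1ee2a)
(.leaf 0x1ee2b))
(.node 8155 (.leaf 0x1ee4c)
(.leaf 0x1ee57)))
(.node 8158 (.node 8157 (.leaf 0x1ee5c)
(.leaf 0x1ee98))
(.node 8159 (.leaf 0x1ee9a)
(.leaf 0x1ee9b))))))
(.node 8176 (.node 8168 (.node 8164 (.node 8162 (.node 8161 (.leaf 0x1eeaa)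
(.leaf 0x1eeab))
(.node 8163 (.leaf 0x1eecc)
(.leaf 0x1eee5)))
(.node 8166 (.node 8165 (.leaf 0x1eee7)
(.leaf 0x1eeec))
(.node 8167 (.leaf 0x1ef1a)
(.leaf 0x1ef36))))
(.node 8172 (.node 8170 (.node 8169 (.leaf 0x1ef3c)
(.leaf 0x1ef6c))
(.node 8171 (.leaf 0x1ef8c)
(.leaf 0x1efa6)))
(.node 8174 (.node 8173 (.leaf 0x1efb7)
(.leaf 0x1efbc))
(.node 8175 (.leaf 0x1efd5)
(.leaf 0x1efd7)))))
(.node 8184 (.node 8180 (.node 8178 (.node 8177 (.leaf 0x1efdc)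
(.leaf 0x1efec))
(.node 8179 (.leaf 0x1f007)
(.leaf 0x1f009)))
(.node 8182 (.node 8181 (.leaf 0x1f019)
(.leaf 0x1f038))
(.node 8183 (.leaf 0x1f059)
(.leaf 0x1f05b))))
(.node 8188 (.node 8186 (.node 8185 (.leaf 0x1f068)
(.leaf 0x1f06b))
(.node 8187 (.leaf 0x1f08b)
(.leaf 0x1f09b)))
(.node 8190 (.node 8189 (.leaf 0x1f0ac)
(.leaf 0x1f0dc))
(.node 8191 (.leaf 0x1f0fa)
(.leaf 0x1f0fb)))))))))

/-- part of a trie -/
def parPart32 : Tr :=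
(.node 8320 (.node 8256 (.node 8224 (.node 8208 (.node 8200 (.node 8196 (.node 8194 (.node 8193 (.leaf 0x1f10b)
(.leaf 0x1f11c))
(.node 8195 (.leaf 0x1f13c)
(.leaf 0x1f15b)))
(.node 8198 (.node 8197 (.leaf 0x1f166)
(.leaf 0x1f16c))
(.node 8199 (.leaf 0x1f175)
(.leaf 0x1f185))))
(.node 8204 (.node 8202 (.node 8201 (.leaf 0x1f1dc)
(.leaf 0x1f1e5))
(.node 8203 (.leaf 0x1f228)
(.leaf 0x1f245)))
(.node 8206 (.node 8205 (.leaf 0x1f247)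
(.leaf 0x1f257))
(.node 8207 (.leaf 0x1f277)
(.leaf 0x1f2b5)))))
(.node 8216 (.node 8212 (.node 8210 (.node 8209 (.leaf 0x1f2b7)
(.leaf 0x1f2e8))
(.node 8211 (.leaf 0x1f2f7)
(.leaf 0x1f346)))
(.node 8214 (.node 8213 (.leaf 0x1f355)
(.leaf 0x1f365))
(.node 8215 (.leaf 0x1f374)
(.leaf 0x1f389))))
(.node 8220 (.node 8218 (.node 8217 (.leaf 0x1f398)
(.leaf 0x1f3f5))
(.node 8219 (.leaf 0x1f3fb)
(.leaf 0x1f40b)))
(.node 8222 (.node 8221 (.leaf 0x1f42c)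
(.leaf 0x1f435))
(.node 8223 (.leaf 0x1f449)
(.leaf 0x1f458))))))
(.node 8240 (.node 8232 (.node 8228 (.node 8226 (.node 8225 (.leaf 0x1f45a)
(.leaf 0x1f45b))
(.node 8227 (.leaf 0x1f466)
(.leaf 0x1f46c)))
(.node 8230 (.node 8229 (.leaf 0x1f47c)
(.leaf 0x1f49b))
(.node 8231 (.leaf 0x1f4a6)
(.leaf 0x1f4ac))))
(.node 8236 (.node 8234 (.node 8233 (.leaf 0x1f4c5)
(.leaf 0x1f4d4))
(.node 8235 (.leaf 0x1f4e4)
(.leaf 0x1f4f7)))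
(.node 8238 (.node 8237 (.leaf 0x1f51b)
(.leaf 0x1f526))
(.node 8239 (.leaf 0x1f52c)
(.leaf 0x1f548)))))
(.node 8248 (.node 8244 (.node 8242 (.node 8241 (.leaf 0x1f54b)
(.leaf 0x1f55b))
(.node 8243 (.leaf 0x1f566)
(.leaf 0x1f56c)))
(.node 8246 (.node 8245 (.leaf 0x1f57c)
(.leaf 0x1f587))
(.node 8247 (.leaf 0x1f58c)
(.leaf 0x1f5a6))))
(.node 8252 (.node 8250 (.node 8249 (.leaf 0x1f5ac)
(.leaf 0x1f5d5))
(.node 8251 (.leaf 0x1f5dc)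
(.leaf 0x1f5f9)))
(.node 8254 (.node 8253 (.leaf 0x1f618)
(.leaf 0x1f636))
(.node 8255 (.leaf 0x1f63c)
(.leaf 0x1f645)))))))
(.node 8288 (.node 8272 (.node 8264 (.node 8260 (.node 8258 (.node 8257 (.leaf 0x1f647)
(.leaf 0x1f64c))
(.node 8259 (.leaf 0x1f66a)
(.leaf 0x1f66b)))
(.node 8262 (.node 8261 (.leaf 0x1f67b)
(.leaf 0x1f698))
(.node 8263 (.leaf 0x1f69c)
(.leaf 0x1f6ba))))
(.node 8268 (.node 8266 (.node 8265 (.leaf 0x1f6bb)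
(.leaf 0x1f6cb))
(.node 8267 (.leaf 0x1f6f5)
(.leaf 0x1f6f7)))
(.node 8270 (.node 8269 (.leaf 0x1f6fc)
(.leaf 0x1f717))
(.node 8271 (.leaf 0x1f71c)
(.leaf 0x1f728)))))
(.node 8280 (.node 8276 (.node 8274 (.node 8273 (.leaf 0x1f75c)
(.leaf 0x1f785))
(.node 8275 (.leaf 0x1f787)
(.leaf 0x1f78c)))
(.node 8278 (.node 8277 (.leaf 0x1f7a7)
(.leaf 0x1f7ac))
(.node 8279 (.leaf 0x1f7b8)
(.leaf 0x1f7bc))))
(.node 8284 (.node 8282 (.node 8281 (.leaf 0x1f7dc)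
(.leaf 0x1f7f7))
(.node 8283 (.leaf 0x1f7fc)
(.leaf 0x1f808)))
(.node 8286 (.node 8285 (.leaf 0x1f80c)
(.leaf 0x1f826))
(.node 8287 (.leaf 0x1f828)
(.leaf 0x1f82c))))))
(.node 8304 (.node 8296 (.node 8292 (.node 8290 (.node 8289 (.leaf 0x1f865)
(.leaf 0x1f86c))
(.node 8291 (.leaf 0x1f88b)
(.leaf 0x1f8bb)))
(.node 8294 (.node 8293 (.leaf 0x1f8c6)
(.leaf 0x1f8d6))
(.node 8295 (.leaf 0x1f8e5)
(.leaf 0x1f8f5))))
(.node 8300 (.node 8298 (.node 8297 (.leaf 0x1f916)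
(.leaf 0x1f956))
(.node 8299 (.leaf 0x1f959)
(.leaf 0x1f979)))
(.node 8302 (.node 8301 (.leaf 0x1f97b)
(.leaf 0x1f99b))
(.node 8303 (.leaf 0x1f9bb)
(.leaf 0x1f9d6)))))
(.node 8312 (.node 8308 (.node 8306 (.node 8305 (.leaf 0x1f9dc)
(.leaf 0x1fa07))
(.node 8307 (.leaf 0x1fa09)
(.leaf 0x1fa19)))
(.node 8310 (.node 8309 (.leaf 0x1fa38)
(.leaf 0x1fa68))
(.node 8311 (.leaf 0x1fa6b)
(.leaf 0x1fa7a))))
(.node 8316 (.node 8314 (.node 8313 (.leaf 0x1fa7b)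
(.leaf 0x1fa86))
(.node 8315 (.leaf 0x1faa6)
(.leaf 0x1faac)))
(.node 8318 (.node 8317 (.leaf 0x1fadb)
(.leaf 0x1fae6))
(.node 8319 (.leaf 0x1faec)
(.leaf 0x1fb0c))))))))
(.node 8384 (.node 8352 (.node 8336 (.node 8328 (.node 8324 (.node 8322 (.node 8321 (.leaf 0x1fb27)
(.leaf 0x1fb29))
(.node 8323 (.leaf 0x1fb2b)
(.leaf 0x1fb39)))
(.node 8326 (.node 8325 (.leaf 0x1fb3b)
(.leaf 0x1fb4b))
(.node 8327 (.leaf 0x1fb5c)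
(.leaf 0x1fb68))))
(.node 8332 (.node 8330 (.node 8329 (.leaf 0x1fb98)
(.leaf 0x1fb9b))
(.node 8331 (.leaf 0x1fbac)
(.leaf 0x1fbbb)))
(.node 8334 (.node 8333 (.leaf 0x1fbcc)
(.leaf 0x1fbeb))
(.node 8335 (.leaf 0x1fbf6)
(.leaf 0x1fc06)))))
(.node 8344 (.node 8340 (.node 8338 (.node 8337 (.leaf 0x1fc0c)
(.leaf 0x1fc1c))
(.node 8339 (.leaf 0x1fc4c)
(.leaf 0x1fc6a)))
(.node 8342 (.node 8341 (.leaf 0x1fca6)
(.leaf 0x1fcbc))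
(.node 8343 (.leaf 0x1fcd9)
(.leaf 0x1fcdb))))
(.node 8348 (.node 8346 (.node 8345 (.leaf 0x1fce8)
(.leaf 0x1fceb))
(.node 8347 (.leaf 0x1fd08)
(.leaf 0x1fd0a)))
(.node 8350 (.node 8349 (.leaf 0x1fd0b)
(.leaf 0x1fd1a))
(.node 8351 (.leaf 0x1fd1b)
(.leaf 0x1fd36))))))
(.node 8368 (.node 8360 (.node 8356 (.node 8354 (.node 8353 (.leaf 0x1fd3c)
(.leaf 0x1fd45))
(.node 8355 (.leaf 0x1fd47)
(.leaf 0x1fd4c)))
(.node 8358 (.node 8357 (.leaf 0x1fd7a)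
(.leaf 0x1fd96))
(.node 8359 (.leaf 0x1fd9c)
(.leaf 0x1fdbc))))
(.node 8364 (.node 8362 (.node 8361 (.leaf 0x1fdda)
(.leaf 0x1fddb))
(.node 8363 (.leaf 0x1fdeb)
(.leaf 0x1fdfc)))
(.node 8366 (.node 8365 (.leaf 0x1fe1c)
(.leaf 0x1fe37))
(.node 8367 (.leaf 0x1fe3c)
(.leaf 0x1fe48)))))
(.node 8376 (.node 8372 (.node 8370 (.node 8369 (.leaf 0x1fe4c)
(.leaf 0x1fe77))
(.node 8371 (.leaf 0x1fe7c)
(.leaf 0x1feb5)))
(.node 8374 (.node 8373 (.leaf 0x1feb7)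
(.leaf 0x1febc))
(.node 8375 (.leaf 0x1fecc)
(.leaf 0x1fef8))))
(.node 8380 (.node 8378 (.node 8377 (.leaf 0x1fefc)
(.leaf 0x1ff29))
(.node 8379 (.leaf 0x1ff48)
(.leaf 0x1ff6b)))
(.node 8382 (.node 8381 (.leaf 0x1ff7c)
(.leaf 0x1ff8b))
(.node 8383 (.leaf 0x1ffac)
(.leaf 0x1ffbc)))))))
(.node 8416 (.node 8400 (.node 8392 (.node 8388 (.node 8386 (.node 8385 (.leaf 0x1ffeb)
(.leaf 0x1fffc))
(.node 8387 (.leaf 0x2000c)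
(.leaf 0x2003c)))
(.node 8390 (.node 8389 (.leaf 0x20045)
(.leaf 0x200b7))
(.node 8391 (.leaf 0x200f7)
(.leaf 0x20108))))
(.node 8396 (.node 8394 (.node 8393 (.leaf 0x20126)
(.leaf 0x20135))
(.node 8395 (.leaf 0x20144)
(.leaf 0x20154)))
(.node 8398 (.node 8397 (.leaf 0x20178)
(.leaf 0x201d4))
(.node 8399 (.leaf 0x201e8)
(.leaf 0x201ea)))))
(.node 8408 (.node 8404 (.node 8402 (.node 8401 (.leaf 0x201eb)
(.leaf 0x201fb))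
(.node 8403 (.leaf 0x2020b)
(.leaf 0x20216)))
(.node 8406 (.node 8405 (.leaf 0x2021c)
(.leaf 0x2022c))
(.node 8407 (.leaf 0x20256)
(.leaf 0x2025c))))
(.node 8412 (.node 8410 (.node 8409 (.leaf 0x20284)
(.leaf 0x20293))
(.node 8411 (.leaf 0x202a3)
(.leaf 0x202c6)))
(.node 8414 (.node 8413 (.leaf 0x202cc)
(.leaf 0x202d5))
(.node 8415 (.leaf 0x202d7)
(.leaf 0x202dc))))))
(.node 8432 (.node 8424 (.node 8420 (.node 8418 (.node 8417 (.leaf 0x202fb)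
(.leaf 0x20306))
(.node 8419 (.leaf 0x20316)
(.leaf 0x2031c)))
(.node 8422 (.node 8421 (.leaf 0x2032c)
(.leaf 0x2035c))
(.node 8423 (.leaf 0x2037c)
(.leaf 0x20397))))
(.node 8428 (.node 8426 (.node 8425 (.leaf 0x2039c)
(.leaf 0x203b8))
(.node 8427 (.leaf 0x203bb)
(.leaf 0x203d5)))
(.node 8430 (.node 8429 (.leaf 0x203d7)
(.leaf 0x203dc))
(.node 8431 (.leaf 0x203f7)
(.leaf 0x203fc)))))
(.node 8440 (.node 8436 (.node 8434 (.node 8433 (.leaf 0x20408)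
(.leaf 0x2040c))
(.node 8435 (.leaf 0x2042b)
(.leaf 0x2045c)))
(.node 8438 (.node 8437 (.leaf 0x2047b)
(.leaf 0x204a7))
(.node 8439 (.leaf 0x204ac)
(.leaf 0x204b8))))
(.node 8444 (.node 8442 (.node 8441 (.leaf 0x204bc)
(.leaf 0x204d6))
(.node 8443 (.leaf 0x204d8)
(.leaf 0x204dc)))
(.node 8446 (.node 8445 (.leaf 0x20517)
(.leaf 0x2051c))
(.node 8447 (.leaf 0x20528)
(.leaf 0x2052c)))))))))

/-- part of a trie -/
def parPart33 : Tr :=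
(.node 8576 (.node 8512 (.node 8480 (.node 8464 (.node 8456 (.node 8452 (.node 8450 (.node 8449 (.leaf 0x20548)
(.leaf 0x2054c))
(.node 8451 (.leaf 0x2056c)
(.leaf 0x20596)))
(.node 8454 (.node 8453 (.leaf 0x20598)
(.leaf 0x2059c))
(.node 8455 (.leaf 0x205bc)
(.leaf 0x205d8))))
(.node 8460 (.node 8458 (.node 8457 (.leaf 0x205dc)
(.leaf 0x205ec))
(.node 8459 (.leaf 0x2060c)
(.leaf 0x2061b)))
(.node 8462 (.node 8461 (.leaf 0x20645)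
(.leaf 0x20667))
(.node 8463 (.leaf 0x20699)
(.leaf 0x206bb)))))
(.node 8472 (.node 8468 (.node 8466 (.node 8465 (.leaf 0x206e6)
(.leaf 0x206fc))
(.node 8467 (.leaf 0x20719)
(.leaf 0x20738)))
(.node 8470 (.node 8469 (.leaf 0x2075a)
(.leaf 0x2075b))
(.node 8471 (.leaf 0x20766)
(.leaf 0x2077b))))
(.node 8476 (.node 8474 (.node 8473 (.leaf 0x20786)
(.leaf 0x207ac))
(.node 8475 (.leaf 0x207c6)
(.leaf 0x207cc)))
(.node 8478 (.node 8477 (.leaf 0x207d7)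
(.leaf 0x207dc))
(.node 8479 (.leaf 0x20809)
(.leaf 0x2080b))))))
(.node 8496 (.node 8488 (.node 8484 (.node 8482 (.node 8481 (.leaf 0x2081b)
(.leaf 0x2082c))
(.node 8483 (.leaf 0x20838)
(.leaf 0x2083b)))
(.node 8486 (.node 8485 (.leaf 0x2084c)
(.leaf 0x2085c))
(.node 8487 (.leaf 0x2088b)
(.leaf 0x2089c))))
(.node 8492 (.node 8490 (.node 8489 (.leaf 0x208bc)
(.leaf 0x208d6))
(.node 8491 (.leaf 0x208f7)
(.leaf 0x208fc)))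
(.node 8494 (.node 8493 (.leaf 0x2091b)
(.leaf 0x20947))
(.node 8495 (.leaf 0x2094c)
(.leaf 0x2096b)))))
(.node 8504 (.node 8500 (.node 8498 (.node 8497 (.leaf 0x2097c)
(.leaf 0x2098b))
(.node 8499 (.leaf 0x209aa)
(.leaf 0x209cc)))
(.node 8502 (.node 8501 (.leaf 0x209e6)
(.leaf 0x209ec))
(.node 8503 (.leaf 0x209f7)
(.leaf 0x209fc))))
(.node 8508 (.node 8506 (.node 8505 (.leaf 0x20a17)
(.leaf 0x20a1c))
(.node 8507 (.leaf 0x20a28)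
(.leaf 0x20a2c)))
(.node 8510 (.node 8509 (.leaf 0x20a57)
(.leaf 0x20a5c))
(.node 8511 (.leaf 0x20a8b)
(.leaf 0x20a9c)))))))
(.node 8544 (.node 8528 (.node 8520 (.node 8516 (.node 8514 (.node 8513 (.leaf 0x20aac)
(.leaf 0x20ad8))
(.node 8515 (.leaf 0x20adc)
(.leaf 0x20afc)))
(.node 8518 (.node 8517 (.leaf 0x20b1c)
(.leaf 0x20b37))
(.node 8519 (.leaf 0x20b3c)
(.leaf 0x20b48))))
(.node 8524 (.node 8522 (.node 8521 (.leaf 0x20b4c)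
(.leaf 0x20b7c))
(.node 8523 (.leaf 0x20b98)
(.leaf 0x20bbc)))
(.node 8526 (.node 8525 (.leaf 0x20bdc)
(.leaf 0x20c0c))
(.node 8527 (.leaf 0x20c56)
(.leaf 0x20c68)))))
(.node 8536 (.node 8532 (.node 8530 (.node 8529 (.leaf 0x20cd3)
(.leaf 0x20cea))
(.node 8531 (.leaf 0x20ceb)
(.leaf 0x20cfb)))
(.node 8534 (.node 8533 (.leaf 0x20d06)
(.leaf 0x20d0c))
(.node 8535 (.leaf 0x20d16)
(.leaf 0x20d26))))
(.node 8540 (.node 8538 (.node 8537 (.leaf 0x20d2c)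
(.leaf 0x20d3c))
(.node 8539 (.leaf 0x20d5b)
(.leaf 0x20d6c)))
(.node 8542 (.node 8541 (.leaf 0x20d83)
(.leaf 0x20db5))
(.node 8543 (.leaf 0x20dbc)
(.leaf 0x20dd7))))))
(.node 8560 (.node 8552 (.node 8548 (.node 8546 (.node 8545 (.leaf 0x20ddc)
(.leaf 0x20dec))
(.node 8547 (.leaf 0x20e06)
(.leaf 0x20e27)))
(.node 8550 (.node 8549 (.leaf 0x20e2c)
(.leaf 0x20e4b))
(.node 8551 (.leaf 0x20e78)
(.leaf 0x20e7c))))
(.node 8556 (.node 8554 (.node 8553 (.leaf 0x20e9b)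
(.leaf 0x20eb7))
(.node 8555 (.leaf 0x20ebc)
(.leaf 0x20ec8)))
(.node 8558 (.node 8557 (.leaf 0x20ecc)
(.leaf 0x20ee8))
(.node 8559 (.leaf 0x20eec)
(.leaf 0x20f0c)))))
(.node 8568 (.node 8564 (.node 8562 (.node 8561 (.leaf 0x20f56)
(.leaf 0x20f58))
(.node 8563 (.leaf 0x20f5c)
(.leaf 0x20f7c)))
(.node 8566 (.node 8565 (.leaf 0x20f98)
(.leaf 0x20f9c))
(.node 8567 (.leaf 0x20fac)
(.leaf 0x20fc6))))
(.node 8572 (.node 8570 (.node 8569 (.leaf 0x20fc8)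
(.leaf 0x20fcc))
(.node 8571 (.leaf 0x20fec)
(.leaf 0x2100c)))
(.node 8574 (.node 8573 (.leaf 0x21038)
(.leaf 0x2103c))
(.node 8575 (.leaf 0x2104c)
(.leaf 0x21077))))))))
(.node 8640 (.node 8608 (.node 8592 (.node 8584 (.node 8580 (.node 8578 (.node 8577 (.leaf 0x2107c)
(.leaf 0x210d6))
(.node 8579 (.leaf 0x210eb)
(.leaf 0x2110c)))
(.node 8582 (.node 8581 (.leaf 0x2111b)
(.leaf 0x21128))
(.node 8583 (.leaf 0x2114b)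
(.leaf 0x21156))))
(.node 8588 (.node 8586 (.node 8585 (.leaf 0x2115c)
(.leaf 0x21176))
(.node 8587 (.leaf 0x2117c)
(.leaf 0x21187)))
(.node 8590 (.node 8589 (.leaf 0x2118c)
(.leaf 0x211a7))
(.node 8591 (.leaf 0x211ac)
(.leaf 0x211cc)))))
(.node 8600 (.node 8596 (.node 8594 (.node 8593 (.leaf 0x211e8)
(.leaf 0x211eb))
(.node 8595 (.leaf 0x2120c)
(.leaf 0x2122b)))
(.node 8598 (.node 8597 (.leaf 0x2123c)
(.leaf 0x2126c))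
(.node 8599 (.leaf 0x21297)
(.leaf 0x212ac))))
(.node 8604 (.node 8602 (.node 8601 (.leaf 0x212bb)
(.leaf 0x212d8))
(.node 8603 (.leaf 0x212dc)
(.leaf 0x212fc)))
(.node 8606 (.node 8605 (.leaf 0x2131c)
(.leaf 0x21347))
(.node 8607 (.leaf 0x2134c)
(.leaf 0x21368))))))
(.node 8624 (.node 8616 (.node 8612 (.node 8610 (.node 8609 (.leaf 0x2136c)
(.leaf 0x21388))
(.node 8611 (.leaf 0x2138c)
(.leaf 0x213ac)))
(.node 8614 (.node 8613 (.leaf 0x213cc)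
(.leaf 0x213ec))
(.node 8615 (.leaf 0x2141c)
(.leaf 0x21458))))
(.node 8620 (.node 8618 (.node 8617 (.leaf 0x2145c)
(.leaf 0x2147c))
(.node 8619 (.leaf 0x2151b)
(.leaf 0x21526)))
(.node 8622 (.node 8621 (.leaf 0x2152c)
(.leaf 0x21536))
(.node 8623 (.leaf 0x2153c)
(.leaf 0x2154c)))))
(.node 8632 (.node 8628 (.node 8626 (.node 8625 (.leaf 0x21567)
(.leaf 0x2156c))
(.node 8627 (.leaf 0x2157c)
(.leaf 0x2159b)))
(.node 8630 (.node 8629 (.leaf 0x215d7)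
(.leaf 0x215dc))
(.node 8631 (.leaf 0x215fc)
(.leaf 0x21627))))
(.node 8636 (.node 8634 (.node 8633 (.leaf 0x2163c)
(.leaf 0x2164b))
(.node 8635 (.leaf 0x2166c)
(.leaf 0x21696)))
(.node 8638 (.node 8637 (.leaf 0x21698)
(.leaf 0x2169c))
(.node 8639 (.leaf 0x216bc)
(.leaf 0x216dc)))))))
(.node 8672 (.node 8656 (.node 8648 (.node 8644 (.node 8642 (.node 8641 (.leaf 0x21708)
(.leaf 0x2170c))
(.node 8643 (.leaf 0x2171c)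
(.leaf 0x21747)))
(.node 8646 (.node 8645 (.leaf 0x2174c)
(.leaf 0x21778))
(.node 8647 (.leaf 0x2177c)
(.leaf 0x2178c))))
(.node 8652 (.node 8650 (.node 8649 (.leaf 0x217c7)
(.leaf 0x217cc))
(.node 8651 (.leaf 0x217fc)
(.leaf 0x2183b)))
(.node 8654 (.node 8653 (.leaf 0x21866)
(.leaf 0x2186c))
(.node 8655 (.leaf 0x21877)
(.leaf 0x2187c)))))
(.node 8664 (.node 8660 (.node 8658 (.node 8657 (.leaf 0x21897)
(.leaf 0x2189c))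
(.node 8659 (.leaf 0x218bc)
(.leaf 0x218dc)))
(.node 8662 (.node 8661 (.leaf 0x2190b)
(.leaf 0x2191c))
(.node 8663 (.leaf 0x2193c)
(.leaf 0x2196c))))
(.node 8668 (.node 8666 (.node 8665 (.leaf 0x2197b)
(.leaf 0x2199c))
(.node 8667 (.leaf 0x219d8)
(.leaf 0x219dc)))
(.node 8670 (.node 8669 (.leaf 0x219fc)
(.leaf 0x21a1c))
(.node 8671 (.leaf 0x21a7c)
(.leaf 0x21aa6))))))
(.node 8688 (.node 8680 (.node 8676 (.node 8674 (.node 8673 (.leaf 0x21aac)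
(.leaf 0x21ab7))
(.node 8675 (.leaf 0x21abc)
(.leaf 0x21adc)))
(.node 8678 (.node 8677 (.leaf 0x21afb)
(.leaf 0x21b0c))
(.node 8679 (.leaf 0x21b2b)
(.leaf 0x21b46))))
(.node 8684 (.node 8682 (.node 8681 (.leaf 0x21b48)
(.leaf 0x21b4c))
(.node 8683 (.leaf 0x21b7c)
(.leaf 0x21b8b)))
(.node 8686 (.node 8685 (.leaf 0x21bb8)
(.leaf 0x21bbc))
(.node 8687 (.leaf 0x21bcc)
(.leaf 0x21c07)))))
(.node 8696 (.node 8692 (.node 8690 (.node 8689 (.leaf 0x21c0c)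
(.leaf 0x21c3c))
(.node 8691 (.leaf 0x21c57)
(.leaf 0x21c5c)))
(.node 8694 (.node 8693 (.leaf 0x21c8c)
(.leaf 0x21cc7))
(.node 8695 (.leaf 0x21ccc)
(.leaf 0x21cec))))
(.node 8700 (.node 8698 (.node 8697 (.leaf 0x21cfb)
(.leaf 0x21d0c))
(.node 8699 (.leaf 0x21d2b)
(.leaf 0x21d4c)))
(.node 8702 (.node 8701 (.leaf 0x21d7b)
(.leaf 0x21d86))
(.node 8703 (.leaf 0x21dac)
(.leaf 0x21df7)))))))))

/-- part of a trie -/
def parPart34 : Tr :=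
(.node 8732 (.node 8718 (.node 8711 (.node 8707 (.node 8705 (.leaf 0x21dfc)
(.node 8706 (.leaf 0x21e1c)
(.leaf 0x21e2b)))
(.node 8709 (.node 8708 (.leaf 0x21e3b)
(.leaf 0x21e5b))
(.node 8710 (.leaf 0x21e78)
(.leaf 0x21e7c))))
(.node 8714 (.node 8712 (.leaf 0x21e8c)
(.node 8713 (.leaf 0x21eab)
(.leaf 0x21eb6)))
(.node 8716 (.node 8715 (.leaf 0x21ec7)
(.leaf 0x21ecc))
(.node 8717 (.leaf 0x21efc)
(.leaf 0x21f2b)))))
(.node 8725 (.node 8721 (.node 8719 (.leaf 0x21f2c)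
(.node 8720 (.leaf 0x21f3b)
(.leaf 0x21f5c)))
(.node 8723 (.node 8722 (.leaf 0x21f6b)
(.leaf 0x21f7b))
(.node 8724 (.leaf 0x21f9b)
(.leaf 0x21fa6))))
(.node 8728 (.node 8726 (.leaf 0x21fc6)
(.node 8727 (.leaf 0x21ffc)
(.leaf 0x2200b)))
(.node 8730 (.node 8729 (.leaf 0x2201b)
(.leaf 0x22046))
(.node 8731 (.leaf 0x22057)
(.leaf 0x2205c))))))
(.node 8746 (.node 8739 (.node 8735 (.node 8733 (.leaf 0x22086)
(.node 8734 (.leaf 0x220ab)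
(.leaf 0x220ac)))
(.node 8737 (.node 8736 (.leaf 0x220bb)
(.leaf 0x220dc))
(.node 8738 (.leaf 0x220eb)
(.leaf 0x2210b))))
(.node 8742 (.node 8740 (.leaf 0x22126)
(.node 8741 (.leaf 0x2216b)
(.leaf 0x22186)))
(.node 8744 (.node 8743 (.leaf 0x221ab)
(.leaf 0x221ac))
(.node 8745 (.leaf 0x221bb)
(.leaf 0x221dc)))))
(.node 8753 (.node 8749 (.node 8747 (.leaf 0x221eb)
(.node 8748 (.leaf 0x2220b)
(.leaf 0x22216)))
(.node 8751 (.node 8750 (.leaf 0x22226)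
(.leaf 0x22246))
(.node 8752 (.leaf 0x2226c)
(.leaf 0x2227b))))
(.node 8756 (.node 8754 (.leaf 0x2229b)
(.node 8755 (.leaf 0x222a6)
(.leaf 0x222b6)))
(.node 8758 (.node 8757 (.leaf 0x222fb)
(.leaf 0x22306))
(.node 8759 (.leaf 0x22316)
(.leaf 0x22346)))))))

end Cfsg.Agent.H96.Fi24Mult.Zthree
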