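import Cfsg.Agent.H96.Fi24Mult.Cert
import Cfsg.Agent.H96.Fi24Mult.ZthreeFact0
import Cfsg.Agent.H96.Fi24Mult.ZthreeFact1
import Cfsg.Agent.H96.Fi24Mult.ZthreeFact2
import Cfsg.Agent.H96.Fi24Mult.ZthreeFact3
import Cfsg.Agent.H96.Fi24Mult.ZthreePar0
import Cfsg.Agent.H96.Fi24Mult.ZthreePar1
import Cfsg.Agent.H96.Fi24Mult.ZthreeCode0
import Cfsg.Agent.H96.Fi24Mult.ZthreeCode1
import Cfsg.Agent.H96.Fi24Mult.ZthreeCode2
import Cfsg.Agent.H96.Fi24Mult.ZthreeCode3

/-!
A generated scan certificate.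
-/

set_option autoImplicit false

namespace Cfsg.Agent.H96.Fi24Mult.Zthree

open Cfsg.Agent.H25.Fi24 (Tr)

/-- a trie -/
def facts : Tr :=
(.node 11008 (.node 5376 (.node 2560 (.node 1280 (.node 512 (.node 256 factPart0 factPart1) (.node 768 factPart2 (.node 1024 factPart3 factPart4))) (.node 1792 (.node 1536 factPart5 factPart6) (.node 2048 factPart7 (.node 2304 factPart8 factPart9)))) (.node 3840 (.node 3072 (.node 2816 factPart10 factPart11) (.node 3328 factPart12 (.node 3584 factPart13 factPart14))) (.node 4608 (.node 4096 factPart15 (.node 4352 factPart16 factPart17)) (.node 4864 factPart18 (.node 5120 factPart19 factPart20))))) (.node 8192 (.node 6656 (.node 5888 (.node 5632 factPart21 factPart22) (.node 6144 factPart23 (.node 6400 factPart24 factPart25))) (.node 7424 (.node 6912 factPart26 (.node 7168 factPart27 factPart28)) (.node 7680 factPart29 (.node 7936 factPart30 factPart31)))) (.node 9472 (.node 8704 (.node 8448 factPart32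 factPart33) (.node 8960 factPart34 (.node 9216 factPart35 factPart36))) (.node 10240 (.node 9728 factPart37 (.node 9984 factPart38 factPart39)) (.node 10496 factPart40 (.node 10752 factPart41 factPart42)))))) (.node 16640 (.node 13824 (.node 12288 (.node 11520 (.node 11264 factPart43 factPart44) (.node 11776 factPart45 (.node 12032 factPart46 factPart47))) (.node 13056 (.node 12544 factPart48 (.node 12800 factPart49 factPart50)) (.node 13312 factPart51 (.node 13568 factPart52 factPart53)))) (.node 15104 (.node 14336 (.node 14080 factPart54 factPart55) (.node 14592 factPart56 (.node 14848 factPart57 factPart58))) (.node 15872 (.node 15360 factPart59 (.node 15616 factPart60 factPart61)) (.node 16128 factPart62 (.node 16384 factPart63 factPart64))))) (.node 19456 (.node 17920 (.node 17152 (.node 16896 factPart65 factPart66) (.node 17408 factPart67 (.node 17664 factPart68 factPart69))) (.node 18688 (.node 18176 factPart70 (.node 18432 factPart71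 factPart72)) (.node 18944 factPart73 (.node 19200 factPart74 factPart75)))) (.node 20736 (.node 19968 (.node 19712 factPart76 factPart77) (.node 20224 factPart78 (.node 20480 factPart79 factPart80))) (.node 21504 (.node 20992 factPart81 (.node 21248 factPart82 factPart83)) (.node 21760 factPart84 (.node 22016 factPart85 factPart86)))))))

/-- a trie -/
def pars : Tr :=
(.node 4352 (.node 2048 (.node 1024 (.node 512 (.node 256 parPart0 parPart1) (.node 768 parPart2 parPart3)) (.node 1536 (.node 1280 parPart4 parPart5) (.node 1792 parPart6 parPart7))) (.node 3072 (.node 2560 (.node 2304 parPart8 parPart9) (.node 2816 parPart10 parPart11)) (.node 3584 (.node 3328 parPart12 parPart13) (.node 3840 parPart14 (.node 4096 parPart15 parPart16))))) (.node 6656 (.node 5376 (.node 4864 (.node 4608 parPart17 parPart18) (.node 5120 parPart19 parPart20)) (.node 5888 (.node 5632 parPart21 parPart22) (.node 6144 parPart23 (.node 6400 parPart24 parPart25))))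 (.node 7680 (.node 7168 (.node 6912 parPart26 parPart27) (.node 7424 parPart28 parPart29)) (.node 8192 (.node 7936 parPart30 parPart31) (.node 8448 parPart32 (.node 8704 parPart33 parPart34))))))

/-- a trie -/
def codes : Tr :=
(.node 11008 (.node 5376 (.node 2560 (.node 1280 (.node 512 (.node 256 codePart0 codePart1) (.node 768 codePart2 (.node 1024 codePart3 codePart4))) (.node 1792 (.node 1536 codePart5 codePart6) (.node 2048 codePart7 (.node 2304 codePart8 codePart9)))) (.node 3840 (.node 3072 (.node 2816 codePart10 codePart11) (.node 3328 codePart12 (.node 3584 codePart13 codePart14))) (.node 4608 (.node 4096 codePart15 (.node 4352 codePart16 codePart17)) (.node 4864 codePart18 (.node 5120 codePart19 codePart20))))) (.node 8192 (.node 6656 (.node 5888 (.node 5632 codePart21 codePart22) (.node 6144 codePart23 (.node 6400 codePart24 codePart25))) (.node 7424 (.node 6912 codePart26 (.node 7168 codePart27 codePart28)) (.node 7680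 codePart29 (.node 7936 codePart30 codePart31)))) (.node 9472 (.node 8704 (.node 8448 codePart32 codePart33) (.node 8960 codePart34 (.node 9216 codePart35 codePart36))) (.node 10240 (.node 9728 codePart37 (.node 9984 codePart38 codePart39)) (.node 10496 codePart40 (.node 10752 codePart41 codePart42)))))) (.node 16640 (.node 13824 (.node 12288 (.node 11520 (.node 11264 codePart43 codePart44) (.node 11776 codePart45 (.node 12032 codePart46 codePart47))) (.node 13056 (.node 12544 codePart48 (.node 12800 codePart49 codePart50)) (.node 13312 codePart51 (.node 13568 codePart52 codePart53)))) (.node 15104 (.node 14336 (.node 14080 codePart54 codePart55) (.node 14592 codePart56 (.node 14848 codePart57 codePart58))) (.node 15872 (.node 15360 codePart59 (.node 15616 codePart60 codePart61)) (.node 16128 codePart62 (.node 16384 codePart63 codePart64))))) (.node 19456 (.node 17920 (.node 17152 (.node 16896 codePart65 codePart66) (.node 17408 codePart67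 (.node 17664 codePart68 codePart69))) (.node 18688 (.node 18176 codePart70 (.node 18432 codePart71 codePart72)) (.node 18944 codePart73 (.node 19200 codePart74 codePart75)))) (.node 20736 (.node 19968 (.node 19712 codePart76 codePart77) (.node 20224 codePart78 (.node 20480 codePart79 codePart80))) (.node 21504 (.node 20992 codePart81 (.node 21248 codePart82 codePart83)) (.node 21760 codePart84 (.node 22016 codePart85 codePart86)))))))

/-- the certificate -/
def cfg : Cfg where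
  sg := false
  R := [
    ([1, 4, 1, 4], 0),
    ([3, 5, 3, 5], 0),
    ([2, 5, 2, 5], 0),
    ([7, 10, 7, 10], 0),
    ([8, 11, 8, 11], 0),
    ([2, 4, 2, 4], 0),
    ([2, 7, 2, 7], 0),
    ([3, 4, 3, 4, 3, 4], 0),
    ([1, 11, 1, 11], 0),
    ([6, 10, 6, 10], 0),
    ([0, 8, 0, 8], 0),
    ([1, 8, 1, 8], 0),
    ([9, 10, 9, 10], 0),
    ([8, 9, 8, 9, 8, 9], 0),
    ([0, 10, 0, 10], 0),
    ([6, 11, 6, 11], 0),
    ([3, 11, 3, 11], 0),
    ([5, 11, 5, 11], 0),
    ([2, 3, 2, 3, 2, 3], 0),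
    ([4, 9, 4, 9], 0),
    ([5, 10, 5, 10, 5, 10], 0),
    ([6, 9, 6, 9], 0),
    ([3, 9, 3, 9], 0),
    ([0, 1, 0, 1, 0, 1], 0),
    ([1, 2, 1, 2, 1, 2], 0),
    ([0, 4, 0, 4], 0),
    ([0, 9, 0, 9], 0),
    ([1, 9, 1, 9], 0),
    ([7, 11, 7, 11], 0),
    ([9, 11, 9, 11], 0),
    ([2, 11, 2, 11], 0),
    ([5, 7, 5, 7], 0),
    ([0, 3, 0, 3], 0),
    ([0, 7, 0, 7], 0),
    ([2, 10, 2, 10], 0),
    ([7, 9, 7, 9], 0),
    ([3, 10, 3, 10], 0),
    ([0, 6, 0, 6], 0),
    ([1, 5, 1, 5], 0),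
    ([4, 8, 4, 8], 0),
    ([0, 5, 0, 5], 0),
    ([1, 6, 1, 6], 0),
    ([2, 6, 2, 6], 0),
    ([1, 3, 1, 3], 0),
    ([4, 5, 4, 5, 4, 5], 0),
    ([3, 6, 3, 6], 0),
    ([6, 7, 6, 7, 6, 7], 0),
    ([4, 11, 4, 11], 0),
    ([5, 9, 5, 9], 0),
    ([10, 11, 10, 11, 10, 11], 0),
    ([4, 7, 4, 7], 0),
    ([1, 7, 1, 7], 0),
    ([4, 10, 4, 10], 0),
    ([7, 8, 7, 8, 7, 8], 0),
    ([3, 7, 3, 7], 0),
    ([8, 10, 8, 10], 0),
    ([5, 8, 5, 8], 0),
    ([1, 10, 1, 10], 0),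
    ([3, 8, 3, 8], 0),
    ([2, 8, 2, 8], 0),
    ([0, 2, 0, 2], 0),
    ([2, 9, 2, 9], 0),
    ([0, 11, 0, 11], 0),
    ([6, 8, 6, 8], 0),
    ([4, 6, 4, 6], 0),
    ([5, 6, 5, 6, 5, 6], 0),
    ([0, 10, 7, 6, 5, 4, 3, 2, 10, 7, 6, 5, 4, 3, 2, 10, 7, 6, 5, 4, 3, 2, 10, 7, 6, 5, 4, 3, 2, 10, 7, 6, 5, 4, 3, 2, 10, 7, 6, 5, 4, 3, 2, 10, 7, 6, 5, 4, 3, 2, 10, 7, 6, 5, 4, 3, 2, 10, 7, 6, 5, 4, 3, 2], 0),
    ([5, 4, 3, 5, 6, 7, 5, 10, 11, 5, 4, 3, 5, 6, 7, 5, 10, 11, 5, 4, 3, 5, 6, 7, 5, 10, 11, 5, 4, 3, 5, 6, 7, 5, 10, 11, 5, 4, 3, 5, 6, 7, 5, 10, 11, 5, 4, 3, 5, 6, 7, 5, 10, 11, 5, 4, 3, 5, 6, 7, 5, 10, 11, 5, 4, 3, 5, 6, 7, 5, 10, 11, 5, 4, 3, 5, 6, 7, 5, 10, 11, 5, 4, 3, 5, 6, 7, 5, 10, 11], 0),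
    ([5, 4, 3, 2, 1, 0, 5, 6, 7, 8, 9, 5, 10, 11, 5, 4, 3, 2, 1, 0, 5, 6, 7, 8, 9, 5, 10, 11, 5, 4, 3, 2, 1, 0, 5, 6, 7, 8, 9, 5, 10, 11, 5, 4, 3, 2, 1, 0, 5, 6, 7, 8, 9, 5, 10, 11, 5, 4, 3, 2, 1, 0, 5, 6, 7, 8, 9, 5, 10, 11, 5, 4, 3, 2, 1, 0, 5, 6, 7, 8, 9, 5, 10, 11, 5, 4, 3, 2, 1, 0, 5, 6, 7, 8, 9, 5, 10, 11, 5, 4, 3, 2, 1, 0, 5, 6, 7, 8, 9, 5, 10, 11, 5, 4, 3, 2, 1, 0, 5, 6, 7, 8, 9, 5, 10, 11, 5, 4, 3, 2, 1, 0, 5, 6, 7, 8, 9, 5, 10, 11, 5, 4, 3, 2, 1, 0, 5, 6, 7, 8, 9, 5, 10, 11, 5, 4, 3, 2, 1, 0, 5, 6, 7, 8, 9, 5, 10, 11, 5, 4, 3, 2, 1, 0, 5, 6, 7, 8, 9, 5, 10, 11, 5, 4, 3, 2, 1, 0, 5, 6, 7, 8, 9, 5, 10, 11, 5, 4, 3, 2, 1, 0, 5, 6, 7, 8, 9, 5, 10, 11, 5, 4, 3, 2, 1, 0, 5, 6, 7, 8, 9, 5, 10, 11, 5, 4, 3, 2, 1, 0, 5, 6, 7, 8, 9, 5, 10, 11], 1)]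
  S := [16384, 16386, 16387, 16388, 16389, 16390, 16391, 16392, 16393, 16394, 16395]
  F := facts
  P := pars
  C := codes

end Cfsg.Agent.H96.Fi24Mult.Zthree
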