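import Cfsg.Agent.H25.Fi24.Table

/-!
Generated data of a scan certificate.
-/

set_option autoImplicit false

namespace Cfsg.Agent.H96.Fi24Mult.Ztwo

open Cfsg.Agent.H25.Fi24 (Tr)

/-- part of a trie -/
def codePart24 : Tr :=
(.node 6272 (.node 6208 (.node 6176 (.node 6160 (.node 6152 (.node 6148 (.node 6146 (.node 6145 (.leaf 0x0)
(.leaf 0x0))
(.node 6147 (.leaf 0x0)
(.leaf 0x0)))
(.node 6150 (.node 6149 (.leaf 0x0)
(.leaf 0x0))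
(.node 6151 (.leaf 0x0)
(.leaf 0x0))))
(.node 6156 (.node 6154 (.node 6153 (.leaf 0x0)
(.leaf 0x0))
(.node 6155 (.leaf 0x0)
(.leaf 0x0)))
(.node 6158 (.node 6157 (.leaf 0x0)
(.leaf 0x0))
(.node 6159 (.leaf 0x0)
(.leaf 0x0)))))
(.node 6168 (.node 6164 (.node 6162 (.node 6161 (.leaf 0x0)
(.leaf 0x0))
(.node 6163 (.leaf 0x0)
(.leaf 0x0)))
(.node 6166 (.node 6165 (.leaf 0x0)
(.leaf 0x0))
(.node 6167 (.leaf 0x0)
(.leaf 0x0))))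
(.node 6172 (.node 6170 (.node 6169 (.leaf 0x0)
(.leaf 0x0))
(.node 6171 (.leaf 0x0)
(.leaf 0x0)))
(.node 6174 (.node 6173 (.leaf 0x0)
(.leaf 0x0))
(.node 6175 (.leaf 0x0)
(.leaf 0x0))))))
(.node 6192 (.node 6184 (.node 6180 (.node 6178 (.node 6177 (.leaf 0x0)
(.leaf 0x0))
(.node 6179 (.leaf 0x0)
(.leaf 0x0)))
(.node 6182 (.node 6181 (.leaf 0x0)
(.leaf 0x0))
(.node 6183 (.leaf 0x0)
(.leaf 0x0))))
(.node 6188 (.node 6186 (.node 6185 (.leaf 0x0)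
(.leaf 0x0))
(.node 6187 (.leaf 0x0)
(.leaf 0x0)))
(.node 6190 (.node 6189 (.leaf 0x0)
(.leaf 0x0))
(.node 6191 (.leaf 0x0)
(.leaf 0x0)))))
(.node 6200 (.node 6196 (.node 6194 (.node 6193 (.leaf 0x0)
(.leaf 0x0))
(.node 6195 (.leaf 0x0)
(.leaf 0x0)))
(.node 6198 (.node 6197 (.leaf 0x0)
(.leaf 0x0))
(.node 6199 (.leaf 0x0)
(.leaf 0x0))))
(.node 6204 (.node 6202 (.node 6201 (.leaf 0x0)
(.leaf 0x0))
(.node 6203 (.leaf 0x0)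
(.leaf 0x0)))
(.node 6206 (.node 6205 (.leaf 0x0)
(.leaf 0x0))
(.node 6207 (.leaf 0x0)
(.leaf 0x0)))))))
(.node 6240 (.node 6224 (.node 6216 (.node 6212 (.node 6210 (.node 6209 (.leaf 0x0)
(.leaf 0x0))
(.node 6211 (.leaf 0x0)
(.leaf 0x0)))
(.node 6214 (.node 6213 (.leaf 0x0)
(.leaf 0x0))
(.node 6215 (.leaf 0x0)
(.leaf 0x0))))
(.node 6220 (.node 6218 (.node 6217 (.leaf 0x0)
(.leaf 0x0))
(.node 6219 (.leaf 0x0)
(.leaf 0x0)))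
(.node 6222 (.node 6221 (.leaf 0x0)
(.leaf 0x0))
(.node 6223 (.leaf 0x0)
(.leaf 0x0)))))
(.node 6232 (.node 6228 (.node 6226 (.node 6225 (.leaf 0x0)
(.leaf 0x0))
(.node 6227 (.leaf 0x0)
(.leaf 0x0)))
(.node 6230 (.node 6229 (.leaf 0x0)
(.leaf 0x0))
(.node 6231 (.leaf 0x0)
(.leaf 0x0))))
(.node 6236 (.node 6234 (.node 6233 (.leaf 0x0)
(.leaf 0x0))
(.node 6235 (.leaf 0x0)
(.leaf 0x0)))
(.node 6238 (.node 6237 (.leaf 0x0)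
(.leaf 0x0))
(.node 6239 (.leaf 0x0)
(.leaf 0x0))))))
(.node 6256 (.node 6248 (.node 6244 (.node 6242 (.node 6241 (.leaf 0x0)
(.leaf 0x0))
(.node 6243 (.leaf 0x0)
(.leaf 0x0)))
(.node 6246 (.node 6245 (.leaf 0x0)
(.leaf 0x0))
(.node 6247 (.leaf 0x0)
(.leaf 0x0))))
(.node 6252 (.node 6250 (.node 6249 (.leaf 0x0)
(.leaf 0x0))
(.node 6251 (.leaf 0x0)
(.leaf 0x0)))
(.node 6254 (.node 6253 (.leaf 0x0)
(.leaf 0x0))
(.node 6255 (.leaf 0x0)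
(.leaf 0x0)))))
(.node 6264 (.node 6260 (.node 6258 (.node 6257 (.leaf 0x0)
(.leaf 0x0))
(.node 6259 (.leaf 0x0)
(.leaf 0x0)))
(.node 6262 (.node 6261 (.leaf 0x0)
(.leaf 0x0))
(.node 6263 (.leaf 0x0)
(.leaf 0x0))))
(.node 6268 (.node 6266 (.node 6265 (.leaf 0x0)
(.leaf 0x0))
(.node 6267 (.leaf 0x0)
(.leaf 0x0)))
(.node 6270 (.node 6269 (.leaf 0x0)
(.leaf 0x0))
(.node 6271 (.leaf 0x0)
(.leaf 0x0))))))))
(.node 6336 (.node 6304 (.node 6288 (.node 6280 (.node 6276 (.node 6274 (.node 6273 (.leaf 0x0)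
(.leaf 0x0))
(.node 6275 (.leaf 0x0)
(.leaf 0x0)))
(.node 6278 (.node 6277 (.leaf 0x0)
(.leaf 0x0))
(.node 6279 (.leaf 0x0)
(.leaf 0x0))))
(.node 6284 (.node 6282 (.node 6281 (.leaf 0x0)
(.leaf 0x0))
(.node 6283 (.leaf 0x0)
(.leaf 0x0)))
(.node 6286 (.node 6285 (.leaf 0x0)
(.leaf 0x0))
(.node 6287 (.leaf 0x0)
(.leaf 0x0)))))
(.node 6296 (.node 6292 (.node 6290 (.node 6289 (.leaf 0x0)
(.leaf 0x0))
(.node 6291 (.leaf 0x0)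
(.leaf 0x0)))
(.node 6294 (.node 6293 (.leaf 0x0)
(.leaf 0x0))
(.node 6295 (.leaf 0x0)
(.leaf 0x0))))
(.node 6300 (.node 6298 (.node 6297 (.leaf 0x0)
(.leaf 0x0))
(.node 6299 (.leaf 0x0)
(.leaf 0x0)))
(.node 6302 (.node 6301 (.leaf 0x0)
(.leaf 0x0))
(.node 6303 (.leaf 0x0)
(.leaf 0x0))))))
(.node 6320 (.node 6312 (.node 6308 (.node 6306 (.node 6305 (.leaf 0x0)
(.leaf 0x0))
(.node 6307 (.leaf 0x0)
(.leaf 0x0)))
(.node 6310 (.node 6309 (.leaf 0x0)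
(.leaf 0x0))
(.node 6311 (.leaf 0x0)
(.leaf 0x0))))
(.node 6316 (.node 6314 (.node 6313 (.leaf 0x0)
(.leaf 0x0))
(.node 6315 (.leaf 0x0)
(.leaf 0x0)))
(.node 6318 (.node 6317 (.leaf 0x0)
(.leaf 0x0))
(.node 6319 (.leaf 0x0)
(.leaf 0x0)))))
(.node 6328 (.node 6324 (.node 6322 (.node 6321 (.leaf 0x0)
(.leaf 0x0))
(.node 6323 (.leaf 0x0)
(.leaf 0x0)))
(.node 6326 (.node 6325 (.leaf 0x0)
(.leaf 0x0))
(.node 6327 (.leaf 0x0)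
(.leaf 0x0))))
(.node 6332 (.node 6330 (.node 6329 (.leaf 0x0)
(.leaf 0x0))
(.node 6331 (.leaf 0x0)
(.leaf 0x0)))
(.node 6334 (.node 6333 (.leaf 0x0)
(.leaf 0x0))
(.node 6335 (.leaf 0x0)
(.leaf 0x0)))))))
(.node 6368 (.node 6352 (.node 6344 (.node 6340 (.node 6338 (.node 6337 (.leaf 0x0)
(.leaf 0x0))
(.node 6339 (.leaf 0x0)
(.leaf 0x0)))
(.node 6342 (.node 6341 (.leaf 0x0)
(.leaf 0x0))
(.node 6343 (.leaf 0x0)
(.leaf 0x0))))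
(.node 6348 (.node 6346 (.node 6345 (.leaf 0x0)
(.leaf 0x0))
(.node 6347 (.leaf 0x0)
(.leaf 0x0)))
(.node 6350 (.node 6349 (.leaf 0x0)
(.leaf 0x0))
(.node 6351 (.leaf 0x0)
(.leaf 0x0)))))
(.node 6360 (.node 6356 (.node 6354 (.node 6353 (.leaf 0x0)
(.leaf 0x0))
(.node 6355 (.leaf 0x0)
(.leaf 0x0)))
(.node 6358 (.node 6357 (.leaf 0x0)
(.leaf 0x0))
(.node 6359 (.leaf 0x0)
(.leaf 0x0))))
(.node 6364 (.node 6362 (.node 6361 (.leaf 0x0)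
(.leaf 0x0))
(.node 6363 (.leaf 0x0)
(.leaf 0x0)))
(.node 6366 (.node 6365 (.leaf 0x0)
(.leaf 0x0))
(.node 6367 (.leaf 0x0)
(.leaf 0x0))))))
(.node 6384 (.node 6376 (.node 6372 (.node 6370 (.node 6369 (.leaf 0x0)
(.leaf 0x0))
(.node 6371 (.leaf 0x0)
(.leaf 0x0)))
(.node 6374 (.node 6373 (.leaf 0x0)
(.leaf 0x0))
(.node 6375 (.leaf 0x0)
(.leaf 0x0))))
(.node 6380 (.node 6378 (.node 6377 (.leaf 0x0)
(.leaf 0x0))
(.node 6379 (.leaf 0x0)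
(.leaf 0x0)))
(.node 6382 (.node 6381 (.leaf 0x0)
(.leaf 0x0))
(.node 6383 (.leaf 0x0)
(.leaf 0x0)))))
(.node 6392 (.node 6388 (.node 6386 (.node 6385 (.leaf 0x0)
(.leaf 0x0))
(.node 6387 (.leaf 0x0)
(.leaf 0x0)))
(.node 6390 (.node 6389 (.leaf 0x0)
(.leaf 0x0))
(.node 6391 (.leaf 0x0)
(.leaf 0x0))))
(.node 6396 (.node 6394 (.node 6393 (.leaf 0x0)
(.leaf 0x0))
(.node 6395 (.leaf 0x0)
(.leaf 0x0)))
(.node 6398 (.node 6397 (.leaf 0x0)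
(.leaf 0x0))
(.node 6399 (.leaf 0x0)
(.leaf 0x0)))))))))

/-- part of a trie -/
def codePart25 : Tr :=
(.node 6528 (.node 6464 (.node 6432 (.node 6416 (.node 6408 (.node 6404 (.node 6402 (.node 6401 (.leaf 0x0)
(.leaf 0x0))
(.node 6403 (.leaf 0x0)
(.leaf 0x0)))
(.node 6406 (.node 6405 (.leaf 0x0)
(.leaf 0x0))
(.node 6407 (.leaf 0x0)
(.leaf 0x0))))
(.node 6412 (.node 6410 (.node 6409 (.leaf 0x0)
(.leaf 0x0))
(.node 6411 (.leaf 0x0)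
(.leaf 0x0)))
(.node 6414 (.node 6413 (.leaf 0x0)
(.leaf 0x0))
(.node 6415 (.leaf 0x0)
(.leaf 0x0)))))
(.node 6424 (.node 6420 (.node 6418 (.node 6417 (.leaf 0x0)
(.leaf 0x0))
(.node 6419 (.leaf 0x0)
(.leaf 0x0)))
(.node 6422 (.node 6421 (.leaf 0x0)
(.leaf 0x0))
(.node 6423 (.leaf 0x0)
(.leaf 0x0))))
(.node 6428 (.node 6426 (.node 6425 (.leaf 0x0)
(.leaf 0x0))
(.node 6427 (.leaf 0x0)
(.leaf 0x0)))
(.node 6430 (.node 6429 (.leaf 0x0)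
(.leaf 0x0))
(.node 6431 (.leaf 0x0)
(.leaf 0x0))))))
(.node 6448 (.node 6440 (.node 6436 (.node 6434 (.node 6433 (.leaf 0x0)
(.leaf 0x0))
(.node 6435 (.leaf 0x0)
(.leaf 0x0)))
(.node 6438 (.node 6437 (.leaf 0x0)
(.leaf 0x0))
(.node 6439 (.leaf 0x0)
(.leaf 0x0))))
(.node 6444 (.node 6442 (.node 6441 (.leaf 0x0)
(.leaf 0x0))
(.node 6443 (.leaf 0x0)
(.leaf 0x0)))
(.node 6446 (.node 6445 (.leaf 0x0)
(.leaf 0x0))
(.node 6447 (.leaf 0x0)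
(.leaf 0x0)))))
(.node 6456 (.node 6452 (.node 6450 (.node 6449 (.leaf 0x0)
(.leaf 0x0))
(.node 6451 (.leaf 0x0)
(.leaf 0x0)))
(.node 6454 (.node 6453 (.leaf 0x0)
(.leaf 0x0))
(.node 6455 (.leaf 0x0)
(.leaf 0x0))))
(.node 6460 (.node 6458 (.node 6457 (.leaf 0x0)
(.leaf 0x0))
(.node 6459 (.leaf 0x0)
(.leaf 0x0)))
(.node 6462 (.node 6461 (.leaf 0x0)
(.leaf 0x0))
(.node 6463 (.leaf 0x0)
(.leaf 0x0)))))))
(.node 6496 (.node 6480 (.node 6472 (.node 6468 (.node 6466 (.node 6465 (.leaf 0x0)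
(.leaf 0x0))
(.node 6467 (.leaf 0x0)
(.leaf 0x0)))
(.node 6470 (.node 6469 (.leaf 0x0)
(.leaf 0x0))
(.node 6471 (.leaf 0x0)
(.leaf 0x0))))
(.node 6476 (.node 6474 (.node 6473 (.leaf 0x0)
(.leaf 0x0))
(.node 6475 (.leaf 0x0)
(.leaf 0x0)))
(.node 6478 (.node 6477 (.leaf 0x0)
(.leaf 0x0))
(.node 6479 (.leaf 0x0)
(.leaf 0x0)))))
(.node 6488 (.node 6484 (.node 6482 (.node 6481 (.leaf 0x0)
(.leaf 0x0))
(.node 6483 (.leaf 0x0)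
(.leaf 0x0)))
(.node 6486 (.node 6485 (.leaf 0x0)
(.leaf 0x0))
(.node 6487 (.leaf 0x0)
(.leaf 0x0))))
(.node 6492 (.node 6490 (.node 6489 (.leaf 0x0)
(.leaf 0x0))
(.node 6491 (.leaf 0x0)
(.leaf 0x0)))
(.node 6494 (.node 6493 (.leaf 0x0)
(.leaf 0x0))
(.node 6495 (.leaf 0x0)
(.leaf 0x0))))))
(.node 6512 (.node 6504 (.node 6500 (.node 6498 (.node 6497 (.leaf 0x0)
(.leaf 0x0))
(.node 6499 (.leaf 0x0)
(.leaf 0x0)))
(.node 6502 (.node 6501 (.leaf 0x0)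
(.leaf 0x0))
(.node 6503 (.leaf 0x0)
(.leaf 0x0))))
(.node 6508 (.node 6506 (.node 6505 (.leaf 0x0)
(.leaf 0x0))
(.node 6507 (.leaf 0x0)
(.leaf 0x0)))
(.node 6510 (.node 6509 (.leaf 0x0)
(.leaf 0x0))
(.node 6511 (.leaf 0x0)
(.leaf 0x0)))))
(.node 6520 (.node 6516 (.node 6514 (.node 6513 (.leaf 0x0)
(.leaf 0x0))
(.node 6515 (.leaf 0x0)
(.leaf 0x0)))
(.node 6518 (.node 6517 (.leaf 0x0)
(.leaf 0x0))
(.node 6519 (.leaf 0x0)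
(.leaf 0x0))))
(.node 6524 (.node 6522 (.node 6521 (.leaf 0x0)
(.leaf 0x0))
(.node 6523 (.leaf 0x0)
(.leaf 0x0)))
(.node 6526 (.node 6525 (.leaf 0x0)
(.leaf 0x0))
(.node 6527 (.leaf 0x0)
(.leaf 0x0))))))))
(.node 6592 (.node 6560 (.node 6544 (.node 6536 (.node 6532 (.node 6530 (.node 6529 (.leaf 0x0)
(.leaf 0x0))
(.node 6531 (.leaf 0x0)
(.leaf 0x0)))
(.node 6534 (.node 6533 (.leaf 0x0)
(.leaf 0x0))
(.node 6535 (.leaf 0x0)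
(.leaf 0x0))))
(.node 6540 (.node 6538 (.node 6537 (.leaf 0x0)
(.leaf 0x0))
(.node 6539 (.leaf 0x0)
(.leaf 0x0)))
(.node 6542 (.node 6541 (.leaf 0x0)
(.leaf 0x0))
(.node 6543 (.leaf 0x0)
(.leaf 0x0)))))
(.node 6552 (.node 6548 (.node 6546 (.node 6545 (.leaf 0x0)
(.leaf 0x0))
(.node 6547 (.leaf 0x0)
(.leaf 0x0)))
(.node 6550 (.node 6549 (.leaf 0x0)
(.leaf 0x0))
(.node 6551 (.leaf 0x0)
(.leaf 0x0))))
(.node 6556 (.node 6554 (.node 6553 (.leaf 0x0)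
(.leaf 0x0))
(.node 6555 (.leaf 0x0)
(.leaf 0x0)))
(.node 6558 (.node 6557 (.leaf 0x0)
(.leaf 0x0))
(.node 6559 (.leaf 0x0)
(.leaf 0x0))))))
(.node 6576 (.node 6568 (.node 6564 (.node 6562 (.node 6561 (.leaf 0x0)
(.leaf 0x0))
(.node 6563 (.leaf 0x0)
(.leaf 0x0)))
(.node 6566 (.node 6565 (.leaf 0x0)
(.leaf 0x0))
(.node 6567 (.leaf 0x0)
(.leaf 0x0))))
(.node 6572 (.node 6570 (.node 6569 (.leaf 0x0)
(.leaf 0x0))
(.node 6571 (.leaf 0x0)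
(.leaf 0x0)))
(.node 6574 (.node 6573 (.leaf 0x0)
(.leaf 0x0))
(.node 6575 (.leaf 0x0)
(.leaf 0x0)))))
(.node 6584 (.node 6580 (.node 6578 (.node 6577 (.leaf 0x0)
(.leaf 0x0))
(.node 6579 (.leaf 0x0)
(.leaf 0x0)))
(.node 6582 (.node 6581 (.leaf 0x0)
(.leaf 0x0))
(.node 6583 (.leaf 0x0)
(.leaf 0x0))))
(.node 6588 (.node 6586 (.node 6585 (.leaf 0x0)
(.leaf 0x0))
(.node 6587 (.leaf 0x0)
(.leaf 0x0)))
(.node 6590 (.node 6589 (.leaf 0x0)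
(.leaf 0x0))
(.node 6591 (.leaf 0x0)
(.leaf 0x0)))))))
(.node 6624 (.node 6608 (.node 6600 (.node 6596 (.node 6594 (.node 6593 (.leaf 0x0)
(.leaf 0x0))
(.node 6595 (.leaf 0x0)
(.leaf 0x0)))
(.node 6598 (.node 6597 (.leaf 0x0)
(.leaf 0x0))
(.node 6599 (.leaf 0x0)
(.leaf 0x0))))
(.node 6604 (.node 6602 (.node 6601 (.leaf 0x0)
(.leaf 0x0))
(.node 6603 (.leaf 0x0)
(.leaf 0x0)))
(.node 6606 (.node 6605 (.leaf 0x0)
(.leaf 0x0))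
(.node 6607 (.leaf 0x0)
(.leaf 0x0)))))
(.node 6616 (.node 6612 (.node 6610 (.node 6609 (.leaf 0x0)
(.leaf 0x0))
(.node 6611 (.leaf 0x0)
(.leaf 0x0)))
(.node 6614 (.node 6613 (.leaf 0x0)
(.leaf 0x0))
(.node 6615 (.leaf 0x0)
(.leaf 0x0))))
(.node 6620 (.node 6618 (.node 6617 (.leaf 0x0)
(.leaf 0x0))
(.node 6619 (.leaf 0x0)
(.leaf 0x0)))
(.node 6622 (.node 6621 (.leaf 0x0)
(.leaf 0x0))
(.node 6623 (.leaf 0x0)
(.leaf 0x0))))))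
(.node 6640 (.node 6632 (.node 6628 (.node 6626 (.node 6625 (.leaf 0x0)
(.leaf 0x0))
(.node 6627 (.leaf 0x0)
(.leaf 0x0)))
(.node 6630 (.node 6629 (.leaf 0x0)
(.leaf 0x0))
(.node 6631 (.leaf 0x0)
(.leaf 0x0))))
(.node 6636 (.node 6634 (.node 6633 (.leaf 0x0)
(.leaf 0x0))
(.node 6635 (.leaf 0x0)
(.leaf 0x0)))
(.node 6638 (.node 6637 (.leaf 0x0)
(.leaf 0x0))
(.node 6639 (.leaf 0x0)
(.leaf 0x0)))))
(.node 6648 (.node 6644 (.node 6642 (.node 6641 (.leaf 0x0)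
(.leaf 0x0))
(.node 6643 (.leaf 0x0)
(.leaf 0x0)))
(.node 6646 (.node 6645 (.leaf 0x0)
(.leaf 0x0))
(.node 6647 (.leaf 0x0)
(.leaf 0x0))))
(.node 6652 (.node 6650 (.node 6649 (.leaf 0x0)
(.leaf 0x0))
(.node 6651 (.leaf 0x0)
(.leaf 0x0)))
(.node 6654 (.node 6653 (.leaf 0x0)
(.leaf 0x0))
(.node 6655 (.leaf 0x0)
(.leaf 0x0)))))))))

/-- part of a trie -/
def codePart26 : Tr :=
(.node 6784 (.node 6720 (.node 6688 (.node 6672 (.node 6664 (.node 6660 (.node 6658 (.node 6657 (.leaf 0x0)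
(.leaf 0x0))
(.node 6659 (.leaf 0x0)
(.leaf 0x0)))
(.node 6662 (.node 6661 (.leaf 0x0)
(.leaf 0x0))
(.node 6663 (.leaf 0x0)
(.leaf 0x0))))
(.node 6668 (.node 6666 (.node 6665 (.leaf 0x0)
(.leaf 0x0))
(.node 6667 (.leaf 0x0)
(.leaf 0x0)))
(.node 6670 (.node 6669 (.leaf 0x0)
(.leaf 0x0))
(.node 6671 (.leaf 0x0)
(.leaf 0x0)))))
(.node 6680 (.node 6676 (.node 6674 (.node 6673 (.leaf 0x0)
(.leaf 0x0))
(.node 6675 (.leaf 0x0)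
(.leaf 0x0)))
(.node 6678 (.node 6677 (.leaf 0x0)
(.leaf 0x0))
(.node 6679 (.leaf 0x0)
(.leaf 0x0))))
(.node 6684 (.node 6682 (.node 6681 (.leaf 0x0)
(.leaf 0x0))
(.node 6683 (.leaf 0x0)
(.leaf 0x0)))
(.node 6686 (.node 6685 (.leaf 0x0)
(.leaf 0x0))
(.node 6687 (.leaf 0x0)
(.leaf 0x0))))))
(.node 6704 (.node 6696 (.node 6692 (.node 6690 (.node 6689 (.leaf 0x0)
(.leaf 0x0))
(.node 6691 (.leaf 0x0)
(.leaf 0x0)))
(.node 6694 (.node 6693 (.leaf 0x0)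
(.leaf 0x0))
(.node 6695 (.leaf 0x0)
(.leaf 0x0))))
(.node 6700 (.node 6698 (.node 6697 (.leaf 0x0)
(.leaf 0x0))
(.node 6699 (.leaf 0x0)
(.leaf 0x0)))
(.node 6702 (.node 6701 (.leaf 0x0)
(.leaf 0x0))
(.node 6703 (.leaf 0x0)
(.leaf 0x0)))))
(.node 6712 (.node 6708 (.node 6706 (.node 6705 (.leaf 0x0)
(.leaf 0x0))
(.node 6707 (.leaf 0x0)
(.leaf 0x0)))
(.node 6710 (.node 6709 (.leaf 0x0)
(.leaf 0x0))
(.node 6711 (.leaf 0x0)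
(.leaf 0x0))))
(.node 6716 (.node 6714 (.node 6713 (.leaf 0x0)
(.leaf 0x0))
(.node 6715 (.leaf 0x0)
(.leaf 0x0)))
(.node 6718 (.node 6717 (.leaf 0x0)
(.leaf 0x0))
(.node 6719 (.leaf 0x0)
(.leaf 0x0)))))))
(.node 6752 (.node 6736 (.node 6728 (.node 6724 (.node 6722 (.node 6721 (.leaf 0x0)
(.leaf 0x0))
(.node 6723 (.leaf 0x0)
(.leaf 0x0)))
(.node 6726 (.node 6725 (.leaf 0x0)
(.leaf 0x0))
(.node 6727 (.leaf 0x0)
(.leaf 0x0))))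
(.node 6732 (.node 6730 (.node 6729 (.leaf 0x0)
(.leaf 0x0))
(.node 6731 (.leaf 0x0)
(.leaf 0x0)))
(.node 6734 (.node 6733 (.leaf 0x0)
(.leaf 0x0))
(.node 6735 (.leaf 0x0)
(.leaf 0x0)))))
(.node 6744 (.node 6740 (.node 6738 (.node 6737 (.leaf 0x0)
(.leaf 0x0))
(.node 6739 (.leaf 0x0)
(.leaf 0x0)))
(.node 6742 (.node 6741 (.leaf 0x0)
(.leaf 0x0))
(.node 6743 (.leaf 0x0)
(.leaf 0x0))))
(.node 6748 (.node 6746 (.node 6745 (.leaf 0x0)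
(.leaf 0x0))
(.node 6747 (.leaf 0x0)
(.leaf 0x0)))
(.node 6750 (.node 6749 (.leaf 0x0)
(.leaf 0x0))
(.node 6751 (.leaf 0x0)
(.leaf 0x0))))))
(.node 6768 (.node 6760 (.node 6756 (.node 6754 (.node 6753 (.leaf 0x0)
(.leaf 0x0))
(.node 6755 (.leaf 0x0)
(.leaf 0x0)))
(.node 6758 (.node 6757 (.leaf 0x0)
(.leaf 0x0))
(.node 6759 (.leaf 0x0)
(.leaf 0x0))))
(.node 6764 (.node 6762 (.node 6761 (.leaf 0x0)
(.leaf 0x0))
(.node 6763 (.leaf 0x0)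
(.leaf 0x0)))
(.node 6766 (.node 6765 (.leaf 0x0)
(.leaf 0x0))
(.node 6767 (.leaf 0x0)
(.leaf 0x0)))))
(.node 6776 (.node 6772 (.node 6770 (.node 6769 (.leaf 0x0)
(.leaf 0x0))
(.node 6771 (.leaf 0x0)
(.leaf 0x0)))
(.node 6774 (.node 6773 (.leaf 0x0)
(.leaf 0x0))
(.node 6775 (.leaf 0x0)
(.leaf 0x0))))
(.node 6780 (.node 6778 (.node 6777 (.leaf 0x0)
(.leaf 0x0))
(.node 6779 (.leaf 0x0)
(.leaf 0x0)))
(.node 6782 (.node 6781 (.leaf 0x0)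
(.leaf 0x0))
(.node 6783 (.leaf 0x0)
(.leaf 0x0))))))))
(.node 6848 (.node 6816 (.node 6800 (.node 6792 (.node 6788 (.node 6786 (.node 6785 (.leaf 0x0)
(.leaf 0x0))
(.node 6787 (.leaf 0x0)
(.leaf 0x0)))
(.node 6790 (.node 6789 (.leaf 0x0)
(.leaf 0x0))
(.node 6791 (.leaf 0x0)
(.leaf 0x0))))
(.node 6796 (.node 6794 (.node 6793 (.leaf 0x0)
(.leaf 0x0))
(.node 6795 (.leaf 0x0)
(.leaf 0x0)))
(.node 6798 (.node 6797 (.leaf 0x0)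
(.leaf 0x0))
(.node 6799 (.leaf 0x0)
(.leaf 0x0)))))
(.node 6808 (.node 6804 (.node 6802 (.node 6801 (.leaf 0x0)
(.leaf 0x0))
(.node 6803 (.leaf 0x0)
(.leaf 0x0)))
(.node 6806 (.node 6805 (.leaf 0x0)
(.leaf 0x0))
(.node 6807 (.leaf 0x0)
(.leaf 0x0))))
(.node 6812 (.node 6810 (.node 6809 (.leaf 0x0)
(.leaf 0x0))
(.node 6811 (.leaf 0x0)
(.leaf 0x0)))
(.node 6814 (.node 6813 (.leaf 0x0)
(.leaf 0x0))
(.node 6815 (.leaf 0x0)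
(.leaf 0x0))))))
(.node 6832 (.node 6824 (.node 6820 (.node 6818 (.node 6817 (.leaf 0x0)
(.leaf 0x0))
(.node 6819 (.leaf 0x0)
(.leaf 0x0)))
(.node 6822 (.node 6821 (.leaf 0x0)
(.leaf 0x0))
(.node 6823 (.leaf 0x0)
(.leaf 0x0))))
(.node 6828 (.node 6826 (.node 6825 (.leaf 0x0)
(.leaf 0x0))
(.node 6827 (.leaf 0x0)
(.leaf 0x0)))
(.node 6830 (.node 6829 (.leaf 0x0)
(.leaf 0x0))
(.node 6831 (.leaf 0x0)
(.leaf 0x0)))))
(.node 6840 (.node 6836 (.node 6834 (.node 6833 (.leaf 0x0)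
(.leaf 0x0))
(.node 6835 (.leaf 0x0)
(.leaf 0x0)))
(.node 6838 (.node 6837 (.leaf 0x0)
(.leaf 0x0))
(.node 6839 (.leaf 0x0)
(.leaf 0x0))))
(.node 6844 (.node 6842 (.node 6841 (.leaf 0x0)
(.leaf 0x0))
(.node 6843 (.leaf 0x0)
(.leaf 0x0)))
(.node 6846 (.node 6845 (.leaf 0x0)
(.leaf 0x0))
(.node 6847 (.leaf 0x0)
(.leaf 0x0)))))))
(.node 6880 (.node 6864 (.node 6856 (.node 6852 (.node 6850 (.node 6849 (.leaf 0x0)
(.leaf 0x0))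
(.node 6851 (.leaf 0x0)
(.leaf 0x0)))
(.node 6854 (.node 6853 (.leaf 0x0)
(.leaf 0x0))
(.node 6855 (.leaf 0x0)
(.leaf 0x0))))
(.node 6860 (.node 6858 (.node 6857 (.leaf 0x0)
(.leaf 0x0))
(.node 6859 (.leaf 0x0)
(.leaf 0x0)))
(.node 6862 (.node 6861 (.leaf 0x0)
(.leaf 0x0))
(.node 6863 (.leaf 0x0)
(.leaf 0x0)))))
(.node 6872 (.node 6868 (.node 6866 (.node 6865 (.leaf 0x0)
(.leaf 0x0))
(.node 6867 (.leaf 0x0)
(.leaf 0x0)))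
(.node 6870 (.node 6869 (.leaf 0x0)
(.leaf 0x0))
(.node 6871 (.leaf 0x0)
(.leaf 0x0))))
(.node 6876 (.node 6874 (.node 6873 (.leaf 0x0)
(.leaf 0x0))
(.node 6875 (.leaf 0x0)
(.leaf 0x0)))
(.node 6878 (.node 6877 (.leaf 0x0)
(.leaf 0x0))
(.node 6879 (.leaf 0x0)
(.leaf 0x0))))))
(.node 6896 (.node 6888 (.node 6884 (.node 6882 (.node 6881 (.leaf 0x0)
(.leaf 0x0))
(.node 6883 (.leaf 0x0)
(.leaf 0x0)))
(.node 6886 (.node 6885 (.leaf 0x0)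
(.leaf 0x0))
(.node 6887 (.leaf 0x0)
(.leaf 0x0))))
(.node 6892 (.node 6890 (.node 6889 (.leaf 0x0)
(.leaf 0x0))
(.node 6891 (.leaf 0x0)
(.leaf 0x0)))
(.node 6894 (.node 6893 (.leaf 0x0)
(.leaf 0x0))
(.node 6895 (.leaf 0x0)
(.leaf 0x0)))))
(.node 6904 (.node 6900 (.node 6898 (.node 6897 (.leaf 0x0)
(.leaf 0x0))
(.node 6899 (.leaf 0x0)
(.leaf 0x0)))
(.node 6902 (.node 6901 (.leaf 0x0)
(.leaf 0x0))
(.node 6903 (.leaf 0x0)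
(.leaf 0x0))))
(.node 6908 (.node 6906 (.node 6905 (.leaf 0x0)
(.leaf 0x0))
(.node 6907 (.leaf 0x0)
(.leaf 0x0)))
(.node 6910 (.node 6909 (.leaf 0x0)
(.leaf 0x0))
(.node 6911 (.leaf 0x0)
(.leaf 0x0)))))))))

/-- part of a trie -/
def codePart27 : Tr :=
(.node 7040 (.node 6976 (.node 6944 (.node 6928 (.node 6920 (.node 6916 (.node 6914 (.node 6913 (.leaf 0x0)
(.leaf 0x0))
(.node 6915 (.leaf 0x0)
(.leaf 0x0)))
(.node 6918 (.node 6917 (.leaf 0x0)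
(.leaf 0x0))
(.node 6919 (.leaf 0x0)
(.leaf 0x0))))
(.node 6924 (.node 6922 (.node 6921 (.leaf 0x0)
(.leaf 0x0))
(.node 6923 (.leaf 0x0)
(.leaf 0x0)))
(.node 6926 (.node 6925 (.leaf 0x0)
(.leaf 0x0))
(.node 6927 (.leaf 0x0)
(.leaf 0x0)))))
(.node 6936 (.node 6932 (.node 6930 (.node 6929 (.leaf 0x0)
(.leaf 0x0))
(.node 6931 (.leaf 0x0)
(.leaf 0x0)))
(.node 6934 (.node 6933 (.leaf 0x0)
(.leaf 0x0))
(.node 6935 (.leaf 0x0)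
(.leaf 0x0))))
(.node 6940 (.node 6938 (.node 6937 (.leaf 0x0)
(.leaf 0x0))
(.node 6939 (.leaf 0x0)
(.leaf 0x0)))
(.node 6942 (.node 6941 (.leaf 0x0)
(.leaf 0x0))
(.node 6943 (.leaf 0x0)
(.leaf 0x0))))))
(.node 6960 (.node 6952 (.node 6948 (.node 6946 (.node 6945 (.leaf 0x0)
(.leaf 0x0))
(.node 6947 (.leaf 0x0)
(.leaf 0x0)))
(.node 6950 (.node 6949 (.leaf 0x0)
(.leaf 0x0))
(.node 6951 (.leaf 0x0)
(.leaf 0x0))))
(.node 6956 (.node 6954 (.node 6953 (.leaf 0x0)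
(.leaf 0x0))
(.node 6955 (.leaf 0x0)
(.leaf 0x0)))
(.node 6958 (.node 6957 (.leaf 0x0)
(.leaf 0x0))
(.node 6959 (.leaf 0x0)
(.leaf 0x0)))))
(.node 6968 (.node 6964 (.node 6962 (.node 6961 (.leaf 0x0)
(.leaf 0x0))
(.node 6963 (.leaf 0x0)
(.leaf 0x0)))
(.node 6966 (.node 6965 (.leaf 0x0)
(.leaf 0x0))
(.node 6967 (.leaf 0x0)
(.leaf 0x0))))
(.node 6972 (.node 6970 (.node 6969 (.leaf 0x0)
(.leaf 0x0))
(.node 6971 (.leaf 0x0)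
(.leaf 0x0)))
(.node 6974 (.node 6973 (.leaf 0x0)
(.leaf 0x0))
(.node 6975 (.leaf 0x0)
(.leaf 0x0)))))))
(.node 7008 (.node 6992 (.node 6984 (.node 6980 (.node 6978 (.node 6977 (.leaf 0x0)
(.leaf 0x0))
(.node 6979 (.leaf 0x0)
(.leaf 0x0)))
(.node 6982 (.node 6981 (.leaf 0x0)
(.leaf 0x0))
(.node 6983 (.leaf 0x0)
(.leaf 0x0))))
(.node 6988 (.node 6986 (.node 6985 (.leaf 0x0)
(.leaf 0x0))
(.node 6987 (.leaf 0x0)
(.leaf 0x0)))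
(.node 6990 (.node 6989 (.leaf 0x0)
(.leaf 0x0))
(.node 6991 (.leaf 0x0)
(.leaf 0x0)))))
(.node 7000 (.node 6996 (.node 6994 (.node 6993 (.leaf 0x0)
(.leaf 0x0))
(.node 6995 (.leaf 0x0)
(.leaf 0x0)))
(.node 6998 (.node 6997 (.leaf 0x0)
(.leaf 0x0))
(.node 6999 (.leaf 0x0)
(.leaf 0x0))))
(.node 7004 (.node 7002 (.node 7001 (.leaf 0x0)
(.leaf 0x0))
(.node 7003 (.leaf 0x0)
(.leaf 0x0)))
(.node 7006 (.node 7005 (.leaf 0x0)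
(.leaf 0x0))
(.node 7007 (.leaf 0x0)
(.leaf 0x0))))))
(.node 7024 (.node 7016 (.node 7012 (.node 7010 (.node 7009 (.leaf 0x0)
(.leaf 0x0))
(.node 7011 (.leaf 0x0)
(.leaf 0x0)))
(.node 7014 (.node 7013 (.leaf 0x0)
(.leaf 0x0))
(.node 7015 (.leaf 0x0)
(.leaf 0x0))))
(.node 7020 (.node 7018 (.node 7017 (.leaf 0x0)
(.leaf 0x0))
(.node 7019 (.leaf 0x0)
(.leaf 0x0)))
(.node 7022 (.node 7021 (.leaf 0x0)
(.leaf 0x0))
(.node 7023 (.leaf 0x0)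
(.leaf 0x0)))))
(.node 7032 (.node 7028 (.node 7026 (.node 7025 (.leaf 0x0)
(.leaf 0x0))
(.node 7027 (.leaf 0x0)
(.leaf 0x0)))
(.node 7030 (.node 7029 (.leaf 0x0)
(.leaf 0x0))
(.node 7031 (.leaf 0x0)
(.leaf 0x0))))
(.node 7036 (.node 7034 (.node 7033 (.leaf 0x0)
(.leaf 0x0))
(.node 7035 (.leaf 0x0)
(.leaf 0x0)))
(.node 7038 (.node 7037 (.leaf 0x0)
(.leaf 0x0))
(.node 7039 (.leaf 0x0)
(.leaf 0x0))))))))
(.node 7104 (.node 7072 (.node 7056 (.node 7048 (.node 7044 (.node 7042 (.node 7041 (.leaf 0x0)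
(.leaf 0x0))
(.node 7043 (.leaf 0x0)
(.leaf 0x0)))
(.node 7046 (.node 7045 (.leaf 0x0)
(.leaf 0x0))
(.node 7047 (.leaf 0x0)
(.leaf 0x0))))
(.node 7052 (.node 7050 (.node 7049 (.leaf 0x0)
(.leaf 0x0))
(.node 7051 (.leaf 0x0)
(.leaf 0x0)))
(.node 7054 (.node 7053 (.leaf 0x0)
(.leaf 0x0))
(.node 7055 (.leaf 0x0)
(.leaf 0x0)))))
(.node 7064 (.node 7060 (.node 7058 (.node 7057 (.leaf 0x0)
(.leaf 0x0))
(.node 7059 (.leaf 0x0)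
(.leaf 0x0)))
(.node 7062 (.node 7061 (.leaf 0x0)
(.leaf 0x0))
(.node 7063 (.leaf 0x0)
(.leaf 0x0))))
(.node 7068 (.node 7066 (.node 7065 (.leaf 0x0)
(.leaf 0x0))
(.node 7067 (.leaf 0x0)
(.leaf 0x0)))
(.node 7070 (.node 7069 (.leaf 0x0)
(.leaf 0x0))
(.node 7071 (.leaf 0x0)
(.leaf 0x0))))))
(.node 7088 (.node 7080 (.node 7076 (.node 7074 (.node 7073 (.leaf 0x0)
(.leaf 0x0))
(.node 7075 (.leaf 0x0)
(.leaf 0x0)))
(.node 7078 (.node 7077 (.leaf 0x0)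
(.leaf 0x0))
(.node 7079 (.leaf 0x0)
(.leaf 0x0))))
(.node 7084 (.node 7082 (.node 7081 (.leaf 0x0)
(.leaf 0x0))
(.node 7083 (.leaf 0x0)
(.leaf 0x0)))
(.node 7086 (.node 7085 (.leaf 0x0)
(.leaf 0x0))
(.node 7087 (.leaf 0x0)
(.leaf 0x0)))))
(.node 7096 (.node 7092 (.node 7090 (.node 7089 (.leaf 0x0)
(.leaf 0x0))
(.node 7091 (.leaf 0x0)
(.leaf 0x0)))
(.node 7094 (.node 7093 (.leaf 0x0)
(.leaf 0x0))
(.node 7095 (.leaf 0x0)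
(.leaf 0x0))))
(.node 7100 (.node 7098 (.node 7097 (.leaf 0x0)
(.leaf 0x0))
(.node 7099 (.leaf 0x0)
(.leaf 0x0)))
(.node 7102 (.node 7101 (.leaf 0x0)
(.leaf 0x0))
(.node 7103 (.leaf 0x0)
(.leaf 0x0)))))))
(.node 7136 (.node 7120 (.node 7112 (.node 7108 (.node 7106 (.node 7105 (.leaf 0x0)
(.leaf 0x0))
(.node 7107 (.leaf 0x0)
(.leaf 0x0)))
(.node 7110 (.node 7109 (.leaf 0x0)
(.leaf 0x0))
(.node 7111 (.leaf 0x0)
(.leaf 0x0))))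
(.node 7116 (.node 7114 (.node 7113 (.leaf 0x0)
(.leaf 0x0))
(.node 7115 (.leaf 0x0)
(.leaf 0x0)))
(.node 7118 (.node 7117 (.leaf 0x0)
(.leaf 0x0))
(.node 7119 (.leaf 0x0)
(.leaf 0x0)))))
(.node 7128 (.node 7124 (.node 7122 (.node 7121 (.leaf 0x0)
(.leaf 0x0))
(.node 7123 (.leaf 0x0)
(.leaf 0x0)))
(.node 7126 (.node 7125 (.leaf 0x0)
(.leaf 0x0))
(.node 7127 (.leaf 0x0)
(.leaf 0x0))))
(.node 7132 (.node 7130 (.node 7129 (.leaf 0x0)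
(.leaf 0x0))
(.node 7131 (.leaf 0x0)
(.leaf 0x0)))
(.node 7134 (.node 7133 (.leaf 0x0)
(.leaf 0x0))
(.node 7135 (.leaf 0x0)
(.leaf 0x0))))))
(.node 7152 (.node 7144 (.node 7140 (.node 7138 (.node 7137 (.leaf 0x0)
(.leaf 0x0))
(.node 7139 (.leaf 0x0)
(.leaf 0x0)))
(.node 7142 (.node 7141 (.leaf 0x0)
(.leaf 0x0))
(.node 7143 (.leaf 0x0)
(.leaf 0x0))))
(.node 7148 (.node 7146 (.node 7145 (.leaf 0x0)
(.leaf 0x0))
(.node 7147 (.leaf 0x0)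
(.leaf 0x0)))
(.node 7150 (.node 7149 (.leaf 0x0)
(.leaf 0x0))
(.node 7151 (.leaf 0x0)
(.leaf 0x0)))))
(.node 7160 (.node 7156 (.node 7154 (.node 7153 (.leaf 0x0)
(.leaf 0x0))
(.node 7155 (.leaf 0x0)
(.leaf 0x0)))
(.node 7158 (.node 7157 (.leaf 0x0)
(.leaf 0x0))
(.node 7159 (.leaf 0x0)
(.leaf 0x0))))
(.node 7164 (.node 7162 (.node 7161 (.leaf 0x0)
(.leaf 0x0))
(.node 7163 (.leaf 0x0)
(.leaf 0x0)))
(.node 7166 (.node 7165 (.leaf 0x0)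
(.leaf 0x0))
(.node 7167 (.leaf 0x0)
(.leaf 0x0)))))))))

/-- part of a trie -/
def codePart28 : Tr :=
(.node 7296 (.node 7232 (.node 7200 (.node 7184 (.node 7176 (.node 7172 (.node 7170 (.node 7169 (.leaf 0x0)
(.leaf 0x0))
(.node 7171 (.leaf 0x0)
(.leaf 0x0)))
(.node 7174 (.node 7173 (.leaf 0x0)
(.leaf 0x0))
(.node 7175 (.leaf 0x0)
(.leaf 0x0))))
(.node 7180 (.node 7178 (.node 7177 (.leaf 0x0)
(.leaf 0x0))
(.node 7179 (.leaf 0x0)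
(.leaf 0x0)))
(.node 7182 (.node 7181 (.leaf 0x0)
(.leaf 0x0))
(.node 7183 (.leaf 0x0)
(.leaf 0x0)))))
(.node 7192 (.node 7188 (.node 7186 (.node 7185 (.leaf 0x0)
(.leaf 0x0))
(.node 7187 (.leaf 0x0)
(.leaf 0x0)))
(.node 7190 (.node 7189 (.leaf 0x0)
(.leaf 0x0))
(.node 7191 (.leaf 0x0)
(.leaf 0x0))))
(.node 7196 (.node 7194 (.node 7193 (.leaf 0x0)
(.leaf 0x0))
(.node 7195 (.leaf 0x0)
(.leaf 0x0)))
(.node 7198 (.node 7197 (.leaf 0x0)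
(.leaf 0x0))
(.node 7199 (.leaf 0x0)
(.leaf 0x0))))))
(.node 7216 (.node 7208 (.node 7204 (.node 7202 (.node 7201 (.leaf 0x0)
(.leaf 0x0))
(.node 7203 (.leaf 0x0)
(.leaf 0x0)))
(.node 7206 (.node 7205 (.leaf 0x0)
(.leaf 0x0))
(.node 7207 (.leaf 0x0)
(.leaf 0x0))))
(.node 7212 (.node 7210 (.node 7209 (.leaf 0x0)
(.leaf 0x0))
(.node 7211 (.leaf 0x0)
(.leaf 0x0)))
(.node 7214 (.node 7213 (.leaf 0x0)
(.leaf 0x0))
(.node 7215 (.leaf 0x0)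
(.leaf 0x0)))))
(.node 7224 (.node 7220 (.node 7218 (.node 7217 (.leaf 0x0)
(.leaf 0x0))
(.node 7219 (.leaf 0x0)
(.leaf 0x0)))
(.node 7222 (.node 7221 (.leaf 0x0)
(.leaf 0x0))
(.node 7223 (.leaf 0x0)
(.leaf 0x0))))
(.node 7228 (.node 7226 (.node 7225 (.leaf 0x0)
(.leaf 0x0))
(.node 7227 (.leaf 0x0)
(.leaf 0x0)))
(.node 7230 (.node 7229 (.leaf 0x0)
(.leaf 0x0))
(.node 7231 (.leaf 0x0)
(.leaf 0x0)))))))
(.node 7264 (.node 7248 (.node 7240 (.node 7236 (.node 7234 (.node 7233 (.leaf 0x0)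
(.leaf 0x0))
(.node 7235 (.leaf 0x0)
(.leaf 0x0)))
(.node 7238 (.node 7237 (.leaf 0x0)
(.leaf 0x0))
(.node 7239 (.leaf 0x0)
(.leaf 0x0))))
(.node 7244 (.node 7242 (.node 7241 (.leaf 0x0)
(.leaf 0x0))
(.node 7243 (.leaf 0x0)
(.leaf 0x0)))
(.node 7246 (.node 7245 (.leaf 0x0)
(.leaf 0x0))
(.node 7247 (.leaf 0x0)
(.leaf 0x0)))))
(.node 7256 (.node 7252 (.node 7250 (.node 7249 (.leaf 0x0)
(.leaf 0x0))
(.node 7251 (.leaf 0x0)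
(.leaf 0x0)))
(.node 7254 (.node 7253 (.leaf 0x0)
(.leaf 0x0))
(.node 7255 (.leaf 0x0)
(.leaf 0x0))))
(.node 7260 (.node 7258 (.node 7257 (.leaf 0x0)
(.leaf 0x0))
(.node 7259 (.leaf 0x0)
(.leaf 0x0)))
(.node 7262 (.node 7261 (.leaf 0x0)
(.leaf 0x0))
(.node 7263 (.leaf 0x0)
(.leaf 0x0))))))
(.node 7280 (.node 7272 (.node 7268 (.node 7266 (.node 7265 (.leaf 0x0)
(.leaf 0x0))
(.node 7267 (.leaf 0x0)
(.leaf 0x0)))
(.node 7270 (.node 7269 (.leaf 0x0)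
(.leaf 0x0))
(.node 7271 (.leaf 0x0)
(.leaf 0x0))))
(.node 7276 (.node 7274 (.node 7273 (.leaf 0x0)
(.leaf 0x0))
(.node 7275 (.leaf 0x0)
(.leaf 0x0)))
(.node 7278 (.node 7277 (.leaf 0x0)
(.leaf 0x0))
(.node 7279 (.leaf 0x0)
(.leaf 0x0)))))
(.node 7288 (.node 7284 (.node 7282 (.node 7281 (.leaf 0x0)
(.leaf 0x0))
(.node 7283 (.leaf 0x0)
(.leaf 0x0)))
(.node 7286 (.node 7285 (.leaf 0x0)
(.leaf 0x0))
(.node 7287 (.leaf 0x0)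
(.leaf 0x0))))
(.node 7292 (.node 7290 (.node 7289 (.leaf 0x0)
(.leaf 0x0))
(.node 7291 (.leaf 0x0)
(.leaf 0x0)))
(.node 7294 (.node 7293 (.leaf 0x0)
(.leaf 0x0))
(.node 7295 (.leaf 0x0)
(.leaf 0x0))))))))
(.node 7360 (.node 7328 (.node 7312 (.node 7304 (.node 7300 (.node 7298 (.node 7297 (.leaf 0x0)
(.leaf 0x0))
(.node 7299 (.leaf 0x0)
(.leaf 0x0)))
(.node 7302 (.node 7301 (.leaf 0x0)
(.leaf 0x0))
(.node 7303 (.leaf 0x0)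
(.leaf 0x0))))
(.node 7308 (.node 7306 (.node 7305 (.leaf 0x0)
(.leaf 0x0))
(.node 7307 (.leaf 0x0)
(.leaf 0x0)))
(.node 7310 (.node 7309 (.leaf 0x0)
(.leaf 0x0))
(.node 7311 (.leaf 0x0)
(.leaf 0x0)))))
(.node 7320 (.node 7316 (.node 7314 (.node 7313 (.leaf 0x0)
(.leaf 0x0))
(.node 7315 (.leaf 0x0)
(.leaf 0x0)))
(.node 7318 (.node 7317 (.leaf 0x0)
(.leaf 0x0))
(.node 7319 (.leaf 0x0)
(.leaf 0x0))))
(.node 7324 (.node 7322 (.node 7321 (.leaf 0x0)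
(.leaf 0x0))
(.node 7323 (.leaf 0x0)
(.leaf 0x0)))
(.node 7326 (.node 7325 (.leaf 0x0)
(.leaf 0x0))
(.node 7327 (.leaf 0x0)
(.leaf 0x0))))))
(.node 7344 (.node 7336 (.node 7332 (.node 7330 (.node 7329 (.leaf 0x0)
(.leaf 0x0))
(.node 7331 (.leaf 0x0)
(.leaf 0x0)))
(.node 7334 (.node 7333 (.leaf 0x0)
(.leaf 0x0))
(.node 7335 (.leaf 0x0)
(.leaf 0x0))))
(.node 7340 (.node 7338 (.node 7337 (.leaf 0x0)
(.leaf 0x0))
(.node 7339 (.leaf 0x0)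
(.leaf 0x0)))
(.node 7342 (.node 7341 (.leaf 0x0)
(.leaf 0x0))
(.node 7343 (.leaf 0x0)
(.leaf 0x0)))))
(.node 7352 (.node 7348 (.node 7346 (.node 7345 (.leaf 0x0)
(.leaf 0x0))
(.node 7347 (.leaf 0x0)
(.leaf 0x0)))
(.node 7350 (.node 7349 (.leaf 0x0)
(.leaf 0x0))
(.node 7351 (.leaf 0x0)
(.leaf 0x0))))
(.node 7356 (.node 7354 (.node 7353 (.leaf 0x0)
(.leaf 0x0))
(.node 7355 (.leaf 0x0)
(.leaf 0x0)))
(.node 7358 (.node 7357 (.leaf 0x0)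
(.leaf 0x0))
(.node 7359 (.leaf 0x0)
(.leaf 0x0)))))))
(.node 7392 (.node 7376 (.node 7368 (.node 7364 (.node 7362 (.node 7361 (.leaf 0x0)
(.leaf 0x0))
(.node 7363 (.leaf 0x0)
(.leaf 0x0)))
(.node 7366 (.node 7365 (.leaf 0x0)
(.leaf 0x0))
(.node 7367 (.leaf 0x0)
(.leaf 0x0))))
(.node 7372 (.node 7370 (.node 7369 (.leaf 0x0)
(.leaf 0x0))
(.node 7371 (.leaf 0x0)
(.leaf 0x0)))
(.node 7374 (.node 7373 (.leaf 0x0)
(.leaf 0x0))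
(.node 7375 (.leaf 0x0)
(.leaf 0x0)))))
(.node 7384 (.node 7380 (.node 7378 (.node 7377 (.leaf 0x0)
(.leaf 0x0))
(.node 7379 (.leaf 0x0)
(.leaf 0x0)))
(.node 7382 (.node 7381 (.leaf 0x0)
(.leaf 0x0))
(.node 7383 (.leaf 0x0)
(.leaf 0x0))))
(.node 7388 (.node 7386 (.node 7385 (.leaf 0x0)
(.leaf 0x0))
(.node 7387 (.leaf 0x0)
(.leaf 0x0)))
(.node 7390 (.node 7389 (.leaf 0x0)
(.leaf 0x0))
(.node 7391 (.leaf 0x0)
(.leaf 0x0))))))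
(.node 7408 (.node 7400 (.node 7396 (.node 7394 (.node 7393 (.leaf 0x0)
(.leaf 0x0))
(.node 7395 (.leaf 0x0)
(.leaf 0x0)))
(.node 7398 (.node 7397 (.leaf 0x0)
(.leaf 0x0))
(.node 7399 (.leaf 0x0)
(.leaf 0x0))))
(.node 7404 (.node 7402 (.node 7401 (.leaf 0x0)
(.leaf 0x0))
(.node 7403 (.leaf 0x0)
(.leaf 0x0)))
(.node 7406 (.node 7405 (.leaf 0x0)
(.leaf 0x0))
(.node 7407 (.leaf 0x0)
(.leaf 0x0)))))
(.node 7416 (.node 7412 (.node 7410 (.node 7409 (.leaf 0x0)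
(.leaf 0x0))
(.node 7411 (.leaf 0x0)
(.leaf 0x0)))
(.node 7414 (.node 7413 (.leaf 0x0)
(.leaf 0x0))
(.node 7415 (.leaf 0x0)
(.leaf 0x0))))
(.node 7420 (.node 7418 (.node 7417 (.leaf 0x0)
(.leaf 0x0))
(.node 7419 (.leaf 0x0)
(.leaf 0x0)))
(.node 7422 (.node 7421 (.leaf 0x0)
(.leaf 0x0))
(.node 7423 (.leaf 0x0)
(.leaf 0x0)))))))))

/-- part of a trie -/
def codePart29 : Tr :=
(.node 7552 (.node 7488 (.node 7456 (.node 7440 (.node 7432 (.node 7428 (.node 7426 (.node 7425 (.leaf 0x0)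
(.leaf 0x0))
(.node 7427 (.leaf 0x0)
(.leaf 0x0)))
(.node 7430 (.node 7429 (.leaf 0x0)
(.leaf 0x0))
(.node 7431 (.leaf 0x0)
(.leaf 0x0))))
(.node 7436 (.node 7434 (.node 7433 (.leaf 0x0)
(.leaf 0x0))
(.node 7435 (.leaf 0x0)
(.leaf 0x0)))
(.node 7438 (.node 7437 (.leaf 0x0)
(.leaf 0x0))
(.node 7439 (.leaf 0x0)
(.leaf 0x0)))))
(.node 7448 (.node 7444 (.node 7442 (.node 7441 (.leaf 0x0)
(.leaf 0x0))
(.node 7443 (.leaf 0x0)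
(.leaf 0x0)))
(.node 7446 (.node 7445 (.leaf 0x0)
(.leaf 0x0))
(.node 7447 (.leaf 0x0)
(.leaf 0x0))))
(.node 7452 (.node 7450 (.node 7449 (.leaf 0x0)
(.leaf 0x0))
(.node 7451 (.leaf 0x0)
(.leaf 0x0)))
(.node 7454 (.node 7453 (.leaf 0x0)
(.leaf 0x0))
(.node 7455 (.leaf 0x0)
(.leaf 0x0))))))
(.node 7472 (.node 7464 (.node 7460 (.node 7458 (.node 7457 (.leaf 0x0)
(.leaf 0x0))
(.node 7459 (.leaf 0x0)
(.leaf 0x0)))
(.node 7462 (.node 7461 (.leaf 0x0)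
(.leaf 0x0))
(.node 7463 (.leaf 0x0)
(.leaf 0x0))))
(.node 7468 (.node 7466 (.node 7465 (.leaf 0x0)
(.leaf 0x0))
(.node 7467 (.leaf 0x0)
(.leaf 0x0)))
(.node 7470 (.node 7469 (.leaf 0x0)
(.leaf 0x0))
(.node 7471 (.leaf 0x0)
(.leaf 0x0)))))
(.node 7480 (.node 7476 (.node 7474 (.node 7473 (.leaf 0x0)
(.leaf 0x0))
(.node 7475 (.leaf 0x0)
(.leaf 0x0)))
(.node 7478 (.node 7477 (.leaf 0x0)
(.leaf 0x0))
(.node 7479 (.leaf 0x0)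
(.leaf 0x0))))
(.node 7484 (.node 7482 (.node 7481 (.leaf 0x0)
(.leaf 0x0))
(.node 7483 (.leaf 0x0)
(.leaf 0x0)))
(.node 7486 (.node 7485 (.leaf 0x0)
(.leaf 0x0))
(.node 7487 (.leaf 0x0)
(.leaf 0x0)))))))
(.node 7520 (.node 7504 (.node 7496 (.node 7492 (.node 7490 (.node 7489 (.leaf 0x0)
(.leaf 0x0))
(.node 7491 (.leaf 0x0)
(.leaf 0x0)))
(.node 7494 (.node 7493 (.leaf 0x0)
(.leaf 0x0))
(.node 7495 (.leaf 0x0)
(.leaf 0x0))))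
(.node 7500 (.node 7498 (.node 7497 (.leaf 0x0)
(.leaf 0x0))
(.node 7499 (.leaf 0x0)
(.leaf 0x0)))
(.node 7502 (.node 7501 (.leaf 0x0)
(.leaf 0x0))
(.node 7503 (.leaf 0x0)
(.leaf 0x0)))))
(.node 7512 (.node 7508 (.node 7506 (.node 7505 (.leaf 0x0)
(.leaf 0x0))
(.node 7507 (.leaf 0x0)
(.leaf 0x0)))
(.node 7510 (.node 7509 (.leaf 0x0)
(.leaf 0x0))
(.node 7511 (.leaf 0x0)
(.leaf 0x0))))
(.node 7516 (.node 7514 (.node 7513 (.leaf 0x0)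
(.leaf 0x0))
(.node 7515 (.leaf 0x0)
(.leaf 0x0)))
(.node 7518 (.node 7517 (.leaf 0x0)
(.leaf 0x0))
(.node 7519 (.leaf 0x0)
(.leaf 0x0))))))
(.node 7536 (.node 7528 (.node 7524 (.node 7522 (.node 7521 (.leaf 0x0)
(.leaf 0x0))
(.node 7523 (.leaf 0x0)
(.leaf 0x0)))
(.node 7526 (.node 7525 (.leaf 0x0)
(.leaf 0x0))
(.node 7527 (.leaf 0x0)
(.leaf 0x0))))
(.node 7532 (.node 7530 (.node 7529 (.leaf 0x0)
(.leaf 0x0))
(.node 7531 (.leaf 0x0)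
(.leaf 0x0)))
(.node 7534 (.node 7533 (.leaf 0x0)
(.leaf 0x0))
(.node 7535 (.leaf 0x0)
(.leaf 0x0)))))
(.node 7544 (.node 7540 (.node 7538 (.node 7537 (.leaf 0x0)
(.leaf 0x0))
(.node 7539 (.leaf 0x0)
(.leaf 0x0)))
(.node 7542 (.node 7541 (.leaf 0x0)
(.leaf 0x0))
(.node 7543 (.leaf 0x0)
(.leaf 0x0))))
(.node 7548 (.node 7546 (.node 7545 (.leaf 0x0)
(.leaf 0x0))
(.node 7547 (.leaf 0x0)
(.leaf 0x0)))
(.node 7550 (.node 7549 (.leaf 0x0)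
(.leaf 0x0))
(.node 7551 (.leaf 0x0)
(.leaf 0x0))))))))
(.node 7616 (.node 7584 (.node 7568 (.node 7560 (.node 7556 (.node 7554 (.node 7553 (.leaf 0x0)
(.leaf 0x0))
(.node 7555 (.leaf 0x0)
(.leaf 0x0)))
(.node 7558 (.node 7557 (.leaf 0x0)
(.leaf 0x0))
(.node 7559 (.leaf 0x0)
(.leaf 0x0))))
(.node 7564 (.node 7562 (.node 7561 (.leaf 0x0)
(.leaf 0x0))
(.node 7563 (.leaf 0x0)
(.leaf 0x0)))
(.node 7566 (.node 7565 (.leaf 0x0)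
(.leaf 0x0))
(.node 7567 (.leaf 0x0)
(.leaf 0x0)))))
(.node 7576 (.node 7572 (.node 7570 (.node 7569 (.leaf 0x0)
(.leaf 0x0))
(.node 7571 (.leaf 0x0)
(.leaf 0x0)))
(.node 7574 (.node 7573 (.leaf 0x0)
(.leaf 0x0))
(.node 7575 (.leaf 0x0)
(.leaf 0x0))))
(.node 7580 (.node 7578 (.node 7577 (.leaf 0x0)
(.leaf 0x0))
(.node 7579 (.leaf 0x0)
(.leaf 0x0)))
(.node 7582 (.node 7581 (.leaf 0x0)
(.leaf 0x0))
(.node 7583 (.leaf 0x0)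
(.leaf 0x0))))))
(.node 7600 (.node 7592 (.node 7588 (.node 7586 (.node 7585 (.leaf 0x0)
(.leaf 0x0))
(.node 7587 (.leaf 0x0)
(.leaf 0x0)))
(.node 7590 (.node 7589 (.leaf 0x0)
(.leaf 0x0))
(.node 7591 (.leaf 0x0)
(.leaf 0x0))))
(.node 7596 (.node 7594 (.node 7593 (.leaf 0x0)
(.leaf 0x0))
(.node 7595 (.leaf 0x0)
(.leaf 0x0)))
(.node 7598 (.node 7597 (.leaf 0x0)
(.leaf 0x0))
(.node 7599 (.leaf 0x0)
(.leaf 0x0)))))
(.node 7608 (.node 7604 (.node 7602 (.node 7601 (.leaf 0x0)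
(.leaf 0x0))
(.node 7603 (.leaf 0x0)
(.leaf 0x0)))
(.node 7606 (.node 7605 (.leaf 0x0)
(.leaf 0x0))
(.node 7607 (.leaf 0x0)
(.leaf 0x0))))
(.node 7612 (.node 7610 (.node 7609 (.leaf 0x0)
(.leaf 0x0))
(.node 7611 (.leaf 0x0)
(.leaf 0x0)))
(.node 7614 (.node 7613 (.leaf 0x0)
(.leaf 0x0))
(.node 7615 (.leaf 0x0)
(.leaf 0x0)))))))
(.node 7648 (.node 7632 (.node 7624 (.node 7620 (.node 7618 (.node 7617 (.leaf 0x0)
(.leaf 0x0))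
(.node 7619 (.leaf 0x0)
(.leaf 0x0)))
(.node 7622 (.node 7621 (.leaf 0x0)
(.leaf 0x0))
(.node 7623 (.leaf 0x0)
(.leaf 0x0))))
(.node 7628 (.node 7626 (.node 7625 (.leaf 0x0)
(.leaf 0x0))
(.node 7627 (.leaf 0x0)
(.leaf 0x0)))
(.node 7630 (.node 7629 (.leaf 0x0)
(.leaf 0x0))
(.node 7631 (.leaf 0x0)
(.leaf 0x0)))))
(.node 7640 (.node 7636 (.node 7634 (.node 7633 (.leaf 0x0)
(.leaf 0x0))
(.node 7635 (.leaf 0x0)
(.leaf 0x0)))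
(.node 7638 (.node 7637 (.leaf 0x0)
(.leaf 0x0))
(.node 7639 (.leaf 0x0)
(.leaf 0x0))))
(.node 7644 (.node 7642 (.node 7641 (.leaf 0x0)
(.leaf 0x0))
(.node 7643 (.leaf 0x0)
(.leaf 0x0)))
(.node 7646 (.node 7645 (.leaf 0x0)
(.leaf 0x0))
(.node 7647 (.leaf 0x0)
(.leaf 0x0))))))
(.node 7664 (.node 7656 (.node 7652 (.node 7650 (.node 7649 (.leaf 0x0)
(.leaf 0x0))
(.node 7651 (.leaf 0x0)
(.leaf 0x0)))
(.node 7654 (.node 7653 (.leaf 0x0)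
(.leaf 0x0))
(.node 7655 (.leaf 0x0)
(.leaf 0x0))))
(.node 7660 (.node 7658 (.node 7657 (.leaf 0x0)
(.leaf 0x0))
(.node 7659 (.leaf 0x0)
(.leaf 0x0)))
(.node 7662 (.node 7661 (.leaf 0x0)
(.leaf 0x0))
(.node 7663 (.leaf 0x0)
(.leaf 0x0)))))
(.node 7672 (.node 7668 (.node 7666 (.node 7665 (.leaf 0x0)
(.leaf 0x0))
(.node 7667 (.leaf 0x0)
(.leaf 0x0)))
(.node 7670 (.node 7669 (.leaf 0x0)
(.leaf 0x0))
(.node 7671 (.leaf 0x0)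
(.leaf 0x0))))
(.node 7676 (.node 7674 (.node 7673 (.leaf 0x0)
(.leaf 0x0))
(.node 7675 (.leaf 0x0)
(.leaf 0x0)))
(.node 7678 (.node 7677 (.leaf 0x0)
(.leaf 0x0))
(.node 7679 (.leaf 0x0)
(.leaf 0x0)))))))))

/-- part of a trie -/
def codePart30 : Tr :=
(.node 7808 (.node 7744 (.node 7712 (.node 7696 (.node 7688 (.node 7684 (.node 7682 (.node 7681 (.leaf 0x0)
(.leaf 0x0))
(.node 7683 (.leaf 0x0)
(.leaf 0x0)))
(.node 7686 (.node 7685 (.leaf 0x0)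
(.leaf 0x0))
(.node 7687 (.leaf 0x0)
(.leaf 0x0))))
(.node 7692 (.node 7690 (.node 7689 (.leaf 0x0)
(.leaf 0x0))
(.node 7691 (.leaf 0x0)
(.leaf 0x0)))
(.node 7694 (.node 7693 (.leaf 0x0)
(.leaf 0x0))
(.node 7695 (.leaf 0x0)
(.leaf 0x0)))))
(.node 7704 (.node 7700 (.node 7698 (.node 7697 (.leaf 0x0)
(.leaf 0x0))
(.node 7699 (.leaf 0x0)
(.leaf 0x0)))
(.node 7702 (.node 7701 (.leaf 0x0)
(.leaf 0x0))
(.node 7703 (.leaf 0x0)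
(.leaf 0x0))))
(.node 7708 (.node 7706 (.node 7705 (.leaf 0x0)
(.leaf 0x0))
(.node 7707 (.leaf 0x0)
(.leaf 0x0)))
(.node 7710 (.node 7709 (.leaf 0x0)
(.leaf 0x0))
(.node 7711 (.leaf 0x0)
(.leaf 0x0))))))
(.node 7728 (.node 7720 (.node 7716 (.node 7714 (.node 7713 (.leaf 0x0)
(.leaf 0x0))
(.node 7715 (.leaf 0x0)
(.leaf 0x0)))
(.node 7718 (.node 7717 (.leaf 0x0)
(.leaf 0x0))
(.node 7719 (.leaf 0x0)
(.leaf 0x0))))
(.node 7724 (.node 7722 (.node 7721 (.leaf 0x0)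
(.leaf 0x0))
(.node 7723 (.leaf 0x0)
(.leaf 0x0)))
(.node 7726 (.node 7725 (.leaf 0x0)
(.leaf 0x0))
(.node 7727 (.leaf 0x0)
(.leaf 0x0)))))
(.node 7736 (.node 7732 (.node 7730 (.node 7729 (.leaf 0x0)
(.leaf 0x0))
(.node 7731 (.leaf 0x0)
(.leaf 0x0)))
(.node 7734 (.node 7733 (.leaf 0x0)
(.leaf 0x0))
(.node 7735 (.leaf 0x0)
(.leaf 0x0))))
(.node 7740 (.node 7738 (.node 7737 (.leaf 0x0)
(.leaf 0x0))
(.node 7739 (.leaf 0x0)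
(.leaf 0x0)))
(.node 7742 (.node 7741 (.leaf 0x0)
(.leaf 0x0))
(.node 7743 (.leaf 0x0)
(.leaf 0x0)))))))
(.node 7776 (.node 7760 (.node 7752 (.node 7748 (.node 7746 (.node 7745 (.leaf 0x0)
(.leaf 0x0))
(.node 7747 (.leaf 0x0)
(.leaf 0x0)))
(.node 7750 (.node 7749 (.leaf 0x0)
(.leaf 0x0))
(.node 7751 (.leaf 0x0)
(.leaf 0x0))))
(.node 7756 (.node 7754 (.node 7753 (.leaf 0x0)
(.leaf 0x0))
(.node 7755 (.leaf 0x0)
(.leaf 0x0)))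
(.node 7758 (.node 7757 (.leaf 0x0)
(.leaf 0x0))
(.node 7759 (.leaf 0x0)
(.leaf 0x0)))))
(.node 7768 (.node 7764 (.node 7762 (.node 7761 (.leaf 0x0)
(.leaf 0x0))
(.node 7763 (.leaf 0x0)
(.leaf 0x0)))
(.node 7766 (.node 7765 (.leaf 0x0)
(.leaf 0x0))
(.node 7767 (.leaf 0x0)
(.leaf 0x0))))
(.node 7772 (.node 7770 (.node 7769 (.leaf 0x0)
(.leaf 0x0))
(.node 7771 (.leaf 0x0)
(.leaf 0x0)))
(.node 7774 (.node 7773 (.leaf 0x0)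
(.leaf 0x0))
(.node 7775 (.leaf 0x0)
(.leaf 0x0))))))
(.node 7792 (.node 7784 (.node 7780 (.node 7778 (.node 7777 (.leaf 0x0)
(.leaf 0x0))
(.node 7779 (.leaf 0x0)
(.leaf 0x0)))
(.node 7782 (.node 7781 (.leaf 0x0)
(.leaf 0x0))
(.node 7783 (.leaf 0x0)
(.leaf 0x0))))
(.node 7788 (.node 7786 (.node 7785 (.leaf 0x0)
(.leaf 0x0))
(.node 7787 (.leaf 0x0)
(.leaf 0x0)))
(.node 7790 (.node 7789 (.leaf 0x0)
(.leaf 0x0))
(.node 7791 (.leaf 0x0)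
(.leaf 0x0)))))
(.node 7800 (.node 7796 (.node 7794 (.node 7793 (.leaf 0x0)
(.leaf 0x0))
(.node 7795 (.leaf 0x0)
(.leaf 0x0)))
(.node 7798 (.node 7797 (.leaf 0x0)
(.leaf 0x0))
(.node 7799 (.leaf 0x0)
(.leaf 0x0))))
(.node 7804 (.node 7802 (.node 7801 (.leaf 0x0)
(.leaf 0x0))
(.node 7803 (.leaf 0x0)
(.leaf 0x0)))
(.node 7806 (.node 7805 (.leaf 0x0)
(.leaf 0x0))
(.node 7807 (.leaf 0x0)
(.leaf 0x0))))))))
(.node 7872 (.node 7840 (.node 7824 (.node 7816 (.node 7812 (.node 7810 (.node 7809 (.leaf 0x0)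
(.leaf 0x0))
(.node 7811 (.leaf 0x0)
(.leaf 0x0)))
(.node 7814 (.node 7813 (.leaf 0x0)
(.leaf 0x0))
(.node 7815 (.leaf 0x0)
(.leaf 0x0))))
(.node 7820 (.node 7818 (.node 7817 (.leaf 0x0)
(.leaf 0x0))
(.node 7819 (.leaf 0x0)
(.leaf 0x0)))
(.node 7822 (.node 7821 (.leaf 0x0)
(.leaf 0x0))
(.node 7823 (.leaf 0x0)
(.leaf 0x0)))))
(.node 7832 (.node 7828 (.node 7826 (.node 7825 (.leaf 0x0)
(.leaf 0x0))
(.node 7827 (.leaf 0x0)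
(.leaf 0x0)))
(.node 7830 (.node 7829 (.leaf 0x0)
(.leaf 0x0))
(.node 7831 (.leaf 0x0)
(.leaf 0x0))))
(.node 7836 (.node 7834 (.node 7833 (.leaf 0x0)
(.leaf 0x0))
(.node 7835 (.leaf 0x0)
(.leaf 0x0)))
(.node 7838 (.node 7837 (.leaf 0x0)
(.leaf 0x0))
(.node 7839 (.leaf 0x0)
(.leaf 0x0))))))
(.node 7856 (.node 7848 (.node 7844 (.node 7842 (.node 7841 (.leaf 0x0)
(.leaf 0x0))
(.node 7843 (.leaf 0x0)
(.leaf 0x0)))
(.node 7846 (.node 7845 (.leaf 0x0)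
(.leaf 0x0))
(.node 7847 (.leaf 0x0)
(.leaf 0x0))))
(.node 7852 (.node 7850 (.node 7849 (.leaf 0x0)
(.leaf 0x0))
(.node 7851 (.leaf 0x0)
(.leaf 0x0)))
(.node 7854 (.node 7853 (.leaf 0x0)
(.leaf 0x0))
(.node 7855 (.leaf 0x0)
(.leaf 0x0)))))
(.node 7864 (.node 7860 (.node 7858 (.node 7857 (.leaf 0x0)
(.leaf 0x0))
(.node 7859 (.leaf 0x0)
(.leaf 0x0)))
(.node 7862 (.node 7861 (.leaf 0x0)
(.leaf 0x0))
(.node 7863 (.leaf 0x0)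
(.leaf 0x0))))
(.node 7868 (.node 7866 (.node 7865 (.leaf 0x0)
(.leaf 0x0))
(.node 7867 (.leaf 0x0)
(.leaf 0x0)))
(.node 7870 (.node 7869 (.leaf 0x0)
(.leaf 0x0))
(.node 7871 (.leaf 0x0)
(.leaf 0x0)))))))
(.node 7904 (.node 7888 (.node 7880 (.node 7876 (.node 7874 (.node 7873 (.leaf 0x0)
(.leaf 0x0))
(.node 7875 (.leaf 0x0)
(.leaf 0x0)))
(.node 7878 (.node 7877 (.leaf 0x0)
(.leaf 0x0))
(.node 7879 (.leaf 0x0)
(.leaf 0x0))))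
(.node 7884 (.node 7882 (.node 7881 (.leaf 0x0)
(.leaf 0x0))
(.node 7883 (.leaf 0x0)
(.leaf 0x0)))
(.node 7886 (.node 7885 (.leaf 0x0)
(.leaf 0x0))
(.node 7887 (.leaf 0x0)
(.leaf 0x0)))))
(.node 7896 (.node 7892 (.node 7890 (.node 7889 (.leaf 0x0)
(.leaf 0x0))
(.node 7891 (.leaf 0x0)
(.leaf 0x0)))
(.node 7894 (.node 7893 (.leaf 0x0)
(.leaf 0x0))
(.node 7895 (.leaf 0x0)
(.leaf 0x0))))
(.node 7900 (.node 7898 (.node 7897 (.leaf 0x0)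
(.leaf 0x0))
(.node 7899 (.leaf 0x0)
(.leaf 0x0)))
(.node 7902 (.node 7901 (.leaf 0x0)
(.leaf 0x0))
(.node 7903 (.leaf 0x0)
(.leaf 0x0))))))
(.node 7920 (.node 7912 (.node 7908 (.node 7906 (.node 7905 (.leaf 0x0)
(.leaf 0x0))
(.node 7907 (.leaf 0x0)
(.leaf 0x0)))
(.node 7910 (.node 7909 (.leaf 0x0)
(.leaf 0x0))
(.node 7911 (.leaf 0x0)
(.leaf 0x0))))
(.node 7916 (.node 7914 (.node 7913 (.leaf 0x0)
(.leaf 0x0))
(.node 7915 (.leaf 0x0)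
(.leaf 0x0)))
(.node 7918 (.node 7917 (.leaf 0x0)
(.leaf 0x0))
(.node 7919 (.leaf 0x0)
(.leaf 0x0)))))
(.node 7928 (.node 7924 (.node 7922 (.node 7921 (.leaf 0x0)
(.leaf 0x0))
(.node 7923 (.leaf 0x0)
(.leaf 0x0)))
(.node 7926 (.node 7925 (.leaf 0x0)
(.leaf 0x0))
(.node 7927 (.leaf 0x0)
(.leaf 0x0))))
(.node 7932 (.node 7930 (.node 7929 (.leaf 0x0)
(.leaf 0x0))
(.node 7931 (.leaf 0x0)
(.leaf 0x0)))
(.node 7934 (.node 7933 (.leaf 0x0)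
(.leaf 0x0))
(.node 7935 (.leaf 0x0)
(.leaf 0x0)))))))))

/-- part of a trie -/
def codePart31 : Tr :=
(.node 8064 (.node 8000 (.node 7968 (.node 7952 (.node 7944 (.node 7940 (.node 7938 (.node 7937 (.leaf 0x0)
(.leaf 0x0))
(.node 7939 (.leaf 0x0)
(.leaf 0x0)))
(.node 7942 (.node 7941 (.leaf 0x0)
(.leaf 0x0))
(.node 7943 (.leaf 0x0)
(.leaf 0x0))))
(.node 7948 (.node 7946 (.node 7945 (.leaf 0x0)
(.leaf 0x0))
(.node 7947 (.leaf 0x0)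
(.leaf 0x0)))
(.node 7950 (.node 7949 (.leaf 0x0)
(.leaf 0x0))
(.node 7951 (.leaf 0x0)
(.leaf 0x0)))))
(.node 7960 (.node 7956 (.node 7954 (.node 7953 (.leaf 0x0)
(.leaf 0x0))
(.node 7955 (.leaf 0x0)
(.leaf 0x0)))
(.node 7958 (.node 7957 (.leaf 0x0)
(.leaf 0x0))
(.node 7959 (.leaf 0x0)
(.leaf 0x0))))
(.node 7964 (.node 7962 (.node 7961 (.leaf 0x0)
(.leaf 0x0))
(.node 7963 (.leaf 0x0)
(.leaf 0x0)))
(.node 7966 (.node 7965 (.leaf 0x0)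
(.leaf 0x0))
(.node 7967 (.leaf 0x0)
(.leaf 0x0))))))
(.node 7984 (.node 7976 (.node 7972 (.node 7970 (.node 7969 (.leaf 0x0)
(.leaf 0x0))
(.node 7971 (.leaf 0x0)
(.leaf 0x0)))
(.node 7974 (.node 7973 (.leaf 0x0)
(.leaf 0x0))
(.node 7975 (.leaf 0x0)
(.leaf 0x0))))
(.node 7980 (.node 7978 (.node 7977 (.leaf 0x0)
(.leaf 0x0))
(.node 7979 (.leaf 0x0)
(.leaf 0x0)))
(.node 7982 (.node 7981 (.leaf 0x0)
(.leaf 0x0))
(.node 7983 (.leaf 0x0)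
(.leaf 0x0)))))
(.node 7992 (.node 7988 (.node 7986 (.node 7985 (.leaf 0x0)
(.leaf 0x0))
(.node 7987 (.leaf 0x0)
(.leaf 0x0)))
(.node 7990 (.node 7989 (.leaf 0x0)
(.leaf 0x0))
(.node 7991 (.leaf 0x0)
(.leaf 0x0))))
(.node 7996 (.node 7994 (.node 7993 (.leaf 0x0)
(.leaf 0x0))
(.node 7995 (.leaf 0x0)
(.leaf 0x0)))
(.node 7998 (.node 7997 (.leaf 0x0)
(.leaf 0x0))
(.node 7999 (.leaf 0x0)
(.leaf 0x0)))))))
(.node 8032 (.node 8016 (.node 8008 (.node 8004 (.node 8002 (.node 8001 (.leaf 0x0)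
(.leaf 0x0))
(.node 8003 (.leaf 0x0)
(.leaf 0x0)))
(.node 8006 (.node 8005 (.leaf 0x0)
(.leaf 0x0))
(.node 8007 (.leaf 0x0)
(.leaf 0x0))))
(.node 8012 (.node 8010 (.node 8009 (.leaf 0x0)
(.leaf 0x0))
(.node 8011 (.leaf 0x0)
(.leaf 0x0)))
(.node 8014 (.node 8013 (.leaf 0x0)
(.leaf 0x0))
(.node 8015 (.leaf 0x0)
(.leaf 0x0)))))
(.node 8024 (.node 8020 (.node 8018 (.node 8017 (.leaf 0x0)
(.leaf 0x0))
(.node 8019 (.leaf 0x0)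
(.leaf 0x0)))
(.node 8022 (.node 8021 (.leaf 0x0)
(.leaf 0x0))
(.node 8023 (.leaf 0x0)
(.leaf 0x0))))
(.node 8028 (.node 8026 (.node 8025 (.leaf 0x0)
(.leaf 0x0))
(.node 8027 (.leaf 0x0)
(.leaf 0x0)))
(.node 8030 (.node 8029 (.leaf 0x0)
(.leaf 0x0))
(.node 8031 (.leaf 0x0)
(.leaf 0x0))))))
(.node 8048 (.node 8040 (.node 8036 (.node 8034 (.node 8033 (.leaf 0x0)
(.leaf 0x0))
(.node 8035 (.leaf 0x0)
(.leaf 0x0)))
(.node 8038 (.node 8037 (.leaf 0x0)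
(.leaf 0x0))
(.node 8039 (.leaf 0x0)
(.leaf 0x0))))
(.node 8044 (.node 8042 (.node 8041 (.leaf 0x0)
(.leaf 0x0))
(.node 8043 (.leaf 0x0)
(.leaf 0x0)))
(.node 8046 (.node 8045 (.leaf 0x0)
(.leaf 0x0))
(.node 8047 (.leaf 0x0)
(.leaf 0x0)))))
(.node 8056 (.node 8052 (.node 8050 (.node 8049 (.leaf 0x0)
(.leaf 0x0))
(.node 8051 (.leaf 0x0)
(.leaf 0x0)))
(.node 8054 (.node 8053 (.leaf 0x0)
(.leaf 0x0))
(.node 8055 (.leaf 0x0)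
(.leaf 0x0))))
(.node 8060 (.node 8058 (.node 8057 (.leaf 0x0)
(.leaf 0x0))
(.node 8059 (.leaf 0x0)
(.leaf 0x0)))
(.node 8062 (.node 8061 (.leaf 0x0)
(.leaf 0x0))
(.node 8063 (.leaf 0x0)
(.leaf 0x0))))))))
(.node 8128 (.node 8096 (.node 8080 (.node 8072 (.node 8068 (.node 8066 (.node 8065 (.leaf 0x0)
(.leaf 0x0))
(.node 8067 (.leaf 0x0)
(.leaf 0x0)))
(.node 8070 (.node 8069 (.leaf 0x0)
(.leaf 0x0))
(.node 8071 (.leaf 0x0)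
(.leaf 0x0))))
(.node 8076 (.node 8074 (.node 8073 (.leaf 0x0)
(.leaf 0x0))
(.node 8075 (.leaf 0x0)
(.leaf 0x0)))
(.node 8078 (.node 8077 (.leaf 0x0)
(.leaf 0x0))
(.node 8079 (.leaf 0x0)
(.leaf 0x0)))))
(.node 8088 (.node 8084 (.node 8082 (.node 8081 (.leaf 0x0)
(.leaf 0x0))
(.node 8083 (.leaf 0x0)
(.leaf 0x0)))
(.node 8086 (.node 8085 (.leaf 0x0)
(.leaf 0x0))
(.node 8087 (.leaf 0x0)
(.leaf 0x0))))
(.node 8092 (.node 8090 (.node 8089 (.leaf 0x0)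
(.leaf 0x0))
(.node 8091 (.leaf 0x0)
(.leaf 0x0)))
(.node 8094 (.node 8093 (.leaf 0x0)
(.leaf 0x0))
(.node 8095 (.leaf 0x0)
(.leaf 0x0))))))
(.node 8112 (.node 8104 (.node 8100 (.node 8098 (.node 8097 (.leaf 0x0)
(.leaf 0x0))
(.node 8099 (.leaf 0x0)
(.leaf 0x0)))
(.node 8102 (.node 8101 (.leaf 0x0)
(.leaf 0x0))
(.node 8103 (.leaf 0x0)
(.leaf 0x0))))
(.node 8108 (.node 8106 (.node 8105 (.leaf 0x0)
(.leaf 0x0))
(.node 8107 (.leaf 0x0)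
(.leaf 0x0)))
(.node 8110 (.node 8109 (.leaf 0x0)
(.leaf 0x0))
(.node 8111 (.leaf 0x0)
(.leaf 0x0)))))
(.node 8120 (.node 8116 (.node 8114 (.node 8113 (.leaf 0x0)
(.leaf 0x0))
(.node 8115 (.leaf 0x0)
(.leaf 0x0)))
(.node 8118 (.node 8117 (.leaf 0x0)
(.leaf 0x0))
(.node 8119 (.leaf 0x0)
(.leaf 0x0))))
(.node 8124 (.node 8122 (.node 8121 (.leaf 0x0)
(.leaf 0x0))
(.node 8123 (.leaf 0x0)
(.leaf 0x0)))
(.node 8126 (.node 8125 (.leaf 0x0)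
(.leaf 0x0))
(.node 8127 (.leaf 0x0)
(.leaf 0x0)))))))
(.node 8160 (.node 8144 (.node 8136 (.node 8132 (.node 8130 (.node 8129 (.leaf 0x0)
(.leaf 0x0))
(.node 8131 (.leaf 0x0)
(.leaf 0x0)))
(.node 8134 (.node 8133 (.leaf 0x0)
(.leaf 0x0))
(.node 8135 (.leaf 0x0)
(.leaf 0x0))))
(.node 8140 (.node 8138 (.node 8137 (.leaf 0x0)
(.leaf 0x0))
(.node 8139 (.leaf 0x0)
(.leaf 0x0)))
(.node 8142 (.node 8141 (.leaf 0x0)
(.leaf 0x0))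
(.node 8143 (.leaf 0x0)
(.leaf 0x0)))))
(.node 8152 (.node 8148 (.node 8146 (.node 8145 (.leaf 0x0)
(.leaf 0x0))
(.node 8147 (.leaf 0x0)
(.leaf 0x0)))
(.node 8150 (.node 8149 (.leaf 0x0)
(.leaf 0x0))
(.node 8151 (.leaf 0x0)
(.leaf 0x0))))
(.node 8156 (.node 8154 (.node 8153 (.leaf 0x0)
(.leaf 0x0))
(.node 8155 (.leaf 0x0)
(.leaf 0x0)))
(.node 8158 (.node 8157 (.leaf 0x0)
(.leaf 0x0))
(.node 8159 (.leaf 0x0)
(.leaf 0x0))))))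
(.node 8176 (.node 8168 (.node 8164 (.node 8162 (.node 8161 (.leaf 0x0)
(.leaf 0x0))
(.node 8163 (.leaf 0x0)
(.leaf 0x0)))
(.node 8166 (.node 8165 (.leaf 0x0)
(.leaf 0x0))
(.node 8167 (.leaf 0x0)
(.leaf 0x0))))
(.node 8172 (.node 8170 (.node 8169 (.leaf 0x0)
(.leaf 0x0))
(.node 8171 (.leaf 0x0)
(.leaf 0x0)))
(.node 8174 (.node 8173 (.leaf 0x0)
(.leaf 0x0))
(.node 8175 (.leaf 0x0)
(.leaf 0x0)))))
(.node 8184 (.node 8180 (.node 8178 (.node 8177 (.leaf 0x0)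
(.leaf 0x0))
(.node 8179 (.leaf 0x0)
(.leaf 0x0)))
(.node 8182 (.node 8181 (.leaf 0x0)
(.leaf 0x0))
(.node 8183 (.leaf 0x0)
(.leaf 0x0))))
(.node 8188 (.node 8186 (.node 8185 (.leaf 0x0)
(.leaf 0x0))
(.node 8187 (.leaf 0x0)
(.leaf 0x0)))
(.node 8190 (.node 8189 (.leaf 0x0)
(.leaf 0x0))
(.node 8191 (.leaf 0x0)
(.leaf 0x0)))))))))

/-- part of a trie -/
def codePart32 : Tr :=
(.node 8320 (.node 8256 (.node 8224 (.node 8208 (.node 8200 (.node 8196 (.node 8194 (.node 8193 (.leaf 0x0)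
(.leaf 0x0))
(.node 8195 (.leaf 0x0)
(.leaf 0x0)))
(.node 8198 (.node 8197 (.leaf 0x0)
(.leaf 0x0))
(.node 8199 (.leaf 0x0)
(.leaf 0x0))))
(.node 8204 (.node 8202 (.node 8201 (.leaf 0x0)
(.leaf 0x0))
(.node 8203 (.leaf 0x0)
(.leaf 0x0)))
(.node 8206 (.node 8205 (.leaf 0x0)
(.leaf 0x0))
(.node 8207 (.leaf 0x0)
(.leaf 0x0)))))
(.node 8216 (.node 8212 (.node 8210 (.node 8209 (.leaf 0x0)
(.leaf 0x0))
(.node 8211 (.leaf 0x0)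
(.leaf 0x0)))
(.node 8214 (.node 8213 (.leaf 0x0)
(.leaf 0x0))
(.node 8215 (.leaf 0x0)
(.leaf 0x0))))
(.node 8220 (.node 8218 (.node 8217 (.leaf 0x0)
(.leaf 0x0))
(.node 8219 (.leaf 0x0)
(.leaf 0x0)))
(.node 8222 (.node 8221 (.leaf 0x0)
(.leaf 0x0))
(.node 8223 (.leaf 0x0)
(.leaf 0x0))))))
(.node 8240 (.node 8232 (.node 8228 (.node 8226 (.node 8225 (.leaf 0x0)
(.leaf 0x0))
(.node 8227 (.leaf 0x0)
(.leaf 0x0)))
(.node 8230 (.node 8229 (.leaf 0x0)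
(.leaf 0x0))
(.node 8231 (.leaf 0x0)
(.leaf 0x0))))
(.node 8236 (.node 8234 (.node 8233 (.leaf 0x0)
(.leaf 0x0))
(.node 8235 (.leaf 0x0)
(.leaf 0x0)))
(.node 8238 (.node 8237 (.leaf 0x0)
(.leaf 0x0))
(.node 8239 (.leaf 0x0)
(.leaf 0x0)))))
(.node 8248 (.node 8244 (.node 8242 (.node 8241 (.leaf 0x0)
(.leaf 0x0))
(.node 8243 (.leaf 0x0)
(.leaf 0x0)))
(.node 8246 (.node 8245 (.leaf 0x0)
(.leaf 0x0))
(.node 8247 (.leaf 0x0)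
(.leaf 0x0))))
(.node 8252 (.node 8250 (.node 8249 (.leaf 0x0)
(.leaf 0x0))
(.node 8251 (.leaf 0x0)
(.leaf 0x0)))
(.node 8254 (.node 8253 (.leaf 0x0)
(.leaf 0x0))
(.node 8255 (.leaf 0x0)
(.leaf 0x0)))))))
(.node 8288 (.node 8272 (.node 8264 (.node 8260 (.node 8258 (.node 8257 (.leaf 0x0)
(.leaf 0x0))
(.node 8259 (.leaf 0x0)
(.leaf 0x0)))
(.node 8262 (.node 8261 (.leaf 0x0)
(.leaf 0x0))
(.node 8263 (.leaf 0x0)
(.leaf 0x0))))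
(.node 8268 (.node 8266 (.node 8265 (.leaf 0x0)
(.leaf 0x0))
(.node 8267 (.leaf 0x0)
(.leaf 0x0)))
(.node 8270 (.node 8269 (.leaf 0x0)
(.leaf 0x0))
(.node 8271 (.leaf 0x0)
(.leaf 0x0)))))
(.node 8280 (.node 8276 (.node 8274 (.node 8273 (.leaf 0x0)
(.leaf 0x0))
(.node 8275 (.leaf 0x0)
(.leaf 0x0)))
(.node 8278 (.node 8277 (.leaf 0x0)
(.leaf 0x0))
(.node 8279 (.leaf 0x0)
(.leaf 0x0))))
(.node 8284 (.node 8282 (.node 8281 (.leaf 0x0)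
(.leaf 0x0))
(.node 8283 (.leaf 0x0)
(.leaf 0x0)))
(.node 8286 (.node 8285 (.leaf 0x0)
(.leaf 0x0))
(.node 8287 (.leaf 0x0)
(.leaf 0x0))))))
(.node 8304 (.node 8296 (.node 8292 (.node 8290 (.node 8289 (.leaf 0x0)
(.leaf 0x0))
(.node 8291 (.leaf 0x0)
(.leaf 0x0)))
(.node 8294 (.node 8293 (.leaf 0x0)
(.leaf 0x0))
(.node 8295 (.leaf 0x0)
(.leaf 0x0))))
(.node 8300 (.node 8298 (.node 8297 (.leaf 0x0)
(.leaf 0x0))
(.node 8299 (.leaf 0x0)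
(.leaf 0x0)))
(.node 8302 (.node 8301 (.leaf 0x0)
(.leaf 0x0))
(.node 8303 (.leaf 0x0)
(.leaf 0x0)))))
(.node 8312 (.node 8308 (.node 8306 (.node 8305 (.leaf 0x0)
(.leaf 0x0))
(.node 8307 (.leaf 0x0)
(.leaf 0x0)))
(.node 8310 (.node 8309 (.leaf 0x0)
(.leaf 0x0))
(.node 8311 (.leaf 0x0)
(.leaf 0x0))))
(.node 8316 (.node 8314 (.node 8313 (.leaf 0x0)
(.leaf 0x0))
(.node 8315 (.leaf 0x0)
(.leaf 0x0)))
(.node 8318 (.node 8317 (.leaf 0x0)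
(.leaf 0x0))
(.node 8319 (.leaf 0x0)
(.leaf 0x0))))))))
(.node 8384 (.node 8352 (.node 8336 (.node 8328 (.node 8324 (.node 8322 (.node 8321 (.leaf 0x0)
(.leaf 0x0))
(.node 8323 (.leaf 0x0)
(.leaf 0x0)))
(.node 8326 (.node 8325 (.leaf 0x0)
(.leaf 0x0))
(.node 8327 (.leaf 0x0)
(.leaf 0x0))))
(.node 8332 (.node 8330 (.node 8329 (.leaf 0x0)
(.leaf 0x0))
(.node 8331 (.leaf 0x0)
(.leaf 0x0)))
(.node 8334 (.node 8333 (.leaf 0x0)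
(.leaf 0x0))
(.node 8335 (.leaf 0x0)
(.leaf 0x0)))))
(.node 8344 (.node 8340 (.node 8338 (.node 8337 (.leaf 0x0)
(.leaf 0x0))
(.node 8339 (.leaf 0x0)
(.leaf 0x0)))
(.node 8342 (.node 8341 (.leaf 0x0)
(.leaf 0x0))
(.node 8343 (.leaf 0x0)
(.leaf 0x0))))
(.node 8348 (.node 8346 (.node 8345 (.leaf 0x0)
(.leaf 0x0))
(.node 8347 (.leaf 0x0)
(.leaf 0x0)))
(.node 8350 (.node 8349 (.leaf 0x0)
(.leaf 0x0))
(.node 8351 (.leaf 0x0)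
(.leaf 0x0))))))
(.node 8368 (.node 8360 (.node 8356 (.node 8354 (.node 8353 (.leaf 0x0)
(.leaf 0x0))
(.node 8355 (.leaf 0x0)
(.leaf 0x0)))
(.node 8358 (.node 8357 (.leaf 0x0)
(.leaf 0x0))
(.node 8359 (.leaf 0x0)
(.leaf 0x0))))
(.node 8364 (.node 8362 (.node 8361 (.leaf 0x0)
(.leaf 0x0))
(.node 8363 (.leaf 0x0)
(.leaf 0x0)))
(.node 8366 (.node 8365 (.leaf 0x0)
(.leaf 0x0))
(.node 8367 (.leaf 0x0)
(.leaf 0x0)))))
(.node 8376 (.node 8372 (.node 8370 (.node 8369 (.leaf 0x0)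
(.leaf 0x0))
(.node 8371 (.leaf 0x0)
(.leaf 0x0)))
(.node 8374 (.node 8373 (.leaf 0x0)
(.leaf 0x0))
(.node 8375 (.leaf 0x0)
(.leaf 0x0))))
(.node 8380 (.node 8378 (.node 8377 (.leaf 0x0)
(.leaf 0x0))
(.node 8379 (.leaf 0x0)
(.leaf 0x0)))
(.node 8382 (.node 8381 (.leaf 0x0)
(.leaf 0x0))
(.node 8383 (.leaf 0x0)
(.leaf 0x0)))))))
(.node 8416 (.node 8400 (.node 8392 (.node 8388 (.node 8386 (.node 8385 (.leaf 0x0)
(.leaf 0x0))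
(.node 8387 (.leaf 0x0)
(.leaf 0x0)))
(.node 8390 (.node 8389 (.leaf 0x0)
(.leaf 0x0))
(.node 8391 (.leaf 0x0)
(.leaf 0x0))))
(.node 8396 (.node 8394 (.node 8393 (.leaf 0x0)
(.leaf 0x0))
(.node 8395 (.leaf 0x0)
(.leaf 0x0)))
(.node 8398 (.node 8397 (.leaf 0x0)
(.leaf 0x0))
(.node 8399 (.leaf 0x0)
(.leaf 0x0)))))
(.node 8408 (.node 8404 (.node 8402 (.node 8401 (.leaf 0x0)
(.leaf 0x0))
(.node 8403 (.leaf 0x0)
(.leaf 0x0)))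
(.node 8406 (.node 8405 (.leaf 0x0)
(.leaf 0x0))
(.node 8407 (.leaf 0x0)
(.leaf 0x0))))
(.node 8412 (.node 8410 (.node 8409 (.leaf 0x0)
(.leaf 0x0))
(.node 8411 (.leaf 0x0)
(.leaf 0x0)))
(.node 8414 (.node 8413 (.leaf 0x0)
(.leaf 0x0))
(.node 8415 (.leaf 0x0)
(.leaf 0x0))))))
(.node 8432 (.node 8424 (.node 8420 (.node 8418 (.node 8417 (.leaf 0x0)
(.leaf 0x0))
(.node 8419 (.leaf 0x0)
(.leaf 0x0)))
(.node 8422 (.node 8421 (.leaf 0x0)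
(.leaf 0x0))
(.node 8423 (.leaf 0x0)
(.leaf 0x0))))
(.node 8428 (.node 8426 (.node 8425 (.leaf 0x0)
(.leaf 0x0))
(.node 8427 (.leaf 0x0)
(.leaf 0x0)))
(.node 8430 (.node 8429 (.leaf 0x0)
(.leaf 0x0))
(.node 8431 (.leaf 0x0)
(.leaf 0x0)))))
(.node 8440 (.node 8436 (.node 8434 (.node 8433 (.leaf 0x0)
(.leaf 0x0))
(.node 8435 (.leaf 0x0)
(.leaf 0x0)))
(.node 8438 (.node 8437 (.leaf 0x0)
(.leaf 0x0))
(.node 8439 (.leaf 0x0)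
(.leaf 0x0))))
(.node 8444 (.node 8442 (.node 8441 (.leaf 0x0)
(.leaf 0x0))
(.node 8443 (.leaf 0x0)
(.leaf 0x0)))
(.node 8446 (.node 8445 (.leaf 0x0)
(.leaf 0x0))
(.node 8447 (.leaf 0x0)
(.leaf 0x0)))))))))

/-- part of a trie -/
def codePart33 : Tr :=
(.node 8576 (.node 8512 (.node 8480 (.node 8464 (.node 8456 (.node 8452 (.node 8450 (.node 8449 (.leaf 0x0)
(.leaf 0x0))
(.node 8451 (.leaf 0x0)
(.leaf 0x0)))
(.node 8454 (.node 8453 (.leaf 0x0)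
(.leaf 0x0))
(.node 8455 (.leaf 0x0)
(.leaf 0x0))))
(.node 8460 (.node 8458 (.node 8457 (.leaf 0x0)
(.leaf 0x0))
(.node 8459 (.leaf 0x0)
(.leaf 0x0)))
(.node 8462 (.node 8461 (.leaf 0x0)
(.leaf 0x0))
(.node 8463 (.leaf 0x0)
(.leaf 0x0)))))
(.node 8472 (.node 8468 (.node 8466 (.node 8465 (.leaf 0x0)
(.leaf 0x0))
(.node 8467 (.leaf 0x0)
(.leaf 0x0)))
(.node 8470 (.node 8469 (.leaf 0x0)
(.leaf 0x0))
(.node 8471 (.leaf 0x0)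
(.leaf 0x0))))
(.node 8476 (.node 8474 (.node 8473 (.leaf 0x0)
(.leaf 0x0))
(.node 8475 (.leaf 0x0)
(.leaf 0x0)))
(.node 8478 (.node 8477 (.leaf 0x0)
(.leaf 0x0))
(.node 8479 (.leaf 0x0)
(.leaf 0x0))))))
(.node 8496 (.node 8488 (.node 8484 (.node 8482 (.node 8481 (.leaf 0x0)
(.leaf 0x0))
(.node 8483 (.leaf 0x0)
(.leaf 0x0)))
(.node 8486 (.node 8485 (.leaf 0x0)
(.leaf 0x0))
(.node 8487 (.leaf 0x0)
(.leaf 0x0))))
(.node 8492 (.node 8490 (.node 8489 (.leaf 0x0)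
(.leaf 0x0))
(.node 8491 (.leaf 0x0)
(.leaf 0x0)))
(.node 8494 (.node 8493 (.leaf 0x0)
(.leaf 0x0))
(.node 8495 (.leaf 0x0)
(.leaf 0x0)))))
(.node 8504 (.node 8500 (.node 8498 (.node 8497 (.leaf 0x0)
(.leaf 0x0))
(.node 8499 (.leaf 0x0)
(.leaf 0x0)))
(.node 8502 (.node 8501 (.leaf 0x0)
(.leaf 0x0))
(.node 8503 (.leaf 0x0)
(.leaf 0x0))))
(.node 8508 (.node 8506 (.node 8505 (.leaf 0x0)
(.leaf 0x0))
(.node 8507 (.leaf 0x0)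
(.leaf 0x0)))
(.node 8510 (.node 8509 (.leaf 0x0)
(.leaf 0x0))
(.node 8511 (.leaf 0x0)
(.leaf 0x0)))))))
(.node 8544 (.node 8528 (.node 8520 (.node 8516 (.node 8514 (.node 8513 (.leaf 0x0)
(.leaf 0x0))
(.node 8515 (.leaf 0x0)
(.leaf 0x0)))
(.node 8518 (.node 8517 (.leaf 0x0)
(.leaf 0x0))
(.node 8519 (.leaf 0x0)
(.leaf 0x0))))
(.node 8524 (.node 8522 (.node 8521 (.leaf 0x0)
(.leaf 0x0))
(.node 8523 (.leaf 0x0)
(.leaf 0x0)))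
(.node 8526 (.node 8525 (.leaf 0x0)
(.leaf 0x0))
(.node 8527 (.leaf 0x0)
(.leaf 0x0)))))
(.node 8536 (.node 8532 (.node 8530 (.node 8529 (.leaf 0x0)
(.leaf 0x0))
(.node 8531 (.leaf 0x0)
(.leaf 0x0)))
(.node 8534 (.node 8533 (.leaf 0x0)
(.leaf 0x0))
(.node 8535 (.leaf 0x0)
(.leaf 0x0))))
(.node 8540 (.node 8538 (.node 8537 (.leaf 0x0)
(.leaf 0x0))
(.node 8539 (.leaf 0x0)
(.leaf 0x0)))
(.node 8542 (.node 8541 (.leaf 0x0)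
(.leaf 0x0))
(.node 8543 (.leaf 0x0)
(.leaf 0x0))))))
(.node 8560 (.node 8552 (.node 8548 (.node 8546 (.node 8545 (.leaf 0x0)
(.leaf 0x0))
(.node 8547 (.leaf 0x0)
(.leaf 0x0)))
(.node 8550 (.node 8549 (.leaf 0x0)
(.leaf 0x0))
(.node 8551 (.leaf 0x0)
(.leaf 0x0))))
(.node 8556 (.node 8554 (.node 8553 (.leaf 0x0)
(.leaf 0x0))
(.node 8555 (.leaf 0x0)
(.leaf 0x0)))
(.node 8558 (.node 8557 (.leaf 0x0)
(.leaf 0x0))
(.node 8559 (.leaf 0x0)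
(.leaf 0x0)))))
(.node 8568 (.node 8564 (.node 8562 (.node 8561 (.leaf 0x0)
(.leaf 0x0))
(.node 8563 (.leaf 0x0)
(.leaf 0x0)))
(.node 8566 (.node 8565 (.leaf 0x0)
(.leaf 0x0))
(.node 8567 (.leaf 0x0)
(.leaf 0x0))))
(.node 8572 (.node 8570 (.node 8569 (.leaf 0x0)
(.leaf 0x0))
(.node 8571 (.leaf 0x0)
(.leaf 0x0)))
(.node 8574 (.node 8573 (.leaf 0x0)
(.leaf 0x0))
(.node 8575 (.leaf 0x0)
(.leaf 0x0))))))))
(.node 8640 (.node 8608 (.node 8592 (.node 8584 (.node 8580 (.node 8578 (.node 8577 (.leaf 0x0)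
(.leaf 0x0))
(.node 8579 (.leaf 0x0)
(.leaf 0x0)))
(.node 8582 (.node 8581 (.leaf 0x0)
(.leaf 0x0))
(.node 8583 (.leaf 0x0)
(.leaf 0x0))))
(.node 8588 (.node 8586 (.node 8585 (.leaf 0x0)
(.leaf 0x0))
(.node 8587 (.leaf 0x0)
(.leaf 0x0)))
(.node 8590 (.node 8589 (.leaf 0x0)
(.leaf 0x0))
(.node 8591 (.leaf 0x0)
(.leaf 0x0)))))
(.node 8600 (.node 8596 (.node 8594 (.node 8593 (.leaf 0x0)
(.leaf 0x0))
(.node 8595 (.leaf 0x0)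
(.leaf 0x0)))
(.node 8598 (.node 8597 (.leaf 0x0)
(.leaf 0x0))
(.node 8599 (.leaf 0x0)
(.leaf 0x0))))
(.node 8604 (.node 8602 (.node 8601 (.leaf 0x0)
(.leaf 0x0))
(.node 8603 (.leaf 0x0)
(.leaf 0x0)))
(.node 8606 (.node 8605 (.leaf 0x0)
(.leaf 0x0))
(.node 8607 (.leaf 0x0)
(.leaf 0x0))))))
(.node 8624 (.node 8616 (.node 8612 (.node 8610 (.node 8609 (.leaf 0x0)
(.leaf 0x0))
(.node 8611 (.leaf 0x0)
(.leaf 0x0)))
(.node 8614 (.node 8613 (.leaf 0x0)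
(.leaf 0x0))
(.node 8615 (.leaf 0x0)
(.leaf 0x0))))
(.node 8620 (.node 8618 (.node 8617 (.leaf 0x0)
(.leaf 0x0))
(.node 8619 (.leaf 0x0)
(.leaf 0x0)))
(.node 8622 (.node 8621 (.leaf 0x0)
(.leaf 0x0))
(.node 8623 (.leaf 0x0)
(.leaf 0x0)))))
(.node 8632 (.node 8628 (.node 8626 (.node 8625 (.leaf 0x0)
(.leaf 0x0))
(.node 8627 (.leaf 0x0)
(.leaf 0x0)))
(.node 8630 (.node 8629 (.leaf 0x0)
(.leaf 0x0))
(.node 8631 (.leaf 0x0)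
(.leaf 0x0))))
(.node 8636 (.node 8634 (.node 8633 (.leaf 0x0)
(.leaf 0x0))
(.node 8635 (.leaf 0x0)
(.leaf 0x0)))
(.node 8638 (.node 8637 (.leaf 0x0)
(.leaf 0x0))
(.node 8639 (.leaf 0x0)
(.leaf 0x0)))))))
(.node 8672 (.node 8656 (.node 8648 (.node 8644 (.node 8642 (.node 8641 (.leaf 0x0)
(.leaf 0x0))
(.node 8643 (.leaf 0x0)
(.leaf 0x0)))
(.node 8646 (.node 8645 (.leaf 0x0)
(.leaf 0x0))
(.node 8647 (.leaf 0x0)
(.leaf 0x0))))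
(.node 8652 (.node 8650 (.node 8649 (.leaf 0x0)
(.leaf 0x0))
(.node 8651 (.leaf 0x0)
(.leaf 0x0)))
(.node 8654 (.node 8653 (.leaf 0x0)
(.leaf 0x0))
(.node 8655 (.leaf 0x0)
(.leaf 0x0)))))
(.node 8664 (.node 8660 (.node 8658 (.node 8657 (.leaf 0x0)
(.leaf 0x0))
(.node 8659 (.leaf 0x0)
(.leaf 0x0)))
(.node 8662 (.node 8661 (.leaf 0x0)
(.leaf 0x0))
(.node 8663 (.leaf 0x0)
(.leaf 0x0))))
(.node 8668 (.node 8666 (.node 8665 (.leaf 0x0)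
(.leaf 0x0))
(.node 8667 (.leaf 0x0)
(.leaf 0x0)))
(.node 8670 (.node 8669 (.leaf 0x0)
(.leaf 0x0))
(.node 8671 (.leaf 0x0)
(.leaf 0x0))))))
(.node 8688 (.node 8680 (.node 8676 (.node 8674 (.node 8673 (.leaf 0x0)
(.leaf 0x0))
(.node 8675 (.leaf 0x0)
(.leaf 0x0)))
(.node 8678 (.node 8677 (.leaf 0x0)
(.leaf 0x0))
(.node 8679 (.leaf 0x0)
(.leaf 0x0))))
(.node 8684 (.node 8682 (.node 8681 (.leaf 0x0)
(.leaf 0x0))
(.node 8683 (.leaf 0x0)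
(.leaf 0x0)))
(.node 8686 (.node 8685 (.leaf 0x0)
(.leaf 0x0))
(.node 8687 (.leaf 0x0)
(.leaf 0x0)))))
(.node 8696 (.node 8692 (.node 8690 (.node 8689 (.leaf 0x0)
(.leaf 0x0))
(.node 8691 (.leaf 0x0)
(.leaf 0x0)))
(.node 8694 (.node 8693 (.leaf 0x0)
(.leaf 0x0))
(.node 8695 (.leaf 0x0)
(.leaf 0x0))))
(.node 8700 (.node 8698 (.node 8697 (.leaf 0x0)
(.leaf 0x0))
(.node 8699 (.leaf 0x0)
(.leaf 0x0)))
(.node 8702 (.node 8701 (.leaf 0x0)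
(.leaf 0x0))
(.node 8703 (.leaf 0x0)
(.leaf 0x0)))))))))

/-- part of a trie -/
def codePart34 : Tr :=
(.node 8832 (.node 8768 (.node 8736 (.node 8720 (.node 8712 (.node 8708 (.node 8706 (.node 8705 (.leaf 0x0)
(.leaf 0x0))
(.node 8707 (.leaf 0x0)
(.leaf 0x0)))
(.node 8710 (.node 8709 (.leaf 0x0)
(.leaf 0x0))
(.node 8711 (.leaf 0x0)
(.leaf 0x0))))
(.node 8716 (.node 8714 (.node 8713 (.leaf 0x0)
(.leaf 0x0))
(.node 8715 (.leaf 0x0)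
(.leaf 0x0)))
(.node 8718 (.node 8717 (.leaf 0x0)
(.leaf 0x0))
(.node 8719 (.leaf 0x0)
(.leaf 0x0)))))
(.node 8728 (.node 8724 (.node 8722 (.node 8721 (.leaf 0x0)
(.leaf 0x0))
(.node 8723 (.leaf 0x0)
(.leaf 0x0)))
(.node 8726 (.node 8725 (.leaf 0x0)
(.leaf 0x0))
(.node 8727 (.leaf 0x0)
(.leaf 0x0))))
(.node 8732 (.node 8730 (.node 8729 (.leaf 0x0)
(.leaf 0x0))
(.node 8731 (.leaf 0x0)
(.leaf 0x0)))
(.node 8734 (.node 8733 (.leaf 0x0)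
(.leaf 0x0))
(.node 8735 (.leaf 0x0)
(.leaf 0x0))))))
(.node 8752 (.node 8744 (.node 8740 (.node 8738 (.node 8737 (.leaf 0x0)
(.leaf 0x0))
(.node 8739 (.leaf 0x0)
(.leaf 0x0)))
(.node 8742 (.node 8741 (.leaf 0x0)
(.leaf 0x0))
(.node 8743 (.leaf 0x0)
(.leaf 0x0))))
(.node 8748 (.node 8746 (.node 8745 (.leaf 0x0)
(.leaf 0x0))
(.node 8747 (.leaf 0x0)
(.leaf 0x0)))
(.node 8750 (.node 8749 (.leaf 0x0)
(.leaf 0x0))
(.node 8751 (.leaf 0x0)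
(.leaf 0x0)))))
(.node 8760 (.node 8756 (.node 8754 (.node 8753 (.leaf 0x0)
(.leaf 0x0))
(.node 8755 (.leaf 0x0)
(.leaf 0x0)))
(.node 8758 (.node 8757 (.leaf 0x0)
(.leaf 0x0))
(.node 8759 (.leaf 0x0)
(.leaf 0x0))))
(.node 8764 (.node 8762 (.node 8761 (.leaf 0x0)
(.leaf 0x0))
(.node 8763 (.leaf 0x0)
(.leaf 0x0)))
(.node 8766 (.node 8765 (.leaf 0x0)
(.leaf 0x0))
(.node 8767 (.leaf 0x0)
(.leaf 0x0)))))))
(.node 8800 (.node 8784 (.node 8776 (.node 8772 (.node 8770 (.node 8769 (.leaf 0x0)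
(.leaf 0x0))
(.node 8771 (.leaf 0x0)
(.leaf 0x0)))
(.node 8774 (.node 8773 (.leaf 0x0)
(.leaf 0x0))
(.node 8775 (.leaf 0x0)
(.leaf 0x0))))
(.node 8780 (.node 8778 (.node 8777 (.leaf 0x0)
(.leaf 0x0))
(.node 8779 (.leaf 0x0)
(.leaf 0x0)))
(.node 8782 (.node 8781 (.leaf 0x0)
(.leaf 0x0))
(.node 8783 (.leaf 0x0)
(.leaf 0x0)))))
(.node 8792 (.node 8788 (.node 8786 (.node 8785 (.leaf 0x0)
(.leaf 0x0))
(.node 8787 (.leaf 0x0)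
(.leaf 0x0)))
(.node 8790 (.node 8789 (.leaf 0x0)
(.leaf 0x0))
(.node 8791 (.leaf 0x0)
(.leaf 0x0))))
(.node 8796 (.node 8794 (.node 8793 (.leaf 0x0)
(.leaf 0x0))
(.node 8795 (.leaf 0x0)
(.leaf 0x0)))
(.node 8798 (.node 8797 (.leaf 0x0)
(.leaf 0x0))
(.node 8799 (.leaf 0x0)
(.leaf 0x0))))))
(.node 8816 (.node 8808 (.node 8804 (.node 8802 (.node 8801 (.leaf 0x0)
(.leaf 0x0))
(.node 8803 (.leaf 0x0)
(.leaf 0x0)))
(.node 8806 (.node 8805 (.leaf 0x0)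
(.leaf 0x0))
(.node 8807 (.leaf 0x0)
(.leaf 0x0))))
(.node 8812 (.node 8810 (.node 8809 (.leaf 0x0)
(.leaf 0x0))
(.node 8811 (.leaf 0x0)
(.leaf 0x0)))
(.node 8814 (.node 8813 (.leaf 0x0)
(.leaf 0x0))
(.node 8815 (.leaf 0x0)
(.leaf 0x0)))))
(.node 8824 (.node 8820 (.node 8818 (.node 8817 (.leaf 0x0)
(.leaf 0x0))
(.node 8819 (.leaf 0x0)
(.leaf 0x0)))
(.node 8822 (.node 8821 (.leaf 0x0)
(.leaf 0x0))
(.node 8823 (.leaf 0x0)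
(.leaf 0x0))))
(.node 8828 (.node 8826 (.node 8825 (.leaf 0x0)
(.leaf 0x0))
(.node 8827 (.leaf 0x0)
(.leaf 0x0)))
(.node 8830 (.node 8829 (.leaf 0x0)
(.leaf 0x0))
(.node 8831 (.leaf 0x0)
(.leaf 0x0))))))))
(.node 8896 (.node 8864 (.node 8848 (.node 8840 (.node 8836 (.node 8834 (.node 8833 (.leaf 0x0)
(.leaf 0x0))
(.node 8835 (.leaf 0x0)
(.leaf 0x0)))
(.node 8838 (.node 8837 (.leaf 0x0)
(.leaf 0x0))
(.node 8839 (.leaf 0x0)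
(.leaf 0x0))))
(.node 8844 (.node 8842 (.node 8841 (.leaf 0x0)
(.leaf 0x0))
(.node 8843 (.leaf 0x0)
(.leaf 0x0)))
(.node 8846 (.node 8845 (.leaf 0x0)
(.leaf 0x0))
(.node 8847 (.leaf 0x0)
(.leaf 0x0)))))
(.node 8856 (.node 8852 (.node 8850 (.node 8849 (.leaf 0x0)
(.leaf 0x0))
(.node 8851 (.leaf 0x0)
(.leaf 0x0)))
(.node 8854 (.node 8853 (.leaf 0x0)
(.leaf 0x0))
(.node 8855 (.leaf 0x0)
(.leaf 0x0))))
(.node 8860 (.node 8858 (.node 8857 (.leaf 0x0)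
(.leaf 0x0))
(.node 8859 (.leaf 0x0)
(.leaf 0x0)))
(.node 8862 (.node 8861 (.leaf 0x0)
(.leaf 0x0))
(.node 8863 (.leaf 0x0)
(.leaf 0x0))))))
(.node 8880 (.node 8872 (.node 8868 (.node 8866 (.node 8865 (.leaf 0x0)
(.leaf 0x0))
(.node 8867 (.leaf 0x0)
(.leaf 0x0)))
(.node 8870 (.node 8869 (.leaf 0x0)
(.leaf 0x0))
(.node 8871 (.leaf 0x0)
(.leaf 0x0))))
(.node 8876 (.node 8874 (.node 8873 (.leaf 0x0)
(.leaf 0x0))
(.node 8875 (.leaf 0x0)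
(.leaf 0x0)))
(.node 8878 (.node 8877 (.leaf 0x0)
(.leaf 0x0))
(.node 8879 (.leaf 0x0)
(.leaf 0x0)))))
(.node 8888 (.node 8884 (.node 8882 (.node 8881 (.leaf 0x0)
(.leaf 0x0))
(.node 8883 (.leaf 0x0)
(.leaf 0x0)))
(.node 8886 (.node 8885 (.leaf 0x0)
(.leaf 0x0))
(.node 8887 (.leaf 0x0)
(.leaf 0x0))))
(.node 8892 (.node 8890 (.node 8889 (.leaf 0x0)
(.leaf 0x0))
(.node 8891 (.leaf 0x0)
(.leaf 0x0)))
(.node 8894 (.node 8893 (.leaf 0x0)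
(.leaf 0x0))
(.node 8895 (.leaf 0x0)
(.leaf 0x0)))))))
(.node 8928 (.node 8912 (.node 8904 (.node 8900 (.node 8898 (.node 8897 (.leaf 0x0)
(.leaf 0x0))
(.node 8899 (.leaf 0x0)
(.leaf 0x0)))
(.node 8902 (.node 8901 (.leaf 0x0)
(.leaf 0x0))
(.node 8903 (.leaf 0x0)
(.leaf 0x0))))
(.node 8908 (.node 8906 (.node 8905 (.leaf 0x0)
(.leaf 0x0))
(.node 8907 (.leaf 0x0)
(.leaf 0x0)))
(.node 8910 (.node 8909 (.leaf 0x0)
(.leaf 0x0))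
(.node 8911 (.leaf 0x0)
(.leaf 0x0)))))
(.node 8920 (.node 8916 (.node 8914 (.node 8913 (.leaf 0x0)
(.leaf 0x0))
(.node 8915 (.leaf 0x0)
(.leaf 0x0)))
(.node 8918 (.node 8917 (.leaf 0x0)
(.leaf 0x0))
(.node 8919 (.leaf 0x0)
(.leaf 0x0))))
(.node 8924 (.node 8922 (.node 8921 (.leaf 0x0)
(.leaf 0x0))
(.node 8923 (.leaf 0x0)
(.leaf 0x0)))
(.node 8926 (.node 8925 (.leaf 0x0)
(.leaf 0x0))
(.node 8927 (.leaf 0x0)
(.leaf 0x0))))))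
(.node 8944 (.node 8936 (.node 8932 (.node 8930 (.node 8929 (.leaf 0x0)
(.leaf 0x0))
(.node 8931 (.leaf 0x0)
(.leaf 0x0)))
(.node 8934 (.node 8933 (.leaf 0x0)
(.leaf 0x0))
(.node 8935 (.leaf 0x0)
(.leaf 0x0))))
(.node 8940 (.node 8938 (.node 8937 (.leaf 0x0)
(.leaf 0x0))
(.node 8939 (.leaf 0x0)
(.leaf 0x0)))
(.node 8942 (.node 8941 (.leaf 0x0)
(.leaf 0x0))
(.node 8943 (.leaf 0x0)
(.leaf 0x0)))))
(.node 8952 (.node 8948 (.node 8946 (.node 8945 (.leaf 0x0)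
(.leaf 0x0))
(.node 8947 (.leaf 0x0)
(.leaf 0x0)))
(.node 8950 (.node 8949 (.leaf 0x0)
(.leaf 0x0))
(.node 8951 (.leaf 0x0)
(.leaf 0x0))))
(.node 8956 (.node 8954 (.node 8953 (.leaf 0x0)
(.leaf 0x0))
(.node 8955 (.leaf 0x0)
(.leaf 0x0)))
(.node 8958 (.node 8957 (.leaf 0x0)
(.leaf 0x0))
(.node 8959 (.leaf 0x0)
(.leaf 0x0)))))))))

/-- part of a trie -/
def codePart35 : Tr :=
(.node 9088 (.node 9024 (.node 8992 (.node 8976 (.node 8968 (.node 8964 (.node 8962 (.node 8961 (.leaf 0x0)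
(.leaf 0x0))
(.node 8963 (.leaf 0x0)
(.leaf 0x0)))
(.node 8966 (.node 8965 (.leaf 0x0)
(.leaf 0x0))
(.node 8967 (.leaf 0x0)
(.leaf 0x0))))
(.node 8972 (.node 8970 (.node 8969 (.leaf 0x0)
(.leaf 0x0))
(.node 8971 (.leaf 0x0)
(.leaf 0x0)))
(.node 8974 (.node 8973 (.leaf 0x0)
(.leaf 0x0))
(.node 8975 (.leaf 0x0)
(.leaf 0x0)))))
(.node 8984 (.node 8980 (.node 8978 (.node 8977 (.leaf 0x0)
(.leaf 0x0))
(.node 8979 (.leaf 0x0)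
(.leaf 0x0)))
(.node 8982 (.node 8981 (.leaf 0x0)
(.leaf 0x0))
(.node 8983 (.leaf 0x0)
(.leaf 0x0))))
(.node 8988 (.node 8986 (.node 8985 (.leaf 0x0)
(.leaf 0x0))
(.node 8987 (.leaf 0x0)
(.leaf 0x0)))
(.node 8990 (.node 8989 (.leaf 0x0)
(.leaf 0x0))
(.node 8991 (.leaf 0x0)
(.leaf 0x0))))))
(.node 9008 (.node 9000 (.node 8996 (.node 8994 (.node 8993 (.leaf 0x0)
(.leaf 0x0))
(.node 8995 (.leaf 0x0)
(.leaf 0x0)))
(.node 8998 (.node 8997 (.leaf 0x0)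
(.leaf 0x0))
(.node 8999 (.leaf 0x0)
(.leaf 0x0))))
(.node 9004 (.node 9002 (.node 9001 (.leaf 0x0)
(.leaf 0x0))
(.node 9003 (.leaf 0x0)
(.leaf 0x0)))
(.node 9006 (.node 9005 (.leaf 0x0)
(.leaf 0x0))
(.node 9007 (.leaf 0x0)
(.leaf 0x0)))))
(.node 9016 (.node 9012 (.node 9010 (.node 9009 (.leaf 0x0)
(.leaf 0x0))
(.node 9011 (.leaf 0x0)
(.leaf 0x0)))
(.node 9014 (.node 9013 (.leaf 0x0)
(.leaf 0x0))
(.node 9015 (.leaf 0x0)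
(.leaf 0x0))))
(.node 9020 (.node 9018 (.node 9017 (.leaf 0x0)
(.leaf 0x0))
(.node 9019 (.leaf 0x0)
(.leaf 0x0)))
(.node 9022 (.node 9021 (.leaf 0x0)
(.leaf 0x0))
(.node 9023 (.leaf 0x0)
(.leaf 0x0)))))))
(.node 9056 (.node 9040 (.node 9032 (.node 9028 (.node 9026 (.node 9025 (.leaf 0x0)
(.leaf 0x0))
(.node 9027 (.leaf 0x0)
(.leaf 0x0)))
(.node 9030 (.node 9029 (.leaf 0x0)
(.leaf 0x0))
(.node 9031 (.leaf 0x0)
(.leaf 0x0))))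
(.node 9036 (.node 9034 (.node 9033 (.leaf 0x0)
(.leaf 0x0))
(.node 9035 (.leaf 0x0)
(.leaf 0x0)))
(.node 9038 (.node 9037 (.leaf 0x0)
(.leaf 0x0))
(.node 9039 (.leaf 0x0)
(.leaf 0x0)))))
(.node 9048 (.node 9044 (.node 9042 (.node 9041 (.leaf 0x0)
(.leaf 0x0))
(.node 9043 (.leaf 0x0)
(.leaf 0x0)))
(.node 9046 (.node 9045 (.leaf 0x0)
(.leaf 0x0))
(.node 9047 (.leaf 0x0)
(.leaf 0x0))))
(.node 9052 (.node 9050 (.node 9049 (.leaf 0x0)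
(.leaf 0x0))
(.node 9051 (.leaf 0x0)
(.leaf 0x0)))
(.node 9054 (.node 9053 (.leaf 0x0)
(.leaf 0x0))
(.node 9055 (.leaf 0x0)
(.leaf 0x0))))))
(.node 9072 (.node 9064 (.node 9060 (.node 9058 (.node 9057 (.leaf 0x0)
(.leaf 0x0))
(.node 9059 (.leaf 0x0)
(.leaf 0x0)))
(.node 9062 (.node 9061 (.leaf 0x0)
(.leaf 0x0))
(.node 9063 (.leaf 0x0)
(.leaf 0x0))))
(.node 9068 (.node 9066 (.node 9065 (.leaf 0x0)
(.leaf 0x0))
(.node 9067 (.leaf 0x0)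
(.leaf 0x0)))
(.node 9070 (.node 9069 (.leaf 0x0)
(.leaf 0x0))
(.node 9071 (.leaf 0x0)
(.leaf 0x0)))))
(.node 9080 (.node 9076 (.node 9074 (.node 9073 (.leaf 0x0)
(.leaf 0x0))
(.node 9075 (.leaf 0x0)
(.leaf 0x0)))
(.node 9078 (.node 9077 (.leaf 0x0)
(.leaf 0x0))
(.node 9079 (.leaf 0x0)
(.leaf 0x0))))
(.node 9084 (.node 9082 (.node 9081 (.leaf 0x0)
(.leaf 0x0))
(.node 9083 (.leaf 0x0)
(.leaf 0x0)))
(.node 9086 (.node 9085 (.leaf 0x0)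
(.leaf 0x0))
(.node 9087 (.leaf 0x0)
(.leaf 0x0))))))))
(.node 9152 (.node 9120 (.node 9104 (.node 9096 (.node 9092 (.node 9090 (.node 9089 (.leaf 0x0)
(.leaf 0x0))
(.node 9091 (.leaf 0x0)
(.leaf 0x0)))
(.node 9094 (.node 9093 (.leaf 0x0)
(.leaf 0x0))
(.node 9095 (.leaf 0x0)
(.leaf 0x0))))
(.node 9100 (.node 9098 (.node 9097 (.leaf 0x0)
(.leaf 0x0))
(.node 9099 (.leaf 0x0)
(.leaf 0x0)))
(.node 9102 (.node 9101 (.leaf 0x0)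
(.leaf 0x0))
(.node 9103 (.leaf 0x0)
(.leaf 0x0)))))
(.node 9112 (.node 9108 (.node 9106 (.node 9105 (.leaf 0x0)
(.leaf 0x0))
(.node 9107 (.leaf 0x0)
(.leaf 0x0)))
(.node 9110 (.node 9109 (.leaf 0x0)
(.leaf 0x0))
(.node 9111 (.leaf 0x0)
(.leaf 0x0))))
(.node 9116 (.node 9114 (.node 9113 (.leaf 0x0)
(.leaf 0x0))
(.node 9115 (.leaf 0x0)
(.leaf 0x0)))
(.node 9118 (.node 9117 (.leaf 0x0)
(.leaf 0x0))
(.node 9119 (.leaf 0x0)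
(.leaf 0x0))))))
(.node 9136 (.node 9128 (.node 9124 (.node 9122 (.node 9121 (.leaf 0x0)
(.leaf 0x0))
(.node 9123 (.leaf 0x0)
(.leaf 0x0)))
(.node 9126 (.node 9125 (.leaf 0x0)
(.leaf 0x0))
(.node 9127 (.leaf 0x0)
(.leaf 0x0))))
(.node 9132 (.node 9130 (.node 9129 (.leaf 0x0)
(.leaf 0x0))
(.node 9131 (.leaf 0x0)
(.leaf 0x0)))
(.node 9134 (.node 9133 (.leaf 0x0)
(.leaf 0x0))
(.node 9135 (.leaf 0x0)
(.leaf 0x0)))))
(.node 9144 (.node 9140 (.node 9138 (.node 9137 (.leaf 0x0)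
(.leaf 0x0))
(.node 9139 (.leaf 0x0)
(.leaf 0x0)))
(.node 9142 (.node 9141 (.leaf 0x0)
(.leaf 0x0))
(.node 9143 (.leaf 0x0)
(.leaf 0x0))))
(.node 9148 (.node 9146 (.node 9145 (.leaf 0x0)
(.leaf 0x0))
(.node 9147 (.leaf 0x0)
(.leaf 0x0)))
(.node 9150 (.node 9149 (.leaf 0x0)
(.leaf 0x0))
(.node 9151 (.leaf 0x0)
(.leaf 0x0)))))))
(.node 9184 (.node 9168 (.node 9160 (.node 9156 (.node 9154 (.node 9153 (.leaf 0x0)
(.leaf 0x0))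
(.node 9155 (.leaf 0x0)
(.leaf 0x0)))
(.node 9158 (.node 9157 (.leaf 0x0)
(.leaf 0x0))
(.node 9159 (.leaf 0x0)
(.leaf 0x0))))
(.node 9164 (.node 9162 (.node 9161 (.leaf 0x0)
(.leaf 0x0))
(.node 9163 (.leaf 0x0)
(.leaf 0x0)))
(.node 9166 (.node 9165 (.leaf 0x0)
(.leaf 0x0))
(.node 9167 (.leaf 0x0)
(.leaf 0x0)))))
(.node 9176 (.node 9172 (.node 9170 (.node 9169 (.leaf 0x0)
(.leaf 0x0))
(.node 9171 (.leaf 0x0)
(.leaf 0x0)))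
(.node 9174 (.node 9173 (.leaf 0x0)
(.leaf 0x0))
(.node 9175 (.leaf 0x0)
(.leaf 0x0))))
(.node 9180 (.node 9178 (.node 9177 (.leaf 0x0)
(.leaf 0x0))
(.node 9179 (.leaf 0x0)
(.leaf 0x0)))
(.node 9182 (.node 9181 (.leaf 0x0)
(.leaf 0x0))
(.node 9183 (.leaf 0x0)
(.leaf 0x0))))))
(.node 9200 (.node 9192 (.node 9188 (.node 9186 (.node 9185 (.leaf 0x0)
(.leaf 0x0))
(.node 9187 (.leaf 0x0)
(.leaf 0x0)))
(.node 9190 (.node 9189 (.leaf 0x0)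
(.leaf 0x0))
(.node 9191 (.leaf 0x0)
(.leaf 0x0))))
(.node 9196 (.node 9194 (.node 9193 (.leaf 0x0)
(.leaf 0x0))
(.node 9195 (.leaf 0x0)
(.leaf 0x0)))
(.node 9198 (.node 9197 (.leaf 0x0)
(.leaf 0x0))
(.node 9199 (.leaf 0x0)
(.leaf 0x0)))))
(.node 9208 (.node 9204 (.node 9202 (.node 9201 (.leaf 0x0)
(.leaf 0x0))
(.node 9203 (.leaf 0x0)
(.leaf 0x0)))
(.node 9206 (.node 9205 (.leaf 0x0)
(.leaf 0x0))
(.node 9207 (.leaf 0x0)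
(.leaf 0x0))))
(.node 9212 (.node 9210 (.node 9209 (.leaf 0x0)
(.leaf 0x0))
(.node 9211 (.leaf 0x0)
(.leaf 0x0)))
(.node 9214 (.node 9213 (.leaf 0x0)
(.leaf 0x0))
(.node 9215 (.leaf 0x0)
(.leaf 0x0)))))))))

/-- part of a trie -/
def codePart36 : Tr :=
(.node 9344 (.node 9280 (.node 9248 (.node 9232 (.node 9224 (.node 9220 (.node 9218 (.node 9217 (.leaf 0x0)
(.leaf 0x0))
(.node 9219 (.leaf 0x0)
(.leaf 0x0)))
(.node 9222 (.node 9221 (.leaf 0x0)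
(.leaf 0x0))
(.node 9223 (.leaf 0x0)
(.leaf 0x0))))
(.node 9228 (.node 9226 (.node 9225 (.leaf 0x0)
(.leaf 0x0))
(.node 9227 (.leaf 0x0)
(.leaf 0x0)))
(.node 9230 (.node 9229 (.leaf 0x0)
(.leaf 0x0))
(.node 9231 (.leaf 0x0)
(.leaf 0x0)))))
(.node 9240 (.node 9236 (.node 9234 (.node 9233 (.leaf 0x0)
(.leaf 0x0))
(.node 9235 (.leaf 0x0)
(.leaf 0x0)))
(.node 9238 (.node 9237 (.leaf 0x0)
(.leaf 0x0))
(.node 9239 (.leaf 0x0)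
(.leaf 0x0))))
(.node 9244 (.node 9242 (.node 9241 (.leaf 0x0)
(.leaf 0x0))
(.node 9243 (.leaf 0x0)
(.leaf 0x0)))
(.node 9246 (.node 9245 (.leaf 0x0)
(.leaf 0x0))
(.node 9247 (.leaf 0x0)
(.leaf 0x0))))))
(.node 9264 (.node 9256 (.node 9252 (.node 9250 (.node 9249 (.leaf 0x0)
(.leaf 0x0))
(.node 9251 (.leaf 0x0)
(.leaf 0x0)))
(.node 9254 (.node 9253 (.leaf 0x0)
(.leaf 0x0))
(.node 9255 (.leaf 0x0)
(.leaf 0x0))))
(.node 9260 (.node 9258 (.node 9257 (.leaf 0x0)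
(.leaf 0x0))
(.node 9259 (.leaf 0x0)
(.leaf 0x0)))
(.node 9262 (.node 9261 (.leaf 0x0)
(.leaf 0x0))
(.node 9263 (.leaf 0x0)
(.leaf 0x0)))))
(.node 9272 (.node 9268 (.node 9266 (.node 9265 (.leaf 0x0)
(.leaf 0x0))
(.node 9267 (.leaf 0x0)
(.leaf 0x0)))
(.node 9270 (.node 9269 (.leaf 0x0)
(.leaf 0x0))
(.node 9271 (.leaf 0x0)
(.leaf 0x0))))
(.node 9276 (.node 9274 (.node 9273 (.leaf 0x0)
(.leaf 0x0))
(.node 9275 (.leaf 0x0)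
(.leaf 0x0)))
(.node 9278 (.node 9277 (.leaf 0x0)
(.leaf 0x0))
(.node 9279 (.leaf 0x0)
(.leaf 0x0)))))))
(.node 9312 (.node 9296 (.node 9288 (.node 9284 (.node 9282 (.node 9281 (.leaf 0x0)
(.leaf 0x0))
(.node 9283 (.leaf 0x0)
(.leaf 0x0)))
(.node 9286 (.node 9285 (.leaf 0x0)
(.leaf 0x0))
(.node 9287 (.leaf 0x0)
(.leaf 0x0))))
(.node 9292 (.node 9290 (.node 9289 (.leaf 0x0)
(.leaf 0x0))
(.node 9291 (.leaf 0x0)
(.leaf 0x0)))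
(.node 9294 (.node 9293 (.leaf 0x0)
(.leaf 0x0))
(.node 9295 (.leaf 0x0)
(.leaf 0x0)))))
(.node 9304 (.node 9300 (.node 9298 (.node 9297 (.leaf 0x0)
(.leaf 0x0))
(.node 9299 (.leaf 0x0)
(.leaf 0x0)))
(.node 9302 (.node 9301 (.leaf 0x0)
(.leaf 0x0))
(.node 9303 (.leaf 0x0)
(.leaf 0x0))))
(.node 9308 (.node 9306 (.node 9305 (.leaf 0x0)
(.leaf 0x0))
(.node 9307 (.leaf 0x0)
(.leaf 0x0)))
(.node 9310 (.node 9309 (.leaf 0x0)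
(.leaf 0x0))
(.node 9311 (.leaf 0x0)
(.leaf 0x0))))))
(.node 9328 (.node 9320 (.node 9316 (.node 9314 (.node 9313 (.leaf 0x0)
(.leaf 0x0))
(.node 9315 (.leaf 0x0)
(.leaf 0x0)))
(.node 9318 (.node 9317 (.leaf 0x0)
(.leaf 0x0))
(.node 9319 (.leaf 0x0)
(.leaf 0x0))))
(.node 9324 (.node 9322 (.node 9321 (.leaf 0x0)
(.leaf 0x0))
(.node 9323 (.leaf 0x0)
(.leaf 0x0)))
(.node 9326 (.node 9325 (.leaf 0x0)
(.leaf 0x0))
(.node 9327 (.leaf 0x0)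
(.leaf 0x0)))))
(.node 9336 (.node 9332 (.node 9330 (.node 9329 (.leaf 0x0)
(.leaf 0x0))
(.node 9331 (.leaf 0x0)
(.leaf 0x0)))
(.node 9334 (.node 9333 (.leaf 0x0)
(.leaf 0x0))
(.node 9335 (.leaf 0x0)
(.leaf 0x0))))
(.node 9340 (.node 9338 (.node 9337 (.leaf 0x0)
(.leaf 0x0))
(.node 9339 (.leaf 0x0)
(.leaf 0x0)))
(.node 9342 (.node 9341 (.leaf 0x0)
(.leaf 0x0))
(.node 9343 (.leaf 0x0)
(.leaf 0x0))))))))
(.node 9408 (.node 9376 (.node 9360 (.node 9352 (.node 9348 (.node 9346 (.node 9345 (.leaf 0x0)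
(.leaf 0x0))
(.node 9347 (.leaf 0x0)
(.leaf 0x0)))
(.node 9350 (.node 9349 (.leaf 0x0)
(.leaf 0x0))
(.node 9351 (.leaf 0x0)
(.leaf 0x0))))
(.node 9356 (.node 9354 (.node 9353 (.leaf 0x0)
(.leaf 0x0))
(.node 9355 (.leaf 0x0)
(.leaf 0x0)))
(.node 9358 (.node 9357 (.leaf 0x0)
(.leaf 0x0))
(.node 9359 (.leaf 0x0)
(.leaf 0x0)))))
(.node 9368 (.node 9364 (.node 9362 (.node 9361 (.leaf 0x0)
(.leaf 0x0))
(.node 9363 (.leaf 0x0)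
(.leaf 0x0)))
(.node 9366 (.node 9365 (.leaf 0x0)
(.leaf 0x0))
(.node 9367 (.leaf 0x0)
(.leaf 0x0))))
(.node 9372 (.node 9370 (.node 9369 (.leaf 0x0)
(.leaf 0x0))
(.node 9371 (.leaf 0x0)
(.leaf 0x0)))
(.node 9374 (.node 9373 (.leaf 0x0)
(.leaf 0x0))
(.node 9375 (.leaf 0x0)
(.leaf 0x0))))))
(.node 9392 (.node 9384 (.node 9380 (.node 9378 (.node 9377 (.leaf 0x0)
(.leaf 0x0))
(.node 9379 (.leaf 0x0)
(.leaf 0x0)))
(.node 9382 (.node 9381 (.leaf 0x0)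
(.leaf 0x0))
(.node 9383 (.leaf 0x0)
(.leaf 0x0))))
(.node 9388 (.node 9386 (.node 9385 (.leaf 0x0)
(.leaf 0x0))
(.node 9387 (.leaf 0x0)
(.leaf 0x0)))
(.node 9390 (.node 9389 (.leaf 0x0)
(.leaf 0x0))
(.node 9391 (.leaf 0x0)
(.leaf 0x0)))))
(.node 9400 (.node 9396 (.node 9394 (.node 9393 (.leaf 0x0)
(.leaf 0x0))
(.node 9395 (.leaf 0x0)
(.leaf 0x0)))
(.node 9398 (.node 9397 (.leaf 0x0)
(.leaf 0x0))
(.node 9399 (.leaf 0x0)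
(.leaf 0x0))))
(.node 9404 (.node 9402 (.node 9401 (.leaf 0x0)
(.leaf 0x0))
(.node 9403 (.leaf 0x0)
(.leaf 0x0)))
(.node 9406 (.node 9405 (.leaf 0x0)
(.leaf 0x0))
(.node 9407 (.leaf 0x0)
(.leaf 0x0)))))))
(.node 9440 (.node 9424 (.node 9416 (.node 9412 (.node 9410 (.node 9409 (.leaf 0x0)
(.leaf 0x0))
(.node 9411 (.leaf 0x0)
(.leaf 0x0)))
(.node 9414 (.node 9413 (.leaf 0x0)
(.leaf 0x0))
(.node 9415 (.leaf 0x0)
(.leaf 0x0))))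
(.node 9420 (.node 9418 (.node 9417 (.leaf 0x0)
(.leaf 0x0))
(.node 9419 (.leaf 0x0)
(.leaf 0x0)))
(.node 9422 (.node 9421 (.leaf 0x0)
(.leaf 0x0))
(.node 9423 (.leaf 0x0)
(.leaf 0x0)))))
(.node 9432 (.node 9428 (.node 9426 (.node 9425 (.leaf 0x0)
(.leaf 0x0))
(.node 9427 (.leaf 0x0)
(.leaf 0x0)))
(.node 9430 (.node 9429 (.leaf 0x0)
(.leaf 0x0))
(.node 9431 (.leaf 0x0)
(.leaf 0x0))))
(.node 9436 (.node 9434 (.node 9433 (.leaf 0x0)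
(.leaf 0x0))
(.node 9435 (.leaf 0x0)
(.leaf 0x0)))
(.node 9438 (.node 9437 (.leaf 0x0)
(.leaf 0x0))
(.node 9439 (.leaf 0x0)
(.leaf 0x0))))))
(.node 9456 (.node 9448 (.node 9444 (.node 9442 (.node 9441 (.leaf 0x0)
(.leaf 0x0))
(.node 9443 (.leaf 0x0)
(.leaf 0x0)))
(.node 9446 (.node 9445 (.leaf 0x0)
(.leaf 0x0))
(.node 9447 (.leaf 0x0)
(.leaf 0x0))))
(.node 9452 (.node 9450 (.node 9449 (.leaf 0x0)
(.leaf 0x0))
(.node 9451 (.leaf 0x0)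
(.leaf 0x0)))
(.node 9454 (.node 9453 (.leaf 0x0)
(.leaf 0x0))
(.node 9455 (.leaf 0x0)
(.leaf 0x0)))))
(.node 9464 (.node 9460 (.node 9458 (.node 9457 (.leaf 0x0)
(.leaf 0x0))
(.node 9459 (.leaf 0x0)
(.leaf 0x0)))
(.node 9462 (.node 9461 (.leaf 0x0)
(.leaf 0x0))
(.node 9463 (.leaf 0x0)
(.leaf 0x0))))
(.node 9468 (.node 9466 (.node 9465 (.leaf 0x0)
(.leaf 0x0))
(.node 9467 (.leaf 0x0)
(.leaf 0x0)))
(.node 9470 (.node 9469 (.leaf 0x0)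
(.leaf 0x0))
(.node 9471 (.leaf 0x0)
(.leaf 0x0)))))))))

/-- part of a trie -/
def codePart37 : Tr :=
(.node 9600 (.node 9536 (.node 9504 (.node 9488 (.node 9480 (.node 9476 (.node 9474 (.node 9473 (.leaf 0x0)
(.leaf 0x0))
(.node 9475 (.leaf 0x0)
(.leaf 0x0)))
(.node 9478 (.node 9477 (.leaf 0x0)
(.leaf 0x0))
(.node 9479 (.leaf 0x0)
(.leaf 0x0))))
(.node 9484 (.node 9482 (.node 9481 (.leaf 0x0)
(.leaf 0x0))
(.node 9483 (.leaf 0x0)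
(.leaf 0x0)))
(.node 9486 (.node 9485 (.leaf 0x0)
(.leaf 0x0))
(.node 9487 (.leaf 0x0)
(.leaf 0x0)))))
(.node 9496 (.node 9492 (.node 9490 (.node 9489 (.leaf 0x0)
(.leaf 0x0))
(.node 9491 (.leaf 0x0)
(.leaf 0x0)))
(.node 9494 (.node 9493 (.leaf 0x0)
(.leaf 0x0))
(.node 9495 (.leaf 0x0)
(.leaf 0x0))))
(.node 9500 (.node 9498 (.node 9497 (.leaf 0x0)
(.leaf 0x0))
(.node 9499 (.leaf 0x0)
(.leaf 0x0)))
(.node 9502 (.node 9501 (.leaf 0x0)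
(.leaf 0x0))
(.node 9503 (.leaf 0x0)
(.leaf 0x0))))))
(.node 9520 (.node 9512 (.node 9508 (.node 9506 (.node 9505 (.leaf 0x0)
(.leaf 0x0))
(.node 9507 (.leaf 0x0)
(.leaf 0x0)))
(.node 9510 (.node 9509 (.leaf 0x0)
(.leaf 0x0))
(.node 9511 (.leaf 0x0)
(.leaf 0x0))))
(.node 9516 (.node 9514 (.node 9513 (.leaf 0x0)
(.leaf 0x0))
(.node 9515 (.leaf 0x0)
(.leaf 0x0)))
(.node 9518 (.node 9517 (.leaf 0x0)
(.leaf 0x0))
(.node 9519 (.leaf 0x0)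
(.leaf 0x0)))))
(.node 9528 (.node 9524 (.node 9522 (.node 9521 (.leaf 0x0)
(.leaf 0x0))
(.node 9523 (.leaf 0x0)
(.leaf 0x0)))
(.node 9526 (.node 9525 (.leaf 0x0)
(.leaf 0x0))
(.node 9527 (.leaf 0x0)
(.leaf 0x0))))
(.node 9532 (.node 9530 (.node 9529 (.leaf 0x0)
(.leaf 0x0))
(.node 9531 (.leaf 0x0)
(.leaf 0x0)))
(.node 9534 (.node 9533 (.leaf 0x0)
(.leaf 0x0))
(.node 9535 (.leaf 0x0)
(.leaf 0x0)))))))
(.node 9568 (.node 9552 (.node 9544 (.node 9540 (.node 9538 (.node 9537 (.leaf 0x0)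
(.leaf 0x0))
(.node 9539 (.leaf 0x0)
(.leaf 0x0)))
(.node 9542 (.node 9541 (.leaf 0x0)
(.leaf 0x0))
(.node 9543 (.leaf 0x0)
(.leaf 0x0))))
(.node 9548 (.node 9546 (.node 9545 (.leaf 0x0)
(.leaf 0x0))
(.node 9547 (.leaf 0x0)
(.leaf 0x0)))
(.node 9550 (.node 9549 (.leaf 0x0)
(.leaf 0x0))
(.node 9551 (.leaf 0x0)
(.leaf 0x0)))))
(.node 9560 (.node 9556 (.node 9554 (.node 9553 (.leaf 0x0)
(.leaf 0x0))
(.node 9555 (.leaf 0x0)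
(.leaf 0x0)))
(.node 9558 (.node 9557 (.leaf 0x0)
(.leaf 0x0))
(.node 9559 (.leaf 0x0)
(.leaf 0x0))))
(.node 9564 (.node 9562 (.node 9561 (.leaf 0x0)
(.leaf 0x0))
(.node 9563 (.leaf 0x0)
(.leaf 0x0)))
(.node 9566 (.node 9565 (.leaf 0x0)
(.leaf 0x0))
(.node 9567 (.leaf 0x0)
(.leaf 0x0))))))
(.node 9584 (.node 9576 (.node 9572 (.node 9570 (.node 9569 (.leaf 0x0)
(.leaf 0x0))
(.node 9571 (.leaf 0x0)
(.leaf 0x0)))
(.node 9574 (.node 9573 (.leaf 0x0)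
(.leaf 0x0))
(.node 9575 (.leaf 0x0)
(.leaf 0x0))))
(.node 9580 (.node 9578 (.node 9577 (.leaf 0x0)
(.leaf 0x0))
(.node 9579 (.leaf 0x0)
(.leaf 0x0)))
(.node 9582 (.node 9581 (.leaf 0x0)
(.leaf 0x0))
(.node 9583 (.leaf 0x0)
(.leaf 0x0)))))
(.node 9592 (.node 9588 (.node 9586 (.node 9585 (.leaf 0x0)
(.leaf 0x0))
(.node 9587 (.leaf 0x0)
(.leaf 0x0)))
(.node 9590 (.node 9589 (.leaf 0x0)
(.leaf 0x0))
(.node 9591 (.leaf 0x0)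
(.leaf 0x0))))
(.node 9596 (.node 9594 (.node 9593 (.leaf 0x0)
(.leaf 0x0))
(.node 9595 (.leaf 0x0)
(.leaf 0x0)))
(.node 9598 (.node 9597 (.leaf 0x0)
(.leaf 0x0))
(.node 9599 (.leaf 0x0)
(.leaf 0x0))))))))
(.node 9664 (.node 9632 (.node 9616 (.node 9608 (.node 9604 (.node 9602 (.node 9601 (.leaf 0x0)
(.leaf 0x0))
(.node 9603 (.leaf 0x0)
(.leaf 0x0)))
(.node 9606 (.node 9605 (.leaf 0x0)
(.leaf 0x0))
(.node 9607 (.leaf 0x0)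
(.leaf 0x0))))
(.node 9612 (.node 9610 (.node 9609 (.leaf 0x0)
(.leaf 0x0))
(.node 9611 (.leaf 0x0)
(.leaf 0x0)))
(.node 9614 (.node 9613 (.leaf 0x0)
(.leaf 0x0))
(.node 9615 (.leaf 0x0)
(.leaf 0x0)))))
(.node 9624 (.node 9620 (.node 9618 (.node 9617 (.leaf 0x0)
(.leaf 0x0))
(.node 9619 (.leaf 0x0)
(.leaf 0x0)))
(.node 9622 (.node 9621 (.leaf 0x0)
(.leaf 0x0))
(.node 9623 (.leaf 0x0)
(.leaf 0x0))))
(.node 9628 (.node 9626 (.node 9625 (.leaf 0x0)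
(.leaf 0x0))
(.node 9627 (.leaf 0x0)
(.leaf 0x0)))
(.node 9630 (.node 9629 (.leaf 0x0)
(.leaf 0x0))
(.node 9631 (.leaf 0x0)
(.leaf 0x0))))))
(.node 9648 (.node 9640 (.node 9636 (.node 9634 (.node 9633 (.leaf 0x0)
(.leaf 0x0))
(.node 9635 (.leaf 0x0)
(.leaf 0x0)))
(.node 9638 (.node 9637 (.leaf 0x0)
(.leaf 0x0))
(.node 9639 (.leaf 0x0)
(.leaf 0x0))))
(.node 9644 (.node 9642 (.node 9641 (.leaf 0x0)
(.leaf 0x0))
(.node 9643 (.leaf 0x0)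
(.leaf 0x0)))
(.node 9646 (.node 9645 (.leaf 0x0)
(.leaf 0x0))
(.node 9647 (.leaf 0x0)
(.leaf 0x0)))))
(.node 9656 (.node 9652 (.node 9650 (.node 9649 (.leaf 0x0)
(.leaf 0x0))
(.node 9651 (.leaf 0x0)
(.leaf 0x0)))
(.node 9654 (.node 9653 (.leaf 0x0)
(.leaf 0x0))
(.node 9655 (.leaf 0x0)
(.leaf 0x0))))
(.node 9660 (.node 9658 (.node 9657 (.leaf 0x0)
(.leaf 0x0))
(.node 9659 (.leaf 0x0)
(.leaf 0x0)))
(.node 9662 (.node 9661 (.leaf 0x0)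
(.leaf 0x0))
(.node 9663 (.leaf 0x0)
(.leaf 0x0)))))))
(.node 9696 (.node 9680 (.node 9672 (.node 9668 (.node 9666 (.node 9665 (.leaf 0x0)
(.leaf 0x0))
(.node 9667 (.leaf 0x0)
(.leaf 0x0)))
(.node 9670 (.node 9669 (.leaf 0x0)
(.leaf 0x0))
(.node 9671 (.leaf 0x0)
(.leaf 0x0))))
(.node 9676 (.node 9674 (.node 9673 (.leaf 0x0)
(.leaf 0x0))
(.node 9675 (.leaf 0x0)
(.leaf 0x0)))
(.node 9678 (.node 9677 (.leaf 0x0)
(.leaf 0x0))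
(.node 9679 (.leaf 0x0)
(.leaf 0x0)))))
(.node 9688 (.node 9684 (.node 9682 (.node 9681 (.leaf 0x0)
(.leaf 0x0))
(.node 9683 (.leaf 0x0)
(.leaf 0x0)))
(.node 9686 (.node 9685 (.leaf 0x0)
(.leaf 0x0))
(.node 9687 (.leaf 0x0)
(.leaf 0x0))))
(.node 9692 (.node 9690 (.node 9689 (.leaf 0x0)
(.leaf 0x0))
(.node 9691 (.leaf 0x0)
(.leaf 0x0)))
(.node 9694 (.node 9693 (.leaf 0x0)
(.leaf 0x0))
(.node 9695 (.leaf 0x0)
(.leaf 0x0))))))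
(.node 9712 (.node 9704 (.node 9700 (.node 9698 (.node 9697 (.leaf 0x0)
(.leaf 0x0))
(.node 9699 (.leaf 0x0)
(.leaf 0x0)))
(.node 9702 (.node 9701 (.leaf 0x0)
(.leaf 0x0))
(.node 9703 (.leaf 0x0)
(.leaf 0x0))))
(.node 9708 (.node 9706 (.node 9705 (.leaf 0x0)
(.leaf 0x0))
(.node 9707 (.leaf 0x0)
(.leaf 0x0)))
(.node 9710 (.node 9709 (.leaf 0x0)
(.leaf 0x0))
(.node 9711 (.leaf 0x0)
(.leaf 0x0)))))
(.node 9720 (.node 9716 (.node 9714 (.node 9713 (.leaf 0x0)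
(.leaf 0x0))
(.node 9715 (.leaf 0x0)
(.leaf 0x0)))
(.node 9718 (.node 9717 (.leaf 0x0)
(.leaf 0x0))
(.node 9719 (.leaf 0x0)
(.leaf 0x0))))
(.node 9724 (.node 9722 (.node 9721 (.leaf 0x0)
(.leaf 0x0))
(.node 9723 (.leaf 0x0)
(.leaf 0x0)))
(.node 9726 (.node 9725 (.leaf 0x0)
(.leaf 0x0))
(.node 9727 (.leaf 0x0)
(.leaf 0x0)))))))))

/-- part of a trie -/
def codePart38 : Tr :=
(.node 9856 (.node 9792 (.node 9760 (.node 9744 (.node 9736 (.node 9732 (.node 9730 (.node 9729 (.leaf 0x0)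
(.leaf 0x0))
(.node 9731 (.leaf 0x0)
(.leaf 0x0)))
(.node 9734 (.node 9733 (.leaf 0x0)
(.leaf 0x0))
(.node 9735 (.leaf 0x0)
(.leaf 0x0))))
(.node 9740 (.node 9738 (.node 9737 (.leaf 0x0)
(.leaf 0x0))
(.node 9739 (.leaf 0x0)
(.leaf 0x0)))
(.node 9742 (.node 9741 (.leaf 0x0)
(.leaf 0x0))
(.node 9743 (.leaf 0x0)
(.leaf 0x0)))))
(.node 9752 (.node 9748 (.node 9746 (.node 9745 (.leaf 0x0)
(.leaf 0x0))
(.node 9747 (.leaf 0x0)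
(.leaf 0x0)))
(.node 9750 (.node 9749 (.leaf 0x0)
(.leaf 0x0))
(.node 9751 (.leaf 0x0)
(.leaf 0x0))))
(.node 9756 (.node 9754 (.node 9753 (.leaf 0x0)
(.leaf 0x0))
(.node 9755 (.leaf 0x0)
(.leaf 0x0)))
(.node 9758 (.node 9757 (.leaf 0x0)
(.leaf 0x0))
(.node 9759 (.leaf 0x0)
(.leaf 0x0))))))
(.node 9776 (.node 9768 (.node 9764 (.node 9762 (.node 9761 (.leaf 0x0)
(.leaf 0x0))
(.node 9763 (.leaf 0x0)
(.leaf 0x0)))
(.node 9766 (.node 9765 (.leaf 0x0)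
(.leaf 0x0))
(.node 9767 (.leaf 0x0)
(.leaf 0x0))))
(.node 9772 (.node 9770 (.node 9769 (.leaf 0x0)
(.leaf 0x0))
(.node 9771 (.leaf 0x0)
(.leaf 0x0)))
(.node 9774 (.node 9773 (.leaf 0x0)
(.leaf 0x0))
(.node 9775 (.leaf 0x0)
(.leaf 0x0)))))
(.node 9784 (.node 9780 (.node 9778 (.node 9777 (.leaf 0x0)
(.leaf 0x0))
(.node 9779 (.leaf 0x0)
(.leaf 0x0)))
(.node 9782 (.node 9781 (.leaf 0x0)
(.leaf 0x0))
(.node 9783 (.leaf 0x0)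
(.leaf 0x0))))
(.node 9788 (.node 9786 (.node 9785 (.leaf 0x0)
(.leaf 0x0))
(.node 9787 (.leaf 0x0)
(.leaf 0x0)))
(.node 9790 (.node 9789 (.leaf 0x0)
(.leaf 0x0))
(.node 9791 (.leaf 0x0)
(.leaf 0x0)))))))
(.node 9824 (.node 9808 (.node 9800 (.node 9796 (.node 9794 (.node 9793 (.leaf 0x0)
(.leaf 0x0))
(.node 9795 (.leaf 0x0)
(.leaf 0x0)))
(.node 9798 (.node 9797 (.leaf 0x0)
(.leaf 0x0))
(.node 9799 (.leaf 0x0)
(.leaf 0x0))))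
(.node 9804 (.node 9802 (.node 9801 (.leaf 0x0)
(.leaf 0x0))
(.node 9803 (.leaf 0x0)
(.leaf 0x0)))
(.node 9806 (.node 9805 (.leaf 0x0)
(.leaf 0x0))
(.node 9807 (.leaf 0x0)
(.leaf 0x0)))))
(.node 9816 (.node 9812 (.node 9810 (.node 9809 (.leaf 0x0)
(.leaf 0x0))
(.node 9811 (.leaf 0x0)
(.leaf 0x0)))
(.node 9814 (.node 9813 (.leaf 0x0)
(.leaf 0x0))
(.node 9815 (.leaf 0x0)
(.leaf 0x0))))
(.node 9820 (.node 9818 (.node 9817 (.leaf 0x0)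
(.leaf 0x0))
(.node 9819 (.leaf 0x0)
(.leaf 0x0)))
(.node 9822 (.node 9821 (.leaf 0x0)
(.leaf 0x0))
(.node 9823 (.leaf 0x0)
(.leaf 0x0))))))
(.node 9840 (.node 9832 (.node 9828 (.node 9826 (.node 9825 (.leaf 0x0)
(.leaf 0x0))
(.node 9827 (.leaf 0x0)
(.leaf 0x0)))
(.node 9830 (.node 9829 (.leaf 0x0)
(.leaf 0x0))
(.node 9831 (.leaf 0x0)
(.leaf 0x0))))
(.node 9836 (.node 9834 (.node 9833 (.leaf 0x0)
(.leaf 0x0))
(.node 9835 (.leaf 0x0)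
(.leaf 0x0)))
(.node 9838 (.node 9837 (.leaf 0x0)
(.leaf 0x0))
(.node 9839 (.leaf 0x0)
(.leaf 0x0)))))
(.node 9848 (.node 9844 (.node 9842 (.node 9841 (.leaf 0x0)
(.leaf 0x0))
(.node 9843 (.leaf 0x0)
(.leaf 0x0)))
(.node 9846 (.node 9845 (.leaf 0x0)
(.leaf 0x0))
(.node 9847 (.leaf 0x0)
(.leaf 0x0))))
(.node 9852 (.node 9850 (.node 9849 (.leaf 0x0)
(.leaf 0x0))
(.node 9851 (.leaf 0x0)
(.leaf 0x0)))
(.node 9854 (.node 9853 (.leaf 0x0)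
(.leaf 0x0))
(.node 9855 (.leaf 0x0)
(.leaf 0x0))))))))
(.node 9920 (.node 9888 (.node 9872 (.node 9864 (.node 9860 (.node 9858 (.node 9857 (.leaf 0x0)
(.leaf 0x0))
(.node 9859 (.leaf 0x0)
(.leaf 0x0)))
(.node 9862 (.node 9861 (.leaf 0x0)
(.leaf 0x0))
(.node 9863 (.leaf 0x0)
(.leaf 0x0))))
(.node 9868 (.node 9866 (.node 9865 (.leaf 0x0)
(.leaf 0x0))
(.node 9867 (.leaf 0x0)
(.leaf 0x0)))
(.node 9870 (.node 9869 (.leaf 0x0)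
(.leaf 0x0))
(.node 9871 (.leaf 0x0)
(.leaf 0x0)))))
(.node 9880 (.node 9876 (.node 9874 (.node 9873 (.leaf 0x0)
(.leaf 0x0))
(.node 9875 (.leaf 0x0)
(.leaf 0x0)))
(.node 9878 (.node 9877 (.leaf 0x0)
(.leaf 0x0))
(.node 9879 (.leaf 0x0)
(.leaf 0x0))))
(.node 9884 (.node 9882 (.node 9881 (.leaf 0x0)
(.leaf 0x0))
(.node 9883 (.leaf 0x0)
(.leaf 0x0)))
(.node 9886 (.node 9885 (.leaf 0x0)
(.leaf 0x0))
(.node 9887 (.leaf 0x0)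
(.leaf 0x0))))))
(.node 9904 (.node 9896 (.node 9892 (.node 9890 (.node 9889 (.leaf 0x0)
(.leaf 0x0))
(.node 9891 (.leaf 0x0)
(.leaf 0x0)))
(.node 9894 (.node 9893 (.leaf 0x0)
(.leaf 0x0))
(.node 9895 (.leaf 0x0)
(.leaf 0x0))))
(.node 9900 (.node 9898 (.node 9897 (.leaf 0x0)
(.leaf 0x0))
(.node 9899 (.leaf 0x0)
(.leaf 0x0)))
(.node 9902 (.node 9901 (.leaf 0x0)
(.leaf 0x0))
(.node 9903 (.leaf 0x0)
(.leaf 0x0)))))
(.node 9912 (.node 9908 (.node 9906 (.node 9905 (.leaf 0x0)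
(.leaf 0x0))
(.node 9907 (.leaf 0x0)
(.leaf 0x0)))
(.node 9910 (.node 9909 (.leaf 0x0)
(.leaf 0x0))
(.node 9911 (.leaf 0x0)
(.leaf 0x0))))
(.node 9916 (.node 9914 (.node 9913 (.leaf 0x0)
(.leaf 0x0))
(.node 9915 (.leaf 0x0)
(.leaf 0x0)))
(.node 9918 (.node 9917 (.leaf 0x0)
(.leaf 0x0))
(.node 9919 (.leaf 0x0)
(.leaf 0x0)))))))
(.node 9952 (.node 9936 (.node 9928 (.node 9924 (.node 9922 (.node 9921 (.leaf 0x0)
(.leaf 0x0))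
(.node 9923 (.leaf 0x0)
(.leaf 0x0)))
(.node 9926 (.node 9925 (.leaf 0x0)
(.leaf 0x0))
(.node 9927 (.leaf 0x0)
(.leaf 0x0))))
(.node 9932 (.node 9930 (.node 9929 (.leaf 0x0)
(.leaf 0x0))
(.node 9931 (.leaf 0x0)
(.leaf 0x0)))
(.node 9934 (.node 9933 (.leaf 0x0)
(.leaf 0x0))
(.node 9935 (.leaf 0x0)
(.leaf 0x0)))))
(.node 9944 (.node 9940 (.node 9938 (.node 9937 (.leaf 0x0)
(.leaf 0x0))
(.node 9939 (.leaf 0x0)
(.leaf 0x0)))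
(.node 9942 (.node 9941 (.leaf 0x0)
(.leaf 0x0))
(.node 9943 (.leaf 0x0)
(.leaf 0x0))))
(.node 9948 (.node 9946 (.node 9945 (.leaf 0x0)
(.leaf 0x0))
(.node 9947 (.leaf 0x0)
(.leaf 0x0)))
(.node 9950 (.node 9949 (.leaf 0x0)
(.leaf 0x0))
(.node 9951 (.leaf 0x0)
(.leaf 0x0))))))
(.node 9968 (.node 9960 (.node 9956 (.node 9954 (.node 9953 (.leaf 0x0)
(.leaf 0x0))
(.node 9955 (.leaf 0x0)
(.leaf 0x0)))
(.node 9958 (.node 9957 (.leaf 0x0)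
(.leaf 0x0))
(.node 9959 (.leaf 0x0)
(.leaf 0x0))))
(.node 9964 (.node 9962 (.node 9961 (.leaf 0x0)
(.leaf 0x0))
(.node 9963 (.leaf 0x0)
(.leaf 0x0)))
(.node 9966 (.node 9965 (.leaf 0x0)
(.leaf 0x0))
(.node 9967 (.leaf 0x0)
(.leaf 0x0)))))
(.node 9976 (.node 9972 (.node 9970 (.node 9969 (.leaf 0x0)
(.leaf 0x0))
(.node 9971 (.leaf 0x0)
(.leaf 0x0)))
(.node 9974 (.node 9973 (.leaf 0x0)
(.leaf 0x0))
(.node 9975 (.leaf 0x0)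
(.leaf 0x0))))
(.node 9980 (.node 9978 (.node 9977 (.leaf 0x0)
(.leaf 0x0))
(.node 9979 (.leaf 0x0)
(.leaf 0x0)))
(.node 9982 (.node 9981 (.leaf 0x0)
(.leaf 0x0))
(.node 9983 (.leaf 0x0)
(.leaf 0x0)))))))))

/-- part of a trie -/
def codePart39 : Tr :=
(.node 10112 (.node 10048 (.node 10016 (.node 10000 (.node 9992 (.node 9988 (.node 9986 (.node 9985 (.leaf 0x0)
(.leaf 0x0))
(.node 9987 (.leaf 0x0)
(.leaf 0x0)))
(.node 9990 (.node 9989 (.leaf 0x0)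
(.leaf 0x0))
(.node 9991 (.leaf 0x0)
(.leaf 0x0))))
(.node 9996 (.node 9994 (.node 9993 (.leaf 0x0)
(.leaf 0x0))
(.node 9995 (.leaf 0x0)
(.leaf 0x0)))
(.node 9998 (.node 9997 (.leaf 0x0)
(.leaf 0x0))
(.node 9999 (.leaf 0x0)
(.leaf 0x0)))))
(.node 10008 (.node 10004 (.node 10002 (.node 10001 (.leaf 0x0)
(.leaf 0x0))
(.node 10003 (.leaf 0x0)
(.leaf 0x0)))
(.node 10006 (.node 10005 (.leaf 0x0)
(.leaf 0x0))
(.node 10007 (.leaf 0x0)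
(.leaf 0x0))))
(.node 10012 (.node 10010 (.node 10009 (.leaf 0x0)
(.leaf 0x0))
(.node 10011 (.leaf 0x0)
(.leaf 0x0)))
(.node 10014 (.node 10013 (.leaf 0x0)
(.leaf 0x0))
(.node 10015 (.leaf 0x0)
(.leaf 0x0))))))
(.node 10032 (.node 10024 (.node 10020 (.node 10018 (.node 10017 (.leaf 0x0)
(.leaf 0x0))
(.node 10019 (.leaf 0x0)
(.leaf 0x0)))
(.node 10022 (.node 10021 (.leaf 0x0)
(.leaf 0x0))
(.node 10023 (.leaf 0x0)
(.leaf 0x0))))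
(.node 10028 (.node 10026 (.node 10025 (.leaf 0x0)
(.leaf 0x0))
(.node 10027 (.leaf 0x0)
(.leaf 0x0)))
(.node 10030 (.node 10029 (.leaf 0x0)
(.leaf 0x0))
(.node 10031 (.leaf 0x0)
(.leaf 0x0)))))
(.node 10040 (.node 10036 (.node 10034 (.node 10033 (.leaf 0x0)
(.leaf 0x0))
(.node 10035 (.leaf 0x0)
(.leaf 0x0)))
(.node 10038 (.node 10037 (.leaf 0x0)
(.leaf 0x0))
(.node 10039 (.leaf 0x0)
(.leaf 0x0))))
(.node 10044 (.node 10042 (.node 10041 (.leaf 0x0)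
(.leaf 0x0))
(.node 10043 (.leaf 0x0)
(.leaf 0x0)))
(.node 10046 (.node 10045 (.leaf 0x0)
(.leaf 0x0))
(.node 10047 (.leaf 0x0)
(.leaf 0x0)))))))
(.node 10080 (.node 10064 (.node 10056 (.node 10052 (.node 10050 (.node 10049 (.leaf 0x0)
(.leaf 0x0))
(.node 10051 (.leaf 0x0)
(.leaf 0x0)))
(.node 10054 (.node 10053 (.leaf 0x0)
(.leaf 0x0))
(.node 10055 (.leaf 0x0)
(.leaf 0x0))))
(.node 10060 (.node 10058 (.node 10057 (.leaf 0x0)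
(.leaf 0x0))
(.node 10059 (.leaf 0x0)
(.leaf 0x0)))
(.node 10062 (.node 10061 (.leaf 0x0)
(.leaf 0x0))
(.node 10063 (.leaf 0x0)
(.leaf 0x0)))))
(.node 10072 (.node 10068 (.node 10066 (.node 10065 (.leaf 0x0)
(.leaf 0x0))
(.node 10067 (.leaf 0x0)
(.leaf 0x0)))
(.node 10070 (.node 10069 (.leaf 0x0)
(.leaf 0x0))
(.node 10071 (.leaf 0x0)
(.leaf 0x0))))
(.node 10076 (.node 10074 (.node 10073 (.leaf 0x0)
(.leaf 0x0))
(.node 10075 (.leaf 0x0)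
(.leaf 0x0)))
(.node 10078 (.node 10077 (.leaf 0x0)
(.leaf 0x0))
(.node 10079 (.leaf 0x0)
(.leaf 0x0))))))
(.node 10096 (.node 10088 (.node 10084 (.node 10082 (.node 10081 (.leaf 0x0)
(.leaf 0x0))
(.node 10083 (.leaf 0x0)
(.leaf 0x0)))
(.node 10086 (.node 10085 (.leaf 0x0)
(.leaf 0x0))
(.node 10087 (.leaf 0x0)
(.leaf 0x0))))
(.node 10092 (.node 10090 (.node 10089 (.leaf 0x0)
(.leaf 0x0))
(.node 10091 (.leaf 0x0)
(.leaf 0x0)))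
(.node 10094 (.node 10093 (.leaf 0x0)
(.leaf 0x0))
(.node 10095 (.leaf 0x0)
(.leaf 0x0)))))
(.node 10104 (.node 10100 (.node 10098 (.node 10097 (.leaf 0x0)
(.leaf 0x0))
(.node 10099 (.leaf 0x0)
(.leaf 0x0)))
(.node 10102 (.node 10101 (.leaf 0x0)
(.leaf 0x0))
(.node 10103 (.leaf 0x0)
(.leaf 0x0))))
(.node 10108 (.node 10106 (.node 10105 (.leaf 0x0)
(.leaf 0x0))
(.node 10107 (.leaf 0x0)
(.leaf 0x0)))
(.node 10110 (.node 10109 (.leaf 0x0)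
(.leaf 0x0))
(.node 10111 (.leaf 0x0)
(.leaf 0x0))))))))
(.node 10176 (.node 10144 (.node 10128 (.node 10120 (.node 10116 (.node 10114 (.node 10113 (.leaf 0x0)
(.leaf 0x0))
(.node 10115 (.leaf 0x0)
(.leaf 0x0)))
(.node 10118 (.node 10117 (.leaf 0x0)
(.leaf 0x0))
(.node 10119 (.leaf 0x0)
(.leaf 0x0))))
(.node 10124 (.node 10122 (.node 10121 (.leaf 0x0)
(.leaf 0x0))
(.node 10123 (.leaf 0x0)
(.leaf 0x0)))
(.node 10126 (.node 10125 (.leaf 0x0)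
(.leaf 0x0))
(.node 10127 (.leaf 0x0)
(.leaf 0x0)))))
(.node 10136 (.node 10132 (.node 10130 (.node 10129 (.leaf 0x0)
(.leaf 0x0))
(.node 10131 (.leaf 0x0)
(.leaf 0x0)))
(.node 10134 (.node 10133 (.leaf 0x0)
(.leaf 0x0))
(.node 10135 (.leaf 0x0)
(.leaf 0x0))))
(.node 10140 (.node 10138 (.node 10137 (.leaf 0x0)
(.leaf 0x0))
(.node 10139 (.leaf 0x0)
(.leaf 0x0)))
(.node 10142 (.node 10141 (.leaf 0x0)
(.leaf 0x0))
(.node 10143 (.leaf 0x0)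
(.leaf 0x0))))))
(.node 10160 (.node 10152 (.node 10148 (.node 10146 (.node 10145 (.leaf 0x0)
(.leaf 0x0))
(.node 10147 (.leaf 0x0)
(.leaf 0x0)))
(.node 10150 (.node 10149 (.leaf 0x0)
(.leaf 0x0))
(.node 10151 (.leaf 0x0)
(.leaf 0x0))))
(.node 10156 (.node 10154 (.node 10153 (.leaf 0x0)
(.leaf 0x0))
(.node 10155 (.leaf 0x0)
(.leaf 0x0)))
(.node 10158 (.node 10157 (.leaf 0x0)
(.leaf 0x0))
(.node 10159 (.leaf 0x0)
(.leaf 0x0)))))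
(.node 10168 (.node 10164 (.node 10162 (.node 10161 (.leaf 0x0)
(.leaf 0x0))
(.node 10163 (.leaf 0x0)
(.leaf 0x0)))
(.node 10166 (.node 10165 (.leaf 0x0)
(.leaf 0x0))
(.node 10167 (.leaf 0x0)
(.leaf 0x0))))
(.node 10172 (.node 10170 (.node 10169 (.leaf 0x0)
(.leaf 0x0))
(.node 10171 (.leaf 0x0)
(.leaf 0x0)))
(.node 10174 (.node 10173 (.leaf 0x0)
(.leaf 0x0))
(.node 10175 (.leaf 0x0)
(.leaf 0x0)))))))
(.node 10208 (.node 10192 (.node 10184 (.node 10180 (.node 10178 (.node 10177 (.leaf 0x0)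
(.leaf 0x0))
(.node 10179 (.leaf 0x0)
(.leaf 0x0)))
(.node 10182 (.node 10181 (.leaf 0x0)
(.leaf 0x0))
(.node 10183 (.leaf 0x0)
(.leaf 0x0))))
(.node 10188 (.node 10186 (.node 10185 (.leaf 0x0)
(.leaf 0x0))
(.node 10187 (.leaf 0x0)
(.leaf 0x0)))
(.node 10190 (.node 10189 (.leaf 0x0)
(.leaf 0x0))
(.node 10191 (.leaf 0x0)
(.leaf 0x0)))))
(.node 10200 (.node 10196 (.node 10194 (.node 10193 (.leaf 0x0)
(.leaf 0x0))
(.node 10195 (.leaf 0x0)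
(.leaf 0x0)))
(.node 10198 (.node 10197 (.leaf 0x0)
(.leaf 0x0))
(.node 10199 (.leaf 0x0)
(.leaf 0x0))))
(.node 10204 (.node 10202 (.node 10201 (.leaf 0x0)
(.leaf 0x0))
(.node 10203 (.leaf 0x0)
(.leaf 0x0)))
(.node 10206 (.node 10205 (.leaf 0x0)
(.leaf 0x0))
(.node 10207 (.leaf 0x0)
(.leaf 0x0))))))
(.node 10224 (.node 10216 (.node 10212 (.node 10210 (.node 10209 (.leaf 0x0)
(.leaf 0x0))
(.node 10211 (.leaf 0x0)
(.leaf 0x0)))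
(.node 10214 (.node 10213 (.leaf 0x0)
(.leaf 0x0))
(.node 10215 (.leaf 0x0)
(.leaf 0x0))))
(.node 10220 (.node 10218 (.node 10217 (.leaf 0x0)
(.leaf 0x0))
(.node 10219 (.leaf 0x0)
(.leaf 0x0)))
(.node 10222 (.node 10221 (.leaf 0x0)
(.leaf 0x0))
(.node 10223 (.leaf 0x0)
(.leaf 0x0)))))
(.node 10232 (.node 10228 (.node 10226 (.node 10225 (.leaf 0x0)
(.leaf 0x0))
(.node 10227 (.leaf 0x0)
(.leaf 0x0)))
(.node 10230 (.node 10229 (.leaf 0x0)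
(.leaf 0x0))
(.node 10231 (.leaf 0x0)
(.leaf 0x0))))
(.node 10236 (.node 10234 (.node 10233 (.leaf 0x0)
(.leaf 0x0))
(.node 10235 (.leaf 0x0)
(.leaf 0x0)))
(.node 10238 (.node 10237 (.leaf 0x0)
(.leaf 0x0))
(.node 10239 (.leaf 0x0)
(.leaf 0x0)))))))))

/-- part of a trie -/
def codePart40 : Tr :=
(.node 10368 (.node 10304 (.node 10272 (.node 10256 (.node 10248 (.node 10244 (.node 10242 (.node 10241 (.leaf 0x0)
(.leaf 0x0))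
(.node 10243 (.leaf 0x0)
(.leaf 0x0)))
(.node 10246 (.node 10245 (.leaf 0x0)
(.leaf 0x0))
(.node 10247 (.leaf 0x0)
(.leaf 0x0))))
(.node 10252 (.node 10250 (.node 10249 (.leaf 0x0)
(.leaf 0x0))
(.node 10251 (.leaf 0x0)
(.leaf 0x0)))
(.node 10254 (.node 10253 (.leaf 0x0)
(.leaf 0x0))
(.node 10255 (.leaf 0x0)
(.leaf 0x0)))))
(.node 10264 (.node 10260 (.node 10258 (.node 10257 (.leaf 0x0)
(.leaf 0x0))
(.node 10259 (.leaf 0x0)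
(.leaf 0x0)))
(.node 10262 (.node 10261 (.leaf 0x0)
(.leaf 0x0))
(.node 10263 (.leaf 0x0)
(.leaf 0x0))))
(.node 10268 (.node 10266 (.node 10265 (.leaf 0x0)
(.leaf 0x0))
(.node 10267 (.leaf 0x0)
(.leaf 0x0)))
(.node 10270 (.node 10269 (.leaf 0x0)
(.leaf 0x0))
(.node 10271 (.leaf 0x0)
(.leaf 0x0))))))
(.node 10288 (.node 10280 (.node 10276 (.node 10274 (.node 10273 (.leaf 0x0)
(.leaf 0x0))
(.node 10275 (.leaf 0x0)
(.leaf 0x0)))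
(.node 10278 (.node 10277 (.leaf 0x0)
(.leaf 0x0))
(.node 10279 (.leaf 0x0)
(.leaf 0x0))))
(.node 10284 (.node 10282 (.node 10281 (.leaf 0x0)
(.leaf 0x0))
(.node 10283 (.leaf 0x0)
(.leaf 0x0)))
(.node 10286 (.node 10285 (.leaf 0x0)
(.leaf 0x0))
(.node 10287 (.leaf 0x0)
(.leaf 0x0)))))
(.node 10296 (.node 10292 (.node 10290 (.node 10289 (.leaf 0x0)
(.leaf 0x0))
(.node 10291 (.leaf 0x0)
(.leaf 0x0)))
(.node 10294 (.node 10293 (.leaf 0x0)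
(.leaf 0x0))
(.node 10295 (.leaf 0x0)
(.leaf 0x0))))
(.node 10300 (.node 10298 (.node 10297 (.leaf 0x0)
(.leaf 0x0))
(.node 10299 (.leaf 0x0)
(.leaf 0x0)))
(.node 10302 (.node 10301 (.leaf 0x0)
(.leaf 0x0))
(.node 10303 (.leaf 0x0)
(.leaf 0x0)))))))
(.node 10336 (.node 10320 (.node 10312 (.node 10308 (.node 10306 (.node 10305 (.leaf 0x0)
(.leaf 0x0))
(.node 10307 (.leaf 0x0)
(.leaf 0x0)))
(.node 10310 (.node 10309 (.leaf 0x0)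
(.leaf 0x0))
(.node 10311 (.leaf 0x0)
(.leaf 0x0))))
(.node 10316 (.node 10314 (.node 10313 (.leaf 0x0)
(.leaf 0x0))
(.node 10315 (.leaf 0x0)
(.leaf 0x0)))
(.node 10318 (.node 10317 (.leaf 0x0)
(.leaf 0x0))
(.node 10319 (.leaf 0x0)
(.leaf 0x0)))))
(.node 10328 (.node 10324 (.node 10322 (.node 10321 (.leaf 0x0)
(.leaf 0x0))
(.node 10323 (.leaf 0x0)
(.leaf 0x0)))
(.node 10326 (.node 10325 (.leaf 0x0)
(.leaf 0x0))
(.node 10327 (.leaf 0x0)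
(.leaf 0x0))))
(.node 10332 (.node 10330 (.node 10329 (.leaf 0x0)
(.leaf 0x0))
(.node 10331 (.leaf 0x0)
(.leaf 0x0)))
(.node 10334 (.node 10333 (.leaf 0x0)
(.leaf 0x0))
(.node 10335 (.leaf 0x0)
(.leaf 0x0))))))
(.node 10352 (.node 10344 (.node 10340 (.node 10338 (.node 10337 (.leaf 0x0)
(.leaf 0x0))
(.node 10339 (.leaf 0x0)
(.leaf 0x0)))
(.node 10342 (.node 10341 (.leaf 0x0)
(.leaf 0x0))
(.node 10343 (.leaf 0x0)
(.leaf 0x0))))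
(.node 10348 (.node 10346 (.node 10345 (.leaf 0x0)
(.leaf 0x0))
(.node 10347 (.leaf 0x0)
(.leaf 0x0)))
(.node 10350 (.node 10349 (.leaf 0x0)
(.leaf 0x0))
(.node 10351 (.leaf 0x0)
(.leaf 0x0)))))
(.node 10360 (.node 10356 (.node 10354 (.node 10353 (.leaf 0x0)
(.leaf 0x0))
(.node 10355 (.leaf 0x0)
(.leaf 0x0)))
(.node 10358 (.node 10357 (.leaf 0x0)
(.leaf 0x0))
(.node 10359 (.leaf 0x0)
(.leaf 0x0))))
(.node 10364 (.node 10362 (.node 10361 (.leaf 0x0)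
(.leaf 0x0))
(.node 10363 (.leaf 0x0)
(.leaf 0x0)))
(.node 10366 (.node 10365 (.leaf 0x0)
(.leaf 0x0))
(.node 10367 (.leaf 0x0)
(.leaf 0x0))))))))
(.node 10432 (.node 10400 (.node 10384 (.node 10376 (.node 10372 (.node 10370 (.node 10369 (.leaf 0x0)
(.leaf 0x0))
(.node 10371 (.leaf 0x0)
(.leaf 0x0)))
(.node 10374 (.node 10373 (.leaf 0x0)
(.leaf 0x0))
(.node 10375 (.leaf 0x0)
(.leaf 0x0))))
(.node 10380 (.node 10378 (.node 10377 (.leaf 0x0)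
(.leaf 0x0))
(.node 10379 (.leaf 0x0)
(.leaf 0x0)))
(.node 10382 (.node 10381 (.leaf 0x0)
(.leaf 0x0))
(.node 10383 (.leaf 0x0)
(.leaf 0x0)))))
(.node 10392 (.node 10388 (.node 10386 (.node 10385 (.leaf 0x0)
(.leaf 0x0))
(.node 10387 (.leaf 0x0)
(.leaf 0x0)))
(.node 10390 (.node 10389 (.leaf 0x0)
(.leaf 0x0))
(.node 10391 (.leaf 0x0)
(.leaf 0x0))))
(.node 10396 (.node 10394 (.node 10393 (.leaf 0x0)
(.leaf 0x0))
(.node 10395 (.leaf 0x0)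
(.leaf 0x0)))
(.node 10398 (.node 10397 (.leaf 0x0)
(.leaf 0x0))
(.node 10399 (.leaf 0x0)
(.leaf 0x0))))))
(.node 10416 (.node 10408 (.node 10404 (.node 10402 (.node 10401 (.leaf 0x0)
(.leaf 0x0))
(.node 10403 (.leaf 0x0)
(.leaf 0x0)))
(.node 10406 (.node 10405 (.leaf 0x0)
(.leaf 0x0))
(.node 10407 (.leaf 0x0)
(.leaf 0x0))))
(.node 10412 (.node 10410 (.node 10409 (.leaf 0x0)
(.leaf 0x0))
(.node 10411 (.leaf 0x0)
(.leaf 0x0)))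
(.node 10414 (.node 10413 (.leaf 0x0)
(.leaf 0x0))
(.node 10415 (.leaf 0x0)
(.leaf 0x0)))))
(.node 10424 (.node 10420 (.node 10418 (.node 10417 (.leaf 0x0)
(.leaf 0x0))
(.node 10419 (.leaf 0x0)
(.leaf 0x0)))
(.node 10422 (.node 10421 (.leaf 0x0)
(.leaf 0x0))
(.node 10423 (.leaf 0x0)
(.leaf 0x0))))
(.node 10428 (.node 10426 (.node 10425 (.leaf 0x0)
(.leaf 0x0))
(.node 10427 (.leaf 0x0)
(.leaf 0x0)))
(.node 10430 (.node 10429 (.leaf 0x0)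
(.leaf 0x0))
(.node 10431 (.leaf 0x0)
(.leaf 0x0)))))))
(.node 10464 (.node 10448 (.node 10440 (.node 10436 (.node 10434 (.node 10433 (.leaf 0x0)
(.leaf 0x0))
(.node 10435 (.leaf 0x0)
(.leaf 0x0)))
(.node 10438 (.node 10437 (.leaf 0x0)
(.leaf 0x0))
(.node 10439 (.leaf 0x0)
(.leaf 0x0))))
(.node 10444 (.node 10442 (.node 10441 (.leaf 0x0)
(.leaf 0x0))
(.node 10443 (.leaf 0x0)
(.leaf 0x0)))
(.node 10446 (.node 10445 (.leaf 0x0)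
(.leaf 0x0))
(.node 10447 (.leaf 0x0)
(.leaf 0x0)))))
(.node 10456 (.node 10452 (.node 10450 (.node 10449 (.leaf 0x0)
(.leaf 0x0))
(.node 10451 (.leaf 0x0)
(.leaf 0x0)))
(.node 10454 (.node 10453 (.leaf 0x0)
(.leaf 0x0))
(.node 10455 (.leaf 0x0)
(.leaf 0x0))))
(.node 10460 (.node 10458 (.node 10457 (.leaf 0x0)
(.leaf 0x0))
(.node 10459 (.leaf 0x0)
(.leaf 0x0)))
(.node 10462 (.node 10461 (.leaf 0x0)
(.leaf 0x0))
(.node 10463 (.leaf 0x0)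
(.leaf 0x0))))))
(.node 10480 (.node 10472 (.node 10468 (.node 10466 (.node 10465 (.leaf 0x0)
(.leaf 0x0))
(.node 10467 (.leaf 0x0)
(.leaf 0x0)))
(.node 10470 (.node 10469 (.leaf 0x0)
(.leaf 0x0))
(.node 10471 (.leaf 0x0)
(.leaf 0x0))))
(.node 10476 (.node 10474 (.node 10473 (.leaf 0x0)
(.leaf 0x0))
(.node 10475 (.leaf 0x0)
(.leaf 0x0)))
(.node 10478 (.node 10477 (.leaf 0x0)
(.leaf 0x0))
(.node 10479 (.leaf 0x0)
(.leaf 0x0)))))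
(.node 10488 (.node 10484 (.node 10482 (.node 10481 (.leaf 0x0)
(.leaf 0x0))
(.node 10483 (.leaf 0x0)
(.leaf 0x0)))
(.node 10486 (.node 10485 (.leaf 0x0)
(.leaf 0x0))
(.node 10487 (.leaf 0x0)
(.leaf 0x0))))
(.node 10492 (.node 10490 (.node 10489 (.leaf 0x0)
(.leaf 0x0))
(.node 10491 (.leaf 0x0)
(.leaf 0x0)))
(.node 10494 (.node 10493 (.leaf 0x0)
(.leaf 0x0))
(.node 10495 (.leaf 0x0)
(.leaf 0x0)))))))))

/-- part of a trie -/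
def codePart41 : Tr :=
(.node 10624 (.node 10560 (.node 10528 (.node 10512 (.node 10504 (.node 10500 (.node 10498 (.node 10497 (.leaf 0x0)
(.leaf 0x0))
(.node 10499 (.leaf 0x0)
(.leaf 0x0)))
(.node 10502 (.node 10501 (.leaf 0x0)
(.leaf 0x0))
(.node 10503 (.leaf 0x0)
(.leaf 0x0))))
(.node 10508 (.node 10506 (.node 10505 (.leaf 0x0)
(.leaf 0x0))
(.node 10507 (.leaf 0x0)
(.leaf 0x0)))
(.node 10510 (.node 10509 (.leaf 0x0)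
(.leaf 0x0))
(.node 10511 (.leaf 0x0)
(.leaf 0x0)))))
(.node 10520 (.node 10516 (.node 10514 (.node 10513 (.leaf 0x0)
(.leaf 0x0))
(.node 10515 (.leaf 0x0)
(.leaf 0x0)))
(.node 10518 (.node 10517 (.leaf 0x0)
(.leaf 0x0))
(.node 10519 (.leaf 0x0)
(.leaf 0x0))))
(.node 10524 (.node 10522 (.node 10521 (.leaf 0x0)
(.leaf 0x0))
(.node 10523 (.leaf 0x0)
(.leaf 0x0)))
(.node 10526 (.node 10525 (.leaf 0x0)
(.leaf 0x0))
(.node 10527 (.leaf 0x0)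
(.leaf 0x0))))))
(.node 10544 (.node 10536 (.node 10532 (.node 10530 (.node 10529 (.leaf 0x0)
(.leaf 0x0))
(.node 10531 (.leaf 0x0)
(.leaf 0x0)))
(.node 10534 (.node 10533 (.leaf 0x0)
(.leaf 0x0))
(.node 10535 (.leaf 0x0)
(.leaf 0x0))))
(.node 10540 (.node 10538 (.node 10537 (.leaf 0x0)
(.leaf 0x0))
(.node 10539 (.leaf 0x0)
(.leaf 0x0)))
(.node 10542 (.node 10541 (.leaf 0x0)
(.leaf 0x0))
(.node 10543 (.leaf 0x0)
(.leaf 0x0)))))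
(.node 10552 (.node 10548 (.node 10546 (.node 10545 (.leaf 0x0)
(.leaf 0x0))
(.node 10547 (.leaf 0x0)
(.leaf 0x0)))
(.node 10550 (.node 10549 (.leaf 0x0)
(.leaf 0x0))
(.node 10551 (.leaf 0x0)
(.leaf 0x0))))
(.node 10556 (.node 10554 (.node 10553 (.leaf 0x0)
(.leaf 0x0))
(.node 10555 (.leaf 0x0)
(.leaf 0x0)))
(.node 10558 (.node 10557 (.leaf 0x0)
(.leaf 0x0))
(.node 10559 (.leaf 0x0)
(.leaf 0x0)))))))
(.node 10592 (.node 10576 (.node 10568 (.node 10564 (.node 10562 (.node 10561 (.leaf 0x0)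
(.leaf 0x0))
(.node 10563 (.leaf 0x0)
(.leaf 0x0)))
(.node 10566 (.node 10565 (.leaf 0x0)
(.leaf 0x0))
(.node 10567 (.leaf 0x0)
(.leaf 0x0))))
(.node 10572 (.node 10570 (.node 10569 (.leaf 0x0)
(.leaf 0x0))
(.node 10571 (.leaf 0x0)
(.leaf 0x0)))
(.node 10574 (.node 10573 (.leaf 0x0)
(.leaf 0x0))
(.node 10575 (.leaf 0x0)
(.leaf 0x0)))))
(.node 10584 (.node 10580 (.node 10578 (.node 10577 (.leaf 0x0)
(.leaf 0x0))
(.node 10579 (.leaf 0x0)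
(.leaf 0x0)))
(.node 10582 (.node 10581 (.leaf 0x0)
(.leaf 0x0))
(.node 10583 (.leaf 0x0)
(.leaf 0x0))))
(.node 10588 (.node 10586 (.node 10585 (.leaf 0x0)
(.leaf 0x0))
(.node 10587 (.leaf 0x0)
(.leaf 0x0)))
(.node 10590 (.node 10589 (.leaf 0x0)
(.leaf 0x0))
(.node 10591 (.leaf 0x0)
(.leaf 0x0))))))
(.node 10608 (.node 10600 (.node 10596 (.node 10594 (.node 10593 (.leaf 0x0)
(.leaf 0x0))
(.node 10595 (.leaf 0x0)
(.leaf 0x0)))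
(.node 10598 (.node 10597 (.leaf 0x0)
(.leaf 0x0))
(.node 10599 (.leaf 0x0)
(.leaf 0x0))))
(.node 10604 (.node 10602 (.node 10601 (.leaf 0x0)
(.leaf 0x0))
(.node 10603 (.leaf 0x0)
(.leaf 0x0)))
(.node 10606 (.node 10605 (.leaf 0x0)
(.leaf 0x0))
(.node 10607 (.leaf 0x0)
(.leaf 0x0)))))
(.node 10616 (.node 10612 (.node 10610 (.node 10609 (.leaf 0x0)
(.leaf 0x0))
(.node 10611 (.leaf 0x0)
(.leaf 0x0)))
(.node 10614 (.node 10613 (.leaf 0x0)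
(.leaf 0x0))
(.node 10615 (.leaf 0x0)
(.leaf 0x0))))
(.node 10620 (.node 10618 (.node 10617 (.leaf 0x0)
(.leaf 0x0))
(.node 10619 (.leaf 0x0)
(.leaf 0x0)))
(.node 10622 (.node 10621 (.leaf 0x0)
(.leaf 0x0))
(.node 10623 (.leaf 0x0)
(.leaf 0x0))))))))
(.node 10688 (.node 10656 (.node 10640 (.node 10632 (.node 10628 (.node 10626 (.node 10625 (.leaf 0x0)
(.leaf 0x0))
(.node 10627 (.leaf 0x0)
(.leaf 0x0)))
(.node 10630 (.node 10629 (.leaf 0x0)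
(.leaf 0x0))
(.node 10631 (.leaf 0x0)
(.leaf 0x0))))
(.node 10636 (.node 10634 (.node 10633 (.leaf 0x0)
(.leaf 0x0))
(.node 10635 (.leaf 0x0)
(.leaf 0x0)))
(.node 10638 (.node 10637 (.leaf 0x0)
(.leaf 0x0))
(.node 10639 (.leaf 0x0)
(.leaf 0x0)))))
(.node 10648 (.node 10644 (.node 10642 (.node 10641 (.leaf 0x0)
(.leaf 0x0))
(.node 10643 (.leaf 0x0)
(.leaf 0x0)))
(.node 10646 (.node 10645 (.leaf 0x0)
(.leaf 0x0))
(.node 10647 (.leaf 0x0)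
(.leaf 0x0))))
(.node 10652 (.node 10650 (.node 10649 (.leaf 0x0)
(.leaf 0x0))
(.node 10651 (.leaf 0x0)
(.leaf 0x0)))
(.node 10654 (.node 10653 (.leaf 0x0)
(.leaf 0x0))
(.node 10655 (.leaf 0x0)
(.leaf 0x0))))))
(.node 10672 (.node 10664 (.node 10660 (.node 10658 (.node 10657 (.leaf 0x0)
(.leaf 0x0))
(.node 10659 (.leaf 0x0)
(.leaf 0x0)))
(.node 10662 (.node 10661 (.leaf 0x0)
(.leaf 0x0))
(.node 10663 (.leaf 0x0)
(.leaf 0x0))))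
(.node 10668 (.node 10666 (.node 10665 (.leaf 0x0)
(.leaf 0x0))
(.node 10667 (.leaf 0x0)
(.leaf 0x0)))
(.node 10670 (.node 10669 (.leaf 0x0)
(.leaf 0x0))
(.node 10671 (.leaf 0x0)
(.leaf 0x0)))))
(.node 10680 (.node 10676 (.node 10674 (.node 10673 (.leaf 0x0)
(.leaf 0x0))
(.node 10675 (.leaf 0x0)
(.leaf 0x0)))
(.node 10678 (.node 10677 (.leaf 0x0)
(.leaf 0x0))
(.node 10679 (.leaf 0x0)
(.leaf 0x0))))
(.node 10684 (.node 10682 (.node 10681 (.leaf 0x0)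
(.leaf 0x0))
(.node 10683 (.leaf 0x0)
(.leaf 0x0)))
(.node 10686 (.node 10685 (.leaf 0x0)
(.leaf 0x0))
(.node 10687 (.leaf 0x0)
(.leaf 0x0)))))))
(.node 10720 (.node 10704 (.node 10696 (.node 10692 (.node 10690 (.node 10689 (.leaf 0x0)
(.leaf 0x0))
(.node 10691 (.leaf 0x0)
(.leaf 0x0)))
(.node 10694 (.node 10693 (.leaf 0x0)
(.leaf 0x0))
(.node 10695 (.leaf 0x0)
(.leaf 0x0))))
(.node 10700 (.node 10698 (.node 10697 (.leaf 0x0)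
(.leaf 0x0))
(.node 10699 (.leaf 0x0)
(.leaf 0x0)))
(.node 10702 (.node 10701 (.leaf 0x0)
(.leaf 0x0))
(.node 10703 (.leaf 0x0)
(.leaf 0x0)))))
(.node 10712 (.node 10708 (.node 10706 (.node 10705 (.leaf 0x0)
(.leaf 0x0))
(.node 10707 (.leaf 0x0)
(.leaf 0x0)))
(.node 10710 (.node 10709 (.leaf 0x0)
(.leaf 0x0))
(.node 10711 (.leaf 0x0)
(.leaf 0x0))))
(.node 10716 (.node 10714 (.node 10713 (.leaf 0x0)
(.leaf 0x0))
(.node 10715 (.leaf 0x0)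
(.leaf 0x0)))
(.node 10718 (.node 10717 (.leaf 0x0)
(.leaf 0x0))
(.node 10719 (.leaf 0x0)
(.leaf 0x0))))))
(.node 10736 (.node 10728 (.node 10724 (.node 10722 (.node 10721 (.leaf 0x0)
(.leaf 0x0))
(.node 10723 (.leaf 0x0)
(.leaf 0x0)))
(.node 10726 (.node 10725 (.leaf 0x0)
(.leaf 0x0))
(.node 10727 (.leaf 0x0)
(.leaf 0x0))))
(.node 10732 (.node 10730 (.node 10729 (.leaf 0x0)
(.leaf 0x0))
(.node 10731 (.leaf 0x0)
(.leaf 0x0)))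
(.node 10734 (.node 10733 (.leaf 0x0)
(.leaf 0x0))
(.node 10735 (.leaf 0x0)
(.leaf 0x0)))))
(.node 10744 (.node 10740 (.node 10738 (.node 10737 (.leaf 0x0)
(.leaf 0x0))
(.node 10739 (.leaf 0x0)
(.leaf 0x0)))
(.node 10742 (.node 10741 (.leaf 0x0)
(.leaf 0x0))
(.node 10743 (.leaf 0x0)
(.leaf 0x0))))
(.node 10748 (.node 10746 (.node 10745 (.leaf 0x0)
(.leaf 0x0))
(.node 10747 (.leaf 0x0)
(.leaf 0x0)))
(.node 10750 (.node 10749 (.leaf 0x0)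
(.leaf 0x0))
(.node 10751 (.leaf 0x0)
(.leaf 0x0)))))))))

/-- part of a trie -/
def codePart42 : Tr :=
(.node 10880 (.node 10816 (.node 10784 (.node 10768 (.node 10760 (.node 10756 (.node 10754 (.node 10753 (.leaf 0x0)
(.leaf 0x0))
(.node 10755 (.leaf 0x0)
(.leaf 0x0)))
(.node 10758 (.node 10757 (.leaf 0x0)
(.leaf 0x0))
(.node 10759 (.leaf 0x0)
(.leaf 0x0))))
(.node 10764 (.node 10762 (.node 10761 (.leaf 0x0)
(.leaf 0x0))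
(.node 10763 (.leaf 0x0)
(.leaf 0x0)))
(.node 10766 (.node 10765 (.leaf 0x0)
(.leaf 0x0))
(.node 10767 (.leaf 0x0)
(.leaf 0x0)))))
(.node 10776 (.node 10772 (.node 10770 (.node 10769 (.leaf 0x0)
(.leaf 0x0))
(.node 10771 (.leaf 0x0)
(.leaf 0x0)))
(.node 10774 (.node 10773 (.leaf 0x0)
(.leaf 0x0))
(.node 10775 (.leaf 0x0)
(.leaf 0x0))))
(.node 10780 (.node 10778 (.node 10777 (.leaf 0x0)
(.leaf 0x0))
(.node 10779 (.leaf 0x0)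
(.leaf 0x0)))
(.node 10782 (.node 10781 (.leaf 0x0)
(.leaf 0x0))
(.node 10783 (.leaf 0x0)
(.leaf 0x0))))))
(.node 10800 (.node 10792 (.node 10788 (.node 10786 (.node 10785 (.leaf 0x0)
(.leaf 0x0))
(.node 10787 (.leaf 0x0)
(.leaf 0x0)))
(.node 10790 (.node 10789 (.leaf 0x0)
(.leaf 0x0))
(.node 10791 (.leaf 0x0)
(.leaf 0x0))))
(.node 10796 (.node 10794 (.node 10793 (.leaf 0x0)
(.leaf 0x0))
(.node 10795 (.leaf 0x0)
(.leaf 0x0)))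
(.node 10798 (.node 10797 (.leaf 0x0)
(.leaf 0x0))
(.node 10799 (.leaf 0x0)
(.leaf 0x0)))))
(.node 10808 (.node 10804 (.node 10802 (.node 10801 (.leaf 0x0)
(.leaf 0x0))
(.node 10803 (.leaf 0x0)
(.leaf 0x0)))
(.node 10806 (.node 10805 (.leaf 0x0)
(.leaf 0x0))
(.node 10807 (.leaf 0x0)
(.leaf 0x0))))
(.node 10812 (.node 10810 (.node 10809 (.leaf 0x0)
(.leaf 0x0))
(.node 10811 (.leaf 0x0)
(.leaf 0x0)))
(.node 10814 (.node 10813 (.leaf 0x0)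
(.leaf 0x0))
(.node 10815 (.leaf 0x0)
(.leaf 0x0)))))))
(.node 10848 (.node 10832 (.node 10824 (.node 10820 (.node 10818 (.node 10817 (.leaf 0x0)
(.leaf 0x0))
(.node 10819 (.leaf 0x0)
(.leaf 0x0)))
(.node 10822 (.node 10821 (.leaf 0x0)
(.leaf 0x0))
(.node 10823 (.leaf 0x0)
(.leaf 0x0))))
(.node 10828 (.node 10826 (.node 10825 (.leaf 0x0)
(.leaf 0x0))
(.node 10827 (.leaf 0x0)
(.leaf 0x0)))
(.node 10830 (.node 10829 (.leaf 0x0)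
(.leaf 0x0))
(.node 10831 (.leaf 0x0)
(.leaf 0x0)))))
(.node 10840 (.node 10836 (.node 10834 (.node 10833 (.leaf 0x0)
(.leaf 0x0))
(.node 10835 (.leaf 0x0)
(.leaf 0x0)))
(.node 10838 (.node 10837 (.leaf 0x0)
(.leaf 0x0))
(.node 10839 (.leaf 0x0)
(.leaf 0x0))))
(.node 10844 (.node 10842 (.node 10841 (.leaf 0x0)
(.leaf 0x0))
(.node 10843 (.leaf 0x0)
(.leaf 0x0)))
(.node 10846 (.node 10845 (.leaf 0x0)
(.leaf 0x0))
(.node 10847 (.leaf 0x0)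
(.leaf 0x0))))))
(.node 10864 (.node 10856 (.node 10852 (.node 10850 (.node 10849 (.leaf 0x0)
(.leaf 0x0))
(.node 10851 (.leaf 0x0)
(.leaf 0x0)))
(.node 10854 (.node 10853 (.leaf 0x0)
(.leaf 0x0))
(.node 10855 (.leaf 0x0)
(.leaf 0x0))))
(.node 10860 (.node 10858 (.node 10857 (.leaf 0x0)
(.leaf 0x0))
(.node 10859 (.leaf 0x0)
(.leaf 0x0)))
(.node 10862 (.node 10861 (.leaf 0x0)
(.leaf 0x0))
(.node 10863 (.leaf 0x0)
(.leaf 0x0)))))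
(.node 10872 (.node 10868 (.node 10866 (.node 10865 (.leaf 0x0)
(.leaf 0x0))
(.node 10867 (.leaf 0x0)
(.leaf 0x0)))
(.node 10870 (.node 10869 (.leaf 0x0)
(.leaf 0x0))
(.node 10871 (.leaf 0x0)
(.leaf 0x0))))
(.node 10876 (.node 10874 (.node 10873 (.leaf 0x0)
(.leaf 0x0))
(.node 10875 (.leaf 0x0)
(.leaf 0x0)))
(.node 10878 (.node 10877 (.leaf 0x0)
(.leaf 0x0))
(.node 10879 (.leaf 0x0)
(.leaf 0x0))))))))
(.node 10944 (.node 10912 (.node 10896 (.node 10888 (.node 10884 (.node 10882 (.node 10881 (.leaf 0x0)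
(.leaf 0x0))
(.node 10883 (.leaf 0x0)
(.leaf 0x0)))
(.node 10886 (.node 10885 (.leaf 0x0)
(.leaf 0x0))
(.node 10887 (.leaf 0x0)
(.leaf 0x0))))
(.node 10892 (.node 10890 (.node 10889 (.leaf 0x0)
(.leaf 0x0))
(.node 10891 (.leaf 0x0)
(.leaf 0x0)))
(.node 10894 (.node 10893 (.leaf 0x0)
(.leaf 0x0))
(.node 10895 (.leaf 0x0)
(.leaf 0x0)))))
(.node 10904 (.node 10900 (.node 10898 (.node 10897 (.leaf 0x0)
(.leaf 0x0))
(.node 10899 (.leaf 0x0)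
(.leaf 0x0)))
(.node 10902 (.node 10901 (.leaf 0x0)
(.leaf 0x0))
(.node 10903 (.leaf 0x0)
(.leaf 0x0))))
(.node 10908 (.node 10906 (.node 10905 (.leaf 0x0)
(.leaf 0x0))
(.node 10907 (.leaf 0x0)
(.leaf 0x0)))
(.node 10910 (.node 10909 (.leaf 0x0)
(.leaf 0x0))
(.node 10911 (.leaf 0x0)
(.leaf 0x0))))))
(.node 10928 (.node 10920 (.node 10916 (.node 10914 (.node 10913 (.leaf 0x0)
(.leaf 0x0))
(.node 10915 (.leaf 0x0)
(.leaf 0x0)))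
(.node 10918 (.node 10917 (.leaf 0x0)
(.leaf 0x0))
(.node 10919 (.leaf 0x0)
(.leaf 0x0))))
(.node 10924 (.node 10922 (.node 10921 (.leaf 0x0)
(.leaf 0x0))
(.node 10923 (.leaf 0x0)
(.leaf 0x0)))
(.node 10926 (.node 10925 (.leaf 0x0)
(.leaf 0x0))
(.node 10927 (.leaf 0x0)
(.leaf 0x0)))))
(.node 10936 (.node 10932 (.node 10930 (.node 10929 (.leaf 0x0)
(.leaf 0x0))
(.node 10931 (.leaf 0x0)
(.leaf 0x0)))
(.node 10934 (.node 10933 (.leaf 0x0)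
(.leaf 0x0))
(.node 10935 (.leaf 0x0)
(.leaf 0x0))))
(.node 10940 (.node 10938 (.node 10937 (.leaf 0x0)
(.leaf 0x0))
(.node 10939 (.leaf 0x0)
(.leaf 0x0)))
(.node 10942 (.node 10941 (.leaf 0x0)
(.leaf 0x0))
(.node 10943 (.leaf 0x0)
(.leaf 0x0)))))))
(.node 10976 (.node 10960 (.node 10952 (.node 10948 (.node 10946 (.node 10945 (.leaf 0x0)
(.leaf 0x0))
(.node 10947 (.leaf 0x0)
(.leaf 0x0)))
(.node 10950 (.node 10949 (.leaf 0x0)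
(.leaf 0x0))
(.node 10951 (.leaf 0x0)
(.leaf 0x0))))
(.node 10956 (.node 10954 (.node 10953 (.leaf 0x0)
(.leaf 0x0))
(.node 10955 (.leaf 0x0)
(.leaf 0x0)))
(.node 10958 (.node 10957 (.leaf 0x0)
(.leaf 0x0))
(.node 10959 (.leaf 0x0)
(.leaf 0x0)))))
(.node 10968 (.node 10964 (.node 10962 (.node 10961 (.leaf 0x0)
(.leaf 0x0))
(.node 10963 (.leaf 0x0)
(.leaf 0x0)))
(.node 10966 (.node 10965 (.leaf 0x0)
(.leaf 0x0))
(.node 10967 (.leaf 0x0)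
(.leaf 0x0))))
(.node 10972 (.node 10970 (.node 10969 (.leaf 0x0)
(.leaf 0x0))
(.node 10971 (.leaf 0x0)
(.leaf 0x0)))
(.node 10974 (.node 10973 (.leaf 0x0)
(.leaf 0x0))
(.node 10975 (.leaf 0x0)
(.leaf 0x0))))))
(.node 10992 (.node 10984 (.node 10980 (.node 10978 (.node 10977 (.leaf 0x0)
(.leaf 0x0))
(.node 10979 (.leaf 0x0)
(.leaf 0x0)))
(.node 10982 (.node 10981 (.leaf 0x0)
(.leaf 0x0))
(.node 10983 (.leaf 0x0)
(.leaf 0x0))))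
(.node 10988 (.node 10986 (.node 10985 (.leaf 0x0)
(.leaf 0x0))
(.node 10987 (.leaf 0x0)
(.leaf 0x0)))
(.node 10990 (.node 10989 (.leaf 0x0)
(.leaf 0x0))
(.node 10991 (.leaf 0x0)
(.leaf 0x0)))))
(.node 11000 (.node 10996 (.node 10994 (.node 10993 (.leaf 0x0)
(.leaf 0x0))
(.node 10995 (.leaf 0x0)
(.leaf 0x0)))
(.node 10998 (.node 10997 (.leaf 0x0)
(.leaf 0x0))
(.node 10999 (.leaf 0x0)
(.leaf 0x0))))
(.node 11004 (.node 11002 (.node 11001 (.leaf 0x0)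
(.leaf 0x0))
(.node 11003 (.leaf 0x0)
(.leaf 0x0)))
(.node 11006 (.node 11005 (.leaf 0x0)
(.leaf 0x0))
(.node 11007 (.leaf 0x0)
(.leaf 0x0)))))))))

/-- part of a trie -/
def codePart43 : Tr :=
(.node 11136 (.node 11072 (.node 11040 (.node 11024 (.node 11016 (.node 11012 (.node 11010 (.node 11009 (.leaf 0x0)
(.leaf 0x0))
(.node 11011 (.leaf 0x0)
(.leaf 0x0)))
(.node 11014 (.node 11013 (.leaf 0x0)
(.leaf 0x0))
(.node 11015 (.leaf 0x0)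
(.leaf 0x0))))
(.node 11020 (.node 11018 (.node 11017 (.leaf 0x0)
(.leaf 0x0))
(.node 11019 (.leaf 0x0)
(.leaf 0x0)))
(.node 11022 (.node 11021 (.leaf 0x0)
(.leaf 0x0))
(.node 11023 (.leaf 0x0)
(.leaf 0x0)))))
(.node 11032 (.node 11028 (.node 11026 (.node 11025 (.leaf 0x0)
(.leaf 0x0))
(.node 11027 (.leaf 0x0)
(.leaf 0x0)))
(.node 11030 (.node 11029 (.leaf 0x0)
(.leaf 0x0))
(.node 11031 (.leaf 0x0)
(.leaf 0x0))))
(.node 11036 (.node 11034 (.node 11033 (.leaf 0x0)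
(.leaf 0x0))
(.node 11035 (.leaf 0x0)
(.leaf 0x0)))
(.node 11038 (.node 11037 (.leaf 0x0)
(.leaf 0x0))
(.node 11039 (.leaf 0x0)
(.leaf 0x0))))))
(.node 11056 (.node 11048 (.node 11044 (.node 11042 (.node 11041 (.leaf 0x0)
(.leaf 0x0))
(.node 11043 (.leaf 0x0)
(.leaf 0x0)))
(.node 11046 (.node 11045 (.leaf 0x0)
(.leaf 0x0))
(.node 11047 (.leaf 0x0)
(.leaf 0x0))))
(.node 11052 (.node 11050 (.node 11049 (.leaf 0x0)
(.leaf 0x0))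
(.node 11051 (.leaf 0x0)
(.leaf 0x0)))
(.node 11054 (.node 11053 (.leaf 0x0)
(.leaf 0x0))
(.node 11055 (.leaf 0x0)
(.leaf 0x0)))))
(.node 11064 (.node 11060 (.node 11058 (.node 11057 (.leaf 0x0)
(.leaf 0x0))
(.node 11059 (.leaf 0x0)
(.leaf 0x0)))
(.node 11062 (.node 11061 (.leaf 0x0)
(.leaf 0x0))
(.node 11063 (.leaf 0x0)
(.leaf 0x0))))
(.node 11068 (.node 11066 (.node 11065 (.leaf 0x0)
(.leaf 0x0))
(.node 11067 (.leaf 0x0)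
(.leaf 0x0)))
(.node 11070 (.node 11069 (.leaf 0x0)
(.leaf 0x0))
(.node 11071 (.leaf 0x0)
(.leaf 0x0)))))))
(.node 11104 (.node 11088 (.node 11080 (.node 11076 (.node 11074 (.node 11073 (.leaf 0x0)
(.leaf 0x0))
(.node 11075 (.leaf 0x0)
(.leaf 0x0)))
(.node 11078 (.node 11077 (.leaf 0x0)
(.leaf 0x0))
(.node 11079 (.leaf 0x0)
(.leaf 0x0))))
(.node 11084 (.node 11082 (.node 11081 (.leaf 0x0)
(.leaf 0x0))
(.node 11083 (.leaf 0x0)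
(.leaf 0x0)))
(.node 11086 (.node 11085 (.leaf 0x0)
(.leaf 0x0))
(.node 11087 (.leaf 0x0)
(.leaf 0x0)))))
(.node 11096 (.node 11092 (.node 11090 (.node 11089 (.leaf 0x0)
(.leaf 0x0))
(.node 11091 (.leaf 0x0)
(.leaf 0x0)))
(.node 11094 (.node 11093 (.leaf 0x0)
(.leaf 0x0))
(.node 11095 (.leaf 0x0)
(.leaf 0x0))))
(.node 11100 (.node 11098 (.node 11097 (.leaf 0x0)
(.leaf 0x0))
(.node 11099 (.leaf 0x0)
(.leaf 0x0)))
(.node 11102 (.node 11101 (.leaf 0x0)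
(.leaf 0x0))
(.node 11103 (.leaf 0x0)
(.leaf 0x0))))))
(.node 11120 (.node 11112 (.node 11108 (.node 11106 (.node 11105 (.leaf 0x0)
(.leaf 0x0))
(.node 11107 (.leaf 0x0)
(.leaf 0x0)))
(.node 11110 (.node 11109 (.leaf 0x0)
(.leaf 0x0))
(.node 11111 (.leaf 0x0)
(.leaf 0x0))))
(.node 11116 (.node 11114 (.node 11113 (.leaf 0x0)
(.leaf 0x0))
(.node 11115 (.leaf 0x0)
(.leaf 0x0)))
(.node 11118 (.node 11117 (.leaf 0x0)
(.leaf 0x0))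
(.node 11119 (.leaf 0x0)
(.leaf 0x0)))))
(.node 11128 (.node 11124 (.node 11122 (.node 11121 (.leaf 0x0)
(.leaf 0x0))
(.node 11123 (.leaf 0x0)
(.leaf 0x0)))
(.node 11126 (.node 11125 (.leaf 0x0)
(.leaf 0x0))
(.node 11127 (.leaf 0x0)
(.leaf 0x0))))
(.node 11132 (.node 11130 (.node 11129 (.leaf 0x0)
(.leaf 0x0))
(.node 11131 (.leaf 0x0)
(.leaf 0x0)))
(.node 11134 (.node 11133 (.leaf 0x0)
(.leaf 0x0))
(.node 11135 (.leaf 0x0)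
(.leaf 0x0))))))))
(.node 11200 (.node 11168 (.node 11152 (.node 11144 (.node 11140 (.node 11138 (.node 11137 (.leaf 0x0)
(.leaf 0x0))
(.node 11139 (.leaf 0x0)
(.leaf 0x0)))
(.node 11142 (.node 11141 (.leaf 0x0)
(.leaf 0x0))
(.node 11143 (.leaf 0x0)
(.leaf 0x0))))
(.node 11148 (.node 11146 (.node 11145 (.leaf 0x0)
(.leaf 0x0))
(.node 11147 (.leaf 0x0)
(.leaf 0x0)))
(.node 11150 (.node 11149 (.leaf 0x0)
(.leaf 0x0))
(.node 11151 (.leaf 0x0)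
(.leaf 0x0)))))
(.node 11160 (.node 11156 (.node 11154 (.node 11153 (.leaf 0x0)
(.leaf 0x0))
(.node 11155 (.leaf 0x0)
(.leaf 0x0)))
(.node 11158 (.node 11157 (.leaf 0x0)
(.leaf 0x0))
(.node 11159 (.leaf 0x0)
(.leaf 0x0))))
(.node 11164 (.node 11162 (.node 11161 (.leaf 0x0)
(.leaf 0x0))
(.node 11163 (.leaf 0x0)
(.leaf 0x0)))
(.node 11166 (.node 11165 (.leaf 0x0)
(.leaf 0x0))
(.node 11167 (.leaf 0x0)
(.leaf 0x0))))))
(.node 11184 (.node 11176 (.node 11172 (.node 11170 (.node 11169 (.leaf 0x0)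
(.leaf 0x0))
(.node 11171 (.leaf 0x0)
(.leaf 0x0)))
(.node 11174 (.node 11173 (.leaf 0x0)
(.leaf 0x0))
(.node 11175 (.leaf 0x0)
(.leaf 0x0))))
(.node 11180 (.node 11178 (.node 11177 (.leaf 0x0)
(.leaf 0x0))
(.node 11179 (.leaf 0x0)
(.leaf 0x0)))
(.node 11182 (.node 11181 (.leaf 0x0)
(.leaf 0x0))
(.node 11183 (.leaf 0x0)
(.leaf 0x0)))))
(.node 11192 (.node 11188 (.node 11186 (.node 11185 (.leaf 0x0)
(.leaf 0x0))
(.node 11187 (.leaf 0x0)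
(.leaf 0x0)))
(.node 11190 (.node 11189 (.leaf 0x0)
(.leaf 0x0))
(.node 11191 (.leaf 0x0)
(.leaf 0x0))))
(.node 11196 (.node 11194 (.node 11193 (.leaf 0x0)
(.leaf 0x0))
(.node 11195 (.leaf 0x0)
(.leaf 0x0)))
(.node 11198 (.node 11197 (.leaf 0x0)
(.leaf 0x0))
(.node 11199 (.leaf 0x0)
(.leaf 0x0)))))))
(.node 11232 (.node 11216 (.node 11208 (.node 11204 (.node 11202 (.node 11201 (.leaf 0x0)
(.leaf 0x0))
(.node 11203 (.leaf 0x0)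
(.leaf 0x0)))
(.node 11206 (.node 11205 (.leaf 0x0)
(.leaf 0x0))
(.node 11207 (.leaf 0x0)
(.leaf 0x0))))
(.node 11212 (.node 11210 (.node 11209 (.leaf 0x0)
(.leaf 0x0))
(.node 11211 (.leaf 0x0)
(.leaf 0x0)))
(.node 11214 (.node 11213 (.leaf 0x0)
(.leaf 0x0))
(.node 11215 (.leaf 0x0)
(.leaf 0x0)))))
(.node 11224 (.node 11220 (.node 11218 (.node 11217 (.leaf 0x0)
(.leaf 0x0))
(.node 11219 (.leaf 0x0)
(.leaf 0x0)))
(.node 11222 (.node 11221 (.leaf 0x0)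
(.leaf 0x0))
(.node 11223 (.leaf 0x0)
(.leaf 0x0))))
(.node 11228 (.node 11226 (.node 11225 (.leaf 0x0)
(.leaf 0x0))
(.node 11227 (.leaf 0x0)
(.leaf 0x0)))
(.node 11230 (.node 11229 (.leaf 0x0)
(.leaf 0x0))
(.node 11231 (.leaf 0x0)
(.leaf 0x0))))))
(.node 11248 (.node 11240 (.node 11236 (.node 11234 (.node 11233 (.leaf 0x0)
(.leaf 0x0))
(.node 11235 (.leaf 0x0)
(.leaf 0x0)))
(.node 11238 (.node 11237 (.leaf 0x0)
(.leaf 0x0))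
(.node 11239 (.leaf 0x0)
(.leaf 0x0))))
(.node 11244 (.node 11242 (.node 11241 (.leaf 0x0)
(.leaf 0x0))
(.node 11243 (.leaf 0x0)
(.leaf 0x0)))
(.node 11246 (.node 11245 (.leaf 0x0)
(.leaf 0x0))
(.node 11247 (.leaf 0x0)
(.leaf 0x0)))))
(.node 11256 (.node 11252 (.node 11250 (.node 11249 (.leaf 0x0)
(.leaf 0x0))
(.node 11251 (.leaf 0x0)
(.leaf 0x0)))
(.node 11254 (.node 11253 (.leaf 0x0)
(.leaf 0x0))
(.node 11255 (.leaf 0x0)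
(.leaf 0x0))))
(.node 11260 (.node 11258 (.node 11257 (.leaf 0x0)
(.leaf 0x0))
(.node 11259 (.leaf 0x0)
(.leaf 0x0)))
(.node 11262 (.node 11261 (.leaf 0x0)
(.leaf 0x0))
(.node 11263 (.leaf 0x0)
(.leaf 0x0)))))))))

/-- part of a trie -/
def codePart44 : Tr :=
(.node 11392 (.node 11328 (.node 11296 (.node 11280 (.node 11272 (.node 11268 (.node 11266 (.node 11265 (.leaf 0x0)
(.leaf 0x0))
(.node 11267 (.leaf 0x0)
(.leaf 0x0)))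
(.node 11270 (.node 11269 (.leaf 0x0)
(.leaf 0x0))
(.node 11271 (.leaf 0x0)
(.leaf 0x0))))
(.node 11276 (.node 11274 (.node 11273 (.leaf 0x0)
(.leaf 0x0))
(.node 11275 (.leaf 0x0)
(.leaf 0x0)))
(.node 11278 (.node 11277 (.leaf 0x0)
(.leaf 0x0))
(.node 11279 (.leaf 0x0)
(.leaf 0x0)))))
(.node 11288 (.node 11284 (.node 11282 (.node 11281 (.leaf 0x0)
(.leaf 0x0))
(.node 11283 (.leaf 0x0)
(.leaf 0x0)))
(.node 11286 (.node 11285 (.leaf 0x0)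
(.leaf 0x0))
(.node 11287 (.leaf 0x0)
(.leaf 0x0))))
(.node 11292 (.node 11290 (.node 11289 (.leaf 0x0)
(.leaf 0x0))
(.node 11291 (.leaf 0x0)
(.leaf 0x0)))
(.node 11294 (.node 11293 (.leaf 0x0)
(.leaf 0x0))
(.node 11295 (.leaf 0x0)
(.leaf 0x0))))))
(.node 11312 (.node 11304 (.node 11300 (.node 11298 (.node 11297 (.leaf 0x0)
(.leaf 0x0))
(.node 11299 (.leaf 0x0)
(.leaf 0x0)))
(.node 11302 (.node 11301 (.leaf 0x0)
(.leaf 0x0))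
(.node 11303 (.leaf 0x0)
(.leaf 0x0))))
(.node 11308 (.node 11306 (.node 11305 (.leaf 0x0)
(.leaf 0x0))
(.node 11307 (.leaf 0x0)
(.leaf 0x0)))
(.node 11310 (.node 11309 (.leaf 0x0)
(.leaf 0x0))
(.node 11311 (.leaf 0x0)
(.leaf 0x0)))))
(.node 11320 (.node 11316 (.node 11314 (.node 11313 (.leaf 0x0)
(.leaf 0x0))
(.node 11315 (.leaf 0x0)
(.leaf 0x0)))
(.node 11318 (.node 11317 (.leaf 0x0)
(.leaf 0x0))
(.node 11319 (.leaf 0x0)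
(.leaf 0x0))))
(.node 11324 (.node 11322 (.node 11321 (.leaf 0x0)
(.leaf 0x0))
(.node 11323 (.leaf 0x0)
(.leaf 0x0)))
(.node 11326 (.node 11325 (.leaf 0x0)
(.leaf 0x0))
(.node 11327 (.leaf 0x0)
(.leaf 0x0)))))))
(.node 11360 (.node 11344 (.node 11336 (.node 11332 (.node 11330 (.node 11329 (.leaf 0x0)
(.leaf 0x0))
(.node 11331 (.leaf 0x0)
(.leaf 0x0)))
(.node 11334 (.node 11333 (.leaf 0x0)
(.leaf 0x0))
(.node 11335 (.leaf 0x0)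
(.leaf 0x0))))
(.node 11340 (.node 11338 (.node 11337 (.leaf 0x0)
(.leaf 0x0))
(.node 11339 (.leaf 0x0)
(.leaf 0x0)))
(.node 11342 (.node 11341 (.leaf 0x0)
(.leaf 0x0))
(.node 11343 (.leaf 0x0)
(.leaf 0x0)))))
(.node 11352 (.node 11348 (.node 11346 (.node 11345 (.leaf 0x0)
(.leaf 0x0))
(.node 11347 (.leaf 0x0)
(.leaf 0x0)))
(.node 11350 (.node 11349 (.leaf 0x0)
(.leaf 0x0))
(.node 11351 (.leaf 0x0)
(.leaf 0x0))))
(.node 11356 (.node 11354 (.node 11353 (.leaf 0x0)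
(.leaf 0x0))
(.node 11355 (.leaf 0x0)
(.leaf 0x0)))
(.node 11358 (.node 11357 (.leaf 0x0)
(.leaf 0x0))
(.node 11359 (.leaf 0x0)
(.leaf 0x0))))))
(.node 11376 (.node 11368 (.node 11364 (.node 11362 (.node 11361 (.leaf 0x0)
(.leaf 0x0))
(.node 11363 (.leaf 0x0)
(.leaf 0x0)))
(.node 11366 (.node 11365 (.leaf 0x0)
(.leaf 0x0))
(.node 11367 (.leaf 0x0)
(.leaf 0x0))))
(.node 11372 (.node 11370 (.node 11369 (.leaf 0x0)
(.leaf 0x0))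
(.node 11371 (.leaf 0x0)
(.leaf 0x0)))
(.node 11374 (.node 11373 (.leaf 0x0)
(.leaf 0x0))
(.node 11375 (.leaf 0x0)
(.leaf 0x0)))))
(.node 11384 (.node 11380 (.node 11378 (.node 11377 (.leaf 0x0)
(.leaf 0x0))
(.node 11379 (.leaf 0x0)
(.leaf 0x0)))
(.node 11382 (.node 11381 (.leaf 0x0)
(.leaf 0x0))
(.node 11383 (.leaf 0x0)
(.leaf 0x0))))
(.node 11388 (.node 11386 (.node 11385 (.leaf 0x0)
(.leaf 0x0))
(.node 11387 (.leaf 0x0)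
(.leaf 0x0)))
(.node 11390 (.node 11389 (.leaf 0x0)
(.leaf 0x0))
(.node 11391 (.leaf 0x0)
(.leaf 0x0))))))))
(.node 11456 (.node 11424 (.node 11408 (.node 11400 (.node 11396 (.node 11394 (.node 11393 (.leaf 0x0)
(.leaf 0x0))
(.node 11395 (.leaf 0x0)
(.leaf 0x0)))
(.node 11398 (.node 11397 (.leaf 0x0)
(.leaf 0x0))
(.node 11399 (.leaf 0x0)
(.leaf 0x0))))
(.node 11404 (.node 11402 (.node 11401 (.leaf 0x0)
(.leaf 0x0))
(.node 11403 (.leaf 0x0)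
(.leaf 0x0)))
(.node 11406 (.node 11405 (.leaf 0x0)
(.leaf 0x0))
(.node 11407 (.leaf 0x0)
(.leaf 0x0)))))
(.node 11416 (.node 11412 (.node 11410 (.node 11409 (.leaf 0x0)
(.leaf 0x0))
(.node 11411 (.leaf 0x0)
(.leaf 0x0)))
(.node 11414 (.node 11413 (.leaf 0x0)
(.leaf 0x0))
(.node 11415 (.leaf 0x0)
(.leaf 0x0))))
(.node 11420 (.node 11418 (.node 11417 (.leaf 0x0)
(.leaf 0x0))
(.node 11419 (.leaf 0x0)
(.leaf 0x0)))
(.node 11422 (.node 11421 (.leaf 0x0)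
(.leaf 0x0))
(.node 11423 (.leaf 0x0)
(.leaf 0x0))))))
(.node 11440 (.node 11432 (.node 11428 (.node 11426 (.node 11425 (.leaf 0x0)
(.leaf 0x0))
(.node 11427 (.leaf 0x0)
(.leaf 0x0)))
(.node 11430 (.node 11429 (.leaf 0x0)
(.leaf 0x0))
(.node 11431 (.leaf 0x0)
(.leaf 0x0))))
(.node 11436 (.node 11434 (.node 11433 (.leaf 0x0)
(.leaf 0x0))
(.node 11435 (.leaf 0x0)
(.leaf 0x0)))
(.node 11438 (.node 11437 (.leaf 0x0)
(.leaf 0x0))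
(.node 11439 (.leaf 0x0)
(.leaf 0x0)))))
(.node 11448 (.node 11444 (.node 11442 (.node 11441 (.leaf 0x0)
(.leaf 0x0))
(.node 11443 (.leaf 0x0)
(.leaf 0x0)))
(.node 11446 (.node 11445 (.leaf 0x0)
(.leaf 0x0))
(.node 11447 (.leaf 0x0)
(.leaf 0x0))))
(.node 11452 (.node 11450 (.node 11449 (.leaf 0x0)
(.leaf 0x0))
(.node 11451 (.leaf 0x0)
(.leaf 0x0)))
(.node 11454 (.node 11453 (.leaf 0x0)
(.leaf 0x0))
(.node 11455 (.leaf 0x0)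
(.leaf 0x0)))))))
(.node 11488 (.node 11472 (.node 11464 (.node 11460 (.node 11458 (.node 11457 (.leaf 0x0)
(.leaf 0x0))
(.node 11459 (.leaf 0x0)
(.leaf 0x0)))
(.node 11462 (.node 11461 (.leaf 0x0)
(.leaf 0x0))
(.node 11463 (.leaf 0x0)
(.leaf 0x0))))
(.node 11468 (.node 11466 (.node 11465 (.leaf 0x0)
(.leaf 0x0))
(.node 11467 (.leaf 0x0)
(.leaf 0x0)))
(.node 11470 (.node 11469 (.leaf 0x0)
(.leaf 0x0))
(.node 11471 (.leaf 0x0)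
(.leaf 0x0)))))
(.node 11480 (.node 11476 (.node 11474 (.node 11473 (.leaf 0x0)
(.leaf 0x0))
(.node 11475 (.leaf 0x0)
(.leaf 0x0)))
(.node 11478 (.node 11477 (.leaf 0x0)
(.leaf 0x0))
(.node 11479 (.leaf 0x0)
(.leaf 0x0))))
(.node 11484 (.node 11482 (.node 11481 (.leaf 0x0)
(.leaf 0x0))
(.node 11483 (.leaf 0x0)
(.leaf 0x0)))
(.node 11486 (.node 11485 (.leaf 0x0)
(.leaf 0x0))
(.node 11487 (.leaf 0x0)
(.leaf 0x0))))))
(.node 11504 (.node 11496 (.node 11492 (.node 11490 (.node 11489 (.leaf 0x0)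
(.leaf 0x0))
(.node 11491 (.leaf 0x0)
(.leaf 0x0)))
(.node 11494 (.node 11493 (.leaf 0x0)
(.leaf 0x0))
(.node 11495 (.leaf 0x0)
(.leaf 0x0))))
(.node 11500 (.node 11498 (.node 11497 (.leaf 0x0)
(.leaf 0x0))
(.node 11499 (.leaf 0x0)
(.leaf 0x0)))
(.node 11502 (.node 11501 (.leaf 0x0)
(.leaf 0x0))
(.node 11503 (.leaf 0x0)
(.leaf 0x0)))))
(.node 11512 (.node 11508 (.node 11506 (.node 11505 (.leaf 0x0)
(.leaf 0x0))
(.node 11507 (.leaf 0x0)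
(.leaf 0x0)))
(.node 11510 (.node 11509 (.leaf 0x0)
(.leaf 0x0))
(.node 11511 (.leaf 0x0)
(.leaf 0x0))))
(.node 11516 (.node 11514 (.node 11513 (.leaf 0x0)
(.leaf 0x0))
(.node 11515 (.leaf 0x0)
(.leaf 0x0)))
(.node 11518 (.node 11517 (.leaf 0x0)
(.leaf 0x0))
(.node 11519 (.leaf 0x0)
(.leaf 0x0)))))))))

/-- part of a trie -/
def codePart45 : Tr :=
(.node 11648 (.node 11584 (.node 11552 (.node 11536 (.node 11528 (.node 11524 (.node 11522 (.node 11521 (.leaf 0x0)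
(.leaf 0x0))
(.node 11523 (.leaf 0x0)
(.leaf 0x0)))
(.node 11526 (.node 11525 (.leaf 0x0)
(.leaf 0x0))
(.node 11527 (.leaf 0x0)
(.leaf 0x0))))
(.node 11532 (.node 11530 (.node 11529 (.leaf 0x0)
(.leaf 0x0))
(.node 11531 (.leaf 0x0)
(.leaf 0x0)))
(.node 11534 (.node 11533 (.leaf 0x0)
(.leaf 0x0))
(.node 11535 (.leaf 0x0)
(.leaf 0x0)))))
(.node 11544 (.node 11540 (.node 11538 (.node 11537 (.leaf 0x0)
(.leaf 0x0))
(.node 11539 (.leaf 0x0)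
(.leaf 0x0)))
(.node 11542 (.node 11541 (.leaf 0x0)
(.leaf 0x0))
(.node 11543 (.leaf 0x0)
(.leaf 0x0))))
(.node 11548 (.node 11546 (.node 11545 (.leaf 0x0)
(.leaf 0x0))
(.node 11547 (.leaf 0x0)
(.leaf 0x0)))
(.node 11550 (.node 11549 (.leaf 0x0)
(.leaf 0x0))
(.node 11551 (.leaf 0x0)
(.leaf 0x0))))))
(.node 11568 (.node 11560 (.node 11556 (.node 11554 (.node 11553 (.leaf 0x0)
(.leaf 0x0))
(.node 11555 (.leaf 0x0)
(.leaf 0x0)))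
(.node 11558 (.node 11557 (.leaf 0x0)
(.leaf 0x0))
(.node 11559 (.leaf 0x0)
(.leaf 0x0))))
(.node 11564 (.node 11562 (.node 11561 (.leaf 0x0)
(.leaf 0x0))
(.node 11563 (.leaf 0x0)
(.leaf 0x0)))
(.node 11566 (.node 11565 (.leaf 0x0)
(.leaf 0x0))
(.node 11567 (.leaf 0x0)
(.leaf 0x0)))))
(.node 11576 (.node 11572 (.node 11570 (.node 11569 (.leaf 0x0)
(.leaf 0x0))
(.node 11571 (.leaf 0x0)
(.leaf 0x0)))
(.node 11574 (.node 11573 (.leaf 0x0)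
(.leaf 0x0))
(.node 11575 (.leaf 0x0)
(.leaf 0x0))))
(.node 11580 (.node 11578 (.node 11577 (.leaf 0x0)
(.leaf 0x0))
(.node 11579 (.leaf 0x0)
(.leaf 0x0)))
(.node 11582 (.node 11581 (.leaf 0x0)
(.leaf 0x0))
(.node 11583 (.leaf 0x0)
(.leaf 0x0)))))))
(.node 11616 (.node 11600 (.node 11592 (.node 11588 (.node 11586 (.node 11585 (.leaf 0x0)
(.leaf 0x0))
(.node 11587 (.leaf 0x0)
(.leaf 0x0)))
(.node 11590 (.node 11589 (.leaf 0x0)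
(.leaf 0x0))
(.node 11591 (.leaf 0x0)
(.leaf 0x0))))
(.node 11596 (.node 11594 (.node 11593 (.leaf 0x0)
(.leaf 0x0))
(.node 11595 (.leaf 0x0)
(.leaf 0x0)))
(.node 11598 (.node 11597 (.leaf 0x0)
(.leaf 0x0))
(.node 11599 (.leaf 0x0)
(.leaf 0x0)))))
(.node 11608 (.node 11604 (.node 11602 (.node 11601 (.leaf 0x0)
(.leaf 0x0))
(.node 11603 (.leaf 0x0)
(.leaf 0x0)))
(.node 11606 (.node 11605 (.leaf 0x0)
(.leaf 0x0))
(.node 11607 (.leaf 0x0)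
(.leaf 0x0))))
(.node 11612 (.node 11610 (.node 11609 (.leaf 0x0)
(.leaf 0x0))
(.node 11611 (.leaf 0x0)
(.leaf 0x0)))
(.node 11614 (.node 11613 (.leaf 0x0)
(.leaf 0x0))
(.node 11615 (.leaf 0x0)
(.leaf 0x0))))))
(.node 11632 (.node 11624 (.node 11620 (.node 11618 (.node 11617 (.leaf 0x0)
(.leaf 0x0))
(.node 11619 (.leaf 0x0)
(.leaf 0x0)))
(.node 11622 (.node 11621 (.leaf 0x0)
(.leaf 0x0))
(.node 11623 (.leaf 0x0)
(.leaf 0x0))))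
(.node 11628 (.node 11626 (.node 11625 (.leaf 0x0)
(.leaf 0x0))
(.node 11627 (.leaf 0x0)
(.leaf 0x0)))
(.node 11630 (.node 11629 (.leaf 0x0)
(.leaf 0x0))
(.node 11631 (.leaf 0x0)
(.leaf 0x0)))))
(.node 11640 (.node 11636 (.node 11634 (.node 11633 (.leaf 0x0)
(.leaf 0x0))
(.node 11635 (.leaf 0x0)
(.leaf 0x0)))
(.node 11638 (.node 11637 (.leaf 0x0)
(.leaf 0x0))
(.node 11639 (.leaf 0x0)
(.leaf 0x0))))
(.node 11644 (.node 11642 (.node 11641 (.leaf 0x0)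
(.leaf 0x0))
(.node 11643 (.leaf 0x0)
(.leaf 0x0)))
(.node 11646 (.node 11645 (.leaf 0x0)
(.leaf 0x0))
(.node 11647 (.leaf 0x0)
(.leaf 0x0))))))))
(.node 11712 (.node 11680 (.node 11664 (.node 11656 (.node 11652 (.node 11650 (.node 11649 (.leaf 0x0)
(.leaf 0x0))
(.node 11651 (.leaf 0x0)
(.leaf 0x0)))
(.node 11654 (.node 11653 (.leaf 0x0)
(.leaf 0x0))
(.node 11655 (.leaf 0x0)
(.leaf 0x0))))
(.node 11660 (.node 11658 (.node 11657 (.leaf 0x0)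
(.leaf 0x0))
(.node 11659 (.leaf 0x0)
(.leaf 0x0)))
(.node 11662 (.node 11661 (.leaf 0x0)
(.leaf 0x0))
(.node 11663 (.leaf 0x0)
(.leaf 0x0)))))
(.node 11672 (.node 11668 (.node 11666 (.node 11665 (.leaf 0x0)
(.leaf 0x0))
(.node 11667 (.leaf 0x0)
(.leaf 0x0)))
(.node 11670 (.node 11669 (.leaf 0x0)
(.leaf 0x0))
(.node 11671 (.leaf 0x0)
(.leaf 0x0))))
(.node 11676 (.node 11674 (.node 11673 (.leaf 0x0)
(.leaf 0x0))
(.node 11675 (.leaf 0x13400dc00e20402)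
(.leaf 0x194011c01220402)))
(.node 11678 (.node 11677 (.leaf 0x224017c01820402)
(.leaf 0x2ec020c02120402))
(.node 11679 (.leaf 0x40002d802de0402)
(.leaf 0x761067f867fe0402))))))
(.node 11696 (.node 11688 (.node 11684 (.node 11682 (.node 11681 (.leaf 0x7ec471b471ba0402)
(.leaf 0x82d07608760e0402))
(.node 11683 (.leaf 0x8568792079260402)
(.leaf 0x88487c307c360402)))
(.node 11686 (.node 11685 (.leaf 0x88e47d247d2a0402)
(.leaf 0x8a3c7eb87ebe0402))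
(.node 11687 (.leaf 0x8ac07f747f7a0402)
(.leaf 0x8cb481a481aa0402))))
(.node 11692 (.node 11690 (.node 11689 (.leaf 0x8dbc82c882ce0402)
(.leaf 0x8f78850085060402))
(.node 11691 (.leaf 0x8fcc855c85620402)
(.leaf 0x925c8834883a0402)))
(.node 11694 (.node 11693 (.leaf 0x92808874887a0402)
(.leaf 0x92b488bc88c20402))
(.node 11695 (.leaf 0x93c88a308a360402)
(.leaf 0x93e08a548a5a0402)))))
(.node 11704 (.node 11700 (.node 11698 (.node 11697 (.leaf 0x95648c388c3e0402)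
(.leaf 0x95888c688c6e0402))
(.node 11699 (.leaf 0x96c48db08db60402)
(.leaf 0x98048f6c8f720402)))
(.node 11702 (.node 11701 (.leaf 0x98408fc08fc60402)
(.leaf 0x98949018901e0402))
(.node 11703 (.leaf 0x993090d090d60402)
(.leaf 0x99ac9144914a0402))))
(.node 11708 (.node 11706 (.node 11705 (.leaf 0x9ad892a892ae0402)
(.leaf 0x9b8893a893ae0402))
(.node 11707 (.leaf 0x9b9093b893be0402)
(.leaf 0x9b9c93d493da0402)))
(.node 11710 (.node 11709 (.leaf 0x9c5894cc94d20402)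
(.leaf 0x9ce09558955e0402))
(.node 11711 (.leaf 0x9e1096b496ba0402)
(.leaf 0x9e409704970a0402)))))))
(.node 11744 (.node 11728 (.node 11720 (.node 11716 (.node 11714 (.node 11713 (.leaf 0x9ee897e497ea0402)
(.leaf 0x9ef497f497fa0402))
(.node 11715 (.leaf 0x9f0097fc98020402)
(.leaf 0x9f28982c98320402)))
(.node 11718 (.node 11717 (.leaf 0x9f7c9884988a0402)
(.leaf 0x9f80988c98920402))
(.node 11719 (.leaf 0xa004991c99220402)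
(.leaf 0xa0109928992e0402))))
(.node 11724 (.node 11722 (.node 11721 (.leaf 0xa08499a099a60402)
(.leaf 0xa0a499bc99c20402))
(.node 11723 (.leaf 0xa1f89b809b860402)
(.leaf 0xa26c9c2c9c320402)))
(.node 11726 (.node 11725 (.leaf 0xa2889c489c4e0402)
(.leaf 0xa2909c509c560402))
(.node 11727 (.leaf 0xa2dc9c989c9e0402)
(.leaf 0xa3009ccc9cd20402)))))
(.node 11736 (.node 11732 (.node 11730 (.node 11729 (.leaf 0xa30c9cd89cde0402)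
(.leaf 0xa40c9e089e0e0402))
(.node 11731 (.leaf 0xa4809ec09ec60402)
(.leaf 0xa49c9ed89ede0402)))
(.node 11734 (.node 11733 (.leaf 0xa4d49f149f1a0402)
(.leaf 0xa5289f749f7a0402))
(.node 11735 (.leaf 0xa5449fa49faa0402)
(.leaf 0xa5a49ffca0020402))))
(.node 11740 (.node 11738 (.node 11737 (.leaf 0xa62ca090a0960402)
(.leaf 0xa798a25ca2620402))
(.node 11739 (.leaf 0xa7a0a264a26a0402)
(.leaf 0xa7b4a280a2860402)))
(.node 11742 (.node 11741 (.leaf 0xa804a2d4a2da0402)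
(.leaf 0xa970a48ca4920402))
(.node 11743 (.leaf 0xa978a494a49a0402)
(.leaf 0xa9a0a4cca4d20402))))))
(.node 11760 (.node 11752 (.node 11748 (.node 11746 (.node 11745 (.leaf 0xa9b0a4dca4e20402)
(.leaf 0xaa44a598a59e0402))
(.node 11747 (.leaf 0xabc8a790a7960402)
(.leaf 0xad58a968a96e0402)))
(.node 11750 (.node 11749 (.leaf 0xad8ca998a99e0402)
(.leaf 0x3c802a002a60406))
(.node 11751 (.leaf 0x4c0036003660406)
(.leaf 0x51c03a003a60406))))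
(.node 11756 (.node 11754 (.node 11753 (.leaf 0x668049c04a20406)
(.leaf 0x6dc04f004f60406))
(.node 11755 (.leaf 0x8a0064006460406)
(.leaf 0x13480e5c0e620406)))
(.node 11758 (.node 11757 (.leaf 0x16f41134113a0406)
(.leaf 0x190012c812ce0406))
(.node 11759 (.leaf 0x1958131013160406)
(.leaf 0x1980133013360406)))))
(.node 11768 (.node 11764 (.node 11762 (.node 11761 (.leaf 0x1bdc1504150a0406)
(.leaf 0x1ddc168c16920406))
(.node 11763 (.leaf 0x1e2016bc16c20406)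
(.leaf 0x1e4c16dc16e20406)))
(.node 11766 (.node 11765 (.leaf 0x20701894189a0406)
(.leaf 0x20c818d818de0406))
(.node 11767 (.leaf 0x20e018ec18f20406)
(.leaf 0x21181924192a0406))))
(.node 11772 (.node 11770 (.node 11769 (.leaf 0x2140194019460406)
(.leaf 0x22881a581a5e0406))
(.node 11771 (.leaf 0x24201b841b8a0406)
(.leaf 0x24501ba81bae0406)))
(.node 11774 (.node 11773 (.leaf 0x247c1bc81bce0406)
(.leaf 0x25f01cdc1ce20406))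
(.node 11775 (.leaf 0x26001cec1cf20406)
(.leaf 0x269c1d6c1d720406)))))))))

/-- part of a trie -/
def codePart46 : Tr :=
(.node 11904 (.node 11840 (.node 11808 (.node 11792 (.node 11784 (.node 11780 (.node 11778 (.node 11777 (.leaf 0x26f81db01db60406)
(.leaf 0x27101dc41dca0406))
(.node 11779 (.leaf 0x27381dec1df20406)
(.leaf 0x27601e081e0e0406)))
(.node 11782 (.node 11781 (.leaf 0x27881e341e3a0406)
(.leaf 0x28b81f2c1f320406))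
(.node 11783 (.leaf 0x29481f8c1f920406)
(.leaf 0x2a282048204e0406))))
(.node 11788 (.node 11786 (.node 11785 (.leaf 0x2a44205c20620406)
(.leaf 0x2a9420a020a60406))
(.node 11787 (.leaf 0x2aac20b420ba0406)
(.leaf 0x2b082104210a0406)))
(.node 11790 (.node 11789 (.leaf 0x2b10210c21120406)
(.leaf 0x2b18211c21220406))
(.node 11791 (.leaf 0x2b30212c21320406)
(.leaf 0x2c882248224e0406)))))
(.node 11800 (.node 11796 (.node 11794 (.node 11793 (.leaf 0x2c9c225c22620406)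
(.leaf 0x2cb82274227a0406))
(.node 11795 (.leaf 0x2df02364236a0406)
(.leaf 0x2e10238023860406)))
(.node 11798 (.node 11797 (.leaf 0x2e6023b823be0406)
(.leaf 0x2ebc23f823fe0406))
(.node 11799 (.leaf 0x2f082438243e0406)
(.leaf 0x2f382464246a0406))))
(.node 11804 (.node 11802 (.node 11801 (.leaf 0x30502548254e0406)
(.leaf 0x30f825b825be0406))
(.node 11803 (.leaf 0x311c25d825de0406)
(.leaf 0x31ec2678267e0406)))
(.node 11806 (.node 11805 (.leaf 0x3208268c26920406)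
(.leaf 0x325c26cc26d20406))
(.node 11807 (.leaf 0x327426e026e60406)
(.leaf 0x32c0273c27420406))))))
(.node 11824 (.node 11816 (.node 11812 (.node 11810 (.node 11809 (.leaf 0x32d4274c27520406)
(.leaf 0x34502888288e0406))
(.node 11811 (.leaf 0x347028a828ae0406)
(.leaf 0x3518291c29220406)))
(.node 11814 (.node 11813 (.leaf 0x3530293029360406)
(.leaf 0x35b429ac29b20406))
(.node 11815 (.leaf 0x35c829bc29c20406)
(.leaf 0x35e829e029e60406))))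
(.node 11820 (.node 11818 (.node 11817 (.leaf 0x36102a002a060406)
(.leaf 0x36282a142a1a0406))
(.node 11819 (.leaf 0x36a42a802a860406)
(.leaf 0x37142afc2b020406)))
(.node 11822 (.node 11821 (.leaf 0x38382c102c160406)
(.leaf 0x384c2c242c2a0406))
(.node 11823 (.leaf 0x388c2c5c2c620406)
(.leaf 0x389c2c702c760406)))))
(.node 11832 (.node 11828 (.node 11826 (.node 11825 (.leaf 0x39842d502d560406)
(.leaf 0x3a1c2dbc2dc20406))
(.node 11827 (.leaf 0x3a3c2dd82dde0406)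
(.leaf 0x3a5c2dfc2e020406)))
(.node 11830 (.node 11829 (.leaf 0x3abc2e482e4e0406)
(.leaf 0x3b282ea42eaa0406))
(.node 11831 (.leaf 0x3b642ee02ee60406)
(.leaf 0x3b782ef02ef60406))))
(.node 11836 (.node 11834 (.node 11833 (.leaf 0x3ccc3018301e0406)
(.leaf 0x3cfc3038303e0406))
(.node 11835 (.leaf 0x3db030cc30d20406)
(.leaf 0x3dcc30e030e60406)))
(.node 11838 (.node 11837 (.leaf 0x3e583164316a0406)
(.leaf 0x3e6c3174317a0406))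
(.node 11839 (.leaf 0x3e98319c31a20406)
(.leaf 0x3ec831c031c60406)))))))
(.node 11872 (.node 11856 (.node 11848 (.node 11844 (.node 11842 (.node 11841 (.leaf 0x3ee031d431da0406)
(.leaf 0x3f64324c32520406))
(.node 11843 (.leaf 0x40803378337e0406)
(.leaf 0x40e833c833ce0406)))
(.node 11846 (.node 11845 (.leaf 0x41683424342a0406)
(.leaf 0x41843438343e0406))
(.node 11847 (.leaf 0x424c34d034d60406)
(.leaf 0x427034ec34f20406))))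
(.node 11852 (.node 11850 (.node 11849 (.leaf 0x428c350035060406)
(.leaf 0x43243588358e0406))
(.node 11851 (.leaf 0x43383598359e0406)
(.leaf 0x434035a435aa0406)))
(.node 11854 (.node 11853 (.leaf 0x437435dc35e20406)
(.leaf 0x439835fc36020406))
(.node 11855 (.leaf 0x45943808380e0406)
(.leaf 0x45b83828382e0406)))))
(.node 11864 (.node 11860 (.node 11858 (.node 11857 (.leaf 0x46dc3954395a0406)
(.leaf 0x4704397039760406))
(.node 11859 (.leaf 0x48383a8c3a920406)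
(.leaf 0x48543aa03aa60406)))
(.node 11862 (.node 11861 (.leaf 0x48b43b083b0e0406)
(.leaf 0x49543bd83bde0406))
(.node 11863 (.leaf 0x496c3bf03bf60406)
(.leaf 0x49cc3c383c3e0406))))
(.node 11868 (.node 11866 (.node 11865 (.leaf 0x4a543ca03ca60406)
(.leaf 0x4a6c3cb43cba0406))
(.node 11867 (.leaf 0x4ab03ce43cea0406)
(.leaf 0x4b4c3d743d7a0406)))
(.node 11870 (.node 11869 (.leaf 0x4b7c3d983d9e0406)
(.leaf 0x4c743e843e8a0406))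
(.node 11871 (.leaf 0x4cac3eb03eb60406)
(.leaf 0x4dfc4034403a0406))))))
(.node 11888 (.node 11880 (.node 11876 (.node 11874 (.node 11873 (.leaf 0x4e2c4068406e0406)
(.leaf 0x4eb040d040d60406))
(.node 11875 (.leaf 0x4f244124412a0406)
(.leaf 0x4f64415041560406)))
(.node 11878 (.node 11877 (.leaf 0x506c422042260406)
(.leaf 0x508c4238423e0406))
(.node 11879 (.leaf 0x50bc425c42620406)
(.leaf 0x51904314431a0406))))
(.node 11884 (.node 11882 (.node 11881 (.leaf 0x5200438c43920406)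
(.leaf 0x53ac456c45720406))
(.node 11883 (.leaf 0x53d445a845ae0406)
(.leaf 0x5450464c46520406)))
(.node 11886 (.node 11885 (.leaf 0x54dc46b846be0406)
(.leaf 0x54ec46c846ce0406))
(.node 11887 (.leaf 0x551846ec46f20406)
(.leaf 0x55e04798479e0406)))))
(.node 11896 (.node 11892 (.node 11890 (.node 11889 (.leaf 0x55f447ac47b20406)
(.leaf 0x5658482048260406))
(.node 11891 (.leaf 0x5740493c49420406)
(.leaf 0x57e049b449ba0406)))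
(.node 11894 (.node 11893 (.leaf 0x58544a144a1a0406)
(.leaf 0x588c4a3c4a420406))
(.node 11895 (.leaf 0x59c84b3c4b420406)
(.leaf 0x5ac04c204c260406))))
(.node 11900 (.node 11898 (.node 11897 (.leaf 0x5c644dec4df20406)
(.leaf 0x5c844e184e1e0406))
(.node 11899 (.leaf 0x5d0c4e884e8e0406)
(.leaf 0x5d1c4e984e9e0406)))
(.node 11902 (.node 11901 (.leaf 0x5de04f384f3e0406)
(.leaf 0x5f24505c50620406))
(.node 11903 (.leaf 0x61e85388538e0406)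
(.leaf 0x62785438543e0406))))))))
(.node 11968 (.node 11936 (.node 11920 (.node 11912 (.node 11908 (.node 11906 (.node 11905 (.leaf 0x62ec549c54a20406)
(.leaf 0x630c54b854be0406))
(.node 11907 (.leaf 0x631c54c854ce0406)
(.leaf 0x640c55a055a60406)))
(.node 11910 (.node 11909 (.leaf 0x643855cc55d20406)
(.leaf 0x65345724572a0406))
(.node 11911 (.leaf 0x66905844584a0406)
(.leaf 0x6b545cfc5d020406))))
(.node 11916 (.node 11914 (.node 11913 (.leaf 0x70706264626a0406)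
(.leaf 0x70e062cc62d20406))
(.node 11915 (.leaf 0x711462fc63020406)
(.leaf 0x720463ec63f20406)))
(.node 11918 (.node 11917 (.leaf 0x73b865e065e60406)
(.leaf 0x74546674667a0406))
(.node 11919 (.leaf 0x8058738c73920406)
(.leaf 0xaf10ab90ab960406)))))
(.node 11928 (.node 11924 (.node 11922 (.node 11921 (.leaf 0x34002c0004002e0036040e)
(.leaf 0x2c0024002e0212))
(.node 11923 (.leaf 0x728b79e052a0416)
(.leaf 0x8e4b7a206760416)))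
(.node 11926 (.node 11925 (.leaf 0x978b7a606ea0416)
(.leaf 0xbc4b7aa08ae0416))
(.node 11927 (.leaf 0x199cb7ae134e0416)
(.leaf 0x20f4b7b619060416))))
(.node 11932 (.node 11930 (.node 11929 (.leaf 0x215cb7ba19620416)
(.leaf 0x2180b7be198a0416))
(.node 11931 (.leaf 0x2490b7c21be20416)
(.leaf 0x27a4b7ce1e560416)))
(.node 11934 (.node 11933 (.leaf 0x2a60b7d2207a0416)
(.leaf 0x2accb7d620d20416))
(.node 11935 (.leaf 0x2ae8b7da20e60416)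
(.leaf 0x2cc4b7e6228e0416))))))
(.node 11952 (.node 11944 (.node 11940 (.node 11938 (.node 11937 (.leaf 0x2f28b7ee245a0416)
(.leaf 0x313cb7f625f60416))
(.node 11939 (.leaf 0x3224b7fe26a60416)
(.leaf 0x3290b80227020416)))
(.node 11942 (.node 11941 (.leaf 0x348cb81628c20416)
(.leaf 0x354cb81a29520416))
(.node 11943 (.leaf 0x3648b81e2a320416)
(.leaf 0x3674b8222a4e0416))))
(.node 11948 (.node 11946 (.node 11945 (.leaf 0x36c0b8262a9e0416)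
(.leaf 0x36dcb82a2ab60416))
(.node 11947 (.leaf 0x3744b83a2b3a0416)
(.leaf 0x3a54b84a2df60416)))
(.node 11950 (.node 11949 (.leaf 0x3b48b8562ec60416)
(.leaf 0x3b90b85a2f120416))
(.node 11951 (.leaf 0x3d18b862305a0416)
(.leaf 0x3decb86631020416)))))
(.node 11960 (.node 11956 (.node 11954 (.node 11953 (.leaf 0x3f00b86e31f60416)
(.leaf 0x3f30b87232120416))
(.node 11955 (.leaf 0x3f94b87a327e0416)
(.leaf 0x41a4b886345a0416)))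
(.node 11958 (.node 11957 (.leaf 0x42acb88e35220416)
(.leaf 0x4354b89635be0416))
(.node 11959 (.leaf 0x436cb89a35d20416)
(.leaf 0x4380b89e35f20416))))
(.node 11964 (.node 11962 (.node 11961 (.leaf 0x43b4b8a2361a0416)
(.leaf 0x43d0b8a636320416))
(.node 11963 (.leaf 0x45c4b8b2383e0416)
(.leaf 0x471cb8c2398e0416)))
(.node 11966 (.node 11965 (.leaf 0x47d4b8c63a220416)
(.leaf 0x4870b8d23ac60416))
(.node 11967 (.leaf 0x48d4b8d63b320416)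
(.leaf 0x4a8cb8e23cd60416)))))))
(.node 12000 (.node 11984 (.node 11976 (.node 11972 (.node 11970 (.node 11969 (.leaf 0x4ad0b8e63d060416)
(.leaf 0x4b9cb8ea3dba0416))
(.node 11971 (.leaf 0x4bc0b8ee3dd60416)
(.leaf 0x4c4cb8f23e620416)))
(.node 11974 (.node 11973 (.leaf 0x4c90b8fa3ea20416)
(.leaf 0x4cc8b8fe3ed20416))
(.node 11975 (.leaf 0x4ce4b9023eea0416)
(.leaf 0x4e48b90a408a0416))))
(.node 11980 (.node 11978 (.node 11977 (.leaf 0x4ed4b90e40f20416)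
(.leaf 0x4f88b91241720416))
(.node 11979 (.leaf 0x4fb4b916418e0416)
(.leaf 0x50a4b91a42560416)))
(.node 11982 (.node 11981 (.leaf 0x51a0b926432e0416)
(.leaf 0x51b4b92a433e0416))
(.node 11983 (.leaf 0x51bcb92e43460416)
(.leaf 0x51e4b932437a0416)))))
(.node 11992 (.node 11988 (.node 11986 (.node 11985 (.leaf 0x5210b93643a20416)
(.leaf 0x53c4b93a459e0416))
(.node 11987 (.leaf 0x5504b94246e60416)
(.leaf 0x5534b946470e0416)))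
(.node 11990 (.node 11989 (.leaf 0x5674b94a48420416)
(.leaf 0x569cb94e485e0416))
(.node 11991 (.leaf 0x56ecb95248be0416)
(.leaf 0x5760b956495e0416))))
(.node 11996 (.node 11994 (.node 11993 (.leaf 0x5804b95e49d60416)
(.leaf 0x58b0b9624a5e0416))
(.node 11995 (.leaf 0x58d8b9664a760416)
(.leaf 0x59dcb96e4b560416)))
(.node 11998 (.node 11997 (.leaf 0x5a20b9724b860416)
(.leaf 0x5b08b9764c7e0416))
(.node 11999 (.leaf 0x5b54b97a4cb60416)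
(.leaf 0x5ca0b9824e360416))))))
(.node 12016 (.node 12008 (.node 12004 (.node 12002 (.node 12001 (.leaf 0x5d3cb9864eba0416)
(.leaf 0x5dc4b98a4f2e0416))
(.node 12003 (.leaf 0x5e10b98e4f6e0416)
(.leaf 0x6080b99e51960416)))
(.node 12006 (.node 12005 (.leaf 0x620cb9a653b20416)
(.leaf 0x6298b9ae545a0416))
(.node 12007 (.leaf 0x6338b9b254e60416)
(.leaf 0x6460b9c255fe0416))))
(.node 12012 (.node 12010 (.node 12009 (.leaf 0x64a4b9c656620416)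
(.leaf 0x6558b9ca574a0416))
(.node 12011 (.leaf 0x6614b9ce57ea0416)
(.leaf 0x66a8b9d2585e0416)))
(.node 12014 (.node 12013 (.leaf 0x66f8b9d658960416)
(.leaf 0x6ad0b9e65c8e0416))
(.node 12015 (.leaf 0x7088b9fe62820416)
(.leaf 0x7224ba0e64160416)))))
(.node 12024 (.node 12020 (.node 12018 (.node 12017 (.leaf 0x7300ba16653a0416)
(.leaf 0x7f10ba2e720e0416))
(.node 12019 (.leaf 0x98648fe48fea0416)
(.leaf 0x995090f090f60416)))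
(.node 12022 (.node 12021 (.leaf 0x9c7894f094f60416)
(.leaf 0x9f449848984e0416))
(.node 12023 (.leaf 0xa0189938993e0416)
(.leaf 0x30002c0000002e0032061a))))
(.node 12028 (.node 12026 (.node 12025 (.leaf 0x800064006a0422)
(.leaf 0x9c0074007a0422))
(.node 12027 (.leaf 0xc4009000960422)
(.leaf 0x10400b800be0422)))
(.node 12030 (.node 12029 (.leaf 0x16400f800fe0422)
(.leaf 0x1f00158015e0422))
(.node 12031 (.leaf 0xc64090c09120422)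
(.leaf 0xd3809a409ae0422)))))))))

/-- part of a trie -/
def codePart47 : Tr :=
(.node 12160 (.node 12096 (.node 12064 (.node 12048 (.node 12040 (.node 12036 (.node 12034 (.node 12033 (.leaf 0xdac0a040a0a0422)
(.leaf 0xf6c0b640b6a0422))
(.node 12035 (.leaf 0x10280bf00bfa0422)
(.leaf 0x108c0c400c460422)))
(.node 12038 (.node 12037 (.leaf 0x118c0d080d120422)
(.leaf 0x13a00eac0eb20422))
(.node 12039 (.leaf 0x142c0f100f1a0422)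
(.leaf 0x15440ff810020422))))
(.node 12044 (.node 12042 (.node 12041 (.leaf 0x19c0136c13760422)
(.leaf 0x1a8013fc14060422))
(.node 12043 (.leaf 0x36982a702a760422)
(.leaf 0x3b002e782e7e0422)))
(.node 12046 (.node 12045 (.leaf 0x3f5c3234323a0422)
(.leaf 0x4204349c34a20422))
(.node 12047 (.leaf 0x4734399839a20422)
(.leaf 0x4b083d283d320422)))))
(.node 12056 (.node 12052 (.node 12050 (.node 12049 (.leaf 0x4d383f143f1e0422)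
(.leaf 0x4d643f503f560422))
(.node 12051 (.leaf 0x500841b841c20422)
(.leaf 0x504841f841fe0422)))
(.node 12054 (.node 12053 (.leaf 0x514442bc42c60422)
(.leaf 0x555c4724472e0422))
(.node 12055 (.leaf 0x56d04884488a0422)
(.leaf 0x592c4aa04aaa0422))))
(.node 12060 (.node 12058 (.node 12057 (.leaf 0x59984af84b020422)
(.leaf 0x5a704bb04bba0422))
(.node 12059 (.leaf 0x5bfc4d244d2e0422)
(.leaf 0x5c184d5c4d620422)))
(.node 12062 (.node 12061 (.leaf 0x5ec44ff04ffa0422)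
(.leaf 0x5efc502850320422))
(.node 12063 (.leaf 0x5f0c504050460422)
(.leaf 0x5f9050b450ba0422))))))
(.node 12080 (.node 12072 (.node 12068 (.node 12066 (.node 12065 (.leaf 0x60cc51f451fe0422)
(.leaf 0x6374550c55120422))
(.node 12067 (.leaf 0x674c58c458ce0422)
(.leaf 0x67bc5914591e0422)))
(.node 12070 (.node 12069 (.leaf 0x6844598c59960422)
(.leaf 0x68a059ec59f20422))
(.node 12071 (.leaf 0x68c05a085a120422)
(.leaf 0x69d85b3c5b460422))))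
(.node 12076 (.node 12074 (.node 12073 (.leaf 0x6a685bdc5be60422)
(.leaf 0x6a705bf05bf60422))
(.node 12075 (.leaf 0x6b145cb45cbe0422)
(.leaf 0x6d105e485e520422)))
(.node 12078 (.node 12077 (.leaf 0x6d845eb05eba0422)
(.leaf 0x6dbc5eec5ef60422))
(.node 12079 (.leaf 0x6e585f885f8e0422)
(.leaf 0x6e945fbc5fc60422)))))
(.node 12088 (.node 12084 (.node 12082 (.node 12081 (.leaf 0x6f5460bc60c60422)
(.leaf 0x6fac610861120422))
(.node 12083 (.leaf 0x700461b461ba0422)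
(.leaf 0x70c062a862ae0422)))
(.node 12086 (.node 12085 (.leaf 0x71b06390639a0422)
(.leaf 0x71ec63bc63c60422))
(.node 12087 (.leaf 0x72746458645e0422)
(.leaf 0x72d064d864e20422))))
(.node 12092 (.node 12090 (.node 12089 (.leaf 0x72f0651065160422)
(.leaf 0x7440665066560422))
(.node 12091 (.leaf 0x74b466b866c20422)
(.leaf 0x74e866e866ee0422)))
(.node 12094 (.node 12093 (.leaf 0x751c670c67160422)
(.leaf 0x7568673c67460422))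
(.node 12095 (.leaf 0x75c06794679e0422)
(.leaf 0x7674686868720422)))))))
(.node 12128 (.node 12112 (.node 12104 (.node 12100 (.node 12098 (.node 12097 (.leaf 0x76a06898689e0422)
(.leaf 0x76bc68b068ba0422))
(.node 12099 (.leaf 0x777869b869c20422)
(.leaf 0x778069c869d20422)))
(.node 12102 (.node 12101 (.leaf 0x77d06a186a220422)
(.leaf 0x77e86a386a420422))
(.node 12103 (.leaf 0x77fc6a606a660422)
(.leaf 0x78586ae06aea0422))))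
(.node 12108 (.node 12106 (.node 12105 (.leaf 0x78886b046b0e0422)
(.leaf 0x79646bc06bca0422))
(.node 12107 (.leaf 0x79f86c606c6a0422)
(.leaf 0x7a306c886c920422)))
(.node 12110 (.node 12109 (.leaf 0x7ab06cf06cfa0422)
(.leaf 0x7ac06d006d0a0422))
(.node 12111 (.leaf 0x7afc6d3c6d460422)
(.leaf 0x7b2c6d686d720422)))))
(.node 12120 (.node 12116 (.node 12114 (.node 12113 (.leaf 0x7bc86e0c6e160422)
(.leaf 0x7bec6e4c6e520422))
(.node 12115 (.leaf 0x7c2c6e846e8e0422)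
(.leaf 0x7cec6f946f9e0422)))
(.node 12118 (.node 12117 (.leaf 0x7db4709870a20422)
(.leaf 0x7dc470b870be0422))
(.node 12119 (.leaf 0x7e40713071360422)
(.leaf 0x7e7c7164716a0422))))
(.node 12124 (.node 12122 (.node 12121 (.leaf 0x7eb471a471ae0422)
(.leaf 0x7eec71d471de0422))
(.node 12123 (.leaf 0x7f4c7234723a0422)
(.leaf 0x7f707264726e0422)))
(.node 12126 (.node 12125 (.leaf 0x7fd8730c73120422)
(.leaf 0x8008732c73360422))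
(.node 12127 (.leaf 0x80a473d873de0422)
(.leaf 0x80fc742c74360422))))))
(.node 12144 (.node 12136 (.node 12132 (.node 12130 (.node 12129 (.leaf 0x81307464746a0422)
(.leaf 0x815c7484748e0422))
(.node 12131 (.leaf 0x818474a474ae0422)
(.leaf 0x81f8750875120422)))
(.node 12134 (.node 12133 (.leaf 0x8248755875620422)
(.leaf 0x82707580758a0422))
(.node 12135 (.leaf 0x828c75b075ba0422)
(.leaf 0x8324766c76720422))))
(.node 12140 (.node 12138 (.node 12137 (.leaf 0x83387694769a0422)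
(.leaf 0x834c76a876b20422))
(.node 12139 (.leaf 0x841077b477be0422)
(.leaf 0x8474784878520422)))
(.node 12142 (.node 12141 (.leaf 0x84a4787878820422)
(.leaf 0x852478e478ea0422))
(.node 12143 (.leaf 0x8558790c79160422)
(.leaf 0x85a0794879520422)))))
(.node 12152 (.node 12148 (.node 12146 (.node 12145 (.leaf 0x85b07954795e0422)
(.leaf 0x860079b079ba0422))
(.node 12147 (.leaf 0x863879e079ea0422)
(.leaf 0x86787a1c7a260422)))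
(.node 12150 (.node 12149 (.leaf 0x86c07a647a6e0422)
(.leaf 0x86e87a8c7a960422))
(.node 12151 (.leaf 0x87dc7bb87bc20422)
(.leaf 0x89347d887d8e0422))))
(.node 12156 (.node 12154 (.node 12153 (.leaf 0x89547da87db20422)
(.leaf 0x89607dbc7dc20422))
(.node 12155 (.leaf 0x89887dec7df20422)
(.leaf 0x89b47e147e1a0422)))
(.node 12158 (.node 12157 (.leaf 0x89cc7e387e3e0422)
(.leaf 0x89f47e6c7e720422))
(.node 12159 (.leaf 0x89fc7e747e7a0422)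
(.leaf 0x8a247ea07eaa0422))))))))
(.node 12224 (.node 12192 (.node 12176 (.node 12168 (.node 12164 (.node 12162 (.node 12161 (.leaf 0x8a607ee07eea0422)
(.leaf 0x8aac7f447f4a0422))
(.node 12163 (.leaf 0x8abc7f687f6e0422)
(.leaf 0x8ae07fc87fce0422)))
(.node 12166 (.node 12165 (.leaf 0x8b1c7ff880020422)
(.leaf 0x8b94808c80960422))
(.node 12167 (.leaf 0x8ba08098809e0422)
(.leaf 0x8c648150815a0422))))
(.node 12172 (.node 12170 (.node 12169 (.leaf 0x8c8c8174817e0422)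
(.leaf 0x8cbc81ac81b60422))
(.node 12171 (.leaf 0x8cec81e881f20422)
(.leaf 0x8df4831c83220422)))
(.node 12174 (.node 12173 (.leaf 0x8ef08464846e0422)
(.leaf 0x8f0c848884920422))
(.node 12175 (.leaf 0x8f6884f084fa0422)
(.leaf 0x8f908514851e0422)))))
(.node 12184 (.node 12180 (.node 12178 (.node 12177 (.leaf 0x8fbc854885520422)
(.leaf 0x8ffc8580858a0422))
(.node 12179 (.leaf 0x90108590859a0422)
(.leaf 0x906085f085fa0422)))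
(.node 12182 (.node 12181 (.leaf 0x90cc866886720422)
(.leaf 0x910486a086aa0422))
(.node 12183 (.leaf 0x911886b086ba0422)
(.leaf 0x92f0891089160422))))
(.node 12188 (.node 12186 (.node 12185 (.leaf 0x930c892c89320422)
(.leaf 0x932c894c89520422))
(.node 12187 (.leaf 0x9344898089860422)
(.leaf 0x934c898c89920422)))
(.node 12190 (.node 12189 (.leaf 0x935c89a089a60422)
(.leaf 0x936089a889ae0422))
(.node 12191 (.leaf 0x937489c089c60422)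
(.leaf 0x93b48a188a220422))))))
(.node 12208 (.node 12200 (.node 12196 (.node 12194 (.node 12193 (.leaf 0x940c8aa08aa60422)
(.leaf 0x94508afc8b060422))
(.node 12195 (.leaf 0x94608b0c8b160422)
(.leaf 0x94b88b748b7a0422)))
(.node 12198 (.node 12197 (.leaf 0x95408c108c160422)
(.leaf 0x95848c588c620422))
(.node 12199 (.leaf 0x95f08cd08cda0422)
(.leaf 0x97888ed88ee20422))))
(.node 12204 (.node 12202 (.node 12201 (.leaf 0x97f08f588f620422)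
(.leaf 0x98608fd88fe20422))
(.node 12203 (.leaf 0x98748fec8ff60422)
(.leaf 0x98c49050905a0422)))
(.node 12206 (.node 12205 (.leaf 0x997c910c91120422)
(.leaf 0x9af892d092d60422))
(.node 12207 (.leaf 0x9b0092dc92e20422)
(.leaf 0x9b0c92e892ee0422)))))
(.node 12216 (.node 12212 (.node 12210 (.node 12209 (.leaf 0x9b1c92fc93020422)
(.leaf 0x9b209304930a0422))
(.node 12211 (.leaf 0x9b409338933e0422)
(.leaf 0x9b549354935a0422)))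
(.node 12214 (.node 12213 (.leaf 0x9bc89430943a0422)
(.leaf 0x9bdc9440944a0422))
(.node 12215 (.leaf 0x9c18948894920422)
(.leaf 0x9cf49570957a0422))))
(.node 12220 (.node 12218 (.node 12217 (.leaf 0x9f549850985a0422)
(.leaf 0x9f6c9868986e0422))
(.node 12219 (.leaf 0xa0409954995a0422)
(.leaf 0xa1989ae89aee0422)))
(.node 12222 (.node 12221 (.leaf 0xa19c9af09af60422)
(.leaf 0xa1ac9b049b0a0422))
(.node 12223 (.leaf 0xa1b89b149b1a0422)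
(.leaf 0xa2c09c7c9c860422)))))))
(.node 12256 (.node 12240 (.node 12232 (.node 12228 (.node 12226 (.node 12225 (.leaf 0xa4389e609e660422)
(.leaf 0xa5149f489f4e0422))
(.node 12227 (.leaf 0xa5209f609f660422)
(.leaf 0xa5c4a01ca0220422)))
(.node 12230 (.node 12229 (.leaf 0xa5dca034a03a0422)
(.leaf 0xa6dca150a1560422))
(.node 12231 (.leaf 0xa7e0a2aca2b60422)
(.leaf 0xa9dca504a50e0422))))
(.node 12236 (.node 12234 (.node 12233 (.leaf 0xaa60a5b8a5be0422)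
(.leaf 0xab2ca6a4a6aa0422))
(.node 12235 (.leaf 0xab50a6d0a6d60422)
(.leaf 0xaee0ab24ab2a0422)))
(.node 12238 (.node 12237 (.leaf 0x2c0014002e0226)
(.leaf 0x55403c403ca0426))
(.node 12239 (.leaf 0x71c0518051e0426)
(.leaf 0x96c06d806de0426)))))
(.node 12248 (.node 12244 (.node 12242 (.node 12241 (.leaf 0x19981344134a0426)
(.leaf 0x1e6016f016f60426))
(.node 12243 (.leaf 0x20f018fc19020426)
(.leaf 0x21581954195a0426)))
(.node 12246 (.node 12245 (.leaf 0x2178197c19820426)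
(.leaf 0x27241dd81dde0426))
(.node 12247 (.leaf 0x27781e1c1e220426)
(.leaf 0x279c1e481e4e0426))))
(.node 12252 (.node 12250 (.node 12249 (.leaf 0x2a58206c20720426)
(.leaf 0x2ac420c420ca0426))
(.node 12251 (.leaf 0x2ae420dc20e20426)
(.leaf 0x2b48213c21420426)))
(.node 12254 (.node 12253 (.leaf 0x2edc241c24220426)
(.leaf 0x2f20244c24520426))
(.node 12255 (.leaf 0x2f4c2478247e0426)
(.leaf 0x313825ec25f20426))))))
(.node 12272 (.node 12264 (.node 12260 (.node 12258 (.node 12257 (.leaf 0x314825fc26020426)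
(.leaf 0x321c2698269e0426))
(.node 12259 (.leaf 0x328826f426fa0426)
(.leaf 0x32a8270c27120426)))
(.node 12262 (.node 12261 (.leaf 0x32ec275c27620426)
(.leaf 0x33082784278a0426))
(.node 12263 (.leaf 0x35442944294a0426)
(.leaf 0x36402a242a2a0426))))
(.node 12268 (.node 12266 (.node 12265 (.leaf 0x366c2a402a460426)
(.leaf 0x36b82a902a960426))
(.node 12267 (.leaf 0x36d42aa82aae0426)
(.leaf 0x37202b0c2b120426)))
(.node 12270 (.node 12269 (.leaf 0x373c2b2c2b320426)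
(.leaf 0x38b42c842c8a0426))
(.node 12271 (.leaf 0x38c02c982c9e0426)
(.leaf 0x3a502dec2df20426)))))
(.node 12280 (.node 12276 (.node 12274 (.node 12273 (.leaf 0x3a742e0c2e120426)
(.leaf 0x3adc2e5c2e620426))
(.node 12275 (.leaf 0x3b402eb82ebe0426)
(.leaf 0x3b882f042f0a0426)))
(.node 12278 (.node 12277 (.leaf 0x3de430f430fa0426)
(.leaf 0x3e0c3118311e0426))
(.node 12279 (.leaf 0x3ef831e831ee0426)
(.leaf 0x3f283204320a0426))))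
(.node 12284 (.node 12282 (.node 12281 (.leaf 0x3f8c327032760426)
(.leaf 0x3fc432bc32c20426))
(.node 12283 (.leaf 0x3fd432d032d60426)
(.leaf 0x419c344c34520426)))
(.node 12286 (.node 12285 (.leaf 0x42a43514351a0426)
(.leaf 0x434c35b035b60426))
(.node 12287 (.leaf 0x436435c435ca0426)
(.leaf 0x43ac360c36120426)))))))))

end Cfsg.Agent.H96.Fi24Mult.Ztwo
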