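import Cfsg.Agent.H25.Fi24.Table

/-!
Generated data of a scan certificate.
-/

set_option autoImplicit false

namespace Cfsg.Agent.H96.Fi24Mult.Ztwo

open Cfsg.Agent.H25.Fi24 (Tr)

/-- part of a trie -/
def parPart0 : Tr :=
(.node 128 (.node 64 (.node 32 (.node 16 (.node 8 (.node 4 (.node 2 (.node 1 (.leaf 0x0)
(.leaf 0x2))
(.node 3 (.leaf 0x11)
(.leaf 0x13)))
(.node 6 (.node 5 (.leaf 0x23)
(.leaf 0x34))
(.node 7 (.leaf 0x42)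
(.leaf 0x44))))
(.node 12 (.node 10 (.node 9 (.leaf 0x55)
(.leaf 0x64))
(.node 11 (.leaf 0x75)
(.leaf 0x86)))
(.node 14 (.node 13 (.leaf 0x93)
(.leaf 0x95))
(.node 15 (.leaf 0xa6)
(.leaf 0xb7)))))
(.node 24 (.node 20 (.node 18 (.node 17 (.leaf 0xbb)
(.leaf 0xc5))
(.node 19 (.leaf 0xd6)
(.leaf 0xe7)))
(.node 22 (.node 21 (.leaf 0xeb)
(.leaf 0xf8))
(.node 23 (.leaf 0xfb)
(.leaf 0x10c))))
(.node 28 (.node 26 (.node 25 (.leaf 0x114)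
(.leaf 0x116))
(.node 27 (.leaf 0x127)
(.leaf 0x12b)))
(.node 30 (.node 29 (.leaf 0x138)
(.leaf 0x13b))
(.node 31 (.leaf 0x14c)
(.leaf 0x159))))))
(.node 48 (.node 40 (.node 36 (.node 34 (.node 33 (.leaf 0x15b)
(.leaf 0x166))
(.node 35 (.leaf 0x16c)
(.leaf 0x186)))
(.node 38 (.node 37 (.leaf 0x197)
(.leaf 0x19b))
(.node 39 (.leaf 0x1a8)
(.leaf 0x1ab))))
(.node 44 (.node 42 (.node 41 (.leaf 0x1bc)
(.leaf 0x1c9))
(.node 43 (.leaf 0x1cb)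
(.leaf 0x1d6)))
(.node 46 (.node 45 (.leaf 0x1dc)
(.leaf 0x1fa))
(.node 47 (.leaf 0x1fb)
(.leaf 0x206)))))
(.node 56 (.node 52 (.node 50 (.node 49 (.leaf 0x20c)
(.leaf 0x215))
(.node 51 (.leaf 0x21c)
(.leaf 0x235)))
(.node 54 (.node 53 (.leaf 0x237)
(.leaf 0x23b))
(.node 55 (.leaf 0x248)
(.leaf 0x24b))))
(.node 60 (.node 58 (.node 57 (.leaf 0x25c)
(.leaf 0x269))
(.node 59 (.leaf 0x26b)
(.leaf 0x276)))
(.node 62 (.node 61 (.leaf 0x27c)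
(.leaf 0x29a))
(.node 63 (.leaf 0x29b)
(.leaf 0x2a6)))))))
(.node 96 (.node 80 (.node 72 (.node 68 (.node 66 (.node 65 (.leaf 0x2ac)
(.leaf 0x2b5))
(.node 67 (.leaf 0x2bc)
(.leaf 0x2db)))
(.node 70 (.node 69 (.leaf 0x2e6)
(.leaf 0x2ec))
(.node 71 (.leaf 0x2f5)
(.leaf 0x2f7))))
(.node 76 (.node 74 (.node 73 (.leaf 0x2fc)
(.leaf 0x314))
(.node 75 (.leaf 0x31c)
(.leaf 0x32b)))
(.node 78 (.node 77 (.leaf 0x337)
(.leaf 0x33b))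
(.node 79 (.leaf 0x348)
(.leaf 0x34b)))))
(.node 88 (.node 84 (.node 82 (.node 81 (.leaf 0x35c)
(.leaf 0x369))
(.node 83 (.leaf 0x36b)
(.leaf 0x376)))
(.node 86 (.node 85 (.leaf 0x37c)
(.leaf 0x39a))
(.node 87 (.leaf 0x39b)
(.leaf 0x3a6))))
(.node 92 (.node 90 (.node 89 (.leaf 0x3ac)
(.leaf 0x3b5))
(.node 91 (.leaf 0x3bc)
(.leaf 0x3db)))
(.node 94 (.node 93 (.leaf 0x3e6)
(.leaf 0x3ec))
(.node 95 (.leaf 0x3f5)
(.leaf 0x3f7))))))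
(.node 112 (.node 104 (.node 100 (.node 98 (.node 97 (.leaf 0x3fc)
(.leaf 0x414))
(.node 99 (.leaf 0x41c)
(.leaf 0x42b)))
(.node 102 (.node 101 (.leaf 0x436)
(.leaf 0x43c))
(.node 103 (.leaf 0x445)
(.leaf 0x447))))
(.node 108 (.node 106 (.node 105 (.leaf 0x44c)
(.leaf 0x464))
(.node 107 (.leaf 0x467)
(.leaf 0x46c)))
(.node 110 (.node 109 (.leaf 0x47c)
(.leaf 0x48b))
(.node 111 (.leaf 0x493)
(.leaf 0x49c)))))
(.node 120 (.node 116 (.node 114 (.node 113 (.leaf 0x4c6)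
(.leaf 0x4c8))
(.node 115 (.leaf 0x4cb)
(.leaf 0x4d6)))
(.node 118 (.node 117 (.leaf 0x4dc)
(.leaf 0x4e9))
(.node 119 (.leaf 0x4eb)
(.leaf 0x4f6))))
(.node 124 (.node 122 (.node 121 (.leaf 0x4fc)
(.leaf 0x51a))
(.node 123 (.leaf 0x51b)
(.leaf 0x526)))
(.node 126 (.node 125 (.leaf 0x52c)
(.leaf 0x535))
(.node 127 (.leaf 0x53c)
(.leaf 0x55b))))))))
(.node 192 (.node 160 (.node 144 (.node 136 (.node 132 (.node 130 (.node 129 (.leaf 0x566)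
(.leaf 0x56c))
(.node 131 (.leaf 0x575)
(.leaf 0x577)))
(.node 134 (.node 133 (.leaf 0x57c)
(.leaf 0x594))
(.node 135 (.leaf 0x59c)
(.leaf 0x5ab))))
(.node 140 (.node 138 (.node 137 (.leaf 0x5b6)
(.leaf 0x5bc))
(.node 139 (.leaf 0x5c5)
(.leaf 0x5c7)))
(.node 142 (.node 141 (.leaf 0x5cc)
(.leaf 0x5e4))
(.node 143 (.leaf 0x5e7)
(.leaf 0x5ec)))))
(.node 152 (.node 148 (.node 146 (.node 145 (.leaf 0x5fc)
(.leaf 0x60b))
(.node 147 (.leaf 0x613)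
(.leaf 0x61c)))
(.node 150 (.node 149 (.leaf 0x62b)
(.leaf 0x645))
(.node 151 (.leaf 0x647)
(.leaf 0x64c))))
(.node 156 (.node 154 (.node 153 (.leaf 0x664)
(.leaf 0x667))
(.node 155 (.leaf 0x66c)
(.leaf 0x678)))
(.node 158 (.node 157 (.leaf 0x67c)
(.leaf 0x68b))
(.node 159 (.leaf 0x693)
(.leaf 0x697))))))
(.node 176 (.node 168 (.node 164 (.node 162 (.node 161 (.leaf 0x69c)
(.leaf 0x6a6))
(.node 163 (.leaf 0x6ac)
(.leaf 0x6bb)))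
(.node 166 (.node 165 (.leaf 0x6cb)
(.leaf 0x6e2))
(.node 167 (.leaf 0x6ec)
(.leaf 0x6fb))))
(.node 172 (.node 170 (.node 169 (.leaf 0x708)
(.leaf 0x71b))
(.node 171 (.leaf 0x72c)
(.leaf 0x73c)))
(.node 174 (.node 173 (.leaf 0x75a)
(.leaf 0x75b))
(.node 175 (.leaf 0x766)
(.leaf 0x76c)))))
(.node 184 (.node 180 (.node 178 (.node 177 (.leaf 0x77c)
(.leaf 0x79b))
(.node 179 (.leaf 0x7a6)
(.leaf 0x7ac)))
(.node 182 (.node 181 (.leaf 0x7b5)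
(.leaf 0x7b7))
(.node 183 (.leaf 0x7bc)
(.leaf 0x7dc))))
(.node 188 (.node 186 (.node 185 (.leaf 0x7eb)
(.leaf 0x7f6))
(.node 187 (.leaf 0x7fc)
(.leaf 0x805)))
(.node 190 (.node 189 (.leaf 0x807)
(.leaf 0x80c))
(.node 191 (.leaf 0x824)
(.leaf 0x827)))))))
(.node 224 (.node 208 (.node 200 (.node 196 (.node 194 (.node 193 (.leaf 0x82c)
(.leaf 0x83c))
(.node 195 (.leaf 0x84b)
(.leaf 0x85c)))
(.node 198 (.node 197 (.leaf 0x86b)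
(.leaf 0x885))
(.node 199 (.leaf 0x887)
(.leaf 0x88c))))
(.node 204 (.node 202 (.node 201 (.leaf 0x8a4)
(.leaf 0x8a7))
(.node 203 (.leaf 0x8ac)
(.leaf 0x8b8)))
(.node 206 (.node 205 (.leaf 0x8bc)
(.leaf 0x8cb))
(.node 207 (.leaf 0x8d3)
(.leaf 0x8d7)))))
(.node 216 (.node 212 (.node 210 (.node 209 (.leaf 0x8dc)
(.leaf 0x8e6))
(.node 211 (.leaf 0x8ec)
(.leaf 0x8fb)))
(.node 214 (.node 213 (.leaf 0x90b)
(.leaf 0x92c))
(.node 215 (.leaf 0x93b)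
(.leaf 0x946))))
(.node 220 (.node 218 (.node 217 (.leaf 0x954)
(.leaf 0x957))
(.node 219 (.leaf 0x95c)
(.leaf 0x968)))
(.node 222 (.node 221 (.leaf 0x96c)
(.leaf 0x97b))
(.node 223 (.leaf 0x983)
(.leaf 0x987))))))
(.node 240 (.node 232 (.node 228 (.node 226 (.node 225 (.leaf 0x98c)
(.leaf 0x996))
(.node 227 (.leaf 0x998)
(.leaf 0x99c)))
(.node 230 (.node 229 (.leaf 0x9ab)
(.leaf 0x9bc))
(.node 231 (.leaf 0x9cb)
(.leaf 0x9e2))))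
(.node 236 (.node 234 (.node 233 (.leaf 0x9e7)
(.leaf 0x9ec))
(.node 235 (.leaf 0x9f6)
(.leaf 0x9fc)))
(.node 238 (.node 237 (.leaf 0xa0b)
(.leaf 0xa1b))
(.node 239 (.leaf 0xa1c)
(.leaf 0xa2b)))))
(.node 248 (.node 244 (.node 242 (.node 241 (.leaf 0xa36)
(.leaf 0xa46))
(.node 243 (.leaf 0xa5c)
(.leaf 0xa6b)))
(.node 246 (.node 245 (.leaf 0xa76)
(.leaf 0xa9c))
(.node 247 (.leaf 0xacb)
(.leaf 0xad6))))
(.node 252 (.node 250 (.node 249 (.leaf 0xadc)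
(.leaf 0xae7))
(.node 251 (.leaf 0xaec)
(.leaf 0xb0b)))
(.node 254 (.node 253 (.leaf 0xb16)
(.leaf 0xb1c))
(.node 255 (.leaf 0xb25)
(.leaf 0xb27)))))))))

/-- part of a trie -/
def parPart1 : Tr :=
(.node 384 (.node 320 (.node 288 (.node 272 (.node 264 (.node 260 (.node 258 (.node 257 (.leaf 0xb2c)
(.leaf 0xb47))
(.node 259 (.leaf 0xb4c)
(.leaf 0xb5c)))
(.node 262 (.node 261 (.leaf 0xb6b)
(.leaf 0xb7b))
(.node 263 (.leaf 0xb95)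
(.leaf 0xb97))))
(.node 268 (.node 266 (.node 265 (.leaf 0xb9c)
(.leaf 0xbb4))
(.node 267 (.leaf 0xbb7)
(.leaf 0xbbc)))
(.node 270 (.node 269 (.leaf 0xbc8)
(.leaf 0xbcc))
(.node 271 (.leaf 0xbdb)
(.leaf 0xbe7)))))
(.node 280 (.node 276 (.node 274 (.node 273 (.leaf 0xbec)
(.leaf 0xbf6))
(.node 275 (.leaf 0xbfc)
(.leaf 0xc0b)))
(.node 278 (.node 277 (.leaf 0xc1b)
(.leaf 0xc3b))
(.node 279 (.leaf 0xc46)
(.leaf 0xc54))))
(.node 284 (.node 282 (.node 281 (.leaf 0xc57)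
(.leaf 0xc5c))
(.node 283 (.leaf 0xc68)
(.leaf 0xc6c)))
(.node 286 (.node 285 (.leaf 0xc7b)
(.leaf 0xc83))
(.node 287 (.leaf 0xc87)
(.leaf 0xc8c))))))
(.node 304 (.node 296 (.node 292 (.node 290 (.node 289 (.leaf 0xc96)
(.leaf 0xc98))
(.node 291 (.leaf 0xc9c)
(.leaf 0xcab)))
(.node 294 (.node 293 (.leaf 0xcbc)
(.leaf 0xccb))
(.node 295 (.leaf 0xce7)
(.leaf 0xcec))))
(.node 300 (.node 298 (.node 297 (.leaf 0xcf6)
(.leaf 0xcfc))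
(.node 299 (.leaf 0xd0b)
(.leaf 0xd1b)))
(.node 302 (.node 301 (.leaf 0xd1c)
(.leaf 0xd2b))
(.node 303 (.leaf 0xd36)
(.leaf 0xd46)))))
(.node 312 (.node 308 (.node 306 (.node 305 (.leaf 0xd5b)
(.leaf 0xd66))
(.node 307 (.leaf 0xd83)
(.leaf 0xd87)))
(.node 310 (.node 309 (.leaf 0xd8c)
(.leaf 0xd96))
(.node 311 (.leaf 0xd98)
(.leaf 0xd9c))))
(.node 316 (.node 314 (.node 313 (.leaf 0xdab)
(.leaf 0xdb9))
(.node 315 (.leaf 0xdbc)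
(.leaf 0xdcb)))
(.node 318 (.node 317 (.leaf 0xde2)
(.leaf 0xde7))
(.node 319 (.leaf 0xdec)
(.leaf 0xdf6)))))))
(.node 352 (.node 336 (.node 328 (.node 324 (.node 322 (.node 321 (.leaf 0xdf8)
(.leaf 0xdfc))
(.node 323 (.leaf 0xe0b)
(.leaf 0xe18)))
(.node 326 (.node 325 (.leaf 0xe1b)
(.leaf 0xe1c))
(.node 327 (.leaf 0xe2c)
(.leaf 0xe3b))))
(.node 332 (.node 330 (.node 329 (.leaf 0xe46)
(.leaf 0xe5b))
(.node 331 (.leaf 0xe66)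
(.leaf 0xe77)))
(.node 334 (.node 333 (.leaf 0xe7c)
(.leaf 0xe86))
(.node 335 (.leaf 0xe8c)
(.leaf 0xe9b)))))
(.node 344 (.node 340 (.node 338 (.node 337 (.leaf 0xea5)
(.leaf 0xeab))
(.node 339 (.leaf 0xeac)
(.leaf 0xebb)))
(.node 342 (.node 341 (.leaf 0xec6)
(.leaf 0xedc))
(.node 343 (.leaf 0xeeb)
(.leaf 0xef6))))
(.node 348 (.node 346 (.node 345 (.leaf 0xf07)
(.leaf 0xf15))
(.node 347 (.leaf 0xf2b)
(.leaf 0xf66)))
(.node 350 (.node 349 (.leaf 0xf6c)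
(.leaf 0xf77))
(.node 351 (.leaf 0xf7c)
(.leaf 0xf9c))))))
(.node 368 (.node 360 (.node 356 (.node 354 (.node 353 (.leaf 0xfab)
(.leaf 0xfc5))
(.node 355 (.leaf 0xfc7)
(.leaf 0xfcc)))
(.node 358 (.node 357 (.leaf 0xfe7)
(.leaf 0xfec))
(.node 359 (.leaf 0xff8)
(.leaf 0xffc))))
(.node 364 (.node 362 (.node 361 (.leaf 0x100b)
(.leaf 0x1016))
(.node 363 (.leaf 0x101c)
(.leaf 0x102b)))
(.node 366 (.node 365 (.leaf 0x103b)
(.leaf 0x1056))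
(.node 367 (.leaf 0x1064)
(.leaf 0x1067)))))
(.node 376 (.node 372 (.node 370 (.node 369 (.leaf 0x106c)
(.leaf 0x1078))
(.node 371 (.leaf 0x107c)
(.leaf 0x108b)))
(.node 374 (.node 373 (.leaf 0x1097)
(.leaf 0x109c))
(.node 375 (.leaf 0x10a6)
(.leaf 0x10a8))))
(.node 380 (.node 378 (.node 377 (.leaf 0x10ac)
(.leaf 0x10bb))
(.node 379 (.leaf 0x10cc)
(.leaf 0x10db)))
(.node 382 (.node 381 (.leaf 0x10f6)
(.leaf 0x10fc))
(.node 383 (.leaf 0x110b)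
(.leaf 0x111b))))))))
(.node 448 (.node 416 (.node 400 (.node 392 (.node 388 (.node 386 (.node 385 (.leaf 0x111c)
(.leaf 0x112b))
(.node 387 (.leaf 0x1136)
(.leaf 0x1146)))
(.node 390 (.node 389 (.leaf 0x1156)
(.leaf 0x1167))
(.node 391 (.leaf 0x1173)
(.leaf 0x1177))))
(.node 396 (.node 394 (.node 393 (.leaf 0x117c)
(.leaf 0x1186))
(.node 395 (.leaf 0x1188)
(.leaf 0x118c)))
(.node 398 (.node 397 (.leaf 0x119b)
(.leaf 0x11a9))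
(.node 399 (.leaf 0x11ac)
(.leaf 0x11bb)))))
(.node 408 (.node 404 (.node 402 (.node 401 (.leaf 0x11d7)
(.leaf 0x11dc))
(.node 403 (.leaf 0x11e6)
(.leaf 0x11e8)))
(.node 406 (.node 405 (.leaf 0x11ec)
(.leaf 0x11fb))
(.node 407 (.leaf 0x1208)
(.leaf 0x120b))))
(.node 412 (.node 410 (.node 409 (.leaf 0x120c)
(.leaf 0x121c))
(.node 411 (.leaf 0x122b)
(.leaf 0x1236)))
(.node 414 (.node 413 (.leaf 0x124b)
(.leaf 0x1256))
(.node 415 (.leaf 0x1266)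
(.leaf 0x126c))))))
(.node 432 (.node 424 (.node 420 (.node 418 (.node 417 (.leaf 0x127b)
(.leaf 0x1285))
(.node 419 (.leaf 0x128b)
(.leaf 0x128c)))
(.node 422 (.node 421 (.leaf 0x129b)
(.leaf 0x12a6))
(.node 423 (.leaf 0x12bc)
(.leaf 0x12cb))))
(.node 428 (.node 426 (.node 425 (.leaf 0x12d6)
(.leaf 0x12e7))
(.node 427 (.leaf 0x12f5)
(.leaf 0x1306)))
(.node 430 (.node 429 (.leaf 0x1322)
(.leaf 0x1327))
(.node 431 (.leaf 0x132c)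
(.leaf 0x1336)))))
(.node 440 (.node 436 (.node 434 (.node 433 (.leaf 0x1338)
(.leaf 0x133c))
(.node 435 (.leaf 0x134b)
(.leaf 0x1358)))
(.node 438 (.node 437 (.leaf 0x135b)
(.leaf 0x135c))
(.node 439 (.leaf 0x1369)
(.leaf 0x136c))))
(.node 444 (.node 442 (.node 441 (.leaf 0x137b)
(.leaf 0x1386))
(.node 443 (.leaf 0x139c)
(.leaf 0x13ab)))
(.node 446 (.node 445 (.leaf 0x13b6)
(.leaf 0x13c7))
(.node 447 (.leaf 0x13cc)
(.leaf 0x13d6)))))))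
(.node 480 (.node 464 (.node 456 (.node 452 (.node 450 (.node 449 (.leaf 0x13d8)
(.leaf 0x13dc))
(.node 451 (.leaf 0x13eb)
(.leaf 0x13f5)))
(.node 454 (.node 453 (.leaf 0x13f8)
(.leaf 0x13fb))
(.node 455 (.leaf 0x13fc)
(.leaf 0x140c))))
(.node 460 (.node 458 (.node 457 (.leaf 0x141b)
(.leaf 0x1426))
(.node 459 (.leaf 0x1437)
(.leaf 0x143b)))
(.node 462 (.node 461 (.leaf 0x143c)
(.leaf 0x144c))
(.node 463 (.leaf 0x145b)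
(.leaf 0x146b)))))
(.node 472 (.node 468 (.node 466 (.node 465 (.leaf 0x1476)
(.leaf 0x1487))
(.node 467 (.leaf 0x1496)
(.leaf 0x14a5)))
(.node 470 (.node 469 (.leaf 0x14b6)
(.leaf 0x14bc))
(.node 471 (.leaf 0x14cb)
(.leaf 0x14dc))))
(.node 476 (.node 474 (.node 473 (.leaf 0x14eb)
(.leaf 0x150c))
(.node 475 (.leaf 0x151c)
(.leaf 0x152b)))
(.node 478 (.node 477 (.leaf 0x1536)
(.leaf 0x1545))
(.node 479 (.leaf 0x1547)
(.leaf 0x155b))))))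
(.node 496 (.node 488 (.node 484 (.node 482 (.node 481 (.leaf 0x1566)
(.leaf 0x1575))
(.node 483 (.leaf 0x1577)
(.leaf 0x1588)))
(.node 486 (.node 485 (.leaf 0x1594)
(.leaf 0x15b7))
(.node 487 (.leaf 0x15bc)
(.leaf 0x15d8))))
(.node 492 (.node 490 (.node 489 (.leaf 0x15dc)
(.leaf 0x15eb))
(.node 491 (.leaf 0x15fb)
(.leaf 0x1617)))
(.node 494 (.node 493 (.leaf 0x161c)
(.leaf 0x1628))
(.node 495 (.leaf 0x162c)
(.leaf 0x163b)))))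
(.node 504 (.node 500 (.node 498 (.node 497 (.leaf 0x1646)
(.leaf 0x1648))
(.node 499 (.leaf 0x164c)
(.leaf 0x165b)))
(.node 502 (.node 501 (.leaf 0x166c)
(.leaf 0x167b))
(.node 503 (.leaf 0x169b)
(.leaf 0x169c))))
(.node 508 (.node 506 (.node 505 (.leaf 0x16ab)
(.leaf 0x16b6))
(.node 507 (.leaf 0x16c6)
(.leaf 0x16d7)))
(.node 510 (.node 509 (.leaf 0x16e7)
(.leaf 0x16ec))
(.node 511 (.leaf 0x16f6)
(.leaf 0x16f8)))))))))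

/-- part of a trie -/
def parPart2 : Tr :=
(.node 640 (.node 576 (.node 544 (.node 528 (.node 520 (.node 516 (.node 514 (.node 513 (.leaf 0x16fc)
(.leaf 0x170b))
(.node 515 (.leaf 0x1719)
(.leaf 0x171c)))
(.node 518 (.node 517 (.leaf 0x172b)
(.leaf 0x1746))
(.node 519 (.leaf 0x1748)
(.leaf 0x174c))))
(.node 524 (.node 522 (.node 521 (.leaf 0x175b)
(.leaf 0x1768))
(.node 523 (.leaf 0x176b)
(.leaf 0x176c)))
(.node 526 (.node 525 (.leaf 0x177c)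
(.leaf 0x178b))
(.node 527 (.leaf 0x1796)
(.leaf 0x17ab)))))
(.node 536 (.node 532 (.node 530 (.node 529 (.leaf 0x17b6)
(.leaf 0x17c5))
(.node 531 (.leaf 0x17cb)
(.leaf 0x17cc)))
(.node 534 (.node 533 (.leaf 0x17db)
(.leaf 0x17e6))
(.node 535 (.leaf 0x17fc)
(.leaf 0x180b))))
(.node 540 (.node 538 (.node 537 (.leaf 0x1816)
(.leaf 0x1827))
(.node 539 (.leaf 0x1835)
(.leaf 0x1845)))
(.node 542 (.node 541 (.leaf 0x1847)
(.leaf 0x1858))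
(.node 543 (.leaf 0x1867)
(.leaf 0x186c))))))
(.node 560 (.node 552 (.node 548 (.node 546 (.node 545 (.leaf 0x1876)
(.leaf 0x1878))
(.node 547 (.leaf 0x187c)
(.leaf 0x188b)))
(.node 550 (.node 549 (.leaf 0x1898)
(.leaf 0x189b))
(.node 551 (.leaf 0x189c)
(.leaf 0x18a9))))
(.node 556 (.node 554 (.node 553 (.leaf 0x18ac)
(.leaf 0x18bb))
(.node 555 (.leaf 0x18c6)
(.leaf 0x18dc)))
(.node 558 (.node 557 (.leaf 0x18eb)
(.leaf 0x18f6))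
(.node 559 (.leaf 0x1906)
(.leaf 0x1908)))))
(.node 568 (.node 564 (.node 562 (.node 561 (.leaf 0x190c)
(.leaf 0x191b))
(.node 563 (.leaf 0x1925)
(.leaf 0x1928)))
(.node 566 (.node 565 (.leaf 0x192b)
(.leaf 0x192c))
(.node 567 (.leaf 0x193c)
(.leaf 0x194b))))
(.node 572 (.node 570 (.node 569 (.leaf 0x1956)
(.leaf 0x1967))
(.node 571 (.leaf 0x196b)
(.leaf 0x196c)))
(.node 574 (.node 573 (.leaf 0x197c)
(.leaf 0x198b))
(.node 575 (.leaf 0x199b)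
(.leaf 0x19a6)))))))
(.node 608 (.node 592 (.node 584 (.node 580 (.node 578 (.node 577 (.leaf 0x19b7)
(.leaf 0x19c6))
(.node 579 (.leaf 0x19d5)
(.leaf 0x19ec)))
(.node 582 (.node 581 (.leaf 0x19fb)
(.leaf 0x1a06))
(.node 583 (.leaf 0x1a1c)
(.leaf 0x1a2c))))
(.node 588 (.node 586 (.node 585 (.leaf 0x1a3b)
(.leaf 0x1a46))
(.node 587 (.leaf 0x1a55)
(.leaf 0x1a57)))
(.node 590 (.node 589 (.leaf 0x1a6b)
(.leaf 0x1a76))
(.node 591 (.leaf 0x1a85)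
(.leaf 0x1a87)))))
(.node 600 (.node 596 (.node 594 (.node 593 (.leaf 0x1aa4)
(.leaf 0x1ac7))
(.node 595 (.leaf 0x1acc)
(.leaf 0x1ad6)))
(.node 598 (.node 597 (.leaf 0x1ad8)
(.leaf 0x1adc))
(.node 599 (.leaf 0x1aeb)
(.leaf 0x1af5))))
(.node 604 (.node 602 (.node 601 (.leaf 0x1af8)
(.leaf 0x1afb))
(.node 603 (.leaf 0x1afc)
(.leaf 0x1b09)))
(.node 606 (.node 605 (.leaf 0x1b0c)
(.leaf 0x1b1b))
(.node 607 (.leaf 0x1b26)
(.leaf 0x1b37))))))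
(.node 624 (.node 616 (.node 612 (.node 610 (.node 609 (.leaf 0x1b39)
(.leaf 0x1b3b))
(.node 611 (.leaf 0x1b3c)
(.leaf 0x1b4c)))
(.node 614 (.node 613 (.leaf 0x1b5b)
(.leaf 0x1b6c))
(.node 615 (.leaf 0x1b7b)
(.leaf 0x1b86))))
(.node 620 (.node 618 (.node 617 (.leaf 0x1b97)
(.leaf 0x1bab))
(.node 619 (.leaf 0x1bb6)
(.leaf 0x1bc5)))
(.node 622 (.node 621 (.leaf 0x1bd6)
(.leaf 0x1bd8))
(.node 623 (.leaf 0x1bdc)
(.leaf 0x1beb)))))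
(.node 632 (.node 628 (.node 626 (.node 625 (.leaf 0x1bf8)
(.leaf 0x1bfc))
(.node 627 (.leaf 0x1c0c)
(.leaf 0x1c1b)))
(.node 630 (.node 629 (.leaf 0x1c26)
(.leaf 0x1c38))
(.node 631 (.leaf 0x1c3c)
(.leaf 0x1c47))))
(.node 636 (.node 634 (.node 633 (.leaf 0x1c4b)
(.leaf 0x1c4c))
(.node 635 (.leaf 0x1c5c)
(.leaf 0x1c6b)))
(.node 638 (.node 637 (.leaf 0x1c7b)
(.leaf 0x1c86))
(.node 639 (.leaf 0x1c95)
(.leaf 0x1c97))))))))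
(.node 704 (.node 672 (.node 656 (.node 648 (.node 644 (.node 642 (.node 641 (.leaf 0x1cab)
(.leaf 0x1cac))
(.node 643 (.leaf 0x1cbc)
(.leaf 0x1ccb)))
(.node 646 (.node 645 (.leaf 0x1cdb)
(.leaf 0x1ce6))
(.node 647 (.leaf 0x1cf6)
(.leaf 0x1d05))))
(.node 652 (.node 650 (.node 649 (.leaf 0x1d07)
(.leaf 0x1d18))
(.node 651 (.leaf 0x1d25)
(.leaf 0x1d27)))
(.node 654 (.node 653 (.leaf 0x1d34)
(.leaf 0x1d4c))
(.node 655 (.leaf 0x1d5b)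
(.leaf 0x1d66)))))
(.node 664 (.node 660 (.node 658 (.node 657 (.leaf 0x1d7b)
(.leaf 0x1d86))
(.node 659 (.leaf 0x1d9b)
(.leaf 0x1dab)))
(.node 662 (.node 661 (.leaf 0x1db6)
(.leaf 0x1dc5))
(.node 663 (.leaf 0x1dc7)
(.leaf 0x1dd7))))
(.node 668 (.node 666 (.node 665 (.leaf 0x1df6)
(.leaf 0x1e05))
(.node 667 (.leaf 0x1e07)
(.leaf 0x1e14)))
(.node 670 (.node 669 (.leaf 0x1e17)
(.leaf 0x1e28))
(.node 671 (.leaf 0x1e43)
(.leaf 0x1e58))))))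
(.node 688 (.node 680 (.node 676 (.node 674 (.node 673 (.leaf 0x1e5c)
(.leaf 0x1e6b))
(.node 675 (.leaf 0x1e7c)
(.leaf 0x1e8b)))
(.node 678 (.node 677 (.leaf 0x1ea6)
(.leaf 0x1eb6))
(.node 679 (.leaf 0x1eb8)
(.leaf 0x1ebc))))
(.node 684 (.node 682 (.node 681 (.leaf 0x1ecb)
(.leaf 0x1ed9))
(.node 683 (.leaf 0x1edc)
(.leaf 0x1eeb)))
(.node 686 (.node 685 (.leaf 0x1f08)
(.leaf 0x1f0b))
(.node 687 (.leaf 0x1f0c)
(.leaf 0x1f1c)))))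
(.node 696 (.node 692 (.node 690 (.node 689 (.leaf 0x1f2b)
(.leaf 0x1f36))
(.node 691 (.leaf 0x1f4b)
(.leaf 0x1f56)))
(.node 694 (.node 693 (.leaf 0x1f6c)
(.leaf 0x1f7b))
(.node 695 (.leaf 0x1f86)
(.leaf 0x1f97))))
(.node 700 (.node 698 (.node 697 (.leaf 0x1fa5)
(.leaf 0x1fb8))
(.node 699 (.leaf 0x1fc6)
(.leaf 0x1fc8)))
(.node 702 (.node 701 (.leaf 0x1fcc)
(.leaf 0x1fdb))
(.node 703 (.leaf 0x1fe8)
(.leaf 0x1feb)))))))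
(.node 736 (.node 720 (.node 712 (.node 708 (.node 706 (.node 705 (.leaf 0x1fec)
(.leaf 0x1ff9))
(.node 707 (.leaf 0x1ffc)
(.leaf 0x200b)))
(.node 710 (.node 709 (.leaf 0x2016)
(.leaf 0x202c))
(.node 711 (.leaf 0x203b)
(.leaf 0x2046))))
(.node 716 (.node 714 (.node 713 (.leaf 0x2055)
(.leaf 0x2058))
(.node 715 (.leaf 0x205b)
(.leaf 0x205c)))
(.node 718 (.node 717 (.leaf 0x206c)
(.leaf 0x207b))
(.node 719 (.leaf 0x2086)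
(.leaf 0x2097)))))
(.node 728 (.node 724 (.node 722 (.node 721 (.leaf 0x209b)
(.leaf 0x209c))
(.node 723 (.leaf 0x20ac)
(.leaf 0x20bb)))
(.node 726 (.node 725 (.leaf 0x20cb)
(.leaf 0x20d6))
(.node 727 (.leaf 0x20e7)
(.leaf 0x20f6))))
(.node 732 (.node 730 (.node 729 (.leaf 0x2105)
(.leaf 0x211c))
(.node 731 (.leaf 0x212c)
(.leaf 0x213b)))
(.node 734 (.node 733 (.leaf 0x2146)
(.leaf 0x2155))
(.node 735 (.leaf 0x2157)
(.leaf 0x216b))))))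
(.node 752 (.node 744 (.node 740 (.node 738 (.node 737 (.leaf 0x2176)
(.leaf 0x2185))
(.node 739 (.leaf 0x2187)
(.leaf 0x2198)))
(.node 742 (.node 741 (.leaf 0x21a4)
(.leaf 0x21c8))
(.node 743 (.leaf 0x21e6)
(.leaf 0x21e8))))
(.node 748 (.node 746 (.node 745 (.leaf 0x21ec)
(.leaf 0x21fb))
(.node 747 (.leaf 0x2205)
(.leaf 0x2208)))
(.node 750 (.node 749 (.leaf 0x220b)
(.leaf 0x220c))
(.node 751 (.leaf 0x2219)
(.leaf 0x221c)))))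
(.node 760 (.node 756 (.node 754 (.node 753 (.leaf 0x222b)
(.leaf 0x2236))
(.node 755 (.leaf 0x2247)
(.leaf 0x2249)))
(.node 758 (.node 757 (.leaf 0x224b)
(.leaf 0x224c))
(.node 759 (.leaf 0x225c)
(.leaf 0x226b))))
(.node 764 (.node 762 (.node 761 (.leaf 0x227c)
(.leaf 0x228b))
(.node 763 (.leaf 0x2296)
(.leaf 0x22a7)))
(.node 766 (.node 765 (.leaf 0x22bb)
(.leaf 0x22c6))
(.node 767 (.leaf 0x22d5)
(.leaf 0x22e8)))))))))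

/-- part of a trie -/
def parPart3 : Tr :=
(.node 896 (.node 832 (.node 800 (.node 784 (.node 776 (.node 772 (.node 770 (.node 769 (.leaf 0x22ec)
(.leaf 0x22fc))
(.node 771 (.leaf 0x230b)
(.leaf 0x2316)))
(.node 774 (.node 773 (.leaf 0x2328)
(.leaf 0x232c))
(.node 775 (.leaf 0x2337)
(.leaf 0x233b))))
(.node 780 (.node 778 (.node 777 (.leaf 0x233c)
(.leaf 0x234c))
(.node 779 (.leaf 0x235b)
(.leaf 0x236b)))
(.node 782 (.node 781 (.leaf 0x2376)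
(.leaf 0x2385))
(.node 783 (.leaf 0x2387)
(.leaf 0x239b)))))
(.node 792 (.node 788 (.node 786 (.node 785 (.leaf 0x239c)
(.leaf 0x23ac))
(.node 787 (.leaf 0x23bb)
(.leaf 0x23cb)))
(.node 790 (.node 789 (.leaf 0x23d6)
(.leaf 0x23e6))
(.node 791 (.leaf 0x23f5)
(.leaf 0x23f7))))
(.node 796 (.node 794 (.node 793 (.leaf 0x2408)
(.leaf 0x2415))
(.node 795 (.leaf 0x2417)
(.leaf 0x2424)))
(.node 798 (.node 797 (.leaf 0x243b)
(.leaf 0x2446))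
(.node 799 (.leaf 0x2457)
(.leaf 0x246b))))))
(.node 816 (.node 808 (.node 804 (.node 802 (.node 801 (.leaf 0x247b)
(.leaf 0x2486))
(.node 803 (.leaf 0x2495)
(.leaf 0x2497)))
(.node 806 (.node 805 (.leaf 0x24a7)
(.leaf 0x24c6))
(.node 807 (.leaf 0x24d5)
(.leaf 0x24d7))))
(.node 812 (.node 810 (.node 809 (.leaf 0x24e4)
(.leaf 0x24e7))
(.node 811 (.leaf 0x24f8)
(.leaf 0x2503)))
(.node 814 (.node 813 (.leaf 0x2516)
(.leaf 0x2518))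
(.node 815 (.leaf 0x251c)
(.leaf 0x252b)))))
(.node 824 (.node 820 (.node 818 (.node 817 (.leaf 0x2538)
(.leaf 0x253c))
(.node 819 (.leaf 0x2549)
(.leaf 0x254c)))
(.node 822 (.node 821 (.leaf 0x255b)
(.leaf 0x2566))
(.node 823 (.leaf 0x2578)
(.leaf 0x257c))))
(.node 828 (.node 826 (.node 825 (.leaf 0x2587)
(.leaf 0x2589))
(.node 827 (.leaf 0x258b)
(.leaf 0x258c)))
(.node 830 (.node 829 (.leaf 0x259c)
(.leaf 0x25ab))
(.node 831 (.leaf 0x25bc)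
(.leaf 0x25cb)))))))
(.node 864 (.node 848 (.node 840 (.node 836 (.node 834 (.node 833 (.leaf 0x25d6)
(.leaf 0x25e5))
(.node 835 (.leaf 0x25e7)
(.leaf 0x25f9)))
(.node 838 (.node 837 (.leaf 0x25fb)
(.leaf 0x25fc))
(.node 839 (.leaf 0x260b)
(.leaf 0x260c))))
(.node 844 (.node 842 (.node 841 (.leaf 0x261c)
(.leaf 0x262b))
(.node 843 (.leaf 0x263b)
(.leaf 0x2646)))
(.node 846 (.node 845 (.leaf 0x265b)
(.leaf 0x2666))
(.node 847 (.leaf 0x2675)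
(.leaf 0x2677)))))
(.node 856 (.node 852 (.node 850 (.node 849 (.leaf 0x2688)
(.leaf 0x26a5))
(.node 851 (.leaf 0x26b4)
(.leaf 0x26c8)))
(.node 854 (.node 853 (.leaf 0x26cc)
(.leaf 0x26dc))
(.node 855 (.leaf 0x26eb)
(.leaf 0x26f6))))
(.node 860 (.node 858 (.node 857 (.leaf 0x2707)
(.leaf 0x270c))
(.node 859 (.leaf 0x271b)
(.leaf 0x272b)))
(.node 862 (.node 861 (.leaf 0x2736)
(.leaf 0x2747))
(.node 863 (.leaf 0x2757)
(.leaf 0x275c))))))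
(.node 880 (.node 872 (.node 868 (.node 866 (.node 865 (.leaf 0x276b)
(.leaf 0x277b))
(.node 867 (.leaf 0x277c)
(.leaf 0x278c)))
(.node 870 (.node 869 (.leaf 0x279b)
(.leaf 0x27ab))
(.node 871 (.leaf 0x27b6)
(.leaf 0x27c6))))
(.node 876 (.node 874 (.node 873 (.leaf 0x27d5)
(.leaf 0x27d7))
(.node 875 (.leaf 0x27e7)
(.leaf 0x27f8)))
(.node 878 (.node 877 (.leaf 0x2806)
(.leaf 0x280c))
(.node 879 (.leaf 0x281b)
(.leaf 0x282b)))))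
(.node 888 (.node 884 (.node 882 (.node 881 (.leaf 0x2836)
(.leaf 0x2846))
(.node 883 (.leaf 0x2855)
(.leaf 0x2857)))
(.node 886 (.node 885 (.leaf 0x2865)
(.leaf 0x2867))
(.node 887 (.leaf 0x2874)
(.leaf 0x2877))))
(.node 892 (.node 890 (.node 889 (.leaf 0x2888)
(.leaf 0x28a4))
(.node 891 (.leaf 0x28a7)
(.leaf 0x28db)))
(.node 894 (.node 893 (.leaf 0x28e6)
(.leaf 0x2906))
(.node 895 (.leaf 0x2915)
(.leaf 0x2917))))))))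
(.node 960 (.node 928 (.node 912 (.node 904 (.node 900 (.node 898 (.node 897 (.leaf 0x2926)
(.leaf 0x2936))
(.node 899 (.leaf 0x2945)
(.leaf 0x2947)))
(.node 902 (.node 901 (.leaf 0x2954)
(.leaf 0x2957))
(.node 903 (.leaf 0x2968)
(.leaf 0x2976))))
(.node 908 (.node 906 (.node 905 (.leaf 0x2985)
(.leaf 0x2987))
(.node 907 (.leaf 0x2994)
(.leaf 0x2997)))
(.node 910 (.node 909 (.leaf 0x29a8)
(.leaf 0x29b3))
(.node 911 (.leaf 0x29b7)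
(.leaf 0x29c8)))))
(.node 920 (.node 916 (.node 914 (.node 913 (.leaf 0x29d9)
(.leaf 0x29f9))
(.node 915 (.leaf 0x29fc)
(.leaf 0x2a0b)))
(.node 918 (.node 917 (.leaf 0x2a2b)
(.leaf 0x2a36))
(.node 919 (.leaf 0x2a45)
(.leaf 0x2a58))))
(.node 924 (.node 922 (.node 921 (.leaf 0x2a5b)
(.leaf 0x2a5c))
(.node 923 (.leaf 0x2a69)
(.leaf 0x2a6c)))
(.node 926 (.node 925 (.leaf 0x2a7b)
(.leaf 0x2a86))
(.node 927 (.leaf 0x2a9c)
(.leaf 0x2aab))))))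
(.node 944 (.node 936 (.node 932 (.node 930 (.node 929 (.leaf 0x2ab6)
(.leaf 0x2ac7))
(.node 931 (.leaf 0x2acb)
(.leaf 0x2acc)))
(.node 934 (.node 933 (.leaf 0x2adc)
(.leaf 0x2aeb))
(.node 935 (.leaf 0x2afb)
(.leaf 0x2b06))))
(.node 940 (.node 938 (.node 937 (.leaf 0x2b17)
(.leaf 0x2b26))
(.node 939 (.leaf 0x2b35)
(.leaf 0x2b4b)))
(.node 942 (.node 941 (.leaf 0x2b56)
(.leaf 0x2b65))
(.node 943 (.leaf 0x2b67)
(.leaf 0x2b78)))))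
(.node 952 (.node 948 (.node 946 (.node 945 (.leaf 0x2b84)
(.leaf 0x2b99))
(.node 947 (.leaf 0x2ba5)
(.leaf 0x2ba8)))
(.node 950 (.node 949 (.leaf 0x2bab)
(.leaf 0x2bac))
(.node 951 (.leaf 0x2bb9)
(.leaf 0x2bbc))))
(.node 956 (.node 954 (.node 953 (.leaf 0x2bcb)
(.leaf 0x2bd6))
(.node 955 (.leaf 0x2be7)
(.leaf 0x2be9)))
(.node 958 (.node 957 (.leaf 0x2beb)
(.leaf 0x2bec))
(.node 959 (.leaf 0x2bfc)
(.leaf 0x2c0b)))))))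
(.node 992 (.node 976 (.node 968 (.node 964 (.node 962 (.node 961 (.leaf 0x2c1c)
(.leaf 0x2c2b))
(.node 963 (.leaf 0x2c36)
(.leaf 0x2c47)))
(.node 966 (.node 965 (.leaf 0x2c5b)
(.leaf 0x2c66))
(.node 967 (.leaf 0x2c75)
(.leaf 0x2c88))))
(.node 972 (.node 970 (.node 969 (.leaf 0x2c8c)
(.leaf 0x2c9b))
(.node 971 (.leaf 0x2c9c)
(.leaf 0x2cac)))
(.node 974 (.node 973 (.leaf 0x2cbb)
(.leaf 0x2ccb))
(.node 975 (.leaf 0x2cd6)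
(.leaf 0x2ce5)))))
(.node 984 (.node 980 (.node 978 (.node 977 (.leaf 0x2ce7)
(.leaf 0x2cfb))
(.node 979 (.leaf 0x2cfc)
(.leaf 0x2d0c)))
(.node 982 (.node 981 (.leaf 0x2d1b)
(.leaf 0x2d2b))
(.node 983 (.leaf 0x2d36)
(.leaf 0x2d46))))
(.node 988 (.node 986 (.node 985 (.leaf 0x2d55)
(.leaf 0x2d57))
(.node 987 (.leaf 0x2d68)
(.leaf 0x2d75)))
(.node 990 (.node 989 (.leaf 0x2d77)
(.leaf 0x2d84))
(.node 991 (.leaf 0x2d9b)
(.leaf 0x2dab))))))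
(.node 1008 (.node 1000 (.node 996 (.node 994 (.node 993 (.leaf 0x2db6)
(.leaf 0x2dc5))
(.node 995 (.leaf 0x2dc7)
(.leaf 0x2dd7)))
(.node 998 (.node 997 (.leaf 0x2de8)
(.leaf 0x2df6))
(.node 999 (.leaf 0x2e05)
(.leaf 0x2e07))))
(.node 1004 (.node 1002 (.node 1001 (.leaf 0x2e14)
(.leaf 0x2e17))
(.node 1003 (.leaf 0x2e28)
(.leaf 0x2e43)))
(.node 1006 (.node 1005 (.leaf 0x2e68)
(.leaf 0x2e6c))
(.node 1007 (.leaf 0x2e79)
(.leaf 0x2e7c)))))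
(.node 1016 (.node 1012 (.node 1010 (.node 1009 (.leaf 0x2e8b)
(.leaf 0x2e96))
(.node 1011 (.leaf 0x2ea8)
(.leaf 0x2eac)))
(.node 1014 (.node 1013 (.leaf 0x2eb7)
(.leaf 0x2eb9))
(.node 1015 (.leaf 0x2ebb)
(.leaf 0x2ebc))))
(.node 1020 (.node 1018 (.node 1017 (.leaf 0x2ecc)
(.leaf 0x2edb))
(.node 1019 (.leaf 0x2eec)
(.leaf 0x2efb)))
(.node 1022 (.node 1021 (.leaf 0x2f06)
(.leaf 0x2f15))
(.node 1023 (.leaf 0x2f17)
(.leaf 0x2f29)))))))))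

/-- part of a trie -/
def parPart4 : Tr :=
(.node 1152 (.node 1088 (.node 1056 (.node 1040 (.node 1032 (.node 1028 (.node 1026 (.node 1025 (.leaf 0x2f2b)
(.leaf 0x2f2c))
(.node 1027 (.leaf 0x2f3b)
(.leaf 0x2f3c)))
(.node 1030 (.node 1029 (.leaf 0x2f4c)
(.leaf 0x2f5b))
(.node 1031 (.leaf 0x2f6b)
(.leaf 0x2f76))))
(.node 1036 (.node 1034 (.node 1033 (.leaf 0x2f8b)
(.leaf 0x2f96))
(.node 1035 (.leaf 0x2fa5)
(.leaf 0x2fa7)))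
(.node 1038 (.node 1037 (.leaf 0x2fb8)
(.leaf 0x2fd5))
(.node 1039 (.leaf 0x2fd7)
(.leaf 0x2fe4)))))
(.node 1048 (.node 1044 (.node 1042 (.node 1041 (.leaf 0x2ff7)
(.leaf 0x2ffc))
(.node 1043 (.leaf 0x300b)
(.leaf 0x301b)))
(.node 1046 (.node 1045 (.leaf 0x3026)
(.leaf 0x3037))
(.node 1047 (.leaf 0x3047)
(.leaf 0x304c))))
(.node 1052 (.node 1050 (.node 1049 (.leaf 0x305b)
(.leaf 0x306b))
(.node 1051 (.leaf 0x306c)
(.leaf 0x307c)))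
(.node 1054 (.node 1053 (.leaf 0x308b)
(.leaf 0x309b))
(.node 1055 (.leaf 0x30a6)
(.leaf 0x30b6))))))
(.node 1072 (.node 1064 (.node 1060 (.node 1058 (.node 1057 (.leaf 0x30c5)
(.leaf 0x30c7))
(.node 1059 (.leaf 0x30d7)
(.leaf 0x30e8)))
(.node 1062 (.node 1061 (.leaf 0x30f6)
(.leaf 0x30fc))
(.node 1063 (.leaf 0x310b)
(.leaf 0x311b))))
(.node 1068 (.node 1066 (.node 1065 (.leaf 0x3126)
(.leaf 0x3136))
(.node 1067 (.leaf 0x3145)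
(.leaf 0x3147)))
(.node 1070 (.node 1069 (.leaf 0x3155)
(.leaf 0x3157))
(.node 1071 (.leaf 0x3164)
(.leaf 0x3167)))))
(.node 1080 (.node 1076 (.node 1074 (.node 1073 (.leaf 0x3178)
(.leaf 0x3194))
(.node 1075 (.leaf 0x3197)
(.leaf 0x31c6)))
(.node 1078 (.node 1077 (.leaf 0x31d5)
(.leaf 0x31d7))
(.node 1079 (.leaf 0x31f6)
(.leaf 0x3206))))
(.node 1084 (.node 1082 (.node 1081 (.leaf 0x3215)
(.leaf 0x3217))
(.node 1083 (.leaf 0x3224)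
(.leaf 0x3227)))
(.node 1086 (.node 1085 (.leaf 0x3238)
(.leaf 0x3246))
(.node 1087 (.leaf 0x3255)
(.leaf 0x3257)))))))
(.node 1120 (.node 1104 (.node 1096 (.node 1092 (.node 1090 (.node 1089 (.leaf 0x3264)
(.leaf 0x3267))
(.node 1091 (.leaf 0x3278)
(.leaf 0x3283)))
(.node 1094 (.node 1093 (.leaf 0x3287)
(.leaf 0x3298))
(.node 1095 (.leaf 0x32c8)
(.leaf 0x32cc))))
(.node 1100 (.node 1098 (.node 1097 (.leaf 0x32d9)
(.leaf 0x32dc))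
(.node 1099 (.leaf 0x32eb)
(.leaf 0x32f6)))
(.node 1102 (.node 1101 (.leaf 0x3307)
(.leaf 0x3309))
(.node 1103 (.leaf 0x330c)
(.leaf 0x331b)))))
(.node 1112 (.node 1108 (.node 1106 (.node 1105 (.leaf 0x332c)
(.leaf 0x333b))
(.node 1107 (.leaf 0x3346)
(.leaf 0x3357)))
(.node 1110 (.node 1109 (.leaf 0x3367)
(.leaf 0x3369))
(.node 1111 (.leaf 0x336c)
(.leaf 0x337b))))
(.node 1116 (.node 1114 (.node 1113 (.leaf 0x3389)
(.leaf 0x338b))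
(.node 1115 (.leaf 0x338c)
(.leaf 0x339b)))
(.node 1118 (.node 1117 (.leaf 0x339c)
(.leaf 0x33ac))
(.node 1119 (.leaf 0x33bb)
(.leaf 0x33cb))))))
(.node 1136 (.node 1128 (.node 1124 (.node 1122 (.node 1121 (.leaf 0x33d6)
(.leaf 0x33eb))
(.node 1123 (.leaf 0x33f6)
(.leaf 0x3405)))
(.node 1126 (.node 1125 (.leaf 0x3407)
(.leaf 0x3417))
(.node 1127 (.leaf 0x3428)
(.leaf 0x343b))))
(.node 1132 (.node 1130 (.node 1129 (.leaf 0x343c)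
(.leaf 0x3446))
(.node 1131 (.leaf 0x344c)
(.leaf 0x345b)))
(.node 1134 (.node 1133 (.leaf 0x346c)
(.leaf 0x347b))
(.node 1135 (.leaf 0x348b)
(.leaf 0x3496)))))
(.node 1144 (.node 1140 (.node 1138 (.node 1137 (.leaf 0x34a6)
(.leaf 0x34b5))
(.node 1139 (.leaf 0x34b7)
(.leaf 0x34c6)))
(.node 1142 (.node 1141 (.leaf 0x34d5)
(.leaf 0x34d7))
(.node 1143 (.leaf 0x34e4)
(.leaf 0x34e7))))
(.node 1148 (.node 1146 (.node 1145 (.leaf 0x34f8)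
(.leaf 0x3514))
(.node 1147 (.leaf 0x3517)
(.leaf 0x353c)))
(.node 1150 (.node 1149 (.leaf 0x354b)
(.leaf 0x355b))
(.node 1151 (.leaf 0x3566)
(.leaf 0x3577))))))))
(.node 1216 (.node 1184 (.node 1168 (.node 1160 (.node 1156 (.node 1154 (.node 1153 (.leaf 0x358c)
(.leaf 0x359b))
(.node 1155 (.leaf 0x35a6)
(.leaf 0x35b6)))
(.node 1158 (.node 1157 (.leaf 0x35c5)
(.leaf 0x35c7))
(.node 1159 (.leaf 0x35d8)
(.leaf 0x35e6))))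
(.node 1164 (.node 1162 (.node 1161 (.leaf 0x35ec)
(.leaf 0x35fb))
(.node 1163 (.leaf 0x3606)
(.leaf 0x3616)))
(.node 1166 (.node 1165 (.leaf 0x361c)
(.leaf 0x362b))
(.node 1167 (.leaf 0x363b)
(.leaf 0x3646)))))
(.node 1176 (.node 1172 (.node 1170 (.node 1169 (.leaf 0x3656)
(.leaf 0x3665))
(.node 1171 (.leaf 0x3667)
(.leaf 0x3675)))
(.node 1174 (.node 1173 (.leaf 0x3677)
(.leaf 0x3684))
(.node 1175 (.leaf 0x3687)
(.leaf 0x3698))))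
(.node 1180 (.node 1178 (.node 1177 (.leaf 0x36a6)
(.leaf 0x36a8))
(.node 1179 (.leaf 0x36cc)
(.leaf 0x36db)))
(.node 1182 (.node 1181 (.leaf 0x36e6)
(.leaf 0x36f6))
(.node 1183 (.leaf 0x3705)
(.leaf 0x3707))))))
(.node 1200 (.node 1192 (.node 1188 (.node 1186 (.node 1185 (.leaf 0x3715)
(.leaf 0x3717))
(.node 1187 (.leaf 0x3724)
(.leaf 0x3727)))
(.node 1190 (.node 1189 (.leaf 0x3738)
(.leaf 0x3744))
(.node 1191 (.leaf 0x3747)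
(.leaf 0x3758))))
(.node 1196 (.node 1194 (.node 1193 (.leaf 0x3763)
(.leaf 0x3767))
(.node 1195 (.leaf 0x3778)
(.leaf 0x3789)))
(.node 1198 (.node 1197 (.leaf 0x3797)
(.leaf 0x37b6))
(.node 1199 (.leaf 0x37c5)
(.leaf 0x37c7)))))
(.node 1208 (.node 1204 (.node 1202 (.node 1201 (.leaf 0x37d5)
(.leaf 0x37d7))
(.node 1203 (.leaf 0x37e4)
(.leaf 0x37e7)))
(.node 1206 (.node 1205 (.leaf 0x3805)
(.leaf 0x3815))
(.node 1207 (.leaf 0x3817)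
(.leaf 0x3824))))
(.node 1212 (.node 1210 (.node 1209 (.leaf 0x3827)
(.leaf 0x3838))
(.node 1211 (.leaf 0x3843)
(.leaf 0x3847)))
(.node 1214 (.node 1213 (.leaf 0x3856)
(.leaf 0x3858))
(.node 1215 (.leaf 0x387b)
(.leaf 0x3884)))))))
(.node 1248 (.node 1232 (.node 1224 (.node 1220 (.node 1218 (.node 1217 (.leaf 0x3887)
(.leaf 0x3898))
(.node 1219 (.leaf 0x38a3)
(.leaf 0x38a7)))
(.node 1222 (.node 1221 (.leaf 0x38b6)
(.leaf 0x38b8))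
(.node 1223 (.leaf 0x38c9)
(.leaf 0x38d2))))
(.node 1228 (.node 1226 (.node 1225 (.leaf 0x38d7)
(.leaf 0x38e8))
(.node 1227 (.leaf 0x38f9)
(.leaf 0x391c)))
(.node 1230 (.node 1229 (.leaf 0x392b)
(.leaf 0x3936))
(.node 1231 (.leaf 0x3946)
(.leaf 0x3955)))))
(.node 1240 (.node 1236 (.node 1234 (.node 1233 (.leaf 0x3964)
(.leaf 0x3977))
(.node 1235 (.leaf 0x3979)
(.leaf 0x397b)))
(.node 1238 (.node 1237 (.leaf 0x397c)
(.leaf 0x398c))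
(.node 1239 (.leaf 0x399b)
(.leaf 0x39ac))))
(.node 1244 (.node 1242 (.node 1241 (.leaf 0x39bb)
(.leaf 0x39c6))
(.node 1243 (.leaf 0x39d7)
(.leaf 0x39eb)))
(.node 1246 (.node 1245 (.leaf 0x39f6)
(.leaf 0x3a05))
(.node 1247 (.leaf 0x3a1b)
(.leaf 0x3a1c))))))
(.node 1264 (.node 1256 (.node 1252 (.node 1250 (.node 1249 (.leaf 0x3a2c)
(.leaf 0x3a3b))
(.node 1251 (.leaf 0x3a4b)
(.leaf 0x3a56)))
(.node 1254 (.node 1253 (.leaf 0x3a66)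
(.leaf 0x3a75))
(.node 1255 (.leaf 0x3a77)
(.leaf 0x3a88))))
(.node 1260 (.node 1258 (.node 1257 (.leaf 0x3a95)
(.leaf 0x3a97))
(.node 1259 (.leaf 0x3ab6)
(.leaf 0x3ac5)))
(.node 1262 (.node 1261 (.leaf 0x3ac7)
(.leaf 0x3ad4))
(.node 1263 (.leaf 0x3ad7)
(.leaf 0x3ae8)))))
(.node 1272 (.node 1268 (.node 1266 (.node 1265 (.leaf 0x3af9)
(.leaf 0x3b03))
(.node 1267 (.leaf 0x3b1a)
(.leaf 0x3b28)))
(.node 1270 (.node 1269 (.leaf 0x3b2c)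
(.leaf 0x3b37))
(.node 1271 (.leaf 0x3b39)
(.leaf 0x3b3b))))
(.node 1276 (.node 1274 (.node 1273 (.leaf 0x3b3c)
(.leaf 0x3b4c))
(.node 1275 (.leaf 0x3b5b)
(.leaf 0x3b6c)))
(.node 1278 (.node 1277 (.leaf 0x3b7b)
(.leaf 0x3b86))
(.node 1279 (.leaf 0x3b95)
(.leaf 0x3b97)))))))))

/-- part of a trie -/
def parPart5 : Tr :=
(.node 1408 (.node 1344 (.node 1312 (.node 1296 (.node 1288 (.node 1284 (.node 1282 (.node 1281 (.leaf 0x3ba9)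
(.leaf 0x3bab))
(.node 1283 (.leaf 0x3bac)
(.leaf 0x3bbb)))
(.node 1286 (.node 1285 (.leaf 0x3bbc)
(.leaf 0x3bcc))
(.node 1287 (.leaf 0x3bdb)
(.leaf 0x3beb))))
(.node 1292 (.node 1290 (.node 1289 (.leaf 0x3bf6)
(.leaf 0x3c0b))
(.node 1291 (.leaf 0x3c16)
(.leaf 0x3c25)))
(.node 1294 (.node 1293 (.leaf 0x3c27)
(.leaf 0x3c38))
(.node 1295 (.leaf 0x3c46)
(.leaf 0x3c55)))))
(.node 1304 (.node 1300 (.node 1298 (.node 1297 (.leaf 0x3c57)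
(.leaf 0x3c64))
(.node 1299 (.leaf 0x3c77)
(.leaf 0x3c7c)))
(.node 1302 (.node 1301 (.leaf 0x3c8b)
(.leaf 0x3cab))
(.node 1303 (.leaf 0x3cbb)
(.leaf 0x3cc6))))
(.node 1308 (.node 1306 (.node 1305 (.leaf 0x3ce5)
(.leaf 0x3ce7))
(.node 1307 (.leaf 0x3cf7)
(.leaf 0x3d08)))
(.node 1310 (.node 1309 (.leaf 0x3d16)
(.leaf 0x3d1c))
(.node 1311 (.leaf 0x3d2b)
(.leaf 0x3d3b))))))
(.node 1328 (.node 1320 (.node 1316 (.node 1314 (.node 1313 (.leaf 0x3d46)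
(.leaf 0x3d56))
(.node 1315 (.leaf 0x3d65)
(.leaf 0x3d67)))
(.node 1318 (.node 1317 (.leaf 0x3d84)
(.leaf 0x3d87))
(.node 1319 (.leaf 0x3d98)
(.leaf 0x3db4))))
(.node 1324 (.node 1322 (.node 1321 (.leaf 0x3db7)
(.leaf 0x3dd3))
(.node 1323 (.leaf 0x3de6)
(.leaf 0x3df6)))
(.node 1326 (.node 1325 (.leaf 0x3e05)
(.leaf 0x3e07))
(.node 1327 (.leaf 0x3e14)
(.leaf 0x3e17)))))
(.node 1336 (.node 1332 (.node 1330 (.node 1329 (.leaf 0x3e28)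
(.leaf 0x3e36))
(.node 1331 (.leaf 0x3e55)
(.leaf 0x3e57)))
(.node 1334 (.node 1333 (.leaf 0x3e64)
(.leaf 0x3e67))
(.node 1335 (.leaf 0x3e78)
(.leaf 0x3e83))))
(.node 1340 (.node 1338 (.node 1337 (.leaf 0x3e87)
(.leaf 0x3e98))
(.node 1339 (.leaf 0x3ec7)
(.leaf 0x3ec9)))
(.node 1342 (.node 1341 (.leaf 0x3ecc)
(.leaf 0x3edb))
(.node 1343 (.leaf 0x3eec)
(.leaf 0x3efb)))))))
(.node 1376 (.node 1360 (.node 1352 (.node 1348 (.node 1346 (.node 1345 (.leaf 0x3f06)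
(.leaf 0x3f17))
(.node 1347 (.leaf 0x3f27)
(.leaf 0x3f29)))
(.node 1350 (.node 1349 (.leaf 0x3f2c)
(.leaf 0x3f3b))
(.node 1351 (.leaf 0x3f49)
(.leaf 0x3f4b))))
(.node 1356 (.node 1354 (.node 1353 (.leaf 0x3f4c)
(.leaf 0x3f5b))
(.node 1355 (.leaf 0x3f5c)
(.leaf 0x3f6c)))
(.node 1358 (.node 1357 (.leaf 0x3f7b)
(.leaf 0x3f8b))
(.node 1359 (.leaf 0x3f96)
(.leaf 0x3fab)))))
(.node 1368 (.node 1364 (.node 1362 (.node 1361 (.leaf 0x3fb6)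
(.leaf 0x3fc5))
(.node 1363 (.leaf 0x3fc7)
(.leaf 0x3fd7)))
(.node 1366 (.node 1365 (.leaf 0x3fe8)
(.leaf 0x3ff8))
(.node 1367 (.leaf 0x3ffb)
(.leaf 0x3ffc))))
(.node 1372 (.node 1370 (.node 1369 (.leaf 0x4006)
(.leaf 0x400c))
(.node 1371 (.leaf 0x401b)
(.leaf 0x402c)))
(.node 1374 (.node 1373 (.leaf 0x403b)
(.leaf 0x404b))
(.node 1375 (.leaf 0x4056)
(.leaf 0x4066))))))
(.node 1392 (.node 1384 (.node 1380 (.node 1378 (.node 1377 (.leaf 0x4075)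
(.leaf 0x4077))
(.node 1379 (.leaf 0x4086)
(.leaf 0x4095)))
(.node 1382 (.node 1381 (.leaf 0x4097)
(.leaf 0x40a4))
(.node 1383 (.leaf 0x40a7)
(.leaf 0x40b8))))
(.node 1388 (.node 1386 (.node 1385 (.leaf 0x40c9)
(.leaf 0x40d4))
(.node 1387 (.leaf 0x40d7)
(.leaf 0x40f3)))
(.node 1390 (.node 1389 (.leaf 0x410c)
(.leaf 0x411b))
(.node 1391 (.leaf 0x4126)
(.leaf 0x4136)))))
(.node 1400 (.node 1396 (.node 1394 (.node 1393 (.leaf 0x4145)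
(.leaf 0x4147))
(.node 1395 (.leaf 0x4158)
(.leaf 0x4166)))
(.node 1398 (.node 1397 (.leaf 0x416c)
(.leaf 0x417b))
(.node 1399 (.leaf 0x4186)
(.leaf 0x4196))))
(.node 1404 (.node 1402 (.node 1401 (.leaf 0x419c)
(.leaf 0x41ab))
(.node 1403 (.leaf 0x41bb)
(.leaf 0x41c6)))
(.node 1406 (.node 1405 (.leaf 0x41d6)
(.leaf 0x41e5))
(.node 1407 (.leaf 0x41e7)
(.leaf 0x41f5))))))))
(.node 1472 (.node 1440 (.node 1424 (.node 1416 (.node 1412 (.node 1410 (.node 1409 (.leaf 0x41f7)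
(.leaf 0x4204))
(.node 1411 (.leaf 0x4207)
(.leaf 0x4218)))
(.node 1414 (.node 1413 (.leaf 0x4226)
(.leaf 0x4228))
(.node 1415 (.leaf 0x4245)
(.leaf 0x424c))))
(.node 1420 (.node 1418 (.node 1417 (.leaf 0x425b)
(.leaf 0x4266))
(.node 1419 (.leaf 0x4276)
(.leaf 0x4285)))
(.node 1422 (.node 1421 (.leaf 0x4287)
(.leaf 0x4295))
(.node 1423 (.leaf 0x4297)
(.leaf 0x42a4)))))
(.node 1432 (.node 1428 (.node 1426 (.node 1425 (.leaf 0x42a7)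
(.leaf 0x42b8))
(.node 1427 (.leaf 0x42c4)
(.leaf 0x42c7)))
(.node 1430 (.node 1429 (.leaf 0x42d8)
(.leaf 0x42e3))
(.node 1431 (.leaf 0x42e7)
(.leaf 0x42f8))))
(.node 1436 (.node 1434 (.node 1433 (.leaf 0x4309)
(.leaf 0x4313))
(.node 1435 (.leaf 0x4317)
(.leaf 0x4335)))
(.node 1438 (.node 1437 (.leaf 0x4337)
(.leaf 0x4344))
(.node 1439 (.leaf 0x4347)
(.leaf 0x4365))))))
(.node 1456 (.node 1448 (.node 1444 (.node 1442 (.node 1441 (.leaf 0x4375)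
(.leaf 0x4377))
(.node 1443 (.leaf 0x4384)
(.leaf 0x4387)))
(.node 1446 (.node 1445 (.leaf 0x4398)
(.leaf 0x43a3))
(.node 1447 (.leaf 0x43a7)
(.leaf 0x43b6))))
(.node 1452 (.node 1450 (.node 1449 (.leaf 0x43b8)
(.leaf 0x43db))
(.node 1451 (.leaf 0x43e4)
(.leaf 0x43e7)))
(.node 1454 (.node 1453 (.leaf 0x43f8)
(.leaf 0x4403))
(.node 1455 (.leaf 0x4407)
(.leaf 0x4416)))))
(.node 1464 (.node 1460 (.node 1458 (.node 1457 (.leaf 0x4418)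
(.leaf 0x4429))
(.node 1459 (.leaf 0x4432)
(.leaf 0x4437)))
(.node 1462 (.node 1461 (.leaf 0x4448)
(.leaf 0x4459))
(.node 1463 (.leaf 0x4467)
(.leaf 0x4469))))
(.node 1468 (.node 1466 (.node 1465 (.leaf 0x446c)
(.leaf 0x447b))
(.node 1467 (.leaf 0x448c)
(.leaf 0x449b)))
(.node 1470 (.node 1469 (.leaf 0x44a6)
(.leaf 0x44b7))
(.node 1471 (.leaf 0x44c9)
(.leaf 0x44cc)))))))
(.node 1504 (.node 1488 (.node 1480 (.node 1476 (.node 1474 (.node 1473 (.leaf 0x44dc)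
(.leaf 0x44eb))
(.node 1475 (.leaf 0x44f6)
(.leaf 0x4516)))
(.node 1478 (.node 1477 (.leaf 0x4525)
(.leaf 0x4527))
(.node 1479 (.leaf 0x4538)
(.leaf 0x4546))))
(.node 1484 (.node 1482 (.node 1481 (.leaf 0x4549)
(.leaf 0x454c))
(.node 1483 (.leaf 0x455c)
(.leaf 0x456b)))
(.node 1486 (.node 1485 (.leaf 0x4576)
(.leaf 0x4588))
(.node 1487 (.leaf 0x458b)
(.leaf 0x458c)))))
(.node 1496 (.node 1492 (.node 1490 (.node 1489 (.leaf 0x4596)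
(.leaf 0x459c))
(.node 1491 (.leaf 0x45ab)
(.leaf 0x45bc)))
(.node 1494 (.node 1493 (.leaf 0x45cb)
(.leaf 0x45db))
(.node 1495 (.leaf 0x45e6)
(.leaf 0x45f6))))
(.node 1500 (.node 1498 (.node 1497 (.leaf 0x4605)
(.leaf 0x4607))
(.node 1499 (.leaf 0x4616)
(.leaf 0x4625)))
(.node 1502 (.node 1501 (.leaf 0x4627)
(.leaf 0x4634))
(.node 1503 (.leaf 0x4637)
(.leaf 0x4648))))))
(.node 1520 (.node 1512 (.node 1508 (.node 1506 (.node 1505 (.leaf 0x4656)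
(.leaf 0x4658))
(.node 1507 (.leaf 0x4676)
(.leaf 0x467c)))
(.node 1510 (.node 1509 (.leaf 0x468b)
(.leaf 0x469c))
(.node 1511 (.leaf 0x46ab)
(.leaf 0x46b6))))
(.node 1516 (.node 1514 (.node 1513 (.leaf 0x46cb)
(.leaf 0x46d6))
(.node 1515 (.leaf 0x46e6)
(.leaf 0x46f5)))
(.node 1518 (.node 1517 (.leaf 0x46f7)
(.leaf 0x4705))
(.node 1519 (.leaf 0x4707)
(.leaf 0x4714)))))
(.node 1528 (.node 1524 (.node 1522 (.node 1521 (.leaf 0x4717)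
(.leaf 0x4728))
(.node 1523 (.leaf 0x4735)
(.leaf 0x4737)))
(.node 1526 (.node 1525 (.leaf 0x4744)
(.leaf 0x4747))
(.node 1527 (.leaf 0x4758)
(.leaf 0x4767))))
(.node 1532 (.node 1530 (.node 1529 (.leaf 0x4778)
(.leaf 0x4797))
(.node 1531 (.leaf 0x47a6)
(.leaf 0x47bb)))
(.node 1534 (.node 1533 (.leaf 0x47c6)
(.leaf 0x47d6))
(.node 1535 (.leaf 0x47e5)
(.leaf 0x47e7)))))))))

/-- part of a trie -/
def parPart6 : Tr :=
(.node 1664 (.node 1600 (.node 1568 (.node 1552 (.node 1544 (.node 1540 (.node 1538 (.node 1537 (.leaf 0x47f8)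
(.leaf 0x4816))
(.node 1539 (.leaf 0x4825)
(.leaf 0x4827)))
(.node 1542 (.node 1541 (.leaf 0x4835)
(.leaf 0x4837))
(.node 1543 (.leaf 0x4844)
(.leaf 0x4847))))
(.node 1548 (.node 1546 (.node 1545 (.leaf 0x4858)
(.leaf 0x487c))
(.node 1547 (.leaf 0x488b)
(.leaf 0x4896)))
(.node 1550 (.node 1549 (.leaf 0x48a5)
(.leaf 0x48bc))
(.node 1551 (.leaf 0x48cb)
(.leaf 0x48d6)))))
(.node 1560 (.node 1556 (.node 1554 (.node 1553 (.leaf 0x48e6)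
(.leaf 0x48f5))
(.node 1555 (.leaf 0x48f7)
(.leaf 0x4905)))
(.node 1558 (.node 1557 (.leaf 0x4907)
(.leaf 0x4914))
(.node 1559 (.leaf 0x4917)
(.leaf 0x4928))))
(.node 1564 (.node 1562 (.node 1561 (.leaf 0x4934)
(.leaf 0x4937))
(.node 1563 (.leaf 0x4948)
(.leaf 0x4953)))
(.node 1566 (.node 1565 (.leaf 0x4957)
(.leaf 0x4966))
(.node 1567 (.leaf 0x4968)
(.leaf 0x4979))))))
(.node 1584 (.node 1576 (.node 1572 (.node 1570 (.node 1569 (.leaf 0x4988)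
(.leaf 0x49ab))
(.node 1571 (.leaf 0x49b6)
(.leaf 0x49c5)))
(.node 1574 (.node 1573 (.leaf 0x49d5)
(.leaf 0x49d7))
(.node 1575 (.leaf 0x49e4)
(.leaf 0x49e7))))
(.node 1580 (.node 1578 (.node 1577 (.leaf 0x49f8)
(.leaf 0x4a04))
(.node 1579 (.leaf 0x4a07)
(.leaf 0x4a18)))
(.node 1582 (.node 1581 (.leaf 0x4a23)
(.leaf 0x4a27))
(.node 1583 (.leaf 0x4a36)
(.leaf 0x4a38)))))
(.node 1592 (.node 1588 (.node 1586 (.node 1585 (.leaf 0x4a49)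
(.leaf 0x4a53))
(.node 1587 (.leaf 0x4a57)
(.leaf 0x4a68)))
(.node 1590 (.node 1589 (.leaf 0x4a79)
(.leaf 0x4a82))
(.node 1591 (.leaf 0x4a87)
(.leaf 0x4a98))))
(.node 1596 (.node 1594 (.node 1593 (.leaf 0x4aa9)
(.leaf 0x4ad5))
(.node 1595 (.leaf 0x4ad7)
(.leaf 0x4ae4)))
(.node 1598 (.node 1597 (.leaf 0x4ae7)
(.leaf 0x4b04))
(.node 1599 (.leaf 0x4b07)
(.leaf 0x4b23)))))))
(.node 1632 (.node 1616 (.node 1608 (.node 1604 (.node 1602 (.node 1601 (.leaf 0x4b27)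
(.leaf 0x4b44))
(.node 1603 (.leaf 0x4b47)
(.leaf 0x4b54)))
(.node 1606 (.node 1605 (.leaf 0x4b57)
(.leaf 0x4b68))
(.node 1607 (.leaf 0x4b73)
(.leaf 0x4b77))))
(.node 1612 (.node 1610 (.node 1609 (.leaf 0x4b86)
(.leaf 0x4b88))
(.node 1611 (.leaf 0x4b99)
(.leaf 0x4ba2)))
(.node 1614 (.node 1613 (.leaf 0x4ba7)
(.leaf 0x4bb6))
(.node 1615 (.leaf 0x4bb8)
(.leaf 0x4bcb)))))
(.node 1624 (.node 1620 (.node 1618 (.node 1617 (.leaf 0x4bd9)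
(.leaf 0x4bf7))
(.node 1619 (.leaf 0x4c06)
(.leaf 0x4c08)))
(.node 1622 (.node 1621 (.leaf 0x4c19)
(.leaf 0x4c22))
(.node 1623 (.leaf 0x4c27)
(.leaf 0x4c36))))
(.node 1628 (.node 1626 (.node 1625 (.leaf 0x4c38)
(.leaf 0x4c48))
(.node 1627 (.leaf 0x4c59)
(.leaf 0x4c71)))
(.node 1630 (.node 1629 (.leaf 0x4c77)
(.leaf 0x4c88))
(.node 1631 (.leaf 0x4c99)
(.leaf 0x4cbb))))))
(.node 1648 (.node 1640 (.node 1636 (.node 1634 (.node 1633 (.leaf 0x4cc6)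
(.leaf 0x4cd5))
(.node 1635 (.leaf 0x4ce5)
(.leaf 0x4ce7)))
(.node 1638 (.node 1637 (.leaf 0x4d03)
(.leaf 0x4d19))
(.node 1639 (.leaf 0x4d1b)
(.leaf 0x4d1c))))
(.node 1644 (.node 1642 (.node 1641 (.leaf 0x4d2b)
(.leaf 0x4d2c))
(.node 1643 (.leaf 0x4d3c)
(.leaf 0x4d4b)))
(.node 1646 (.node 1645 (.leaf 0x4d5b)
(.leaf 0x4d66))
(.node 1647 (.leaf 0x4d7b)
(.leaf 0x4d86)))))
(.node 1656 (.node 1652 (.node 1650 (.node 1649 (.leaf 0x4d95)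
(.leaf 0x4d97))
(.node 1651 (.leaf 0x4da8)
(.leaf 0x4db6)))
(.node 1654 (.node 1653 (.leaf 0x4dc5)
(.leaf 0x4dc7))
(.node 1655 (.leaf 0x4dd4)
(.leaf 0x4de6))))
(.node 1660 (.node 1658 (.node 1657 (.leaf 0x4dec)
(.leaf 0x4dfb))
(.node 1659 (.leaf 0x4e0b)
(.leaf 0x4e16)))
(.node 1662 (.node 1661 (.leaf 0x4e26)
(.leaf 0x4e35))
(.node 1663 (.leaf 0x4e37)
(.leaf 0x4e45))))))))
(.node 1728 (.node 1696 (.node 1680 (.node 1672 (.node 1668 (.node 1666 (.node 1665 (.leaf 0x4e47)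
(.leaf 0x4e54))
(.node 1667 (.leaf 0x4e57)
(.leaf 0x4e68)))
(.node 1670 (.node 1669 (.leaf 0x4e79)
(.leaf 0x4e84))
(.node 1671 (.leaf 0x4e87)
(.leaf 0x4ea5))))
(.node 1676 (.node 1674 (.node 1673 (.leaf 0x4ea7)
(.leaf 0x4eb4))
(.node 1675 (.leaf 0x4eb7)
(.leaf 0x4ec8)))
(.node 1678 (.node 1677 (.leaf 0x4ed3)
(.leaf 0x4ed7))
(.node 1679 (.leaf 0x4ee8)
(.leaf 0x4ef9)))))
(.node 1688 (.node 1684 (.node 1682 (.node 1681 (.leaf 0x4f0a)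
(.leaf 0x4f37))
(.node 1683 (.leaf 0x4f39)
(.leaf 0x4f3c)))
(.node 1686 (.node 1685 (.leaf 0x4f4b)
(.leaf 0x4f59))
(.node 1687 (.leaf 0x4f5b)
(.leaf 0x4f5c))))
(.node 1692 (.node 1690 (.node 1689 (.leaf 0x4f6b)
(.leaf 0x4f6c))
(.node 1691 (.leaf 0x4f7c)
(.leaf 0x4f8b)))
(.node 1694 (.node 1693 (.leaf 0x4f9b)
(.leaf 0x4fa6))
(.node 1695 (.leaf 0x4fbb)
(.leaf 0x4fc6))))))
(.node 1712 (.node 1704 (.node 1700 (.node 1698 (.node 1697 (.leaf 0x4fd5)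
(.leaf 0x4fd7))
(.node 1699 (.leaf 0x4fe7)
(.leaf 0x4ff8)))
(.node 1702 (.node 1701 (.leaf 0x5008)
(.leaf 0x500b))
(.node 1703 (.leaf 0x500c)
(.leaf 0x5016))))
(.node 1708 (.node 1706 (.node 1705 (.leaf 0x501c)
(.leaf 0x502b))
(.node 1707 (.leaf 0x503c)
(.leaf 0x504b)))
(.node 1710 (.node 1709 (.leaf 0x505b)
(.leaf 0x5066))
(.node 1711 (.leaf 0x5076)
(.leaf 0x5085)))))
(.node 1720 (.node 1716 (.node 1714 (.node 1713 (.leaf 0x5087)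
(.leaf 0x5096))
(.node 1715 (.leaf 0x50a5)
(.leaf 0x50a7)))
(.node 1718 (.node 1717 (.leaf 0x50b4)
(.leaf 0x50b7))
(.node 1719 (.leaf 0x50c8)
(.leaf 0x50d9))))
(.node 1724 (.node 1722 (.node 1721 (.leaf 0x50e5)
(.leaf 0x50e7))
(.node 1723 (.leaf 0x50f4)
(.leaf 0x50f7)))
(.node 1726 (.node 1725 (.leaf 0x5113)
(.leaf 0x512c))
(.node 1727 (.leaf 0x513b)
(.leaf 0x5146)))))))
(.node 1760 (.node 1744 (.node 1736 (.node 1732 (.node 1730 (.node 1729 (.leaf 0x5156)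
(.leaf 0x5166))
(.node 1731 (.leaf 0x5175)
(.leaf 0x5177)))
(.node 1734 (.node 1733 (.leaf 0x5184)
(.leaf 0x5187))
(.node 1735 (.leaf 0x5198)
(.leaf 0x51a6))))
(.node 1740 (.node 1738 (.node 1737 (.leaf 0x51a8)
(.leaf 0x51cc))
(.node 1739 (.leaf 0x51db)
(.leaf 0x51f6)))
(.node 1742 (.node 1741 (.leaf 0x5205)
(.leaf 0x5207))
(.node 1743 (.leaf 0x5215)
(.leaf 0x5217)))))
(.node 1752 (.node 1748 (.node 1746 (.node 1745 (.leaf 0x5224)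
(.leaf 0x5227))
(.node 1747 (.leaf 0x5238)
(.leaf 0x5243)))
(.node 1750 (.node 1749 (.leaf 0x5247)
(.leaf 0x5258))
(.node 1751 (.leaf 0x5269)
(.leaf 0x5273))))
(.node 1756 (.node 1754 (.node 1753 (.leaf 0x5277)
(.leaf 0x52a5))
(.node 1755 (.leaf 0x52a7)
(.leaf 0x52b5)))
(.node 1758 (.node 1757 (.leaf 0x52b7)
(.leaf 0x52c4))
(.node 1759 (.leaf 0x52c7)
(.leaf 0x52d8))))))
(.node 1776 (.node 1768 (.node 1764 (.node 1762 (.node 1761 (.leaf 0x52e3)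
(.leaf 0x52e7))
(.node 1763 (.leaf 0x52f6)
(.leaf 0x52f8)))
(.node 1766 (.node 1765 (.leaf 0x5309)
(.leaf 0x5324))
(.node 1767 (.leaf 0x5327)
(.leaf 0x5338))))
(.node 1772 (.node 1770 (.node 1769 (.leaf 0x5343)
(.leaf 0x5347))
(.node 1771 (.leaf 0x5356)
(.leaf 0x5358)))
(.node 1774 (.node 1773 (.leaf 0x5369)
(.leaf 0x5377))
(.node 1775 (.leaf 0x5388)
(.leaf 0x5399)))))
(.node 1784 (.node 1780 (.node 1778 (.node 1777 (.leaf 0x53a9)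
(.leaf 0x53ac))
(.node 1779 (.leaf 0x53bc)
(.leaf 0x53cb)))
(.node 1782 (.node 1781 (.leaf 0x53d6)
(.leaf 0x53eb))
(.node 1783 (.leaf 0x53f6)
(.leaf 0x5405))))
(.node 1788 (.node 1786 (.node 1785 (.leaf 0x5407)
(.leaf 0x5418))
(.node 1787 (.leaf 0x5426)
(.leaf 0x5429)))
(.node 1790 (.node 1789 (.leaf 0x542c)
(.leaf 0x543c))
(.node 1791 (.leaf 0x544b)
(.leaf 0x5456)))))))))

/-- part of a trie -/
def parPart7 : Tr :=
(.node 1920 (.node 1856 (.node 1824 (.node 1808 (.node 1800 (.node 1796 (.node 1794 (.node 1793 (.leaf 0x5468)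
(.leaf 0x546b))
(.node 1795 (.leaf 0x546c)
(.leaf 0x5476)))
(.node 1798 (.node 1797 (.leaf 0x547c)
(.leaf 0x548b))
(.node 1799 (.leaf 0x549c)
(.leaf 0x54ab))))
(.node 1804 (.node 1802 (.node 1801 (.leaf 0x54bb)
(.leaf 0x54c6))
(.node 1803 (.leaf 0x54d6)
(.leaf 0x54e5)))
(.node 1806 (.node 1805 (.leaf 0x54e7)
(.leaf 0x54f6))
(.node 1807 (.leaf 0x5505)
(.leaf 0x5507)))))
(.node 1816 (.node 1812 (.node 1810 (.node 1809 (.leaf 0x5514)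
(.leaf 0x5517))
(.node 1811 (.leaf 0x5528)
(.leaf 0x5536)))
(.node 1814 (.node 1813 (.leaf 0x5538)
(.leaf 0x5549))
(.node 1815 (.leaf 0x555b)
(.leaf 0x555c))))
(.node 1820 (.node 1818 (.node 1817 (.leaf 0x556c)
(.leaf 0x557b))
(.node 1819 (.leaf 0x5585)
(.leaf 0x558c)))
(.node 1822 (.node 1821 (.leaf 0x559b)
(.leaf 0x55a6))
(.node 1823 (.leaf 0x55bb)
(.leaf 0x55c6))))))
(.node 1840 (.node 1832 (.node 1828 (.node 1826 (.node 1825 (.leaf 0x55d6)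
(.leaf 0x55e5))
(.node 1827 (.leaf 0x55e7)
(.leaf 0x55f5)))
(.node 1830 (.node 1829 (.leaf 0x55f7)
(.leaf 0x5604))
(.node 1831 (.leaf 0x5607)
(.leaf 0x5618))))
(.node 1836 (.node 1834 (.node 1833 (.leaf 0x5625)
(.leaf 0x5627))
(.node 1835 (.leaf 0x5634)
(.leaf 0x5637)))
(.node 1838 (.node 1837 (.leaf 0x5648)
(.leaf 0x5653))
(.node 1839 (.leaf 0x5657)
(.leaf 0x5668)))))
(.node 1848 (.node 1844 (.node 1842 (.node 1841 (.leaf 0x5679)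
(.leaf 0x5693))
(.node 1843 (.leaf 0x5697)
(.leaf 0x56a6)))
(.node 1846 (.node 1845 (.leaf 0x56b2)
(.leaf 0x56cb))
(.node 1847 (.leaf 0x56d6)
(.leaf 0x56e5))))
(.node 1852 (.node 1850 (.node 1849 (.leaf 0x56e7)
(.leaf 0x56f5))
(.node 1851 (.leaf 0x56f7)
(.leaf 0x5704)))
(.node 1854 (.node 1853 (.leaf 0x5707)
(.leaf 0x5718))
(.node 1855 (.leaf 0x573c)
(.leaf 0x574b)))))))
(.node 1888 (.node 1872 (.node 1864 (.node 1860 (.node 1858 (.node 1857 (.leaf 0x5756)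
(.leaf 0x5765))
(.node 1859 (.leaf 0x5767)
(.leaf 0x577c)))
(.node 1862 (.node 1861 (.leaf 0x578b)
(.leaf 0x5796))
(.node 1863 (.leaf 0x57a6)
(.leaf 0x57b5))))
(.node 1868 (.node 1866 (.node 1865 (.leaf 0x57b7)
(.leaf 0x57c5))
(.node 1867 (.leaf 0x57c7)
(.leaf 0x57d4)))
(.node 1870 (.node 1869 (.leaf 0x57d7)
(.leaf 0x57e8))
(.node 1871 (.leaf 0x57f4)
(.leaf 0x57f7)))))
(.node 1880 (.node 1876 (.node 1874 (.node 1873 (.leaf 0x5808)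
(.leaf 0x5813))
(.node 1875 (.leaf 0x5817)
(.leaf 0x5826)))
(.node 1878 (.node 1877 (.leaf 0x5828)
(.leaf 0x5839))
(.node 1879 (.leaf 0x5848)
(.leaf 0x586c))))
(.node 1884 (.node 1882 (.node 1881 (.leaf 0x587b)
(.leaf 0x5886))
(.node 1883 (.leaf 0x58a5)
(.leaf 0x58a7)))
(.node 1886 (.node 1885 (.leaf 0x58b4)
(.leaf 0x58b7))
(.node 1887 (.leaf 0x58c8)
(.leaf 0x58d4))))))
(.node 1904 (.node 1896 (.node 1892 (.node 1890 (.node 1889 (.leaf 0x58d7)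
(.leaf 0x58e8))
(.node 1891 (.leaf 0x58f3)
(.leaf 0x58f7)))
(.node 1894 (.node 1893 (.leaf 0x5906)
(.leaf 0x5908))
(.node 1895 (.leaf 0x5919)
(.leaf 0x5923))))
(.node 1900 (.node 1898 (.node 1897 (.leaf 0x5927)
(.leaf 0x5938))
(.node 1899 (.leaf 0x5968)
(.leaf 0x5979)))
(.node 1902 (.node 1901 (.leaf 0x5992)
(.leaf 0x5997))
(.node 1903 (.leaf 0x59a6)
(.leaf 0x59b4)))))
(.node 1912 (.node 1908 (.node 1906 (.node 1905 (.leaf 0x59b7)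
(.leaf 0x59d3))
(.node 1907 (.leaf 0x59d7)
(.leaf 0x59f4)))
(.node 1910 (.node 1909 (.leaf 0x59f7)
(.leaf 0x5a04))
(.node 1911 (.leaf 0x5a07)
(.leaf 0x5a18))))
(.node 1916 (.node 1914 (.node 1913 (.leaf 0x5a23)
(.leaf 0x5a27))
(.node 1915 (.leaf 0x5a36)
(.leaf 0x5a38)))
(.node 1918 (.node 1917 (.leaf 0x5a49)
(.leaf 0x5a52))
(.node 1919 (.leaf 0x5a57)
(.leaf 0x5a66))))))))
(.node 1984 (.node 1952 (.node 1936 (.node 1928 (.node 1924 (.node 1922 (.node 1921 (.leaf 0x5a68)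
(.leaf 0x5a7b))
(.node 1923 (.leaf 0x5a89)
(.leaf 0x5aa3)))
(.node 1926 (.node 1925 (.leaf 0x5aa7)
(.leaf 0x5ab6))
(.node 1927 (.leaf 0x5ab8)
(.leaf 0x5ac9))))
(.node 1932 (.node 1930 (.node 1929 (.leaf 0x5ad2)
(.leaf 0x5ad7))
(.node 1931 (.leaf 0x5ae6)
(.leaf 0x5ae8)))
(.node 1934 (.node 1933 (.leaf 0x5af8)
(.leaf 0x5b09))
(.node 1935 (.leaf 0x5b27)
(.leaf 0x5b49)))))
(.node 1944 (.node 1940 (.node 1938 (.node 1937 (.leaf 0x5b69)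
(.leaf 0x5b6c))
(.node 1939 (.leaf 0x5b7c)
(.leaf 0x5b8b)))
(.node 1942 (.node 1941 (.leaf 0x5b96)
(.leaf 0x5bb6))
(.node 1943 (.leaf 0x5bc5)
(.leaf 0x5bc7))))
(.node 1948 (.node 1946 (.node 1945 (.leaf 0x5bd8)
(.leaf 0x5bec))
(.node 1947 (.leaf 0x5bfb)
(.leaf 0x5c0b)))
(.node 1950 (.node 1949 (.leaf 0x5c16)
(.leaf 0x5c25))
(.node 1951 (.leaf 0x5c27)
(.leaf 0x5c35))))))
(.node 1968 (.node 1960 (.node 1956 (.node 1954 (.node 1953 (.leaf 0x5c37)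
(.leaf 0x5c44))
(.node 1955 (.leaf 0x5c47)
(.leaf 0x5c58)))
(.node 1958 (.node 1957 (.leaf 0x5c79)
(.leaf 0x5c7c))
(.node 1959 (.leaf 0x5c8c)
(.leaf 0x5c9b))))
(.node 1964 (.node 1962 (.node 1961 (.leaf 0x5cab)
(.leaf 0x5cb6))
(.node 1963 (.leaf 0x5cc5)
(.leaf 0x5cc7)))
(.node 1966 (.node 1965 (.leaf 0x5cdb)
(.leaf 0x5cec))
(.node 1967 (.leaf 0x5cfb)
(.leaf 0x5d0c)))))
(.node 1976 (.node 1972 (.node 1970 (.node 1969 (.leaf 0x5d1b)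
(.leaf 0x5d26))
(.node 1971 (.leaf 0x5d3b)
(.leaf 0x5d46)))
(.node 1974 (.node 1973 (.leaf 0x5d56)
(.leaf 0x5d65))
(.node 1975 (.leaf 0x5d67)
(.leaf 0x5d75))))
(.node 1980 (.node 1978 (.node 1977 (.leaf 0x5d77)
(.leaf 0x5d84))
(.node 1979 (.leaf 0x5d87)
(.leaf 0x5d98)))
(.node 1982 (.node 1981 (.leaf 0x5da5)
(.leaf 0x5da7))
(.node 1983 (.leaf 0x5db4)
(.leaf 0x5db7)))))))
(.node 2016 (.node 2000 (.node 1992 (.node 1988 (.node 1986 (.node 1985 (.leaf 0x5dc8)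
(.leaf 0x5dd3))
(.node 1987 (.leaf 0x5dd7)
(.leaf 0x5de6)))
(.node 1990 (.node 1989 (.leaf 0x5de8)
(.leaf 0x5e08))
(.node 1991 (.leaf 0x5e0b)
(.leaf 0x5e2c))))
(.node 1996 (.node 1994 (.node 1993 (.leaf 0x5e3b)
(.leaf 0x5e46))
(.node 1995 (.leaf 0x5e5b)
(.leaf 0x5e66)))
(.node 1998 (.node 1997 (.leaf 0x5e75)
(.leaf 0x5e77))
(.node 1999 (.leaf 0x5e86)
(.leaf 0x5e95)))))
(.node 2008 (.node 2004 (.node 2002 (.node 2001 (.leaf 0x5e97)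
(.leaf 0x5ea5))
(.node 2003 (.leaf 0x5ea7)
(.leaf 0x5eb4)))
(.node 2006 (.node 2005 (.leaf 0x5eb7)
(.leaf 0x5ec8))
(.node 2007 (.leaf 0x5ed4)
(.leaf 0x5ed7))))
(.node 2012 (.node 2010 (.node 2009 (.leaf 0x5ee8)
(.leaf 0x5ef3))
(.node 2011 (.leaf 0x5ef7)
(.leaf 0x5f06)))
(.node 2014 (.node 2013 (.leaf 0x5f08)
(.leaf 0x5f24))
(.node 2015 (.leaf 0x5f27)
(.leaf 0x5f38))))))
(.node 2032 (.node 2024 (.node 2020 (.node 2018 (.node 2017 (.leaf 0x5f47)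
(.leaf 0x5f56))
(.node 2019 (.leaf 0x5f58)
(.leaf 0x5f78)))
(.node 2022 (.node 2021 (.leaf 0x5f89)
(.leaf 0x5f96))
(.node 2023 (.leaf 0x5fb6)
(.leaf 0x5fc5))))
(.node 2028 (.node 2026 (.node 2025 (.leaf 0x5fc7)
(.leaf 0x5fd5))
(.node 2027 (.leaf 0x5fd7)
(.leaf 0x5fe4)))
(.node 2030 (.node 2029 (.leaf 0x5fe7)
(.leaf 0x5ff8))
(.node 2031 (.leaf 0x6015)
(.leaf 0x6017)))))
(.node 2040 (.node 2036 (.node 2034 (.node 2033 (.leaf 0x6024)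
(.leaf 0x6027))
(.node 2035 (.leaf 0x6038)
(.leaf 0x6044)))
(.node 2038 (.node 2037 (.leaf 0x6047)
(.leaf 0x6058))
(.node 2039 (.leaf 0x6067)
(.leaf 0x6078))))
(.node 2044 (.node 2042 (.node 2041 (.leaf 0x609b)
(.leaf 0x60a6))
(.node 2043 (.leaf 0x60b5)
(.leaf 0x60b7)))
(.node 2046 (.node 2045 (.leaf 0x60c4)
(.leaf 0x60c7))
(.node 2047 (.leaf 0x60db)
(.leaf 0x60e6)))))))))

/-- part of a trie -/
def parPart8 : Tr :=
(.node 2176 (.node 2112 (.node 2080 (.node 2064 (.node 2056 (.node 2052 (.node 2050 (.node 2049 (.leaf 0x6105)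
(.leaf 0x6107))
(.node 2051 (.leaf 0x6114)
(.leaf 0x6117)))
(.node 2054 (.node 2053 (.leaf 0x6128)
(.leaf 0x6134))
(.node 2055 (.leaf 0x6137)
(.leaf 0x6148))))
(.node 2060 (.node 2058 (.node 2057 (.leaf 0x6153)
(.leaf 0x6157))
(.node 2059 (.leaf 0x6166)
(.leaf 0x6168)))
(.node 2062 (.node 2061 (.leaf 0x6179)
(.leaf 0x6183))
(.node 2063 (.leaf 0x6187)
(.leaf 0x6198)))))
(.node 2072 (.node 2068 (.node 2066 (.node 2065 (.leaf 0x61a9)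
(.leaf 0x61b2))
(.node 2067 (.leaf 0x61b7)
(.leaf 0x61c6)))
(.node 2070 (.node 2069 (.leaf 0x61c8)
(.leaf 0x61d8))
(.node 2071 (.leaf 0x61db)
(.leaf 0x61e9))))
(.node 2076 (.node 2074 (.node 2073 (.leaf 0x6216)
(.leaf 0x6225))
(.node 2075 (.leaf 0x6227)
(.leaf 0x6244)))
(.node 2078 (.node 2077 (.leaf 0x6247)
(.leaf 0x6258))
(.node 2079 (.leaf 0x6263)
(.leaf 0x6267))))))
(.node 2096 (.node 2088 (.node 2084 (.node 2082 (.node 2081 (.leaf 0x6276)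
(.leaf 0x6278))
(.node 2083 (.leaf 0x6289)
(.leaf 0x6293)))
(.node 2086 (.node 2085 (.leaf 0x6297)
(.leaf 0x62a6))
(.node 2087 (.leaf 0x62a8)
(.leaf 0x62c2))))
(.node 2092 (.node 2090 (.node 2089 (.leaf 0x62c7)
(.leaf 0x62d6))
(.node 2091 (.leaf 0x62d8)
(.leaf 0x62e8)))
(.node 2094 (.node 2093 (.leaf 0x62f9)
(.leaf 0x6312))
(.node 2095 (.leaf 0x6317)
(.leaf 0x6328)))))
(.node 2104 (.node 2100 (.node 2098 (.node 2097 (.leaf 0x6339)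
(.leaf 0x6351))
(.node 2099 (.leaf 0x6357)
(.leaf 0x6368)))
(.node 2102 (.node 2101 (.leaf 0x6379)
(.leaf 0x6394))
(.node 2103 (.leaf 0x6397)
(.leaf 0x63b3))))
(.node 2108 (.node 2106 (.node 2105 (.leaf 0x63b7)
(.leaf 0x63d3))
(.node 2107 (.leaf 0x63d7)
(.leaf 0x63e6)))
(.node 2110 (.node 2109 (.leaf 0x63f7)
(.leaf 0x6413))
(.node 2111 (.leaf 0x6417)
(.leaf 0x6426)))))))
(.node 2144 (.node 2128 (.node 2120 (.node 2116 (.node 2114 (.node 2113 (.leaf 0x6428)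
(.leaf 0x6433))
(.node 2115 (.leaf 0x6437)
(.leaf 0x6446)))
(.node 2118 (.node 2117 (.leaf 0x6448)
(.leaf 0x6462))
(.node 2119 (.leaf 0x6467)
(.leaf 0x6476))))
(.node 2124 (.node 2122 (.node 2121 (.leaf 0x6478)
(.leaf 0x6488))
(.node 2123 (.leaf 0x648b)
(.leaf 0x6499)))
(.node 2126 (.node 2125 (.leaf 0x64b7)
(.leaf 0x64c8))
(.node 2127 (.leaf 0x64db)
(.leaf 0x64e9)))))
(.node 2136 (.node 2132 (.node 2130 (.node 2129 (.leaf 0x6516)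
(.leaf 0x6518))
(.node 2131 (.leaf 0x6528)
(.leaf 0x6539)))
(.node 2134 (.node 2133 (.leaf 0x6557)
(.leaf 0x6566))
(.node 2135 (.leaf 0x6568)
(.leaf 0x6589))))
(.node 2140 (.node 2138 (.node 2137 (.leaf 0x6599)
(.leaf 0x65aa))
(.node 2139 (.leaf 0x65b7)
(.leaf 0x65c8)))
(.node 2142 (.node 2141 (.leaf 0x65d9)
(.leaf 0x65f6))
(.node 2143 (.leaf 0x6605)
(.leaf 0x6607))))))
(.node 2160 (.node 2152 (.node 2148 (.node 2146 (.node 2145 (.leaf 0x6614)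
(.leaf 0x6627))
(.node 2147 (.leaf 0x6658)
(.leaf 0x665b)))
(.node 2150 (.node 2149 (.leaf 0x665c)
(.leaf 0x6666))
(.node 2151 (.leaf 0x666c)
(.leaf 0x667b))))
(.node 2156 (.node 2154 (.node 2153 (.leaf 0x668c)
(.leaf 0x669b))
(.node 2155 (.leaf 0x66ab)
(.leaf 0x66b6)))
(.node 2158 (.node 2157 (.leaf 0x66c6)
(.leaf 0x66d5))
(.node 2159 (.leaf 0x66d7)
(.leaf 0x66e6)))))
(.node 2168 (.node 2164 (.node 2162 (.node 2161 (.leaf 0x66f5)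
(.leaf 0x66f7))
(.node 2163 (.leaf 0x6704)
(.leaf 0x6707)))
(.node 2166 (.node 2165 (.leaf 0x6718)
(.leaf 0x6735))
(.node 2167 (.leaf 0x6737)
(.leaf 0x6744))))
(.node 2172 (.node 2170 (.node 2169 (.leaf 0x6747)
(.leaf 0x6763))
(.node 2171 (.leaf 0x677c)
(.leaf 0x678b)))
(.node 2174 (.node 2173 (.leaf 0x6796)
(.leaf 0x67a6))
(.node 2175 (.leaf 0x67b5)
(.leaf 0x67b7))))))))
(.node 2240 (.node 2208 (.node 2192 (.node 2184 (.node 2180 (.node 2178 (.node 2177 (.leaf 0x67c5)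
(.leaf 0x67c7))
(.node 2179 (.leaf 0x67d4)
(.leaf 0x67d7)))
(.node 2182 (.node 2181 (.leaf 0x67e8)
(.leaf 0x67f4))
(.node 2183 (.leaf 0x67f7)
(.leaf 0x6808))))
(.node 2188 (.node 2186 (.node 2185 (.leaf 0x6813)
(.leaf 0x6817))
(.node 2187 (.leaf 0x6828)
(.leaf 0x6839)))
(.node 2190 (.node 2189 (.leaf 0x684a)
(.leaf 0x6853))
(.node 2191 (.leaf 0x6857)
(.leaf 0x6866)))))
(.node 2200 (.node 2196 (.node 2194 (.node 2193 (.leaf 0x6874)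
(.leaf 0x6877))
(.node 2195 (.leaf 0x6888)
(.leaf 0x6893)))
(.node 2198 (.node 2197 (.leaf 0x6897)
(.leaf 0x68a6))
(.node 2199 (.leaf 0x68a8)
(.leaf 0x68b9))))
(.node 2204 (.node 2202 (.node 2201 (.leaf 0x68c7)
(.leaf 0x68d8))
(.node 2203 (.leaf 0x68e9)
(.leaf 0x68fa)))
(.node 2206 (.node 2205 (.leaf 0x6916)
(.leaf 0x6919))
(.node 2207 (.leaf 0x691c)
(.leaf 0x692c))))))
(.node 2224 (.node 2216 (.node 2212 (.node 2210 (.node 2209 (.leaf 0x693b)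
(.leaf 0x6946))
(.node 2211 (.leaf 0x6958)
(.leaf 0x695b)))
(.node 2214 (.node 2213 (.leaf 0x695c)
(.leaf 0x6966))
(.node 2215 (.leaf 0x696c)
(.leaf 0x697b))))
(.node 2220 (.node 2218 (.node 2217 (.leaf 0x698c)
(.leaf 0x699b))
(.node 2219 (.leaf 0x69ab)
(.leaf 0x69b6)))
(.node 2222 (.node 2221 (.leaf 0x69c6)
(.leaf 0x69d5))
(.node 2223 (.leaf 0x69d7)
(.leaf 0x69e6)))))
(.node 2232 (.node 2228 (.node 2226 (.node 2225 (.leaf 0x69f5)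
(.leaf 0x69f7))
(.node 2227 (.leaf 0x6a04)
(.leaf 0x6a07)))
(.node 2230 (.node 2229 (.leaf 0x6a18)
(.leaf 0x6a26))
(.node 2231 (.leaf 0x6a28)
(.leaf 0x6a39))))
(.node 2236 (.node 2234 (.node 2233 (.leaf 0x6a4b)
(.leaf 0x6a4c))
(.node 2235 (.leaf 0x6a56)
(.leaf 0x6a5c)))
(.node 2238 (.node 2237 (.leaf 0x6a6b)
(.leaf 0x6a7c))
(.node 2239 (.leaf 0x6a8b)
(.leaf 0x6a96)))))))
(.node 2272 (.node 2256 (.node 2248 (.node 2244 (.node 2242 (.node 2241 (.leaf 0x6aab)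
(.leaf 0x6ab6))
(.node 2243 (.leaf 0x6ac6)
(.leaf 0x6ad5)))
(.node 2246 (.node 2245 (.leaf 0x6ad7)
(.leaf 0x6ae5))
(.node 2247 (.leaf 0x6ae7)
(.leaf 0x6af4))))
(.node 2252 (.node 2250 (.node 2249 (.leaf 0x6af7)
(.leaf 0x6b08))
(.node 2251 (.leaf 0x6b15)
(.leaf 0x6b17)))
(.node 2254 (.node 2253 (.leaf 0x6b24)
(.leaf 0x6b27))
(.node 2255 (.leaf 0x6b38)
(.leaf 0x6b43)))))
(.node 2264 (.node 2260 (.node 2258 (.node 2257 (.leaf 0x6b47)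
(.leaf 0x6b58))
(.node 2259 (.leaf 0x6b69)
(.leaf 0x6b84)))
(.node 2262 (.node 2261 (.leaf 0x6b87)
(.leaf 0x6b98))
(.node 2263 (.leaf 0x6ba3)
(.leaf 0x6ba7))))
(.node 2268 (.node 2266 (.node 2265 (.leaf 0x6bc2)
(.leaf 0x6bdb))
(.node 2267 (.leaf 0x6be6)
(.leaf 0x6bf5)))
(.node 2270 (.node 2269 (.leaf 0x6bf7)
(.leaf 0x6c05))
(.node 2271 (.leaf 0x6c07)
(.leaf 0x6c15))))))
(.node 2288 (.node 2280 (.node 2276 (.node 2274 (.node 2273 (.leaf 0x6c17)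
(.leaf 0x6c24))
(.node 2275 (.leaf 0x6c27)
(.leaf 0x6c38)))
(.node 2278 (.node 2277 (.leaf 0x6c43)
(.leaf 0x6c47))
(.node 2279 (.leaf 0x6c56)
(.leaf 0x6c58))))
(.node 2284 (.node 2282 (.node 2281 (.leaf 0x6c69)
(.leaf 0x6c78))
(.node 2283 (.leaf 0x6c9b)
(.leaf 0x6ca6)))
(.node 2286 (.node 2285 (.leaf 0x6cb5)
(.leaf 0x6cb7))
(.node 2287 (.leaf 0x6cc4)
(.leaf 0x6cc7)))))
(.node 2296 (.node 2292 (.node 2290 (.node 2289 (.leaf 0x6cd8)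
(.leaf 0x6ce4))
(.node 2291 (.leaf 0x6ce7)
(.leaf 0x6cf8)))
(.node 2294 (.node 2293 (.leaf 0x6d03)
(.leaf 0x6d07))
(.node 2295 (.leaf 0x6d16)
(.leaf 0x6d18))))
(.node 2300 (.node 2298 (.node 2297 (.leaf 0x6d29)
(.leaf 0x6d32))
(.node 2299 (.leaf 0x6d48)
(.leaf 0x6d59)))
(.node 2302 (.node 2301 (.leaf 0x6d6a)
(.leaf 0x6d72))
(.node 2303 (.leaf 0x6d77)
(.leaf 0x6d94)))))))))

/-- part of a trie -/
def parPart9 : Tr :=
(.node 2432 (.node 2368 (.node 2336 (.node 2320 (.node 2312 (.node 2308 (.node 2306 (.node 2305 (.leaf 0x6d97)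
(.leaf 0x6db4))
(.node 2307 (.leaf 0x6db7)
(.leaf 0x6dc8)))
(.node 2310 (.node 2309 (.leaf 0x6dd3)
(.leaf 0x6dd7))
(.node 2311 (.leaf 0x6de6)
(.leaf 0x6de8))))
(.node 2316 (.node 2314 (.node 2313 (.leaf 0x6df9)
(.leaf 0x6e02))
(.node 2315 (.leaf 0x6e07)
(.leaf 0x6e16)))
(.node 2318 (.node 2317 (.leaf 0x6e18)
(.leaf 0x6e2b))
(.node 2319 (.leaf 0x6e39)
(.leaf 0x6e53)))))
(.node 2328 (.node 2324 (.node 2322 (.node 2321 (.leaf 0x6e57)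
(.leaf 0x6e66))
(.node 2323 (.leaf 0x6e68)
(.leaf 0x6e79)))
(.node 2326 (.node 2325 (.leaf 0x6e82)
(.leaf 0x6e87))
(.node 2327 (.leaf 0x6e96)
(.leaf 0x6e98))))
(.node 2332 (.node 2330 (.node 2329 (.leaf 0x6ea8)
(.leaf 0x6eb9))
(.node 2331 (.leaf 0x6ed8)
(.leaf 0x6ee9)))
(.node 2334 (.node 2333 (.leaf 0x6f0c)
(.leaf 0x6f1b))
(.node 2335 (.leaf 0x6f2b)
(.leaf 0x6f36))))))
(.node 2352 (.node 2344 (.node 2340 (.node 2338 (.node 2337 (.leaf 0x6f45)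
(.leaf 0x6f47))
(.node 2339 (.leaf 0x6f56)
(.leaf 0x6f65)))
(.node 2342 (.node 2341 (.leaf 0x6f67)
(.leaf 0x6f74))
(.node 2343 (.leaf 0x6f77)
(.leaf 0x6f88))))
(.node 2348 (.node 2346 (.node 2345 (.leaf 0x6fa9)
(.leaf 0x6fac))
(.node 2347 (.leaf 0x6fb8)
(.leaf 0x6fbc)))
(.node 2350 (.node 2349 (.leaf 0x6fcb)
(.leaf 0x6fdb))
(.node 2351 (.leaf 0x6fe6)
(.leaf 0x6ff5)))))
(.node 2360 (.node 2356 (.node 2354 (.node 2353 (.leaf 0x6ff7)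
(.leaf 0x700b))
(.node 2355 (.leaf 0x700c)
(.leaf 0x7016)))
(.node 2358 (.node 2357 (.leaf 0x701c)
(.leaf 0x702b))
(.node 2359 (.leaf 0x703c)
(.leaf 0x704b))))
(.node 2364 (.node 2362 (.node 2361 (.leaf 0x7056)
(.leaf 0x706b))
(.node 2363 (.leaf 0x7076)
(.leaf 0x7086)))
(.node 2366 (.node 2365 (.leaf 0x7095)
(.leaf 0x7097))
(.node 2367 (.leaf 0x70a5)
(.leaf 0x70a7)))))))
(.node 2400 (.node 2384 (.node 2376 (.node 2372 (.node 2370 (.node 2369 (.leaf 0x70b4)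
(.leaf 0x70b7))
(.node 2371 (.leaf 0x70c8)
(.leaf 0x70d5)))
(.node 2374 (.node 2373 (.leaf 0x70d7)
(.leaf 0x70e4))
(.node 2375 (.leaf 0x70e7)
(.leaf 0x70f8))))
(.node 2380 (.node 2378 (.node 2377 (.leaf 0x7103)
(.leaf 0x7107))
(.node 2379 (.leaf 0x7116)
(.leaf 0x7118)))
(.node 2382 (.node 2381 (.leaf 0x7138)
(.leaf 0x713b))
(.node 2383 (.leaf 0x7149)
(.leaf 0x7166)))))
(.node 2392 (.node 2388 (.node 2386 (.node 2385 (.leaf 0x716c)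
(.leaf 0x717b))
(.node 2387 (.leaf 0x718b)
(.leaf 0x7196)))
(.node 2390 (.node 2389 (.leaf 0x71ac)
(.leaf 0x71bb))
(.node 2391 (.leaf 0x71c6)
(.leaf 0x71d5))))
(.node 2396 (.node 2394 (.node 2393 (.leaf 0x71d7)
(.leaf 0x71e6))
(.node 2395 (.leaf 0x71f5)
(.leaf 0x71f7)))
(.node 2398 (.node 2397 (.leaf 0x7205)
(.leaf 0x7207))
(.node 2399 (.leaf 0x7214)
(.leaf 0x7217))))))
(.node 2416 (.node 2408 (.node 2404 (.node 2402 (.node 2401 (.leaf 0x7228)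
(.leaf 0x7234))
(.node 2403 (.leaf 0x7237)
(.leaf 0x7248)))
(.node 2406 (.node 2405 (.leaf 0x7253)
(.leaf 0x7257))
(.node 2407 (.leaf 0x7266)
(.leaf 0x7268))))
(.node 2412 (.node 2410 (.node 2409 (.leaf 0x7279)
(.leaf 0x7284))
(.node 2411 (.leaf 0x7287)
(.leaf 0x7298)))
(.node 2414 (.node 2413 (.leaf 0x72a3)
(.leaf 0x72a7))
(.node 2415 (.leaf 0x72b6)
(.leaf 0x72b8)))))
(.node 2424 (.node 2420 (.node 2418 (.node 2417 (.leaf 0x72c9)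
(.leaf 0x72d2))
(.node 2419 (.leaf 0x72d7)
(.leaf 0x72e8)))
(.node 2422 (.node 2421 (.leaf 0x72f9)
(.leaf 0x7312))
(.node 2423 (.leaf 0x7317)
(.leaf 0x7326))))
(.node 2428 (.node 2426 (.node 2425 (.leaf 0x7356)
(.leaf 0x7365))
(.node 2427 (.leaf 0x7367)
(.leaf 0x7374)))
(.node 2430 (.node 2429 (.leaf 0x7377)
(.leaf 0x7388))
(.node 2431 (.leaf 0x7394)
(.leaf 0x7397))))))))
(.node 2496 (.node 2464 (.node 2448 (.node 2440 (.node 2436 (.node 2434 (.node 2433 (.leaf 0x73a8)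
(.leaf 0x73b7))
(.node 2435 (.leaf 0x73c8)
(.leaf 0x73eb)))
(.node 2438 (.node 2437 (.leaf 0x73f6)
(.leaf 0x7405))
(.node 2439 (.leaf 0x7407)
(.leaf 0x7414))))
(.node 2444 (.node 2442 (.node 2441 (.leaf 0x7417)
(.leaf 0x7428))
(.node 2443 (.leaf 0x743b)
(.leaf 0x7446)))
(.node 2446 (.node 2445 (.leaf 0x7465)
(.leaf 0x7467))
(.node 2447 (.leaf 0x7474)
(.leaf 0x7477)))))
(.node 2456 (.node 2452 (.node 2450 (.node 2449 (.leaf 0x7488)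
(.leaf 0x7494))
(.node 2451 (.leaf 0x7497)
(.leaf 0x74a8)))
(.node 2454 (.node 2453 (.leaf 0x74b3)
(.leaf 0x74b7))
(.node 2455 (.leaf 0x74c6)
(.leaf 0x74c8))))
(.node 2460 (.node 2458 (.node 2457 (.leaf 0x74d9)
(.leaf 0x74e3))
(.node 2459 (.leaf 0x74e7)
(.leaf 0x74f8)))
(.node 2462 (.node 2461 (.leaf 0x7512)
(.leaf 0x7517))
(.node 2463 (.leaf 0x7526)
(.leaf 0x7528))))))
(.node 2480 (.node 2472 (.node 2468 (.node 2466 (.node 2465 (.leaf 0x7538)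
(.leaf 0x753b))
(.node 2467 (.leaf 0x7549)
(.leaf 0x757b)))
(.node 2470 (.node 2469 (.leaf 0x7586)
(.leaf 0x7597))
(.node 2471 (.leaf 0x75a4)
(.leaf 0x75a7))))
(.node 2476 (.node 2474 (.node 2473 (.leaf 0x75b8)
(.leaf 0x75c3))
(.node 2475 (.leaf 0x75c7)
(.leaf 0x75d6)))
(.node 2478 (.node 2477 (.leaf 0x75d8)
(.leaf 0x75e9))
(.node 2479 (.leaf 0x75f3)
(.leaf 0x75f7)))))
(.node 2488 (.node 2484 (.node 2482 (.node 2481 (.leaf 0x7606)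
(.leaf 0x7608))
(.node 2483 (.leaf 0x7619)
(.leaf 0x7622)))
(.node 2486 (.node 2485 (.leaf 0x7627)
(.leaf 0x7636))
(.node 2487 (.leaf 0x7638)
(.leaf 0x7648))))
(.node 2492 (.node 2490 (.node 2489 (.leaf 0x7659)
(.leaf 0x7672))
(.node 2491 (.leaf 0x7677)
(.leaf 0x7686)))
(.node 2494 (.node 2493 (.leaf 0x7688)
(.leaf 0x7699))
(.node 2495 (.leaf 0x76a9)
(.leaf 0x76c7)))))))
(.node 2528 (.node 2512 (.node 2504 (.node 2500 (.node 2498 (.node 2497 (.leaf 0x76d6)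
(.leaf 0x76f7))
(.node 2499 (.leaf 0x7706)
(.leaf 0x7712)))
(.node 2502 (.node 2501 (.leaf 0x7717)
(.leaf 0x7733))
(.node 2503 (.leaf 0x7737)
(.leaf 0x7746))))
(.node 2508 (.node 2506 (.node 2505 (.leaf 0x7748)
(.leaf 0x7753))
(.node 2507 (.leaf 0x7757)
(.leaf 0x7766)))
(.node 2510 (.node 2509 (.leaf 0x7768)
(.leaf 0x7782))
(.node 2511 (.leaf 0x7787)
(.leaf 0x7796)))))
(.node 2520 (.node 2516 (.node 2514 (.node 2513 (.leaf 0x7798)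
(.leaf 0x77a8))
(.node 2515 (.leaf 0x77ab)
(.leaf 0x77b9)))
(.node 2518 (.node 2517 (.leaf 0x77d7)
(.leaf 0x77fb))
(.node 2519 (.leaf 0x7809)
(.leaf 0x7832))))
(.node 2524 (.node 2522 (.node 2521 (.leaf 0x7837)
(.leaf 0x7846))
(.node 2523 (.leaf 0x7848)
(.leaf 0x7858)))
(.node 2526 (.node 2525 (.leaf 0x7869)
(.leaf 0x7887))
(.node 2527 (.leaf 0x7896)
(.leaf 0x7898))))))
(.node 2544 (.node 2536 (.node 2532 (.node 2530 (.node 2529 (.leaf 0x78a5)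
(.leaf 0x78b9))
(.node 2531 (.leaf 0x78c9)
(.leaf 0x78da)))
(.node 2534 (.node 2533 (.leaf 0x790c)
(.leaf 0x791b))
(.node 2535 (.leaf 0x792b)
(.leaf 0x7936))))
(.node 2540 (.node 2538 (.node 2537 (.leaf 0x7945)
(.leaf 0x7947))
(.node 2539 (.leaf 0x7955)
(.leaf 0x7957)))
(.node 2542 (.node 2541 (.leaf 0x7964)
(.leaf 0x7967))
(.node 2543 (.leaf 0x7978)
(.leaf 0x799b)))))
(.node 2552 (.node 2548 (.node 2546 (.node 2545 (.leaf 0x79a6)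
(.leaf 0x79b6))
(.node 2547 (.leaf 0x79c5)
(.leaf 0x79c7)))
(.node 2550 (.node 2549 (.leaf 0x79d4)
(.leaf 0x79d7))
(.node 2551 (.leaf 0x79e8)
(.leaf 0x79f4))))
(.node 2556 (.node 2554 (.node 2553 (.leaf 0x79f7)
(.leaf 0x7a08))
(.node 2555 (.leaf 0x7a17)
(.leaf 0x7a28)))
(.node 2558 (.node 2557 (.leaf 0x7a4c)
(.leaf 0x7a5b))
(.node 2559 (.leaf 0x7a6b)
(.leaf 0x7a76)))))))))

/-- part of a trie -/
def parPart10 : Tr :=
(.node 2688 (.node 2624 (.node 2592 (.node 2576 (.node 2568 (.node 2564 (.node 2562 (.node 2561 (.leaf 0x7a86)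
(.leaf 0x7a95))
(.node 2563 (.leaf 0x7a97)
(.leaf 0x7aa4)))
(.node 2566 (.node 2565 (.leaf 0x7aa7)
(.leaf 0x7ab8))
(.node 2567 (.leaf 0x7acc)
(.leaf 0x7adb))))
(.node 2572 (.node 2570 (.node 2569 (.leaf 0x7ae6)
(.leaf 0x7afb))
(.node 2571 (.leaf 0x7b06)
(.leaf 0x7b15)))
(.node 2574 (.node 2573 (.leaf 0x7b17)
(.leaf 0x7b26))
(.node 2575 (.leaf 0x7b35)
(.leaf 0x7b37)))))
(.node 2584 (.node 2580 (.node 2578 (.node 2577 (.leaf 0x7b45)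
(.leaf 0x7b47))
(.node 2579 (.leaf 0x7b54)
(.leaf 0x7b57)))
(.node 2582 (.node 2581 (.leaf 0x7b68)
(.leaf 0x7b74))
(.node 2583 (.leaf 0x7b77)
(.leaf 0x7b88))))
(.node 2588 (.node 2586 (.node 2585 (.leaf 0x7b93)
(.leaf 0x7b97))
(.node 2587 (.leaf 0x7ba6)
(.leaf 0x7ba8)))
(.node 2590 (.node 2589 (.leaf 0x7bb9)
(.leaf 0x7bc4))
(.node 2591 (.leaf 0x7bc7)
(.leaf 0x7bd8))))))
(.node 2608 (.node 2600 (.node 2596 (.node 2594 (.node 2593 (.leaf 0x7be3)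
(.leaf 0x7be7))
(.node 2595 (.leaf 0x7bf6)
(.leaf 0x7bf8)))
(.node 2598 (.node 2597 (.leaf 0x7c17)
(.leaf 0x7c26))
(.node 2599 (.leaf 0x7c28)
(.leaf 0x7c38))))
(.node 2604 (.node 2602 (.node 2601 (.leaf 0x7c3b)
(.leaf 0x7c49))
(.node 2603 (.leaf 0x7c5b)
(.leaf 0x7c7b)))
(.node 2606 (.node 2605 (.leaf 0x7c86)
(.leaf 0x7c95))
(.node 2607 (.leaf 0x7c97)
(.leaf 0x7ca6)))))
(.node 2616 (.node 2612 (.node 2610 (.node 2609 (.leaf 0x7cb5)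
(.leaf 0x7cb7))
(.node 2611 (.leaf 0x7cc4)
(.leaf 0x7cc7)))
(.node 2614 (.node 2613 (.leaf 0x7cd8)
(.leaf 0x7ce5))
(.node 2615 (.leaf 0x7ce7)
(.leaf 0x7cf4))))
(.node 2620 (.node 2618 (.node 2617 (.leaf 0x7cf7)
(.leaf 0x7d08))
(.node 2619 (.leaf 0x7d14)
(.leaf 0x7d17)))
(.node 2622 (.node 2621 (.leaf 0x7d28)
(.leaf 0x7d33))
(.node 2623 (.leaf 0x7d37)
(.leaf 0x7d46)))))))
(.node 2656 (.node 2640 (.node 2632 (.node 2628 (.node 2626 (.node 2625 (.leaf 0x7d48)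
(.leaf 0x7d59))
(.node 2627 (.leaf 0x7d63)
(.leaf 0x7d67)))
(.node 2630 (.node 2629 (.leaf 0x7d76)
(.leaf 0x7d78))
(.node 2631 (.leaf 0x7d89)
(.leaf 0x7d92))))
(.node 2636 (.node 2634 (.node 2633 (.leaf 0x7d97)
(.leaf 0x7da6))
(.node 2635 (.leaf 0x7da8)
(.leaf 0x7db8)))
(.node 2638 (.node 2637 (.leaf 0x7dc9)
(.leaf 0x7dd7))
(.node 2639 (.leaf 0x7de8)
(.leaf 0x7e06)))))
(.node 2648 (.node 2644 (.node 2642 (.node 2641 (.leaf 0x7e08)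
(.leaf 0x7e18))
(.node 2643 (.leaf 0x7e29)
(.leaf 0x7e39)))
(.node 2646 (.node 2645 (.leaf 0x7e65)
(.leaf 0x7e67))
(.node 2647 (.leaf 0x7e74)
(.leaf 0x7e77))))
(.node 2652 (.node 2650 (.node 2649 (.leaf 0x7e88)
(.leaf 0x7e94))
(.node 2651 (.leaf 0x7e97)
(.leaf 0x7ea8)))
(.node 2654 (.node 2653 (.leaf 0x7eb7)
(.leaf 0x7ec8))
(.node 2655 (.leaf 0x7ee4)
(.leaf 0x7ee7))))))
(.node 2672 (.node 2664 (.node 2660 (.node 2658 (.node 2657 (.leaf 0x7ef8)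
(.leaf 0x7f03))
(.node 2659 (.leaf 0x7f07)
(.leaf 0x7f16)))
(.node 2662 (.node 2661 (.leaf 0x7f18)
(.leaf 0x7f33))
(.node 2663 (.leaf 0x7f37)
(.leaf 0x7f48))))
(.node 2668 (.node 2666 (.node 2665 (.leaf 0x7f68)
(.leaf 0x7f86))
(.node 2667 (.leaf 0x7f97)
(.leaf 0x7fa4)))
(.node 2670 (.node 2669 (.leaf 0x7fa7)
(.leaf 0x7fb8))
(.node 2671 (.leaf 0x7fc3)
(.leaf 0x7fc7)))))
(.node 2680 (.node 2676 (.node 2674 (.node 2673 (.leaf 0x7fe6)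
(.leaf 0x7ff5))
(.node 2675 (.leaf 0x7ff7)
(.leaf 0x8004)))
(.node 2678 (.node 2677 (.leaf 0x8007)
(.leaf 0x8018))
(.node 2679 (.leaf 0x8023)
(.leaf 0x8027))))
(.node 2684 (.node 2682 (.node 2681 (.leaf 0x8036)
(.leaf 0x8038))
(.node 2683 (.leaf 0x8049)
(.leaf 0x8053)))
(.node 2686 (.node 2685 (.leaf 0x8057)
(.leaf 0x8066))
(.node 2687 (.leaf 0x8068)
(.leaf 0x8082))))))))
(.node 2752 (.node 2720 (.node 2704 (.node 2696 (.node 2692 (.node 2690 (.node 2689 (.leaf 0x8087)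
(.leaf 0x8096))
(.node 2691 (.leaf 0x8098)
(.leaf 0x80a8)))
(.node 2694 (.node 2693 (.leaf 0x80ab)
(.leaf 0x80b9))
(.node 2695 (.leaf 0x80d2)
(.leaf 0x80d7))))
(.node 2700 (.node 2698 (.node 2697 (.leaf 0x80e6)
(.leaf 0x80e8))
(.node 2699 (.leaf 0x80f9)
(.leaf 0x8111)))
(.node 2702 (.node 2701 (.leaf 0x8117)
(.leaf 0x8126))
(.node 2703 (.leaf 0x8128)
(.leaf 0x8138)))))
(.node 2712 (.node 2708 (.node 2706 (.node 2705 (.leaf 0x813b)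
(.leaf 0x8149))
(.node 2707 (.leaf 0x8157)
(.leaf 0x815b)))
(.node 2710 (.node 2709 (.leaf 0x8185)
(.leaf 0x8187))
(.node 2711 (.leaf 0x81b3)
(.leaf 0x81b7))))
(.node 2716 (.node 2714 (.node 2713 (.leaf 0x81c6)
(.leaf 0x81c8))
(.node 2715 (.leaf 0x81e2)
(.leaf 0x81e7)))
(.node 2718 (.node 2717 (.leaf 0x81f6)
(.leaf 0x81f8))
(.node 2719 (.leaf 0x8208)
(.leaf 0x8219))))))
(.node 2736 (.node 2728 (.node 2724 (.node 2722 (.node 2721 (.leaf 0x8232)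
(.leaf 0x8237))
(.node 2723 (.leaf 0x8246)
(.leaf 0x8248)))
(.node 2726 (.node 2725 (.leaf 0x8258)
(.leaf 0x8269))
(.node 2727 (.leaf 0x8271)
(.leaf 0x8277))))
(.node 2732 (.node 2730 (.node 2729 (.leaf 0x8286)
(.leaf 0x8288))
(.node 2731 (.leaf 0x82a9)
(.leaf 0x82b7)))
(.node 2734 (.node 2733 (.leaf 0x82b9)
(.leaf 0x82ca))
(.node 2735 (.leaf 0x82d1)
(.leaf 0x82d7)))))
(.node 2744 (.node 2740 (.node 2738 (.node 2737 (.leaf 0x82e8)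
(.leaf 0x82f9))
(.node 2739 (.leaf 0x8317)
(.leaf 0x8328)))
(.node 2742 (.node 2741 (.leaf 0x8339)
(.leaf 0x8353))
(.node 2743 (.leaf 0x8357)
(.leaf 0x8366))))
(.node 2748 (.node 2746 (.node 2745 (.leaf 0x8377)
(.leaf 0x8392))
(.node 2747 (.leaf 0x8397)
(.leaf 0x83a6)))
(.node 2750 (.node 2749 (.leaf 0x83d7)
(.leaf 0x83e6))
(.node 2751 (.leaf 0x83e8)
(.leaf 0x83f8)))))))
(.node 2784 (.node 2768 (.node 2760 (.node 2756 (.node 2754 (.node 2753 (.leaf 0x83fb)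
(.leaf 0x8412))
(.node 2755 (.leaf 0x8417)
(.leaf 0x8426)))
(.node 2758 (.node 2757 (.leaf 0x8428)
(.leaf 0x8438))
(.node 2759 (.leaf 0x8449)
(.leaf 0x8451))))
(.node 2764 (.node 2762 (.node 2761 (.leaf 0x8457)
(.leaf 0x8466))
(.node 2763 (.leaf 0x8475)
(.leaf 0x8478)))
(.node 2766 (.node 2765 (.leaf 0x847b)
(.leaf 0x8489))
(.node 2767 (.leaf 0x8499)
(.leaf 0x84c8)))))
(.node 2776 (.node 2772 (.node 2770 (.node 2769 (.leaf 0x8508)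
(.leaf 0x8519))
(.node 2771 (.leaf 0x8527)
(.leaf 0x8529)))
(.node 2774 (.node 2773 (.leaf 0x853a)
(.leaf 0x8548))
(.node 2775 (.leaf 0x8555)
(.leaf 0x8558))))
(.node 2780 (.node 2778 (.node 2777 (.leaf 0x8569)
(.leaf 0x857a))
(.node 2779 (.leaf 0x858a)
(.leaf 0x85a8)))
(.node 2782 (.node 2781 (.leaf 0x85b9)
(.leaf 0x85d5))
(.node 2783 (.leaf 0x85d7)
(.leaf 0x85e4))))))
(.node 2800 (.node 2792 (.node 2788 (.node 2786 (.node 2785 (.leaf 0x85e7)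
(.leaf 0x8603))
(.node 2787 (.leaf 0x8616)
(.leaf 0x862b)))
(.node 2790 (.node 2789 (.leaf 0x8636)
(.leaf 0x863c))
(.node 2791 (.leaf 0x864b)
(.leaf 0x8655))))
(.node 2796 (.node 2794 (.node 2793 (.leaf 0x865c)
(.leaf 0x866b))
(.node 2795 (.leaf 0x8676)
(.leaf 0x868b)))
(.node 2798 (.node 2797 (.leaf 0x8696)
(.leaf 0x86a6))
(.node 2799 (.leaf 0x86b5)
(.leaf 0x86b7)))))
(.node 2808 (.node 2804 (.node 2802 (.node 2801 (.leaf 0x86c5)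
(.leaf 0x86c7))
(.node 2803 (.leaf 0x86d4)
(.leaf 0x86d7)))
(.node 2806 (.node 2805 (.leaf 0x86e8)
(.leaf 0x86f5))
(.node 2807 (.leaf 0x86f7)
(.leaf 0x8704))))
(.node 2812 (.node 2810 (.node 2809 (.leaf 0x8707)
(.leaf 0x8718))
(.node 2811 (.leaf 0x8723)
(.leaf 0x8727)))
(.node 2814 (.node 2813 (.leaf 0x8738)
(.leaf 0x8754))
(.node 2815 (.leaf 0x8757)
(.leaf 0x8773)))))))))

/-- part of a trie -/
def parPart11 : Tr :=
(.node 2944 (.node 2880 (.node 2848 (.node 2832 (.node 2824 (.node 2820 (.node 2818 (.node 2817 (.leaf 0x8777)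
(.leaf 0x8786))
(.node 2819 (.leaf 0x8792)
(.leaf 0x87ab)))
(.node 2822 (.node 2821 (.leaf 0x87b6)
(.leaf 0x87c7))
(.node 2823 (.leaf 0x87d5)
(.leaf 0x87d7))))
(.node 2828 (.node 2826 (.node 2825 (.leaf 0x87e7)
(.leaf 0x87f8))
(.node 2827 (.leaf 0x8804)
(.leaf 0x8807)))
(.node 2830 (.node 2829 (.leaf 0x8818)
(.leaf 0x8823))
(.node 2831 (.leaf 0x8827)
(.leaf 0x8836)))))
(.node 2840 (.node 2836 (.node 2834 (.node 2833 (.leaf 0x8838)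
(.leaf 0x8849))
(.node 2835 (.leaf 0x8853)
(.leaf 0x8857)))
(.node 2838 (.node 2837 (.leaf 0x8866)
(.leaf 0x8868))
(.node 2839 (.leaf 0x8879)
(.leaf 0x8882))))
(.node 2844 (.node 2842 (.node 2841 (.leaf 0x8887)
(.leaf 0x8898))
(.node 2843 (.leaf 0x88a9)
(.leaf 0x88ba)))
(.node 2846 (.node 2845 (.leaf 0x88d2)
(.leaf 0x88d7))
(.node 2847 (.leaf 0x88e6)
(.leaf 0x8903))))))
(.node 2864 (.node 2856 (.node 2852 (.node 2850 (.node 2849 (.leaf 0x8907)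
(.leaf 0x8916))
(.node 2851 (.leaf 0x8918)
(.leaf 0x8929)))
(.node 2854 (.node 2853 (.leaf 0x8937)
(.leaf 0x8969))
(.node 2855 (.leaf 0x897a)
(.leaf 0x8988))))
(.node 2860 (.node 2858 (.node 2857 (.leaf 0x8999)
(.leaf 0x89aa))
(.node 2859 (.leaf 0x89c9)
(.leaf 0x89cc)))
(.node 2862 (.node 2861 (.leaf 0x89d8)
(.leaf 0x89dc))
(.node 2863 (.leaf 0x89eb)
(.leaf 0x89fb)))))
(.node 2872 (.node 2868 (.node 2866 (.node 2865 (.leaf 0x8a06)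
(.leaf 0x8a15))
(.node 2867 (.leaf 0x8a17)
(.leaf 0x8a2b)))
(.node 2870 (.node 2869 (.leaf 0x8a2c)
(.leaf 0x8a36))
(.node 2871 (.leaf 0x8a3c)
(.leaf 0x8a4b))))
(.node 2876 (.node 2874 (.node 2873 (.leaf 0x8a5c)
(.leaf 0x8a6b))
(.node 2875 (.leaf 0x8a76)
(.leaf 0x8a8b)))
(.node 2878 (.node 2877 (.leaf 0x8a96)
(.leaf 0x8aa6))
(.node 2879 (.leaf 0x8ab5)
(.leaf 0x8ab7)))))))
(.node 2912 (.node 2896 (.node 2888 (.node 2884 (.node 2882 (.node 2881 (.leaf 0x8ac5)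
(.leaf 0x8ac7))
(.node 2883 (.leaf 0x8ad4)
(.leaf 0x8ad7)))
(.node 2886 (.node 2885 (.leaf 0x8ae8)
(.leaf 0x8af5))
(.node 2887 (.leaf 0x8af7)
(.leaf 0x8b04))))
(.node 2892 (.node 2890 (.node 2889 (.leaf 0x8b07)
(.leaf 0x8b18))
(.node 2891 (.leaf 0x8b23)
(.leaf 0x8b27)))
(.node 2894 (.node 2893 (.leaf 0x8b36)
(.leaf 0x8b38))
(.node 2895 (.leaf 0x8b58)
(.leaf 0x8b5b)))))
(.node 2904 (.node 2900 (.node 2898 (.node 2897 (.leaf 0x8b69)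
(.leaf 0x8b86))
(.node 2899 (.leaf 0x8b8c)
(.leaf 0x8b9b)))
(.node 2902 (.node 2901 (.leaf 0x8bac)
(.leaf 0x8bbb))
(.node 2903 (.leaf 0x8bc6)
(.leaf 0x8bdb))))
(.node 2908 (.node 2906 (.node 2905 (.leaf 0x8be6)
(.leaf 0x8bf5))
(.node 2907 (.leaf 0x8bf7)
(.leaf 0x8c06)))
(.node 2910 (.node 2909 (.leaf 0x8c15)
(.leaf 0x8c17))
(.node 2911 (.leaf 0x8c25)
(.leaf 0x8c27))))))
(.node 2928 (.node 2920 (.node 2916 (.node 2914 (.node 2913 (.leaf 0x8c34)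
(.leaf 0x8c37))
(.node 2915 (.leaf 0x8c48)
(.leaf 0x8c57)))
(.node 2918 (.node 2917 (.leaf 0x8c68)
(.leaf 0x8c73))
(.node 2919 (.leaf 0x8c77)
(.leaf 0x8c88))))
(.node 2924 (.node 2922 (.node 2921 (.leaf 0x8c99)
(.leaf 0x8ca4))
(.node 2923 (.leaf 0x8ca7)
(.leaf 0x8cb8)))
(.node 2926 (.node 2925 (.leaf 0x8cc3)
(.leaf 0x8cc7))
(.node 2927 (.leaf 0x8cd6)
(.leaf 0x8cd8)))))
(.node 2936 (.node 2932 (.node 2930 (.node 2929 (.leaf 0x8ce9)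
(.leaf 0x8cf2))
(.node 2931 (.leaf 0x8cf7)
(.leaf 0x8d08)))
(.node 2934 (.node 2933 (.leaf 0x8d19)
(.leaf 0x8d33))
(.node 2935 (.leaf 0x8d37)
(.leaf 0x8d46))))
(.node 2940 (.node 2938 (.node 2937 (.leaf 0x8d48)
(.leaf 0x8d62))
(.node 2939 (.leaf 0x8d67)
(.leaf 0x8d76)))
(.node 2942 (.node 2941 (.leaf 0x8d81)
(.leaf 0x8d96))
(.node 2943 (.leaf 0x8da5)
(.leaf 0x8da7))))))))
(.node 3008 (.node 2976 (.node 2960 (.node 2952 (.node 2948 (.node 2946 (.node 2945 (.leaf 0x8db4)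
(.leaf 0x8db7))
(.node 2947 (.leaf 0x8dc8)
(.leaf 0x8dd4)))
(.node 2950 (.node 2949 (.leaf 0x8dd7)
(.leaf 0x8de8))
(.node 2951 (.leaf 0x8df4)
(.leaf 0x8df7))))
(.node 2956 (.node 2954 (.node 2953 (.leaf 0x8e13)
(.leaf 0x8e17))
(.node 2955 (.leaf 0x8e26)
(.leaf 0x8e28)))
(.node 2958 (.node 2957 (.leaf 0x8e39)
(.leaf 0x8e42))
(.node 2959 (.leaf 0x8e47)
(.leaf 0x8e56)))))
(.node 2968 (.node 2964 (.node 2962 (.node 2961 (.leaf 0x8e58)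
(.leaf 0x8e68))
(.node 2963 (.leaf 0x8e79)
(.leaf 0x8e8a)))
(.node 2966 (.node 2965 (.leaf 0x8e97)
(.leaf 0x8e9b))
(.node 2967 (.leaf 0x8ea6)
(.leaf 0x8eb7))))
(.node 2972 (.node 2970 (.node 2969 (.leaf 0x8ec4)
(.leaf 0x8ec7))
(.node 2971 (.leaf 0x8ed8)
(.leaf 0x8ee7)))
(.node 2974 (.node 2973 (.leaf 0x8ef6)
(.leaf 0x8ef8))
(.node 2975 (.leaf 0x8f09)
(.leaf 0x8f13))))))
(.node 2992 (.node 2984 (.node 2980 (.node 2978 (.node 2977 (.leaf 0x8f17)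
(.leaf 0x8f26))
(.node 2979 (.leaf 0x8f28)
(.leaf 0x8f39)))
(.node 2982 (.node 2981 (.leaf 0x8f42)
(.leaf 0x8f47))
(.node 2983 (.leaf 0x8f56)
(.leaf 0x8f58))))
(.node 2988 (.node 2986 (.node 2985 (.leaf 0x8f79)
(.leaf 0x8f8a))
(.node 2987 (.leaf 0x8f91)
(.leaf 0x8fa9)))
(.node 2990 (.node 2989 (.leaf 0x8fba)
(.leaf 0x8fd7))
(.node 2991 (.leaf 0x8ff3)
(.leaf 0x8ff7)))))
(.node 3000 (.node 2996 (.node 2994 (.node 2993 (.leaf 0x9006)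
(.leaf 0x9008))
(.node 2995 (.leaf 0x9013)
(.leaf 0x9017)))
(.node 2998 (.node 2997 (.leaf 0x9026)
(.leaf 0x9028))
(.node 2999 (.leaf 0x9039)
(.leaf 0x9042))))
(.node 3004 (.node 3002 (.node 3001 (.leaf 0x9047)
(.leaf 0x9056))
(.node 3003 (.leaf 0x9058)
(.leaf 0x9068)))
(.node 3006 (.node 3005 (.leaf 0x906b)
(.leaf 0x9079))
(.node 3007 (.leaf 0x9097)
(.leaf 0x90a6)))))))
(.node 3040 (.node 3024 (.node 3016 (.node 3012 (.node 3010 (.node 3009 (.leaf 0x90a8)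
(.leaf 0x90bb))
(.node 3011 (.leaf 0x90c9)
(.leaf 0x90ea)))
(.node 3014 (.node 3013 (.leaf 0x90f7)
(.leaf 0x9106))
(.node 3015 (.leaf 0x9108)
(.leaf 0x9129))))
(.node 3020 (.node 3018 (.node 3017 (.leaf 0x913a)
(.leaf 0x9147))
(.node 3019 (.leaf 0x9165)
(.leaf 0x9179)))
(.node 3022 (.node 3021 (.leaf 0x919a)
(.leaf 0x91cb))
(.node 3023 (.leaf 0x91d6)
(.leaf 0x91e6)))))
(.node 3032 (.node 3028 (.node 3026 (.node 3025 (.leaf 0x91f5)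
(.leaf 0x91f7))
(.node 3027 (.leaf 0x9204)
(.leaf 0x9207)))
(.node 3030 (.node 3029 (.leaf 0x9218)
(.leaf 0x9227))
(.node 3031 (.leaf 0x9234)
(.leaf 0x9237))))
(.node 3036 (.node 3034 (.node 3033 (.leaf 0x9248)
(.leaf 0x9257))
(.node 3035 (.leaf 0x9268)
(.leaf 0x9288)))
(.node 3038 (.node 3037 (.leaf 0x928c)
(.leaf 0x929b))
(.node 3039 (.leaf 0x92ac)
(.leaf 0x92bb))))))
(.node 3056 (.node 3048 (.node 3044 (.node 3042 (.node 3041 (.leaf 0x92c6)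
(.leaf 0x92d6))
(.node 3043 (.leaf 0x92e5)
(.leaf 0x92e7)))
(.node 3046 (.node 3045 (.leaf 0x92f4)
(.leaf 0x92f7))
(.node 3047 (.leaf 0x9308)
(.leaf 0x9316))))
(.node 3052 (.node 3050 (.node 3049 (.leaf 0x931c)
(.leaf 0x932b))
(.node 3051 (.leaf 0x933c)
(.leaf 0x934b)))
(.node 3054 (.node 3053 (.leaf 0x9356)
(.leaf 0x936b))
(.node 3055 (.leaf 0x9376)
(.leaf 0x9385)))))
(.node 3064 (.node 3060 (.node 3058 (.node 3057 (.leaf 0x9387)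
(.leaf 0x9396))
(.node 3059 (.leaf 0x93a5)
(.leaf 0x93a7)))
(.node 3062 (.node 3061 (.leaf 0x93b5)
(.leaf 0x93b7))
(.node 3063 (.leaf 0x93c4)
(.leaf 0x93c7))))
(.node 3068 (.node 3066 (.node 3065 (.leaf 0x93d8)
(.leaf 0x93e4))
(.node 3067 (.leaf 0x93e7)
(.leaf 0x93f8)))
(.node 3070 (.node 3069 (.leaf 0x9403)
(.leaf 0x9407))
(.node 3071 (.leaf 0x9416)
(.leaf 0x9418)))))))))

/-- part of a trie -/
def parPart12 : Tr :=
(.node 3200 (.node 3136 (.node 3104 (.node 3088 (.node 3080 (.node 3076 (.node 3074 (.node 3073 (.leaf 0x9429)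
(.leaf 0x9434))
(.node 3075 (.leaf 0x9437)
(.leaf 0x9448)))
(.node 3078 (.node 3077 (.leaf 0x9453)
(.leaf 0x9457))
(.node 3079 (.leaf 0x9466)
(.leaf 0x9468))))
(.node 3084 (.node 3082 (.node 3081 (.leaf 0x9479)
(.leaf 0x9482))
(.node 3083 (.leaf 0x9487)
(.leaf 0x9496)))
(.node 3086 (.node 3085 (.leaf 0x9498)
(.leaf 0x94a8))
(.node 3087 (.leaf 0x94ab)
(.leaf 0x94b9)))))
(.node 3096 (.node 3092 (.node 3090 (.node 3089 (.leaf 0x94c7)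
(.leaf 0x94c9))
(.node 3091 (.leaf 0x94f5)
(.leaf 0x94f7)))
(.node 3094 (.node 3093 (.leaf 0x94fc)
(.leaf 0x950b))
(.node 3095 (.leaf 0x9516)
(.leaf 0x9526))))
(.node 3100 (.node 3098 (.node 3097 (.leaf 0x9535)
(.leaf 0x9537))
(.node 3099 (.leaf 0x954b)
(.leaf 0x9556)))
(.node 3102 (.node 3101 (.leaf 0x9565)
(.leaf 0x9567))
(.node 3103 (.leaf 0x9574)
(.leaf 0x9577))))))
(.node 3120 (.node 3112 (.node 3108 (.node 3106 (.node 3105 (.leaf 0x9588)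
(.leaf 0x9595))
(.node 3107 (.leaf 0x9597)
(.leaf 0x95a4)))
(.node 3110 (.node 3109 (.leaf 0x95a7)
(.leaf 0x95b8))
(.node 3111 (.leaf 0x95c4)
(.leaf 0x95c7))))
(.node 3116 (.node 3114 (.node 3113 (.leaf 0x95d8)
(.leaf 0x95e3))
(.node 3115 (.leaf 0x95e7)
(.leaf 0x95f6)))
(.node 3118 (.node 3117 (.leaf 0x95f8)
(.leaf 0x9609))
(.node 3119 (.leaf 0x9613)
(.leaf 0x9617)))))
(.node 3128 (.node 3124 (.node 3122 (.node 3121 (.leaf 0x9626)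
(.leaf 0x9628))
(.node 3123 (.leaf 0x9639)
(.leaf 0x9642)))
(.node 3126 (.node 3125 (.leaf 0x9647)
(.leaf 0x9656))
(.node 3127 (.leaf 0x9658)
(.leaf 0x9668))))
(.node 3132 (.node 3130 (.node 3129 (.leaf 0x9679)
(.leaf 0x9697))
(.node 3131 (.leaf 0x96a8)
(.leaf 0x96b9)))
(.node 3134 (.node 3133 (.leaf 0x96c2)
(.leaf 0x96c7))
(.node 3135 (.leaf 0x96d6)
(.leaf 0x96d8)))))))
(.node 3168 (.node 3152 (.node 3144 (.node 3140 (.node 3138 (.node 3137 (.leaf 0x96e8)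
(.leaf 0x96eb))
(.node 3139 (.leaf 0x96f9)
(.leaf 0x9711)))
(.node 3142 (.node 3141 (.leaf 0x9717)
(.leaf 0x9728))
(.node 3143 (.leaf 0x9739)
(.leaf 0x9751))))
(.node 3148 (.node 3146 (.node 3145 (.leaf 0x9757)
(.leaf 0x9766))
(.node 3147 (.leaf 0x9785)
(.leaf 0x9787)))
(.node 3150 (.node 3149 (.leaf 0x9794)
(.leaf 0x9797))
(.node 3151 (.leaf 0x97a8)
(.leaf 0x97b3)))))
(.node 3160 (.node 3156 (.node 3154 (.node 3153 (.leaf 0x97b7)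
(.leaf 0x97c6))
(.node 3155 (.leaf 0x97c8)
(.leaf 0x97e3)))
(.node 3158 (.node 3157 (.leaf 0x97e7)
(.leaf 0x97f6))
(.node 3159 (.leaf 0x97f8)
(.leaf 0x9818))))
(.node 3164 (.node 3162 (.node 3161 (.leaf 0x9836)
(.leaf 0x9847))
(.node 3163 (.leaf 0x9854)
(.leaf 0x9857)))
(.node 3166 (.node 3165 (.leaf 0x9868)
(.leaf 0x9873))
(.node 3167 (.leaf 0x9877)
(.leaf 0x9886))))))
(.node 3184 (.node 3176 (.node 3172 (.node 3170 (.node 3169 (.leaf 0x9888)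
(.leaf 0x98a6))
(.node 3171 (.leaf 0x98b7)
(.leaf 0x98c4)))
(.node 3174 (.node 3173 (.leaf 0x98c7)
(.leaf 0x98d8))
(.node 3175 (.leaf 0x98e3)
(.leaf 0x98e7))))
(.node 3180 (.node 3178 (.node 3177 (.leaf 0x98f6)
(.leaf 0x98f8))
(.node 3179 (.leaf 0x9909)
(.leaf 0x9913)))
(.node 3182 (.node 3181 (.leaf 0x9917)
(.leaf 0x9926))
(.node 3183 (.leaf 0x9928)
(.leaf 0x9939)))))
(.node 3192 (.node 3188 (.node 3186 (.node 3185 (.leaf 0x9942)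
(.leaf 0x9947))
(.node 3187 (.leaf 0x9956)
(.leaf 0x9958)))
(.node 3190 (.node 3189 (.leaf 0x9968)
(.leaf 0x996b))
(.node 3191 (.leaf 0x9979)
(.leaf 0x9992))))
(.node 3196 (.node 3194 (.node 3193 (.leaf 0x9997)
(.leaf 0x99a6))
(.node 3195 (.leaf 0x99a8)
(.leaf 0x99b9)))
(.node 3198 (.node 3197 (.leaf 0x99c1)
(.leaf 0x99c7))
(.node 3199 (.leaf 0x99d6)
(.leaf 0x99d8))))))))
(.node 3264 (.node 3232 (.node 3216 (.node 3208 (.node 3204 (.node 3202 (.node 3201 (.leaf 0x99e8)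
(.leaf 0x99eb))
(.node 3203 (.leaf 0x99f9)
(.leaf 0x9a07)))
(.node 3206 (.node 3205 (.leaf 0x9a0b)
(.leaf 0x9a2a))
(.node 3207 (.leaf 0x9a36)
(.leaf 0x9a45))))
(.node 3212 (.node 3210 (.node 3209 (.leaf 0x9a47)
(.leaf 0x9a63))
(.node 3211 (.leaf 0x9a67)
(.leaf 0x9a76)))
(.node 3214 (.node 3213 (.leaf 0x9a78)
(.leaf 0x9a97))
(.node 3215 (.leaf 0x9aa6)
(.leaf 0x9aa8)))))
(.node 3224 (.node 3220 (.node 3218 (.node 3217 (.leaf 0x9ab8)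
(.leaf 0x9ac9))
(.node 3219 (.leaf 0x9ae2)
(.leaf 0x9ae7)))
(.node 3222 (.node 3221 (.leaf 0x9af6)
(.leaf 0x9af8))
(.node 3223 (.leaf 0x9b08)
(.leaf 0x9b19))))
(.node 3228 (.node 3226 (.node 3225 (.leaf 0x9b37)
(.leaf 0x9b46))
(.node 3227 (.leaf 0x9b48)
(.leaf 0x9b55)))
(.node 3230 (.node 3229 (.leaf 0x9b69)
(.leaf 0x9b77))
(.node 3231 (.leaf 0x9b79)
(.leaf 0x9b8a))))))
(.node 3248 (.node 3240 (.node 3236 (.node 3234 (.node 3233 (.leaf 0x9b97)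
(.leaf 0x9ba6))
(.node 3235 (.leaf 0x9bc9)
(.leaf 0x9bf6)))
(.node 3238 (.node 3237 (.leaf 0x9c37)
(.leaf 0x9c52))
(.node 3239 (.leaf 0x9c57)
(.leaf 0x9c66))))
(.node 3244 (.node 3242 (.node 3241 (.leaf 0x9c68)
(.leaf 0x9c78))
(.node 3243 (.leaf 0x9c92)
(.leaf 0x9c97)))
(.node 3246 (.node 3245 (.leaf 0x9ca6)
(.leaf 0x9ca8))
(.node 3247 (.leaf 0x9cb8)
(.leaf 0x9cc9)))))
(.node 3256 (.node 3252 (.node 3250 (.node 3249 (.leaf 0x9cd1)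
(.leaf 0x9cd7))
(.node 3251 (.leaf 0x9ce6)
(.leaf 0x9cf5)))
(.node 3254 (.node 3253 (.leaf 0x9cf8)
(.leaf 0x9cfb))
(.node 3255 (.leaf 0x9d09)
(.leaf 0x9d19))))
(.node 3260 (.node 3258 (.node 3257 (.leaf 0x9d77)
(.leaf 0x9d95))
(.node 3259 (.leaf 0x9da9)
(.leaf 0x9db9)))
(.node 3262 (.node 3261 (.leaf 0x9dca)
(.leaf 0x9de5))
(.node 3263 (.leaf 0x9df9)
(.leaf 0x9e1a)))))))
(.node 3296 (.node 3280 (.node 3272 (.node 3268 (.node 3266 (.node 3265 (.leaf 0x9e2a)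
(.leaf 0x9e4b))
(.node 3267 (.leaf 0x9e56)
(.leaf 0x9e75)))
(.node 3270 (.node 3269 (.leaf 0x9e77)
(.leaf 0x9e84))
(.node 3271 (.leaf 0x9e87)
(.leaf 0x9e98))))
(.node 3276 (.node 3274 (.node 3273 (.leaf 0x9ea4)
(.leaf 0x9ea7))
(.node 3275 (.leaf 0x9eb8)
(.leaf 0x9ec7)))
(.node 3278 (.node 3277 (.leaf 0x9ed8)
(.leaf 0x9ef6))
(.node 3279 (.leaf 0x9f05)
(.leaf 0x9f07)))))
(.node 3288 (.node 3284 (.node 3282 (.node 3281 (.leaf 0x9f17)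
(.leaf 0x9f24))
(.node 3283 (.leaf 0x9f27)
(.leaf 0x9f38)))
(.node 3286 (.node 3285 (.leaf 0x9f43)
(.leaf 0x9f47))
(.node 3287 (.leaf 0x9f56)
(.leaf 0x9f58))))
(.node 3292 (.node 3290 (.node 3289 (.leaf 0x9f69)
(.leaf 0x9f77))
(.node 3291 (.leaf 0x9f86)
(.leaf 0x9f88)))
(.node 3294 (.node 3293 (.leaf 0x9fa8)
(.leaf 0x9fb9))
(.node 3295 (.leaf 0x9fcb)
(.leaf 0x9fd6))))))
(.node 3312 (.node 3304 (.node 3300 (.node 3298 (.node 3297 (.leaf 0x9fe6)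
(.leaf 0x9ff5))
(.node 3299 (.leaf 0x9ff7)
(.leaf 0xa005)))
(.node 3302 (.node 3301 (.leaf 0xa007)
(.leaf 0xa014))
(.node 3303 (.leaf 0xa017)
(.leaf 0xa028))))
(.node 3308 (.node 3306 (.node 3305 (.leaf 0xa033)
(.leaf 0xa037))
(.node 3307 (.leaf 0xa046)
(.leaf 0xa048)))
(.node 3310 (.node 3309 (.leaf 0xa059)
(.leaf 0xa06b))
(.node 3311 (.leaf 0xa076)
(.leaf 0xa085)))))
(.node 3320 (.node 3316 (.node 3314 (.node 3313 (.leaf 0xa087)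
(.leaf 0xa096))
(.node 3315 (.leaf 0xa0a5)
(.leaf 0xa0a7)))
(.node 3318 (.node 3317 (.leaf 0xa0b4)
(.leaf 0xa0b7))
(.node 3319 (.leaf 0xa0c8)
(.leaf 0xa0d5))))
(.node 3324 (.node 3322 (.node 3321 (.leaf 0xa0d7)
(.leaf 0xa0e4))
(.node 3323 (.leaf 0xa0e7)
(.leaf 0xa0f8)))
(.node 3326 (.node 3325 (.leaf 0xa104)
(.leaf 0xa107))
(.node 3327 (.leaf 0xa118)
(.leaf 0xa123)))))))))

/-- part of a trie -/
def parPart13 : Tr :=
(.node 3456 (.node 3392 (.node 3360 (.node 3344 (.node 3336 (.node 3332 (.node 3330 (.node 3329 (.leaf 0xa127)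
(.leaf 0xa136))
(.node 3331 (.leaf 0xa138)
(.leaf 0xa149)))
(.node 3334 (.node 3333 (.leaf 0xa153)
(.leaf 0xa157))
(.node 3335 (.leaf 0xa166)
(.leaf 0xa168))))
(.node 3340 (.node 3338 (.node 3337 (.leaf 0xa179)
(.leaf 0xa182))
(.node 3339 (.leaf 0xa187)
(.leaf 0xa196)))
(.node 3342 (.node 3341 (.leaf 0xa198)
(.leaf 0xa1a8))
(.node 3343 (.leaf 0xa1ab)
(.leaf 0xa1b9)))))
(.node 3352 (.node 3348 (.node 3346 (.node 3345 (.leaf 0xa1d7)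
(.leaf 0xa1e8))
(.node 3347 (.leaf 0xa207)
(.leaf 0xa216)))
(.node 3350 (.node 3349 (.leaf 0xa218)
(.leaf 0xa228))
(.node 3351 (.leaf 0xa22b)
(.leaf 0xa239))))
(.node 3356 (.node 3354 (.node 3353 (.leaf 0xa246)
(.leaf 0xa248))
(.node 3355 (.leaf 0xa258)
(.leaf 0xa25b)))
(.node 3358 (.node 3357 (.leaf 0xa269)
(.leaf 0xa277))
(.node 3359 (.leaf 0xa27b)
(.leaf 0xa2b6))))))
(.node 3376 (.node 3368 (.node 3364 (.node 3362 (.node 3361 (.leaf 0xa2c5)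
(.leaf 0xa2c7))
(.node 3363 (.leaf 0xa2d4)
(.leaf 0xa2d7)))
(.node 3366 (.node 3365 (.leaf 0xa2e8)
(.leaf 0xa2f5))
(.node 3367 (.leaf 0xa2f7)
(.leaf 0xa304))))
(.node 3372 (.node 3370 (.node 3369 (.leaf 0xa307)
(.leaf 0xa318))
(.node 3371 (.leaf 0xa323)
(.leaf 0xa327)))
(.node 3374 (.node 3373 (.leaf 0xa336)
(.leaf 0xa338))
(.node 3375 (.leaf 0xa354)
(.leaf 0xa357)))))
(.node 3384 (.node 3380 (.node 3378 (.node 3377 (.leaf 0xa368)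
(.leaf 0xa373))
(.node 3379 (.leaf 0xa377)
(.leaf 0xa386)))
(.node 3382 (.node 3381 (.leaf 0xa388)
(.leaf 0xa399))
(.node 3383 (.leaf 0xa3a3)
(.leaf 0xa3a7))))
(.node 3388 (.node 3386 (.node 3385 (.leaf 0xa3b6)
(.leaf 0xa3b8))
(.node 3387 (.leaf 0xa3c9)
(.leaf 0xa3d2)))
(.node 3390 (.node 3389 (.leaf 0xa3d7)
(.leaf 0xa3e6))
(.node 3391 (.leaf 0xa3e8)
(.leaf 0xa3f8)))))))
(.node 3424 (.node 3408 (.node 3400 (.node 3396 (.node 3394 (.node 3393 (.leaf 0xa3fb)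
(.leaf 0xa409))
(.node 3395 (.leaf 0xa427)
(.leaf 0xa436)))
(.node 3398 (.node 3397 (.leaf 0xa438)
(.leaf 0xa448))
(.node 3399 (.leaf 0xa459)
(.leaf 0xa477))))
(.node 3404 (.node 3402 (.node 3401 (.leaf 0xa486)
(.leaf 0xa488))
(.node 3403 (.leaf 0xa495)
(.leaf 0xa498)))
(.node 3406 (.node 3405 (.leaf 0xa4a9)
(.leaf 0xa4b7))
(.node 3407 (.leaf 0xa4b9)
(.leaf 0xa4d8)))))
(.node 3416 (.node 3412 (.node 3410 (.node 3409 (.leaf 0xa4e9)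
(.leaf 0xa4f5))
(.node 3411 (.leaf 0xa4f8)
(.leaf 0xa509)))
(.node 3414 (.node 3413 (.leaf 0xa51b)
(.leaf 0xa544))
(.node 3415 (.leaf 0xa547)
(.leaf 0xa558))))
(.node 3420 (.node 3418 (.node 3417 (.leaf 0xa563)
(.leaf 0xa567))
(.node 3419 (.leaf 0xa576)
(.leaf 0xa578)))
(.node 3422 (.node 3421 (.leaf 0xa593)
(.leaf 0xa597))
(.node 3423 (.leaf 0xa5a8)
(.leaf 0xa5e3))))))
(.node 3440 (.node 3432 (.node 3428 (.node 3426 (.node 3425 (.leaf 0xa5e7)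
(.leaf 0xa5f8))
(.node 3427 (.leaf 0xa612)
(.leaf 0xa617)))
(.node 3430 (.node 3429 (.leaf 0xa626)
(.leaf 0xa628))
(.node 3431 (.leaf 0xa638)
(.leaf 0xa652))))
(.node 3436 (.node 3434 (.node 3433 (.leaf 0xa657)
(.leaf 0xa666))
(.node 3435 (.leaf 0xa668)
(.leaf 0xa697)))
(.node 3438 (.node 3437 (.leaf 0xa6a8)
(.leaf 0xa6b3))
(.node 3439 (.leaf 0xa6b7)
(.leaf 0xa6c8)))))
(.node 3448 (.node 3444 (.node 3442 (.node 3441 (.leaf 0xa6e7)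
(.leaf 0xa6f6))
(.node 3443 (.leaf 0xa6f8)
(.leaf 0xa707)))
(.node 3446 (.node 3445 (.leaf 0xa714)
(.leaf 0xa733))
(.node 3447 (.leaf 0xa737)
(.leaf 0xa746))))
(.node 3452 (.node 3450 (.node 3449 (.leaf 0xa748)
(.leaf 0xa762))
(.node 3451 (.leaf 0xa767)
(.leaf 0xa776)))
(.node 3454 (.node 3453 (.leaf 0xa778)
(.leaf 0xa788))
(.node 3455 (.leaf 0xa799)
(.leaf 0xa7b2))))))))
(.node 3520 (.node 3488 (.node 3472 (.node 3464 (.node 3460 (.node 3458 (.node 3457 (.leaf 0xa7b7)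
(.leaf 0xa7c6))
(.node 3459 (.leaf 0xa7c8)
(.leaf 0xa7d8)))
(.node 3462 (.node 3461 (.leaf 0xa7e9)
(.leaf 0xa7f1))
(.node 3463 (.leaf 0xa7f7)
(.leaf 0xa806))))
(.node 3468 (.node 3466 (.node 3465 (.leaf 0xa808)
(.leaf 0xa815))
(.node 3467 (.leaf 0xa818)
(.leaf 0xa81b)))
(.node 3470 (.node 3469 (.leaf 0xa829)
(.leaf 0xa837))
(.node 3471 (.leaf 0xa839)
(.leaf 0xa83b)))))
(.node 3480 (.node 3476 (.node 3474 (.node 3473 (.leaf 0xa861)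
(.leaf 0xa867))
(.node 3475 (.leaf 0xa876)
(.leaf 0xa878)))
(.node 3478 (.node 3477 (.leaf 0xa888)
(.leaf 0xa899))
(.node 3479 (.leaf 0xa8b7)
(.leaf 0xa8c8))))
(.node 3484 (.node 3482 (.node 3481 (.leaf 0xa8d8)
(.leaf 0xa8db))
(.node 3483 (.leaf 0xa8e9)
(.leaf 0xa8fb)))
(.node 3486 (.node 3485 (.leaf 0xa92b)
(.leaf 0xa947))
(.node 3487 (.leaf 0xa962)
(.leaf 0xa967))))))
(.node 3504 (.node 3496 (.node 3492 (.node 3490 (.node 3489 (.leaf 0xa976)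
(.leaf 0xa978))
(.node 3491 (.leaf 0xa988)
(.leaf 0xa9a1)))
(.node 3494 (.node 3493 (.leaf 0xa9a7)
(.leaf 0xa9b6))
(.node 3495 (.leaf 0xa9b8)
(.leaf 0xa9c5))))
(.node 3500 (.node 3498 (.node 3497 (.leaf 0xa9c8)
(.leaf 0xa9d9))
(.node 3499 (.leaf 0xa9e7)
(.leaf 0xaa07)))
(.node 3502 (.node 3501 (.leaf 0xaa16)
(.leaf 0xaa18))
(.node 3503 (.leaf 0xaa28)
(.leaf 0xaa39)))))
(.node 3512 (.node 3508 (.node 3506 (.node 3505 (.leaf 0xaa47)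
(.leaf 0xaa67))
(.node 3507 (.leaf 0xaa78)
(.leaf 0xaaaa)))
(.node 3510 (.node 3509 (.leaf 0xaab9)
(.leaf 0xaaca))
(.node 3511 (.leaf 0xaae7)
(.leaf 0xaaf8))))
(.node 3516 (.node 3514 (.node 3513 (.leaf 0xab09)
(.leaf 0xab28))
(.node 3515 (.leaf 0xab39)
(.leaf 0xab57)))
(.node 3518 (.node 3517 (.leaf 0xab66)
(.leaf 0xab91))
(.node 3519 (.leaf 0xab97)
(.leaf 0xaba6)))))))
(.node 3552 (.node 3536 (.node 3528 (.node 3524 (.node 3522 (.node 3521 (.leaf 0xabb5)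
(.leaf 0xabc6))
(.node 3523 (.leaf 0xabd5)
(.leaf 0xabd8)))
(.node 3526 (.node 3525 (.leaf 0xabfb)
(.leaf 0xac17))
(.node 3527 (.leaf 0xac26)
(.leaf 0xac28))))
(.node 3532 (.node 3530 (.node 3529 (.leaf 0xac35)
(.leaf 0xac38))
(.node 3531 (.leaf 0xac3b)
(.leaf 0xac49)))
(.node 3534 (.node 3533 (.leaf 0xac59)
(.leaf 0xac77))
(.node 3535 (.leaf 0xac86)
(.leaf 0xac95)))))
(.node 3544 (.node 3540 (.node 3538 (.node 3537 (.leaf 0xac98)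
(.leaf 0xac9b))
(.node 3539 (.leaf 0xaca8)
(.leaf 0xacab)))
(.node 3542 (.node 3541 (.leaf 0xacb9)
(.leaf 0xacda))
(.node 3543 (.leaf 0xad09)
(.leaf 0xad1a))))
(.node 3548 (.node 3546 (.node 3545 (.leaf 0xad29)
(.leaf 0xad3a))
(.node 3547 (.leaf 0xad59)
(.leaf 0xad68)))
(.node 3550 (.node 3549 (.leaf 0xadb9)
(.leaf 0xadd4))
(.node 3551 (.leaf 0xadd7)
(.leaf 0xade8))))))
(.node 3568 (.node 3560 (.node 3556 (.node 3554 (.node 3553 (.leaf 0xadf7)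
(.leaf 0xae06))
(.node 3555 (.leaf 0xae12)
(.leaf 0xae2b)))
(.node 3558 (.node 3557 (.leaf 0xae36)
(.leaf 0xae3c))
(.node 3559 (.leaf 0xae45)
(.leaf 0xae4c))))
(.node 3564 (.node 3562 (.node 3561 (.leaf 0xae5b)
(.leaf 0xae7c))
(.node 3563 (.leaf 0xae8b)
(.leaf 0xae96)))
(.node 3566 (.node 3565 (.leaf 0xaea7)
(.leaf 0xaeb6))
(.node 3567 (.leaf 0xaec5)
(.leaf 0xaec7)))))
(.node 3576 (.node 3572 (.node 3570 (.node 3569 (.leaf 0xaed5)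
(.leaf 0xaed7))
(.node 3571 (.leaf 0xaee4)
(.leaf 0xaee7)))
(.node 3574 (.node 3573 (.leaf 0xaef8)
(.leaf 0xaf04))
(.node 3575 (.leaf 0xaf07)
(.leaf 0xaf18))))
(.node 3580 (.node 3578 (.node 3577 (.leaf 0xaf23)
(.leaf 0xaf27))
(.node 3579 (.leaf 0xaf36)
(.leaf 0xaf38)))
(.node 3582 (.node 3581 (.leaf 0xaf49)
(.leaf 0xaf54))
(.node 3583 (.leaf 0xaf57)
(.leaf 0xaf68)))))))))

/-- part of a trie -/
def parPart14 : Tr :=
(.node 3712 (.node 3648 (.node 3616 (.node 3600 (.node 3592 (.node 3588 (.node 3586 (.node 3585 (.leaf 0xaf73)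
(.leaf 0xaf77))
(.node 3587 (.leaf 0xaf86)
(.leaf 0xafa2)))
(.node 3590 (.node 3589 (.leaf 0xafa7)
(.leaf 0xafb8))
(.node 3591 (.leaf 0xafd7)
(.leaf 0xafe6))))
(.node 3596 (.node 3594 (.node 3593 (.leaf 0xaff2)
(.leaf 0xaff7))
(.node 3595 (.leaf 0xb006)
(.leaf 0xb021)))
(.node 3598 (.node 3597 (.leaf 0xb036)
(.leaf 0xb047))
(.node 3599 (.leaf 0xb058)
(.leaf 0xb064)))))
(.node 3608 (.node 3604 (.node 3602 (.node 3601 (.leaf 0xb067)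
(.leaf 0xb078))
(.node 3603 (.leaf 0xb086)
(.leaf 0xb088)))
(.node 3606 (.node 3605 (.leaf 0xb099)
(.leaf 0xb0a7))
(.node 3607 (.leaf 0xb0b6)
(.leaf 0xb0b8))))
(.node 3612 (.node 3610 (.node 3609 (.leaf 0xb0d2)
(.leaf 0xb0d7))
(.node 3611 (.leaf 0xb109)
(.leaf 0xb11a)))
(.node 3614 (.node 3613 (.leaf 0xb122)
(.leaf 0xb127))
(.node 3615 (.leaf 0xb136)
(.leaf 0xb138))))))
(.node 3632 (.node 3624 (.node 3620 (.node 3618 (.node 3617 (.leaf 0xb148)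
(.leaf 0xb159))
(.node 3619 (.leaf 0xb171)
(.leaf 0xb177)))
(.node 3622 (.node 3621 (.leaf 0xb199)
(.leaf 0xb1aa))
(.node 3623 (.leaf 0xb1c7)
(.leaf 0xb1d6))))
(.node 3628 (.node 3626 (.node 3625 (.leaf 0xb23a)
(.leaf 0xb25a))
(.node 3627 (.leaf 0xb28a)
(.leaf 0xb2a8)))
(.node 3630 (.node 3629 (.leaf 0xb2ac)
(.leaf 0xb2cc))
(.node 3631 (.leaf 0xb2db)
(.leaf 0xb2e6)))))
(.node 3640 (.node 3636 (.node 3634 (.node 3633 (.leaf 0xb2f6)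
(.leaf 0xb305))
(.node 3635 (.leaf 0xb307)
(.leaf 0xb314)))
(.node 3638 (.node 3637 (.leaf 0xb317)
(.leaf 0xb328))
(.node 3639 (.leaf 0xb336)
(.leaf 0xb33c))))
(.node 3644 (.node 3642 (.node 3641 (.leaf 0xb34b)
(.leaf 0xb35c))
(.node 3643 (.leaf 0xb36b)
(.leaf 0xb376)))
(.node 3646 (.node 3645 (.leaf 0xb38b)
(.leaf 0xb396))
(.node 3647 (.leaf 0xb3a5)
(.leaf 0xb3a7)))))))
(.node 3680 (.node 3664 (.node 3656 (.node 3652 (.node 3650 (.node 3649 (.leaf 0xb3b6)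
(.leaf 0xb3c5))
(.node 3651 (.leaf 0xb3c7)
(.leaf 0xb3d5)))
(.node 3654 (.node 3653 (.leaf 0xb3d7)
(.leaf 0xb3e4))
(.node 3655 (.leaf 0xb3e7)
(.leaf 0xb3f8))))
(.node 3660 (.node 3658 (.node 3657 (.leaf 0xb404)
(.leaf 0xb407))
(.node 3659 (.leaf 0xb418)
(.leaf 0xb423)))
(.node 3662 (.node 3661 (.leaf 0xb427)
(.leaf 0xb436))
(.node 3663 (.leaf 0xb438)
(.leaf 0xb454)))))
(.node 3672 (.node 3668 (.node 3666 (.node 3665 (.leaf 0xb457)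
(.leaf 0xb468))
(.node 3667 (.leaf 0xb473)
(.leaf 0xb477)))
(.node 3670 (.node 3669 (.leaf 0xb486)
(.leaf 0xb488))
(.node 3671 (.leaf 0xb499)
(.leaf 0xb4a7))))
(.node 3676 (.node 3674 (.node 3673 (.leaf 0xb4b6)
(.leaf 0xb4b8))
(.node 3675 (.leaf 0xb4c8)
(.leaf 0xb4cb)))
(.node 3678 (.node 3677 (.leaf 0xb4e7)
(.leaf 0xb4e9))
(.node 3679 (.leaf 0xb4eb)
(.leaf 0xb515))))))
(.node 3696 (.node 3688 (.node 3684 (.node 3682 (.node 3681 (.leaf 0xb517)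
(.leaf 0xb51c))
(.node 3683 (.leaf 0xb52b)
(.leaf 0xb536)))
(.node 3686 (.node 3685 (.leaf 0xb54b)
(.leaf 0xb556))
(.node 3687 (.leaf 0xb565)
(.leaf 0xb567))))
(.node 3692 (.node 3690 (.node 3689 (.leaf 0xb576)
(.leaf 0xb585))
(.node 3691 (.leaf 0xb587)
(.leaf 0xb594)))
(.node 3694 (.node 3693 (.leaf 0xb597)
(.leaf 0xb5a8))
(.node 3695 (.leaf 0xb5b5)
(.leaf 0xb5b7)))))
(.node 3704 (.node 3700 (.node 3698 (.node 3697 (.leaf 0xb5c4)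
(.leaf 0xb5c7))
(.node 3699 (.leaf 0xb5d8)
(.leaf 0xb5e4)))
(.node 3702 (.node 3701 (.leaf 0xb5e7)
(.leaf 0xb5f8))
(.node 3703 (.leaf 0xb603)
(.leaf 0xb607))))
(.node 3708 (.node 3706 (.node 3705 (.leaf 0xb616)
(.leaf 0xb618))
(.node 3707 (.leaf 0xb629)
(.leaf 0xb638)))
(.node 3710 (.node 3709 (.leaf 0xb652)
(.leaf 0xb657))
(.node 3711 (.leaf 0xb668)
(.leaf 0xb679))))))))
(.node 3776 (.node 3744 (.node 3728 (.node 3720 (.node 3716 (.node 3714 (.node 3713 (.leaf 0xb697)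
(.leaf 0xb6a6))
(.node 3715 (.leaf 0xb6a8)
(.leaf 0xb6b9)))
(.node 3718 (.node 3717 (.leaf 0xb6c2)
(.leaf 0xb6c7))
(.node 3719 (.leaf 0xb6d6)
(.leaf 0xb6d8))))
(.node 3724 (.node 3722 (.node 3721 (.leaf 0xb6eb)
(.leaf 0xb711))
(.node 3723 (.leaf 0xb717)
(.leaf 0xb728)))
(.node 3726 (.node 3725 (.leaf 0xb739)
(.leaf 0xb757))
(.node 3727 (.leaf 0xb766)
(.leaf 0xb768)))))
(.node 3736 (.node 3732 (.node 3730 (.node 3729 (.leaf 0xb778)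
(.leaf 0xb77b))
(.node 3731 (.leaf 0xb791)
(.leaf 0xb797)))
(.node 3734 (.node 3733 (.leaf 0xb7a6)
(.leaf 0xb7d7))
(.node 3735 (.leaf 0xb7e4)
(.leaf 0xb7e7))))
(.node 3740 (.node 3738 (.node 3737 (.leaf 0xb7f8)
(.leaf 0xb803))
(.node 3739 (.leaf 0xb807)
(.leaf 0xb816)))
(.node 3742 (.node 3741 (.leaf 0xb818)
(.leaf 0xb829))
(.node 3743 (.leaf 0xb833)
(.leaf 0xb837))))))
(.node 3760 (.node 3752 (.node 3748 (.node 3746 (.node 3745 (.leaf 0xb846)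
(.leaf 0xb848))
(.node 3747 (.leaf 0xb867)
(.leaf 0xb876)))
(.node 3750 (.node 3749 (.leaf 0xb882)
(.leaf 0xb887))
(.node 3751 (.leaf 0xb896)
(.leaf 0xb898))))
(.node 3756 (.node 3754 (.node 3753 (.leaf 0xb8a8)
(.leaf 0xb8ab))
(.node 3755 (.leaf 0xb8b9)
(.leaf 0xb8ca)))
(.node 3758 (.node 3757 (.leaf 0xb8d1)
(.leaf 0xb8d7))
(.node 3759 (.leaf 0xb8e6)
(.leaf 0xb8e8)))))
(.node 3768 (.node 3764 (.node 3762 (.node 3761 (.leaf 0xb8f8)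
(.leaf 0xb8fb))
(.node 3763 (.leaf 0xb909)
(.leaf 0xb917)))
(.node 3766 (.node 3765 (.leaf 0xb91b)
(.leaf 0xb92a))
(.node 3767 (.leaf 0xb94b)
(.leaf 0xb967))))
(.node 3772 (.node 3770 (.node 3769 (.leaf 0xb983)
(.leaf 0xb987))
(.node 3771 (.leaf 0xb996)
(.leaf 0xb998)))
(.node 3774 (.node 3773 (.leaf 0xb9b6)
(.leaf 0xb9b8))
(.node 3775 (.leaf 0xb9c8)
(.leaf 0xb9d9)))))))
(.node 3808 (.node 3792 (.node 3784 (.node 3780 (.node 3778 (.node 3777 (.leaf 0xb9f7)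
(.leaf 0xba06))
(.node 3779 (.leaf 0xba08)
(.leaf 0xba18)))
(.node 3782 (.node 3781 (.leaf 0xba29)
(.leaf 0xba41))
(.node 3783 (.leaf 0xba47)
(.leaf 0xba56))))
(.node 3788 (.node 3786 (.node 3785 (.leaf 0xba58)
(.leaf 0xba65))
(.node 3787 (.leaf 0xba68)
(.leaf 0xba79)))
(.node 3790 (.node 3789 (.leaf 0xba8a)
(.leaf 0xbaba))
(.node 3791 (.leaf 0xbae2)
(.leaf 0xbae7)))))
(.node 3800 (.node 3796 (.node 3794 (.node 3793 (.leaf 0xbaf6)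
(.leaf 0xbaf8))
(.node 3795 (.leaf 0xbb08)
(.leaf 0xbb0b)))
(.node 3798 (.node 3797 (.leaf 0xbb27)
(.leaf 0xbb36))
(.node 3799 (.leaf 0xbb38)
(.leaf 0xbb59))))
(.node 3804 (.node 3802 (.node 3801 (.leaf 0xbb77)
(.leaf 0xbb86))
(.node 3803 (.leaf 0xbb88)
(.leaf 0xbb95)))
(.node 3806 (.node 3805 (.leaf 0xbb98)
(.leaf 0xbb9b))
(.node 3807 (.leaf 0xbba9)
(.leaf 0xbbb9))))))
(.node 3824 (.node 3816 (.node 3812 (.node 3810 (.node 3809 (.leaf 0xbbda)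
(.leaf 0xbbfb))
(.node 3811 (.leaf 0xbc2a)
(.leaf 0xbc7a)))
(.node 3814 (.node 3813 (.leaf 0xbcd6)
(.leaf 0xbce5))
(.node 3815 (.leaf 0xbce7)
(.leaf 0xbcf5))))
(.node 3820 (.node 3818 (.node 3817 (.leaf 0xbcf7)
(.leaf 0xbd04))
(.node 3819 (.leaf 0xbd07)
(.leaf 0xbd18)))
(.node 3822 (.node 3821 (.leaf 0xbd23)
(.leaf 0xbd27))
(.node 3823 (.leaf 0xbd36)
(.leaf 0xbd38)))))
(.node 3832 (.node 3828 (.node 3826 (.node 3825 (.leaf 0xbd49)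
(.leaf 0xbd58))
(.node 3827 (.leaf 0xbd63)
(.leaf 0xbd67)))
(.node 3830 (.node 3829 (.leaf 0xbd76)
(.leaf 0xbd78))
(.node 3831 (.leaf 0xbd98)
(.leaf 0xbda9))))
(.node 3836 (.node 3834 (.node 3833 (.leaf 0xbdbc)
(.leaf 0xbdcb))
(.node 3835 (.leaf 0xbdd6)
(.leaf 0xbdeb)))
(.node 3838 (.node 3837 (.leaf 0xbdf6)
(.leaf 0xbe05))
(.node 3839 (.leaf 0xbe07)
(.leaf 0xbe15)))))))))

/-- part of a trie -/
def parPart15 : Tr :=
(.node 3968 (.node 3904 (.node 3872 (.node 3856 (.node 3848 (.node 3844 (.node 3842 (.node 3841 (.leaf 0xbe17)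
(.leaf 0xbe24))
(.node 3843 (.leaf 0xbe27)
(.leaf 0xbe38)))
(.node 3846 (.node 3845 (.leaf 0xbe43)
(.leaf 0xbe47))
(.node 3847 (.leaf 0xbe56)
(.leaf 0xbe58))))
(.node 3852 (.node 3850 (.node 3849 (.leaf 0xbe69)
(.leaf 0xbe7c))
(.node 3851 (.leaf 0xbe8b)
(.leaf 0xbe96)))
(.node 3854 (.node 3853 (.leaf 0xbeab)
(.leaf 0xbeb6))
(.node 3855 (.leaf 0xbec5)
(.leaf 0xbec7)))))
(.node 3864 (.node 3860 (.node 3858 (.node 3857 (.leaf 0xbed6)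
(.leaf 0xbee5))
(.node 3859 (.leaf 0xbee7)
(.leaf 0xbef4)))
(.node 3862 (.node 3861 (.leaf 0xbef7)
(.leaf 0xbf08))
(.node 3863 (.leaf 0xbf15)
(.leaf 0xbf17))))
(.node 3868 (.node 3866 (.node 3865 (.leaf 0xbf24)
(.leaf 0xbf27))
(.node 3867 (.leaf 0xbf38)
(.leaf 0xbf44)))
(.node 3870 (.node 3869 (.leaf 0xbf47)
(.leaf 0xbf58))
(.node 3871 (.leaf 0xbf63)
(.leaf 0xbf67))))))
(.node 3888 (.node 3880 (.node 3876 (.node 3874 (.node 3873 (.leaf 0xbf76)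
(.leaf 0xbf78))
(.node 3875 (.leaf 0xbf89)
(.leaf 0xbf93)))
(.node 3878 (.node 3877 (.leaf 0xbf97)
(.leaf 0xbfa6))
(.node 3879 (.leaf 0xbfa8)
(.leaf 0xbfb9))))
(.node 3884 (.node 3882 (.node 3881 (.leaf 0xbfc2)
(.leaf 0xbfc7))
(.node 3883 (.leaf 0xbfd6)
(.leaf 0xbfd8)))
(.node 3886 (.node 3885 (.leaf 0xbfe8)
(.leaf 0xbfeb))
(.node 3887 (.leaf 0xbff9)
(.leaf 0xc013)))))
(.node 3896 (.node 3892 (.node 3890 (.node 3889 (.leaf 0xc017)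
(.leaf 0xc026))
(.node 3891 (.leaf 0xc028)
(.leaf 0xc039)))
(.node 3894 (.node 3893 (.leaf 0xc042)
(.leaf 0xc047))
(.node 3895 (.leaf 0xc056)
(.leaf 0xc058))))
(.node 3900 (.node 3898 (.node 3897 (.leaf 0xc068)
(.leaf 0xc079))
(.node 3899 (.leaf 0xc091)
(.leaf 0xc0a6)))
(.node 3902 (.node 3901 (.leaf 0xc0a8)
(.leaf 0xc0b8))
(.node 3903 (.leaf 0xc0bb)
(.leaf 0xc0c9)))))))
(.node 3936 (.node 3920 (.node 3912 (.node 3908 (.node 3906 (.node 3905 (.leaf 0xc0d7)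
(.leaf 0xc0d9))
(.node 3907 (.leaf 0xc0db)
(.leaf 0xc109)))
(.node 3910 (.node 3909 (.leaf 0xc11b)
(.leaf 0xc127))
(.node 3911 (.leaf 0xc14b)
(.leaf 0xc156))))
(.node 3916 (.node 3914 (.node 3913 (.leaf 0xc175)
(.leaf 0xc177))
(.node 3915 (.leaf 0xc184)
(.leaf 0xc187)))
(.node 3918 (.node 3917 (.leaf 0xc198)
(.leaf 0xc1a6))
(.node 3919 (.leaf 0xc1b5)
(.leaf 0xc1b7)))))
(.node 3928 (.node 3924 (.node 3922 (.node 3921 (.leaf 0xc1c4)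
(.leaf 0xc1c7))
(.node 3923 (.leaf 0xc1d8)
(.leaf 0xc1e3)))
(.node 3926 (.node 3925 (.leaf 0xc1e7)
(.leaf 0xc1f6))
(.node 3927 (.leaf 0xc1f8)
(.leaf 0xc217))))
(.node 3932 (.node 3930 (.node 3929 (.leaf 0xc228)
(.leaf 0xc237))
(.node 3931 (.leaf 0xc246)
(.leaf 0xc248)))
(.node 3934 (.node 3933 (.leaf 0xc263)
(.leaf 0xc267))
(.node 3935 (.leaf 0xc276)
(.leaf 0xc278))))))
(.node 3952 (.node 3944 (.node 3940 (.node 3938 (.node 3937 (.leaf 0xc289)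
(.leaf 0xc292))
(.node 3939 (.leaf 0xc297)
(.leaf 0xc2a6)))
(.node 3942 (.node 3941 (.leaf 0xc2a8)
(.leaf 0xc2b8))
(.node 3943 (.leaf 0xc2bb)
(.leaf 0xc2c9))))
(.node 3948 (.node 3946 (.node 3945 (.leaf 0xc2e2)
(.leaf 0xc2e7))
(.node 3947 (.leaf 0xc2f6)
(.leaf 0xc2f8)))
(.node 3950 (.node 3949 (.leaf 0xc308)
(.leaf 0xc319))
(.node 3951 (.leaf 0xc331)
(.leaf 0xc337)))))
(.node 3960 (.node 3956 (.node 3954 (.node 3953 (.leaf 0xc346)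
(.leaf 0xc348))
(.node 3955 (.leaf 0xc355)
(.leaf 0xc358)))
(.node 3958 (.node 3957 (.leaf 0xc369)
(.leaf 0xc377))
(.node 3959 (.leaf 0xc398)
(.leaf 0xc3a9))))
(.node 3964 (.node 3962 (.node 3961 (.leaf 0xc3c1)
(.leaf 0xc3c7))
(.node 3963 (.leaf 0xc3d6)
(.leaf 0xc3e5)))
(.node 3966 (.node 3965 (.leaf 0xc3eb)
(.leaf 0xc3f9))
(.node 3967 (.leaf 0xc40b)
(.leaf 0xc437))))))))
(.node 4032 (.node 4000 (.node 3984 (.node 3976 (.node 3972 (.node 3970 (.node 3969 (.leaf 0xc448)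
(.leaf 0xc459))
(.node 3971 (.leaf 0xc477)
(.leaf 0xc486)))
(.node 3974 (.node 3973 (.leaf 0xc4a4)
(.leaf 0xc4a7))
(.node 3975 (.leaf 0xc4b8)
(.leaf 0xc4c3))))
(.node 3980 (.node 3978 (.node 3977 (.leaf 0xc4c7)
(.leaf 0xc4d6))
(.node 3979 (.leaf 0xc4d8)
(.leaf 0xc4f2)))
(.node 3982 (.node 3981 (.leaf 0xc4f7)
(.leaf 0xc506))
(.node 3983 (.leaf 0xc508)
(.leaf 0xc518)))))
(.node 3992 (.node 3988 (.node 3986 (.node 3985 (.leaf 0xc532)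
(.leaf 0xc537))
(.node 3987 (.leaf 0xc546)
(.leaf 0xc548)))
(.node 3990 (.node 3989 (.leaf 0xc55b)
(.leaf 0xc587))
(.node 3991 (.leaf 0xc598)
(.leaf 0xc5a3))))
(.node 3996 (.node 3994 (.node 3993 (.leaf 0xc5a7)
(.leaf 0xc5b6))
(.node 3995 (.leaf 0xc5b8)
(.leaf 0xc5d2)))
(.node 3998 (.node 3997 (.leaf 0xc5d7)
(.leaf 0xc5e6))
(.node 3999 (.leaf 0xc5e8)
(.leaf 0xc5f8))))))
(.node 4016 (.node 4008 (.node 4004 (.node 4002 (.node 4001 (.leaf 0xc5fb)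
(.leaf 0xc617))
(.node 4003 (.leaf 0xc633)
(.leaf 0xc637)))
(.node 4006 (.node 4005 (.leaf 0xc646)
(.leaf 0xc648))
(.node 4007 (.leaf 0xc659)
(.leaf 0xc662))))
(.node 4012 (.node 4010 (.node 4009 (.leaf 0xc667)
(.leaf 0xc676))
(.node 4011 (.leaf 0xc678)
(.leaf 0xc688)))
(.node 4014 (.node 4013 (.leaf 0xc699)
(.leaf 0xc6b2))
(.node 4015 (.leaf 0xc6b7)
(.leaf 0xc6c6)))))
(.node 4024 (.node 4020 (.node 4018 (.node 4017 (.leaf 0xc6c8)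
(.leaf 0xc6d8))
(.node 4019 (.leaf 0xc6e9)
(.leaf 0xc701)))
(.node 4022 (.node 4021 (.leaf 0xc707)
(.leaf 0xc716))
(.node 4023 (.leaf 0xc718)
(.leaf 0xc725))))
(.node 4028 (.node 4026 (.node 4025 (.leaf 0xc728)
(.leaf 0xc72b))
(.node 4027 (.leaf 0xc739)
(.leaf 0xc747)))
(.node 4030 (.node 4029 (.leaf 0xc749)
(.leaf 0xc74b))
(.node 4031 (.leaf 0xc75c)
(.leaf 0xc771)))))))
(.node 4064 (.node 4048 (.node 4040 (.node 4036 (.node 4034 (.node 4033 (.leaf 0xc777)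
(.leaf 0xc786))
(.node 4035 (.leaf 0xc788)
(.leaf 0xc798)))
(.node 4038 (.node 4037 (.leaf 0xc7a9)
(.leaf 0xc7c7))
(.node 4039 (.leaf 0xc7d6)
(.leaf 0xc7d8))))
(.node 4044 (.node 4042 (.node 4041 (.leaf 0xc7e8)
(.leaf 0xc7eb))
(.node 4043 (.leaf 0xc807)
(.leaf 0xc80b)))
(.node 4046 (.node 4045 (.leaf 0xc82a)
(.leaf 0xc83b))
(.node 4047 (.leaf 0xc877)
(.leaf 0xc897)))))
(.node 4056 (.node 4052 (.node 4050 (.node 4049 (.leaf 0xc8a6)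
(.leaf 0xc8a8))
(.node 4051 (.leaf 0xc8b8)
(.leaf 0xc8d6)))
(.node 4054 (.node 4053 (.leaf 0xc8e5)
(.leaf 0xc8e8))
(.node 4055 (.leaf 0xc8f9)
(.leaf 0xc907))))
(.node 4060 (.node 4058 (.node 4057 (.leaf 0xc909)
(.leaf 0xc927))
(.node 4059 (.leaf 0xc936)
(.leaf 0xc938)))
(.node 4062 (.node 4061 (.leaf 0xc948)
(.leaf 0xc959))
(.node 4063 (.leaf 0xc967)
(.leaf 0xc969))))))
(.node 4080 (.node 4072 (.node 4068 (.node 4066 (.node 4065 (.leaf 0xc97a)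
(.leaf 0xc986))
(.node 4067 (.leaf 0xc995)
(.leaf 0xc998)))
(.node 4070 (.node 4069 (.leaf 0xc9d9)
(.leaf 0xc9ea))
(.node 4071 (.leaf 0xca06)
(.leaf 0xca57))))
(.node 4076 (.node 4074 (.node 4073 (.leaf 0xca66)
(.leaf 0xca75))
(.node 4075 (.leaf 0xca78)
(.leaf 0xcaa7)))
(.node 4078 (.node 4077 (.leaf 0xcab6)
(.leaf 0xcac5))
(.node 4079 (.leaf 0xcac8)
(.leaf 0xcad9)))))
(.node 4088 (.node 4084 (.node 4082 (.node 4081 (.leaf 0xcae9)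
(.leaf 0xcb07))
(.node 4083 (.leaf 0xcb16)
(.leaf 0xcb25)))
(.node 4086 (.node 4085 (.leaf 0xcb28)
(.leaf 0xcb2b))
(.node 4087 (.leaf 0xcb38)
(.leaf 0xcb3b))))
(.node 4092 (.node 4090 (.node 4089 (.leaf 0xcb49)
(.leaf 0xcb6a))
(.node 4091 (.leaf 0xcb7a)
(.leaf 0xcbaa)))
(.node 4094 (.node 4093 (.leaf 0xcbba)
(.leaf 0xcc16))
(.node 4095 (.leaf 0xcc25)
(.leaf 0xcc27)))))))))

/-- part of a trie -/
def parPart16 : Tr :=
(.node 4224 (.node 4160 (.node 4128 (.node 4112 (.node 4104 (.node 4100 (.node 4098 (.node 4097 (.leaf 0xcc34)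
(.leaf 0xcc37))
(.node 4099 (.leaf 0xcc48)
(.leaf 0xcc53)))
(.node 4102 (.node 4101 (.leaf 0xcc57)
(.leaf 0xcc66))
(.node 4103 (.leaf 0xcc68)
(.leaf 0xcc79))))
(.node 4108 (.node 4106 (.node 4105 (.leaf 0xcc87)
(.leaf 0xcc98))
(.node 4107 (.leaf 0xccb8)
(.leaf 0xccd7)))
(.node 4110 (.node 4109 (.leaf 0xcce4)
(.leaf 0xcce7))
(.node 4111 (.leaf 0xccf8)
(.leaf 0xcd08)))))
(.node 4120 (.node 4116 (.node 4114 (.node 4113 (.leaf 0xcd13)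
(.leaf 0xcd17))
(.node 4115 (.leaf 0xcd26)
(.leaf 0xcd28)))
(.node 4118 (.node 4117 (.leaf 0xcd39)
(.leaf 0xcd42))
(.node 4119 (.leaf 0xcd47)
(.leaf 0xcd56))))
(.node 4124 (.node 4122 (.node 4121 (.leaf 0xcd58)
(.leaf 0xcd68))
(.node 4123 (.leaf 0xcd79)
(.leaf 0xcd98)))
(.node 4126 (.node 4125 (.leaf 0xcda8)
(.leaf 0xcdb9))
(.node 4127 (.leaf 0xcdc9)
(.leaf 0xcde6))))))
(.node 4144 (.node 4136 (.node 4132 (.node 4130 (.node 4129 (.leaf 0xcdf5)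
(.leaf 0xcdf7))
(.node 4131 (.leaf 0xce05)
(.leaf 0xce07)))
(.node 4134 (.node 4133 (.leaf 0xce14)
(.leaf 0xce17))
(.node 4135 (.leaf 0xce28)
(.leaf 0xce34))))
(.node 4140 (.node 4138 (.node 4137 (.leaf 0xce37)
(.leaf 0xce48))
(.node 4139 (.leaf 0xce53)
(.leaf 0xce57)))
(.node 4142 (.node 4141 (.leaf 0xce66)
(.leaf 0xce68))
(.node 4143 (.leaf 0xce79)
(.leaf 0xce82)))))
(.node 4152 (.node 4148 (.node 4146 (.node 4145 (.leaf 0xce87)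
(.leaf 0xce96))
(.node 4147 (.leaf 0xce98)
(.leaf 0xcea8)))
(.node 4150 (.node 4149 (.leaf 0xceb9)
(.leaf 0xced6))
(.node 4151 (.leaf 0xcee5)
(.leaf 0xcee7))))
(.node 4156 (.node 4154 (.node 4153 (.leaf 0xcef7)
(.leaf 0xcf08))
(.node 4155 (.leaf 0xcf15)
(.leaf 0xcf17)))
(.node 4158 (.node 4157 (.leaf 0xcf24)
(.leaf 0xcf27))
(.node 4159 (.leaf 0xcf38)
(.leaf 0xcf43)))))))
(.node 4192 (.node 4176 (.node 4168 (.node 4164 (.node 4162 (.node 4161 (.leaf 0xcf47)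
(.leaf 0xcf56))
(.node 4163 (.leaf 0xcf58)
(.leaf 0xcf74)))
(.node 4166 (.node 4165 (.leaf 0xcf77)
(.leaf 0xcf88))
(.node 4167 (.leaf 0xcf97)
(.leaf 0xcfa6))))
(.node 4172 (.node 4170 (.node 4169 (.leaf 0xcfa8)
(.leaf 0xcfb9))
(.node 4171 (.leaf 0xcfc3)
(.leaf 0xcfc7)))
(.node 4174 (.node 4173 (.leaf 0xcfd6)
(.leaf 0xcfd8))
(.node 4175 (.leaf 0xcfe9)
(.leaf 0xcff2)))))
(.node 4184 (.node 4180 (.node 4178 (.node 4177 (.leaf 0xcff7)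
(.leaf 0xd006))
(.node 4179 (.leaf 0xd008)
(.leaf 0xd018)))
(.node 4182 (.node 4181 (.leaf 0xd01b)
(.leaf 0xd029))
(.node 4183 (.leaf 0xd042)
(.leaf 0xd047))))
(.node 4188 (.node 4186 (.node 4185 (.leaf 0xd056)
(.leaf 0xd058))
(.node 4187 (.leaf 0xd068)
(.leaf 0xd079)))
(.node 4190 (.node 4189 (.leaf 0xd091)
(.leaf 0xd097))
(.node 4191 (.leaf 0xd0a6)
(.leaf 0xd0a8))))))
(.node 4208 (.node 4200 (.node 4196 (.node 4194 (.node 4193 (.leaf 0xd0b5)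
(.leaf 0xd0b8))
(.node 4195 (.leaf 0xd0bb)
(.leaf 0xd0c9)))
(.node 4198 (.node 4197 (.leaf 0xd0d7)
(.leaf 0xd0d9))
(.node 4199 (.leaf 0xd0db)
(.leaf 0xd108))))
(.node 4204 (.node 4202 (.node 4201 (.leaf 0xd119)
(.leaf 0xd126))
(.node 4203 (.leaf 0xd135)
(.leaf 0xd138)))
(.node 4206 (.node 4205 (.leaf 0xd13b)
(.leaf 0xd149))
(.node 4207 (.leaf 0xd157)
(.leaf 0xd159)))))
(.node 4216 (.node 4212 (.node 4210 (.node 4209 (.leaf 0xd15b)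
(.leaf 0xd16c))
(.node 4211 (.leaf 0xd188)
(.leaf 0xd18b)))
(.node 4214 (.node 4213 (.leaf 0xd1a7)
(.leaf 0xd1ab))
(.node 4215 (.leaf 0xd1bc)
(.leaf 0xd1db))))
(.node 4220 (.node 4218 (.node 4217 (.leaf 0xd1ec)
(.leaf 0xd1f5))
(.node 4219 (.leaf 0xd1f7)
(.leaf 0xd204)))
(.node 4222 (.node 4221 (.leaf 0xd207)
(.leaf 0xd218))
(.node 4223 (.leaf 0xd223)
(.leaf 0xd227))))))))
(.node 4288 (.node 4256 (.node 4240 (.node 4232 (.node 4228 (.node 4226 (.node 4225 (.leaf 0xd236)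
(.leaf 0xd238))
(.node 4227 (.leaf 0xd249)
(.leaf 0xd257)))
(.node 4230 (.node 4229 (.leaf 0xd273)
(.leaf 0xd277))
(.node 4231 (.leaf 0xd286)
(.leaf 0xd288))))
(.node 4236 (.node 4234 (.node 4233 (.leaf 0xd2a2)
(.leaf 0xd2a7))
(.node 4235 (.leaf 0xd2b6)
(.leaf 0xd2b8)))
(.node 4238 (.node 4237 (.leaf 0xd2c8)
(.leaf 0xd2e3))
(.node 4239 (.leaf 0xd2e7)
(.leaf 0xd2f6)))))
(.node 4248 (.node 4244 (.node 4242 (.node 4241 (.leaf 0xd2f8)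
(.leaf 0xd309))
(.node 4243 (.leaf 0xd317)
(.leaf 0xd326)))
(.node 4246 (.node 4245 (.leaf 0xd328)
(.leaf 0xd338))
(.node 4247 (.leaf 0xd349)
(.leaf 0xd35a))))
(.node 4252 (.node 4250 (.node 4249 (.leaf 0xd362)
(.leaf 0xd367))
(.node 4251 (.leaf 0xd376)
(.leaf 0xd378)))
(.node 4254 (.node 4253 (.leaf 0xd388)
(.leaf 0xd399))
(.node 4255 (.leaf 0xd3b1)
(.leaf 0xd3b7))))))
(.node 4272 (.node 4264 (.node 4260 (.node 4258 (.node 4257 (.leaf 0xd3c6)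
(.leaf 0xd3c8))
(.node 4259 (.leaf 0xd3d5)
(.leaf 0xd3d8)))
(.node 4262 (.node 4261 (.leaf 0xd3e9)
(.leaf 0xd3f7))
(.node 4263 (.leaf 0xd3f9)
(.leaf 0xd3fb))))
(.node 4268 (.node 4266 (.node 4265 (.leaf 0xd426)
(.leaf 0xd435))
(.node 4267 (.leaf 0xd438)
(.leaf 0xd449)))
(.node 4270 (.node 4269 (.leaf 0xd457)
(.leaf 0xd459))
(.node 4271 (.leaf 0xd476)
(.leaf 0xd485)))))
(.node 4280 (.node 4276 (.node 4274 (.node 4273 (.leaf 0xd488)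
(.leaf 0xd499))
(.node 4275 (.leaf 0xd4a8)
(.leaf 0xd4b7)))
(.node 4278 (.node 4277 (.leaf 0xd4b9)
(.leaf 0xd4ca))
(.node 4279 (.leaf 0xd4d9)
(.leaf 0xd4f9))))
(.node 4284 (.node 4282 (.node 4281 (.leaf 0xd518)
(.leaf 0xd52b))
(.node 4283 (.leaf 0xd54c)
(.leaf 0xd553)))
(.node 4286 (.node 4285 (.leaf 0xd557)
(.leaf 0xd568))
(.node 4287 (.leaf 0xd582)
(.leaf 0xd587)))))))
(.node 4320 (.node 4304 (.node 4296 (.node 4292 (.node 4290 (.node 4289 (.leaf 0xd596)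
(.leaf 0xd598))
(.node 4291 (.leaf 0xd5a8)
(.leaf 0xd5c2)))
(.node 4294 (.node 4293 (.leaf 0xd5c7)
(.leaf 0xd5d8))
(.node 4295 (.leaf 0xd5f7)
(.leaf 0xd608))))
(.node 4300 (.node 4298 (.node 4297 (.leaf 0xd621)
(.leaf 0xd627))
(.node 4299 (.leaf 0xd636)
(.leaf 0xd638)))
(.node 4302 (.node 4301 (.leaf 0xd645)
(.leaf 0xd648))
(.node 4303 (.leaf 0xd671)
(.leaf 0xd677)))))
(.node 4312 (.node 4308 (.node 4306 (.node 4305 (.leaf 0xd686)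
(.leaf 0xd688))
(.node 4307 (.leaf 0xd698)
(.leaf 0xd6d7)))
(.node 4310 (.node 4309 (.leaf 0xd6e8)
(.leaf 0xd706))
(.node 4311 (.leaf 0xd708)
(.leaf 0xd715))))
(.node 4316 (.node 4314 (.node 4313 (.leaf 0xd718)
(.leaf 0xd743))
(.node 4315 (.leaf 0xd747)
(.leaf 0xd752)))
(.node 4318 (.node 4317 (.leaf 0xd757)
(.leaf 0xd766))
(.node 4319 (.leaf 0xd768)
(.leaf 0xd778))))))
(.node 4336 (.node 4328 (.node 4324 (.node 4322 (.node 4321 (.leaf 0xd791)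
(.leaf 0xd797))
(.node 4323 (.leaf 0xd7a6)
(.leaf 0xd7a8)))
(.node 4326 (.node 4325 (.leaf 0xd7b5)
(.leaf 0xd7b8))
(.node 4327 (.leaf 0xd7c9)
(.leaf 0xd7d7))))
(.node 4332 (.node 4330 (.node 4329 (.leaf 0xd7f7)
(.leaf 0xd806))
(.node 4331 (.leaf 0xd808)
(.leaf 0xd815)))
(.node 4334 (.node 4333 (.leaf 0xd818)
(.leaf 0xd81b))
(.node 4335 (.leaf 0xd829)
(.leaf 0xd837)))))
(.node 4344 (.node 4340 (.node 4338 (.node 4337 (.leaf 0xd839)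
(.leaf 0xd857))
(.node 4339 (.leaf 0xd866)
(.leaf 0xd868)))
(.node 4342 (.node 4341 (.leaf 0xd875)
(.leaf 0xd878))
(.node 4343 (.leaf 0xd87b)
(.leaf 0xd889))))
(.node 4348 (.node 4346 (.node 4345 (.leaf 0xd898)
(.leaf 0xd89b))
(.node 4347 (.leaf 0xd8a7)
(.leaf 0xd8a9)))
(.node 4350 (.node 4349 (.leaf 0xd8ab)
(.leaf 0xd8bc))
(.node 4351 (.leaf 0xd8ca)
(.leaf 0xd8d9)))))))))

/-- part of a trie -/
def parPart17 : Tr :=
(.node 4480 (.node 4416 (.node 4384 (.node 4368 (.node 4360 (.node 4356 (.node 4354 (.node 4353 (.leaf 0xd907)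
(.leaf 0xd916))
(.node 4355 (.leaf 0xd918)
(.leaf 0xd928)))
(.node 4358 (.node 4357 (.leaf 0xd939)
(.leaf 0xd947))
(.node 4359 (.leaf 0xd968)
(.leaf 0xd979))))
(.node 4364 (.node 4362 (.node 4361 (.leaf 0xd98b)
(.leaf 0xd9d6))
(.node 4363 (.leaf 0xd9e7)
(.leaf 0xd9f6)))
(.node 4366 (.node 4365 (.leaf 0xd9f8)
(.leaf 0xda05))
(.node 4367 (.leaf 0xda08)
(.leaf 0xda0b)))))
(.node 4376 (.node 4372 (.node 4370 (.node 4369 (.leaf 0xda27)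
(.leaf 0xda37))
(.node 4371 (.leaf 0xda46)
(.leaf 0xda48)))
(.node 4374 (.node 4373 (.leaf 0xda55)
(.leaf 0xda58))
(.node 4375 (.leaf 0xda69)
(.leaf 0xda78))))
(.node 4380 (.node 4378 (.node 4377 (.leaf 0xda87)
(.leaf 0xda89))
(.node 4379 (.leaf 0xdab6)
(.leaf 0xdab8)))
(.node 4382 (.node 4381 (.leaf 0xdad9)
(.leaf 0xdae9))
(.node 4383 (.leaf 0xdafa)
(.leaf 0xdb09))))))
(.node 4400 (.node 4392 (.node 4388 (.node 4386 (.node 4385 (.leaf 0xdb18)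
(.leaf 0xdb4a))
(.node 4387 (.leaf 0xdb68)
(.leaf 0xdb79)))
(.node 4390 (.node 4389 (.leaf 0xdb99)
(.leaf 0xdbb6))
(.node 4391 (.leaf 0xdbc5)
(.leaf 0xdbd7))))
(.node 4396 (.node 4394 (.node 4393 (.leaf 0xdbe6)
(.leaf 0xdc18))
(.node 4395 (.leaf 0xdc28)
(.leaf 0xdc37)))
(.node 4398 (.node 4397 (.leaf 0xdc56)
(.leaf 0xdc65))
(.node 4399 (.leaf 0xdc68)
(.leaf 0xdc79)))))
(.node 4408 (.node 4404 (.node 4402 (.node 4401 (.leaf 0xdc8b)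
(.leaf 0xdc99))
(.node 4403 (.leaf 0xdcba)
(.leaf 0xdcf8)))
(.node 4406 (.node 4405 (.leaf 0xdcfb)
(.leaf 0xdd09))
(.node 4407 (.leaf 0xdd4a)
(.leaf 0xdd6a))))
(.node 4412 (.node 4410 (.node 4409 (.leaf 0xdd88)
(.leaf 0xdd8a))
(.node 4411 (.leaf 0xddd7)
(.leaf 0xdde6)))
(.node 4414 (.node 4413 (.leaf 0xdde8)
(.leaf 0xde06))
(.node 4415 (.leaf 0xde1b)
(.leaf 0xde45)))))))
(.node 4448 (.node 4432 (.node 4424 (.node 4420 (.node 4418 (.node 4417 (.leaf 0xde47)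
(.leaf 0xde4c))
(.node 4419 (.leaf 0xde5b)
(.leaf 0xde6c)))
(.node 4422 (.node 4421 (.leaf 0xde7b)
(.leaf 0xde86))
(.node 4423 (.leaf 0xdea6)
(.leaf 0xdeb7))))
(.node 4428 (.node 4426 (.node 4425 (.leaf 0xdec8)
(.leaf 0xded5))
(.node 4427 (.leaf 0xded7)
(.leaf 0xdee4)))
(.node 4430 (.node 4429 (.leaf 0xdee7)
(.leaf 0xdef8))
(.node 4431 (.leaf 0xdf04)
(.leaf 0xdf07)))))
(.node 4440 (.node 4436 (.node 4434 (.node 4433 (.leaf 0xdf18)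
(.leaf 0xdf23))
(.node 4435 (.leaf 0xdf27)
(.leaf 0xdf36)))
(.node 4438 (.node 4437 (.leaf 0xdf38)
(.leaf 0xdf49))
(.node 4439 (.leaf 0xdf57)
(.leaf 0xdf66))))
(.node 4444 (.node 4442 (.node 4441 (.leaf 0xdf68)
(.leaf 0xdf79))
(.node 4443 (.leaf 0xdf82)
(.leaf 0xdf87)))
(.node 4446 (.node 4445 (.leaf 0xdf96)
(.leaf 0xdf98))
(.node 4447 (.leaf 0xdfa8)
(.leaf 0xdfb9))))))
(.node 4464 (.node 4456 (.node 4452 (.node 4450 (.node 4449 (.leaf 0xdfd3)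
(.leaf 0xdfd7))
(.node 4451 (.leaf 0xdfe8)
(.leaf 0xe002)))
(.node 4454 (.node 4453 (.leaf 0xe007)
(.leaf 0xe016))
(.node 4455 (.leaf 0xe037)
(.leaf 0xe048))))
(.node 4460 (.node 4458 (.node 4457 (.leaf 0xe066)
(.leaf 0xe07b))
(.node 4459 (.leaf 0xe087)
(.leaf 0xe096)))
(.node 4462 (.node 4461 (.leaf 0xe0c7)
(.leaf 0xe0d8))
(.node 4463 (.leaf 0xe0e9)
(.leaf 0xe0f7)))))
(.node 4472 (.node 4468 (.node 4466 (.node 4465 (.leaf 0xe108)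
(.leaf 0xe119))
(.node 4467 (.leaf 0xe128)
(.leaf 0xe139)))
(.node 4470 (.node 4469 (.leaf 0xe14a)
(.leaf 0xe158))
(.node 4471 (.leaf 0xe1aa)
(.leaf 0xe1c1))))
(.node 4476 (.node 4474 (.node 4473 (.leaf 0xe1c7)
(.leaf 0xe1d6))
(.node 4475 (.leaf 0xe1e8)
(.leaf 0xe1f9)))
(.node 4478 (.node 4477 (.leaf 0xe209)
(.leaf 0xe21a))
(.node 4479 (.leaf 0xe24a)
(.leaf 0xe2bc))))))))
(.node 4544 (.node 4512 (.node 4496 (.node 4488 (.node 4484 (.node 4482 (.node 4481 (.leaf 0xe2cb)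
(.leaf 0xe2db))
(.node 4483 (.leaf 0xe2e6)
(.leaf 0xe2f7)))
(.node 4486 (.node 4485 (.leaf 0xe305)
(.leaf 0xe307))
(.node 4487 (.leaf 0xe314)
(.leaf 0xe317))))
(.node 4492 (.node 4490 (.node 4489 (.leaf 0xe328)
(.leaf 0xe333))
(.node 4491 (.leaf 0xe337)
(.leaf 0xe346)))
(.node 4494 (.node 4493 (.leaf 0xe348)
(.leaf 0xe359))
(.node 4495 (.leaf 0xe367)
(.leaf 0xe36c)))))
(.node 4504 (.node 4500 (.node 4498 (.node 4497 (.leaf 0xe37b)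
(.leaf 0xe386))
(.node 4499 (.leaf 0xe39b)
(.leaf 0xe3a6)))
(.node 4502 (.node 4501 (.leaf 0xe3b5)
(.leaf 0xe3b7))
(.node 4503 (.leaf 0xe3c6)
(.leaf 0xe3d5))))
(.node 4508 (.node 4506 (.node 4505 (.leaf 0xe3d7)
(.leaf 0xe3e4))
(.node 4507 (.leaf 0xe3e7)
(.leaf 0xe3f8)))
(.node 4510 (.node 4509 (.leaf 0xe405)
(.leaf 0xe407))
(.node 4511 (.leaf 0xe414)
(.leaf 0xe417))))))
(.node 4528 (.node 4520 (.node 4516 (.node 4514 (.node 4513 (.leaf 0xe428)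
(.leaf 0xe434))
(.node 4515 (.leaf 0xe437)
(.leaf 0xe448)))
(.node 4518 (.node 4517 (.leaf 0xe453)
(.leaf 0xe457))
(.node 4519 (.leaf 0xe466)
(.leaf 0xe468))))
(.node 4524 (.node 4522 (.node 4521 (.leaf 0xe483)
(.leaf 0xe487))
(.node 4523 (.leaf 0xe496)
(.leaf 0xe498)))
(.node 4526 (.node 4525 (.leaf 0xe4b2)
(.leaf 0xe4b7))
(.node 4527 (.leaf 0xe4c6)
(.leaf 0xe4c8)))))
(.node 4536 (.node 4532 (.node 4530 (.node 4529 (.leaf 0xe4d8)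
(.leaf 0xe4f3))
(.node 4531 (.leaf 0xe4f7)
(.leaf 0xe506)))
(.node 4534 (.node 4533 (.leaf 0xe508)
(.leaf 0xe519))
(.node 4535 (.leaf 0xe522)
(.leaf 0xe527))))
(.node 4540 (.node 4538 (.node 4537 (.leaf 0xe536)
(.leaf 0xe538))
(.node 4539 (.leaf 0xe548)
(.leaf 0xe559)))
(.node 4542 (.node 4541 (.leaf 0xe576)
(.leaf 0xe578))
(.node 4543 (.leaf 0xe58b)
(.leaf 0xe5a7)))))))
(.node 4576 (.node 4560 (.node 4552 (.node 4548 (.node 4546 (.node 4545 (.leaf 0xe5a9)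
(.leaf 0xe5ab))
(.node 4547 (.leaf 0xe5c9)
(.leaf 0xe5cb)))
(.node 4550 (.node 4549 (.leaf 0xe5db)
(.leaf 0xe5f7))
(.node 4551 (.leaf 0xe5fc)
(.leaf 0xe60c))))
(.node 4556 (.node 4554 (.node 4553 (.leaf 0xe61b)
(.leaf 0xe626))
(.node 4555 (.leaf 0xe635)
(.leaf 0xe637)))
(.node 4558 (.node 4557 (.leaf 0xe646)
(.leaf 0xe655))
(.node 4559 (.leaf 0xe657)
(.leaf 0xe664)))))
(.node 4568 (.node 4564 (.node 4562 (.node 4561 (.leaf 0xe667)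
(.leaf 0xe678))
(.node 4563 (.leaf 0xe687)
(.leaf 0xe694)))
(.node 4566 (.node 4565 (.leaf 0xe697)
(.leaf 0xe6a8))
(.node 4567 (.leaf 0xe6b7)
(.leaf 0xe6c6))))
(.node 4572 (.node 4570 (.node 4569 (.leaf 0xe6c8)
(.leaf 0xe6e4))
(.node 4571 (.leaf 0xe6e7)
(.leaf 0xe6f8)))
(.node 4574 (.node 4573 (.leaf 0xe703)
(.leaf 0xe707))
(.node 4575 (.leaf 0xe716)
(.leaf 0xe718))))))
(.node 4592 (.node 4584 (.node 4580 (.node 4578 (.node 4577 (.leaf 0xe729)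
(.leaf 0xe733))
(.node 4579 (.leaf 0xe737)
(.leaf 0xe746)))
(.node 4582 (.node 4581 (.leaf 0xe748)
(.leaf 0xe759))
(.node 4583 (.leaf 0xe776)
(.leaf 0xe778))))
(.node 4588 (.node 4586 (.node 4585 (.leaf 0xe788)
(.leaf 0xe799))
(.node 4587 (.leaf 0xe7c7)
(.leaf 0xe7d8)))
(.node 4590 (.node 4589 (.leaf 0xe7e9)
(.leaf 0xe806))
(.node 4591 (.leaf 0xe808)
(.leaf 0xe818)))))
(.node 4600 (.node 4596 (.node 4594 (.node 4593 (.leaf 0xe841)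
(.leaf 0xe847))
(.node 4595 (.leaf 0xe856)
(.leaf 0xe865)))
(.node 4598 (.node 4597 (.leaf 0xe868)
(.leaf 0xe86b))
(.node 4599 (.leaf 0xe897)
(.leaf 0xe8a8))))
(.node 4604 (.node 4602 (.node 4601 (.leaf 0xe8b9)
(.leaf 0xe8d6))
(.node 4603 (.leaf 0xe8e8)
(.leaf 0xe8eb)))
(.node 4606 (.node 4605 (.leaf 0xe936)
(.leaf 0xe958))
(.node 4607 (.leaf 0xe963)
(.leaf 0xe967)))))))))

/-- part of a trie -/
def parPart18 : Tr :=
(.node 4736 (.node 4672 (.node 4640 (.node 4624 (.node 4616 (.node 4612 (.node 4610 (.node 4609 (.leaf 0xe976)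
(.leaf 0xe978))
(.node 4611 (.leaf 0xe989)
(.leaf 0xe992)))
(.node 4614 (.node 4613 (.leaf 0xe997)
(.leaf 0xe9a6))
(.node 4615 (.leaf 0xe9a8)
(.leaf 0xe9b8))))
(.node 4620 (.node 4618 (.node 4617 (.leaf 0xe9bb)
(.leaf 0xe9c9))
(.node 4619 (.leaf 0xe9e2)
(.leaf 0xe9e7)))
(.node 4622 (.node 4621 (.leaf 0xe9f6)
(.leaf 0xe9f8))
(.node 4623 (.leaf 0xea08)
(.leaf 0xea26)))))
(.node 4632 (.node 4628 (.node 4626 (.node 4625 (.leaf 0xea47)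
(.leaf 0xea56))
(.node 4627 (.leaf 0xea58)
(.leaf 0xea65)))
(.node 4630 (.node 4629 (.leaf 0xea68)
(.leaf 0xea6b))
(.node 4631 (.leaf 0xea79)
(.leaf 0xea87))))
(.node 4636 (.node 4634 (.node 4633 (.leaf 0xea8b)
(.leaf 0xea9c))
(.node 4635 (.leaf 0xeac7)
(.leaf 0xead6)))
(.node 4638 (.node 4637 (.leaf 0xead8)
(.leaf 0xeae8))
(.node 4639 (.leaf 0xeaeb)
(.leaf 0xeb07))))))
(.node 4656 (.node 4648 (.node 4644 (.node 4642 (.node 4641 (.leaf 0xeb0b)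
(.leaf 0xeb2a))
(.node 4643 (.leaf 0xeb66)
(.leaf 0xeb87)))
(.node 4646 (.node 4645 (.leaf 0xeb96)
(.leaf 0xeb98))
(.node 4647 (.leaf 0xeba8)
(.leaf 0xebc5))))
(.node 4652 (.node 4650 (.node 4649 (.leaf 0xebc8)
(.leaf 0xebd9))
(.node 4651 (.leaf 0xebe9)
(.leaf 0xec08)))
(.node 4654 (.node 4653 (.leaf 0xec18)
(.leaf 0xec4a))
(.node 4655 (.leaf 0xec68)
(.leaf 0xec75)))))
(.node 4664 (.node 4660 (.node 4658 (.node 4657 (.leaf 0xec98)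
(.leaf 0xece7))
(.node 4659 (.leaf 0xecf6)
(.leaf 0xed05)))
(.node 4662 (.node 4661 (.leaf 0xed08)
(.leaf 0xed0b))
(.node 4663 (.leaf 0xed2b)
(.leaf 0xed46))))
(.node 4668 (.node 4666 (.node 4665 (.leaf 0xed86)
(.leaf 0xed9b))
(.node 4667 (.leaf 0xedbb)
(.leaf 0xedc9)))
(.node 4670 (.node 4669 (.leaf 0xedea)
(.leaf 0xedfa))
(.node 4671 (.leaf 0xee45)
(.leaf 0xee47)))))))
(.node 4704 (.node 4688 (.node 4680 (.node 4676 (.node 4674 (.node 4673 (.leaf 0xee54)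
(.leaf 0xee57))
(.node 4675 (.leaf 0xee68)
(.leaf 0xee77)))
(.node 4678 (.node 4677 (.leaf 0xee88)
(.leaf 0xee93))
(.node 4679 (.leaf 0xee97)
(.leaf 0xeea6))))
(.node 4684 (.node 4682 (.node 4681 (.leaf 0xeea8)
(.leaf 0xeeb9))
(.node 4683 (.leaf 0xeec2)
(.leaf 0xeec7)))
(.node 4686 (.node 4685 (.leaf 0xeed6)
(.leaf 0xeed8))
(.node 4687 (.leaf 0xeee8)
(.leaf 0xeef9)))))
(.node 4696 (.node 4692 (.node 4690 (.node 4689 (.leaf 0xef22)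
(.leaf 0xef27))
(.node 4691 (.leaf 0xef36)
(.leaf 0xef38)))
(.node 4694 (.node 4693 (.leaf 0xef48)
(.leaf 0xef59))
(.node 4695 (.leaf 0xef69)
(.leaf 0xef8b))))
(.node 4700 (.node 4698 (.node 4697 (.leaf 0xef96)
(.leaf 0xefa5))
(.node 4699 (.leaf 0xefa7)
(.leaf 0xefb6)))
(.node 4702 (.node 4701 (.leaf 0xefc5)
(.leaf 0xefc7))
(.node 4703 (.leaf 0xefd4)
(.leaf 0xefd7))))))
(.node 4720 (.node 4712 (.node 4708 (.node 4706 (.node 4705 (.leaf 0xefe8)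
(.leaf 0xeff7))
(.node 4707 (.leaf 0xf008)
(.leaf 0xf013)))
(.node 4710 (.node 4709 (.leaf 0xf017)
(.leaf 0xf026))
(.node 4711 (.leaf 0xf028)
(.leaf 0xf039))))
(.node 4716 (.node 4714 (.node 4713 (.leaf 0xf042)
(.leaf 0xf047))
(.node 4715 (.leaf 0xf056)
(.leaf 0xf058)))
(.node 4718 (.node 4717 (.leaf 0xf068)
(.leaf 0xf079))
(.node 4719 (.leaf 0xf09b)
(.leaf 0xf0a6)))))
(.node 4728 (.node 4724 (.node 4722 (.node 4721 (.leaf 0xf0b5)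
(.leaf 0xf0c6))
(.node 4723 (.leaf 0xf0d5)
(.leaf 0xf0d7)))
(.node 4726 (.node 4725 (.leaf 0xf0e7)
(.leaf 0xf0f8))
(.node 4727 (.leaf 0xf105)
(.leaf 0xf107))))
(.node 4732 (.node 4730 (.node 4729 (.leaf 0xf114)
(.leaf 0xf117))
(.node 4731 (.leaf 0xf128)
(.leaf 0xf133)))
(.node 4734 (.node 4733 (.leaf 0xf137)
(.leaf 0xf146))
(.node 4735 (.leaf 0xf148)
(.leaf 0xf164))))))))
(.node 4800 (.node 4768 (.node 4752 (.node 4744 (.node 4740 (.node 4738 (.node 4737 (.leaf 0xf167)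
(.leaf 0xf178))
(.node 4739 (.leaf 0xf187)
(.leaf 0xf196)))
(.node 4742 (.node 4741 (.leaf 0xf198)
(.leaf 0xf1b3))
(.node 4743 (.leaf 0xf1b7)
(.leaf 0xf1c6))))
(.node 4748 (.node 4746 (.node 4745 (.leaf 0xf1c8)
(.leaf 0xf1d9))
(.node 4747 (.leaf 0xf1e2)
(.leaf 0xf1e7)))
(.node 4750 (.node 4749 (.leaf 0xf1f6)
(.leaf 0xf1f8))
(.node 4751 (.leaf 0xf208)
(.leaf 0xf219)))))
(.node 4760 (.node 4756 (.node 4754 (.node 4753 (.leaf 0xf232)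
(.leaf 0xf237))
(.node 4755 (.leaf 0xf246)
(.leaf 0xf248)))
(.node 4758 (.node 4757 (.leaf 0xf258)
(.leaf 0xf269))
(.node 4759 (.leaf 0xf281)
(.leaf 0xf287))))
(.node 4764 (.node 4762 (.node 4761 (.leaf 0xf296)
(.leaf 0xf298))
(.node 4763 (.leaf 0xf2a5)
(.leaf 0xf2a8)))
(.node 4766 (.node 4765 (.leaf 0xf2ab)
(.leaf 0xf2b9))
(.node 4767 (.leaf 0xf2c7)
(.leaf 0xf2c9))))))
(.node 4784 (.node 4776 (.node 4772 (.node 4770 (.node 4769 (.leaf 0xf2cb)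
(.leaf 0xf2f2))
(.node 4771 (.leaf 0xf2f7)
(.leaf 0xf306)))
(.node 4774 (.node 4773 (.leaf 0xf308)
(.leaf 0xf318))
(.node 4775 (.leaf 0xf329)
(.leaf 0xf341))))
(.node 4780 (.node 4778 (.node 4777 (.leaf 0xf347)
(.leaf 0xf356))
(.node 4779 (.leaf 0xf358)
(.leaf 0xf365)))
(.node 4782 (.node 4781 (.leaf 0xf368)
(.leaf 0xf36b))
(.node 4783 (.leaf 0xf379)
(.leaf 0xf389)))))
(.node 4792 (.node 4788 (.node 4786 (.node 4785 (.leaf 0xf38b)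
(.leaf 0xf39a))
(.node 4787 (.leaf 0xf3b8)
(.leaf 0xf3bb)))
(.node 4790 (.node 4789 (.leaf 0xf3d7)
(.leaf 0xf3d9))
(.node 4791 (.leaf 0xf3db)
(.leaf 0xf3ec))))
(.node 4796 (.node 4794 (.node 4793 (.leaf 0xf40b)
(.leaf 0xf41b))
(.node 4795 (.leaf 0xf42c)
(.leaf 0xf438)))
(.node 4798 (.node 4797 (.leaf 0xf43b)
(.leaf 0xf466))
(.node 4799 (.leaf 0xf477)
(.leaf 0xf487)))))))
(.node 4832 (.node 4816 (.node 4808 (.node 4804 (.node 4802 (.node 4801 (.leaf 0xf498)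
(.leaf 0xf4a7))
(.node 4803 (.leaf 0xf4b6)
(.leaf 0xf4b8)))
(.node 4806 (.node 4805 (.leaf 0xf4e7)
(.leaf 0xf503))
(.node 4807 (.leaf 0xf507)
(.leaf 0xf516))))
(.node 4812 (.node 4810 (.node 4809 (.leaf 0xf518)
(.leaf 0xf537))
(.node 4811 (.leaf 0xf546)
(.leaf 0xf548)))
(.node 4814 (.node 4813 (.leaf 0xf558)
(.leaf 0xf576))
(.node 4815 (.leaf 0xf578)
(.leaf 0xf589)))))
(.node 4824 (.node 4820 (.node 4818 (.node 4817 (.leaf 0xf596)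
(.leaf 0xf598))
(.node 4819 (.leaf 0xf5a8)
(.leaf 0xf5b9)))
(.node 4822 (.node 4821 (.leaf 0xf5c2)
(.leaf 0xf5c7))
(.node 4823 (.leaf 0xf5d6)
(.leaf 0xf5d8))))
(.node 4828 (.node 4826 (.node 4825 (.leaf 0xf5e8)
(.leaf 0xf5f9))
(.node 4827 (.leaf 0xf611)
(.leaf 0xf617)))
(.node 4830 (.node 4829 (.leaf 0xf626)
(.leaf 0xf628))
(.node 4831 (.leaf 0xf635)
(.leaf 0xf638))))))
(.node 4848 (.node 4840 (.node 4836 (.node 4834 (.node 4833 (.leaf 0xf63b)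
(.leaf 0xf649))
(.node 4835 (.leaf 0xf657)
(.leaf 0xf659)))
(.node 4838 (.node 4837 (.leaf 0xf65b)
(.leaf 0xf687))
(.node 4839 (.leaf 0xf698)
(.leaf 0xf6a5))))
(.node 4844 (.node 4842 (.node 4841 (.leaf 0xf6a8)
(.leaf 0xf6b9))
(.node 4843 (.leaf 0xf6c7)
(.leaf 0xf6e7)))
(.node 4846 (.node 4845 (.leaf 0xf6f6)
(.leaf 0xf6f8))
(.node 4847 (.leaf 0xf705)
(.leaf 0xf708)))))
(.node 4856 (.node 4852 (.node 4850 (.node 4849 (.leaf 0xf719)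
(.leaf 0xf728))
(.node 4851 (.leaf 0xf737)
(.leaf 0xf739)))
(.node 4854 (.node 4853 (.leaf 0xf74a)
(.leaf 0xf759))
(.node 4855 (.leaf 0xf769)
(.leaf 0xf787))))
(.node 4860 (.node 4858 (.node 4857 (.leaf 0xf796)
(.leaf 0xf7a5))
(.node 4859 (.leaf 0xf7ab)
(.leaf 0xf7bb)))
(.node 4862 (.node 4861 (.leaf 0xf7f8)
(.leaf 0xf809))
(.node 4863 (.leaf 0xf843)
(.leaf 0xf847)))))))))

/-- part of a trie -/
def parPart19 : Tr :=
(.node 4992 (.node 4928 (.node 4896 (.node 4880 (.node 4872 (.node 4868 (.node 4866 (.node 4865 (.leaf 0xf856)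
(.leaf 0xf858))
(.node 4867 (.leaf 0xf872)
(.leaf 0xf886)))
(.node 4870 (.node 4869 (.leaf 0xf898)
(.leaf 0xf89b))
(.node 4871 (.leaf 0xf8b1)
(.leaf 0xf8b7))))
(.node 4876 (.node 4874 (.node 4873 (.leaf 0xf8c6)
(.leaf 0xf8c8))
(.node 4875 (.leaf 0xf8d5)
(.leaf 0xf8d8)))
(.node 4878 (.node 4877 (.leaf 0xf901)
(.leaf 0xf907))
(.node 4879 (.leaf 0xf916)
(.leaf 0xf918)))))
(.node 4888 (.node 4884 (.node 4882 (.node 4881 (.leaf 0xf928)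
(.leaf 0xf92b))
(.node 4883 (.leaf 0xf972)
(.leaf 0xf977)))
(.node 4886 (.node 4885 (.leaf 0xf986)
(.leaf 0xf988))
(.node 4887 (.leaf 0xf998)
(.leaf 0xf9b1))))
(.node 4892 (.node 4890 (.node 4889 (.leaf 0xf9b7)
(.leaf 0xf9c6))
(.node 4891 (.leaf 0xf9c8)
(.leaf 0xf9d5)))
(.node 4894 (.node 4893 (.leaf 0xf9d8)
(.leaf 0xf9db))
(.node 4895 (.leaf 0xf9f7)
(.leaf 0xf9f9))))))
(.node 4912 (.node 4904 (.node 4900 (.node 4898 (.node 4897 (.leaf 0xf9fb)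
(.leaf 0xfa27))
(.node 4899 (.leaf 0xfa36)
(.leaf 0xfa38)))
(.node 4902 (.node 4901 (.leaf 0xfa48)
(.leaf 0xfa59))
(.node 4903 (.leaf 0xfa77)
(.leaf 0xfa86))))
(.node 4908 (.node 4906 (.node 4905 (.leaf 0xfa88)
(.leaf 0xfa95))
(.node 4907 (.leaf 0xfa98)
(.leaf 0xfaa9)))
(.node 4910 (.node 4909 (.leaf 0xfab7)
(.leaf 0xfad7))
(.node 4911 (.leaf 0xfae6)
(.leaf 0xfae8)))))
(.node 4920 (.node 4916 (.node 4914 (.node 4913 (.leaf 0xfaf5)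
(.leaf 0xfaf8))
(.node 4915 (.leaf 0xfafb)
(.leaf 0xfb09)))
(.node 4918 (.node 4917 (.leaf 0xfb17)
(.leaf 0xfb19))
(.node 4919 (.leaf 0xfb37)
(.leaf 0xfb46))))
(.node 4924 (.node 4922 (.node 4921 (.leaf 0xfb48)
(.leaf 0xfb55))
(.node 4923 (.leaf 0xfb58)
(.leaf 0xfb5b)))
(.node 4926 (.node 4925 (.leaf 0xfb69)
(.leaf 0xfb78))
(.node 4927 (.leaf 0xfb7b)
(.leaf 0xfb87)))))))
(.node 4960 (.node 4944 (.node 4936 (.node 4932 (.node 4930 (.node 4929 (.leaf 0xfb89)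
(.leaf 0xfb8b))
(.node 4931 (.leaf 0xfb9c)
(.leaf 0xfbaa)))
(.node 4934 (.node 4933 (.leaf 0xfbbb)
(.leaf 0xfbf7))
(.node 4935 (.leaf 0xfc06)
(.leaf 0xfc08))))
(.node 4940 (.node 4938 (.node 4937 (.leaf 0xfc18)
(.leaf 0xfc37))
(.node 4939 (.leaf 0xfc56)
(.leaf 0xfc58)))
(.node 4942 (.node 4941 (.leaf 0xfc68)
(.leaf 0xfc87))
(.node 4943 (.leaf 0xfc8b)
(.leaf 0xfcab)))))
(.node 4952 (.node 4948 (.node 4946 (.node 4945 (.leaf 0xfcf6)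
(.leaf 0xfd05))
(.node 4947 (.leaf 0xfd08)
(.leaf 0xfd27)))
(.node 4950 (.node 4949 (.leaf 0xfd35)
(.leaf 0xfd38))
(.node 4951 (.leaf 0xfd48)
(.leaf 0xfd57))))
(.node 4956 (.node 4954 (.node 4953 (.leaf 0xfd59)
(.leaf 0xfd98))
(.node 4955 (.leaf 0xfdb9)
(.leaf 0xfde9)))
(.node 4958 (.node 4957 (.leaf 0xfdfa)
(.leaf 0xfe15))
(.node 4959 (.leaf 0xfe4a)
(.leaf 0xfe76))))))
(.node 4976 (.node 4968 (.node 4964 (.node 4962 (.node 4961 (.leaf 0xfe85)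
(.leaf 0xfe98))
(.node 4963 (.leaf 0xfeb6)
(.leaf 0xfec8)))
(.node 4966 (.node 4965 (.leaf 0xfedb)
(.leaf 0xfee9))
(.node 4967 (.leaf 0xfefa)
(.leaf 0xff16))))
(.node 4972 (.node 4970 (.node 4969 (.leaf 0xff2b)
(.leaf 0xff3b))
(.node 4971 (.leaf 0xff49)
(.leaf 0xff69)))
(.node 4974 (.node 4973 (.leaf 0xff8a)
(.leaf 0xffd5))
(.node 4975 (.leaf 0xffe4)
(.leaf 0xffe7)))))
(.node 4984 (.node 4980 (.node 4978 (.node 4977 (.leaf 0xfff8)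
(.leaf 0x10003))
(.node 4979 (.leaf 0x10007)
(.leaf 0x10016)))
(.node 4982 (.node 4981 (.leaf 0x10018)
(.leaf 0x10037))
(.node 4983 (.leaf 0x10046)
(.leaf 0x10048))))
(.node 4988 (.node 4986 (.node 4985 (.leaf 0x10058)
(.leaf 0x10069))
(.node 4987 (.leaf 0x10088)
(.leaf 0x100b8)))
(.node 4990 (.node 4989 (.leaf 0x100c3)
(.leaf 0x100c7))
(.node 4991 (.leaf 0x100d6)
(.leaf 0x100d8))))))))
(.node 5056 (.node 5024 (.node 5008 (.node 5000 (.node 4996 (.node 4994 (.node 4993 (.leaf 0x100f9)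
(.leaf 0x10107))
(.node 4995 (.leaf 0x10116)
(.leaf 0x10118)))
(.node 4998 (.node 4997 (.leaf 0x10128)
(.leaf 0x10139))
(.node 4999 (.leaf 0x10157)
(.leaf 0x10166))))
(.node 5004 (.node 5002 (.node 5001 (.leaf 0x10168)
(.leaf 0x10175))
(.node 5003 (.leaf 0x10178)
(.leaf 0x10189)))
(.node 5006 (.node 5005 (.leaf 0x10197)
(.leaf 0x10199))
(.node 5007 (.leaf 0x101b9)
(.leaf 0x101cb)))))
(.node 5016 (.node 5012 (.node 5010 (.node 5009 (.leaf 0x101f5)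
(.leaf 0x101f7))
(.node 5011 (.leaf 0x10204)
(.leaf 0x10207)))
(.node 5014 (.node 5013 (.leaf 0x10218)
(.leaf 0x10224))
(.node 5015 (.leaf 0x10227)
(.leaf 0x10238))))
(.node 5020 (.node 5018 (.node 5017 (.leaf 0x10243)
(.leaf 0x10247))
(.node 5019 (.leaf 0x10256)
(.leaf 0x10258)))
(.node 5022 (.node 5021 (.leaf 0x10273)
(.leaf 0x10277))
(.node 5023 (.leaf 0x10286)
(.leaf 0x10288))))))
(.node 5040 (.node 5032 (.node 5028 (.node 5026 (.node 5025 (.leaf 0x10299)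
(.leaf 0x102a2))
(.node 5027 (.leaf 0x102a7)
(.leaf 0x102b6)))
(.node 5030 (.node 5029 (.leaf 0x102b8)
(.leaf 0x102c8))
(.node 5031 (.leaf 0x102cb)
(.leaf 0x102d9))))
(.node 5036 (.node 5034 (.node 5033 (.leaf 0x102f1)
(.leaf 0x102f7))
(.node 5035 (.leaf 0x10306)
(.leaf 0x10308)))
(.node 5038 (.node 5037 (.leaf 0x10315)
(.leaf 0x10318))
(.node 5039 (.leaf 0x10329)
(.leaf 0x10337)))))
(.node 5048 (.node 5044 (.node 5042 (.node 5041 (.leaf 0x10339)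
(.leaf 0x10355))
(.node 5043 (.leaf 0x10357)
(.leaf 0x10364)))
(.node 5046 (.node 5045 (.leaf 0x10367)
(.leaf 0x10378))
(.node 5047 (.leaf 0x10386)
(.leaf 0x10388))))
(.node 5052 (.node 5050 (.node 5049 (.leaf 0x10399)
(.leaf 0x103a7))
(.node 5051 (.leaf 0x103b8)
(.leaf 0x103c7)))
(.node 5054 (.node 5053 (.leaf 0x103d6)
(.leaf 0x103d8))
(.node 5055 (.leaf 0x103f2)
(.leaf 0x103f7)))))))
(.node 5088 (.node 5072 (.node 5064 (.node 5060 (.node 5058 (.node 5057 (.leaf 0x10406)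
(.leaf 0x10408))
(.node 5059 (.leaf 0x10418)
(.leaf 0x10429)))
(.node 5062 (.node 5061 (.leaf 0x10433)
(.leaf 0x10437))
(.node 5063 (.leaf 0x10446)
(.leaf 0x10448))))
(.node 5068 (.node 5066 (.node 5065 (.leaf 0x10459)
(.leaf 0x10466))
(.node 5067 (.leaf 0x10468)
(.leaf 0x10478)))
(.node 5070 (.node 5069 (.leaf 0x10489)
(.leaf 0x1049a))
(.node 5071 (.leaf 0x104a2)
(.leaf 0x104a7)))))
(.node 5080 (.node 5076 (.node 5074 (.node 5073 (.leaf 0x104b6)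
(.leaf 0x104b8))
(.node 5075 (.leaf 0x104c8)
(.leaf 0x104cb)))
(.node 5078 (.node 5077 (.leaf 0x104d9)
(.leaf 0x104f1))
(.node 5079 (.leaf 0x104f7)
(.leaf 0x10506))))
(.node 5084 (.node 5082 (.node 5081 (.leaf 0x10508)
(.leaf 0x10515))
(.node 5083 (.leaf 0x10518)
(.leaf 0x1051b)))
(.node 5086 (.node 5085 (.leaf 0x10529)
(.leaf 0x10537))
(.node 5087 (.leaf 0x10539)
(.leaf 0x1053b))))))
(.node 5104 (.node 5096 (.node 5092 (.node 5090 (.node 5089 (.leaf 0x1054c)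
(.leaf 0x10567))
(.node 5091 (.leaf 0x10576)
(.leaf 0x10578)))
(.node 5094 (.node 5093 (.leaf 0x10585)
(.leaf 0x10588))
(.node 5095 (.leaf 0x10599)
(.leaf 0x105a7))))
(.node 5100 (.node 5098 (.node 5097 (.leaf 0x105a9)
(.leaf 0x105c7))
(.node 5099 (.leaf 0x105d6)
(.leaf 0x105d8)))
(.node 5102 (.node 5101 (.leaf 0x105e5)
(.leaf 0x105e8))
(.node 5103 (.leaf 0x105eb)
(.leaf 0x105f9)))))
(.node 5112 (.node 5108 (.node 5106 (.node 5105 (.leaf 0x10608)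
(.leaf 0x1060b))
(.node 5107 (.leaf 0x10617)
(.leaf 0x10619)))
(.node 5110 (.node 5109 (.leaf 0x1061b)
(.leaf 0x1062c))
(.node 5111 (.leaf 0x1063a)
(.leaf 0x10649))))
(.node 5116 (.node 5114 (.node 5113 (.leaf 0x1064b)
(.leaf 0x1066c))
(.node 5115 (.leaf 0x10679)
(.leaf 0x10695)))
(.node 5118 (.node 5117 (.leaf 0x10698)
(.leaf 0x1069b))
(.node 5119 (.leaf 0x106a8)
(.leaf 0x106ab)))))))))

/-- part of a trie -/
def parPart20 : Tr :=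
(.node 5248 (.node 5184 (.node 5152 (.node 5136 (.node 5128 (.node 5124 (.node 5122 (.node 5121 (.leaf 0x106b7)
(.leaf 0x106b9))
(.node 5123 (.leaf 0x106bb)
(.leaf 0x106e9)))
(.node 5126 (.node 5125 (.leaf 0x106fb)
(.leaf 0x1070c))
(.node 5127 (.leaf 0x10727)
(.leaf 0x1072b))))
(.node 5132 (.node 5130 (.node 5129 (.leaf 0x1074b)
(.leaf 0x1075c))
(.node 5131 (.leaf 0x10776)
(.leaf 0x1077c)))
(.node 5134 (.node 5133 (.leaf 0x10797)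
(.leaf 0x107b3))
(.node 5135 (.leaf 0x107b7)
(.leaf 0x107c6)))))
(.node 5144 (.node 5140 (.node 5138 (.node 5137 (.leaf 0x107c8)
(.leaf 0x107e7))
(.node 5139 (.leaf 0x107f6)
(.leaf 0x107f8)))
(.node 5142 (.node 5141 (.leaf 0x10808)
(.leaf 0x10819))
(.node 5143 (.leaf 0x1082a)
(.leaf 0x10836))))
(.node 5148 (.node 5146 (.node 5145 (.leaf 0x10842)
(.leaf 0x10847))
(.node 5147 (.leaf 0x10856)
(.leaf 0x10858)))
(.node 5150 (.node 5149 (.leaf 0x10868)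
(.leaf 0x10887))
(.node 5151 (.leaf 0x10896)
(.leaf 0x10898))))))
(.node 5168 (.node 5160 (.node 5156 (.node 5154 (.node 5153 (.leaf 0x108a5)
(.leaf 0x108a8))
(.node 5155 (.leaf 0x108ab)
(.leaf 0x108c7)))
(.node 5158 (.node 5157 (.leaf 0x108cb)
(.leaf 0x108d7))
(.node 5159 (.leaf 0x108e6)
(.leaf 0x108e8))))
(.node 5164 (.node 5162 (.node 5161 (.leaf 0x108f8)
(.leaf 0x10909))
(.node 5163 (.leaf 0x10926)
(.leaf 0x10935)))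
(.node 5166 (.node 5165 (.leaf 0x10938)
(.leaf 0x1093b))
(.node 5167 (.leaf 0x10949)
(.leaf 0x10957)))))
(.node 5176 (.node 5172 (.node 5170 (.node 5169 (.leaf 0x10959)
(.leaf 0x1096a))
(.node 5171 (.leaf 0x10981)
(.leaf 0x10987)))
(.node 5174 (.node 5173 (.leaf 0x10996)
(.leaf 0x10998))
(.node 5175 (.leaf 0x109a5)
(.leaf 0x109a8))))
(.node 5180 (.node 5178 (.node 5177 (.leaf 0x109ab)
(.leaf 0x109b9))
(.node 5179 (.leaf 0x109c7)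
(.leaf 0x109c9)))
(.node 5182 (.node 5181 (.leaf 0x109cb)
(.leaf 0x109e7))
(.node 5183 (.leaf 0x109f6)
(.leaf 0x109f8)))))))
(.node 5216 (.node 5200 (.node 5192 (.node 5188 (.node 5186 (.node 5185 (.leaf 0x10a05)
(.leaf 0x10a08))
(.node 5187 (.leaf 0x10a28)
(.leaf 0x10a37)))
(.node 5190 (.node 5189 (.leaf 0x10a39)
(.leaf 0x10a3b))
(.node 5191 (.leaf 0x10a59)
(.leaf 0x10a5b))))
(.node 5196 (.node 5194 (.node 5193 (.leaf 0x10a7c)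
(.leaf 0x10a85))
(.node 5195 (.leaf 0x10a98)
(.leaf 0x10aa7)))
(.node 5198 (.node 5197 (.leaf 0x10aa9)
(.leaf 0x10aba))
(.node 5199 (.leaf 0x10ac9)
(.leaf 0x10ae5)))))
(.node 5208 (.node 5204 (.node 5202 (.node 5201 (.leaf 0x10af8)
(.leaf 0x10b07))
(.node 5203 (.leaf 0x10b09)
(.leaf 0x10b1a)))
(.node 5206 (.node 5205 (.leaf 0x10b27)
(.leaf 0x10b29))
(.node 5207 (.leaf 0x10b39)
(.leaf 0x10b8b))))
(.node 5212 (.node 5210 (.node 5209 (.leaf 0x10b9c)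
(.leaf 0x10bb2))
(.node 5211 (.leaf 0x10bb7)
(.leaf 0x10bc8)))
(.node 5214 (.node 5213 (.leaf 0x10be7)
(.leaf 0x10bf6))
(.node 5215 (.leaf 0x10bf8)
(.leaf 0x10c05))))))
(.node 5232 (.node 5224 (.node 5220 (.node 5218 (.node 5217 (.leaf 0x10c08)
(.leaf 0x10c31))
(.node 5219 (.leaf 0x10c37)
(.leaf 0x10c48)))
(.node 5222 (.node 5221 (.leaf 0x10c66)
(.leaf 0x10c68))
(.node 5223 (.leaf 0x10c87)
(.leaf 0x10c96))))
(.node 5228 (.node 5226 (.node 5225 (.leaf 0x10c98)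
(.leaf 0x10cc8))
(.node 5227 (.leaf 0x10cd7)
(.leaf 0x10ce7)))
(.node 5230 (.node 5229 (.leaf 0x10cf6)
(.leaf 0x10cf8))
(.node 5231 (.leaf 0x10d08)
(.leaf 0x10d38)))))
(.node 5240 (.node 5236 (.node 5234 (.node 5233 (.leaf 0x10d55)
(.leaf 0x10d58))
(.node 5235 (.leaf 0x10d78)
(.leaf 0x10d87)))
(.node 5238 (.node 5237 (.leaf 0x10d89)
(.leaf 0x10d8b))
(.node 5239 (.leaf 0x10d97)
(.leaf 0x10da6))))
(.node 5244 (.node 5242 (.node 5241 (.leaf 0x10db7)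
(.leaf 0x10dc6))
(.node 5243 (.leaf 0x10dc8)
(.leaf 0x10dd5)))
(.node 5246 (.node 5245 (.leaf 0x10dd8)
(.leaf 0x10df7))
(.node 5247 (.leaf 0x10e07)
(.leaf 0x10e16))))))))
(.node 5312 (.node 5280 (.node 5264 (.node 5256 (.node 5252 (.node 5250 (.node 5249 (.leaf 0x10e18)
(.leaf 0x10e25))
(.node 5251 (.leaf 0x10e28)
(.leaf 0x10e39)))
(.node 5254 (.node 5253 (.leaf 0x10e48)
(.leaf 0x10e57))
(.node 5255 (.leaf 0x10e59)
(.leaf 0x10e79))))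
(.node 5260 (.node 5258 (.node 5257 (.leaf 0x10e86)
(.leaf 0x10e88))
(.node 5259 (.leaf 0x10e95)
(.leaf 0x10e98)))
(.node 5262 (.node 5261 (.leaf 0x10ea9)
(.leaf 0x10eb8))
(.node 5263 (.leaf 0x10ebb)
(.leaf 0x10ec7)))))
(.node 5272 (.node 5268 (.node 5266 (.node 5265 (.leaf 0x10ec9)
(.leaf 0x10eea))
(.node 5267 (.leaf 0x10ef9)
(.leaf 0x10f18)))
(.node 5270 (.node 5269 (.leaf 0x10f25)
(.leaf 0x10f28))
(.node 5271 (.leaf 0x10f39)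
(.leaf 0x10f48))))
(.node 5276 (.node 5274 (.node 5273 (.leaf 0x10f4b)
(.leaf 0x10f57))
(.node 5275 (.leaf 0x10f59)
(.leaf 0x10f5b)))
(.node 5278 (.node 5277 (.leaf 0x10f6c)
(.leaf 0x10f7a))
(.node 5279 (.leaf 0x10f87)
(.leaf 0x10f89))))))
(.node 5296 (.node 5288 (.node 5284 (.node 5282 (.node 5281 (.leaf 0x10f8b)
(.leaf 0x10f9c))
(.node 5283 (.leaf 0x10fa9)
(.leaf 0x11006)))
(.node 5286 (.node 5285 (.leaf 0x11008)
(.leaf 0x11018))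
(.node 5287 (.leaf 0x11029)
(.leaf 0x11037))))
(.node 5292 (.node 5290 (.node 5289 (.leaf 0x11069)
(.leaf 0x110a6))
(.node 5291 (.leaf 0x110a8)
(.leaf 0x110b5)))
(.node 5294 (.node 5293 (.leaf 0x110b8)
(.leaf 0x110bb))
(.node 5295 (.leaf 0x110d8)
(.leaf 0x110db)))))
(.node 5304 (.node 5300 (.node 5298 (.node 5297 (.leaf 0x110e7)
(.leaf 0x11118))
(.node 5299 (.leaf 0x11125)
(.leaf 0x11128)))
(.node 5302 (.node 5301 (.leaf 0x1112b)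
(.leaf 0x11139))
(.node 5303 (.leaf 0x11148)
(.leaf 0x11157))))
(.node 5308 (.node 5306 (.node 5305 (.leaf 0x11159)
(.leaf 0x1115b))
(.node 5307 (.leaf 0x11177)
(.leaf 0x111a8)))
(.node 5310 (.node 5309 (.leaf 0x111ca)
(.leaf 0x111da))
(.node 5311 (.leaf 0x111fa)
(.leaf 0x11229)))))))
(.node 5344 (.node 5328 (.node 5320 (.node 5316 (.node 5314 (.node 5313 (.leaf 0x11276)
(.leaf 0x11297))
(.node 5315 (.leaf 0x112a7)
(.leaf 0x112c5)))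
(.node 5318 (.node 5317 (.leaf 0x112e9)
(.leaf 0x112fa))
(.node 5319 (.leaf 0x1131a)
(.leaf 0x1135a))))
(.node 5324 (.node 5322 (.node 5321 (.leaf 0x1138a)
(.leaf 0x113a6))
(.node 5323 (.leaf 0x113b8)
(.leaf 0x113bb)))
(.node 5326 (.node 5325 (.leaf 0x113f7)
(.leaf 0x113fc))
(.node 5327 (.leaf 0x1140c)
(.leaf 0x1141b)))))
(.node 5336 (.node 5332 (.node 5330 (.node 5329 (.leaf 0x11426)
(.leaf 0x11446))
(.node 5331 (.leaf 0x11455)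
(.leaf 0x11457)))
(.node 5334 (.node 5333 (.leaf 0x11467)
(.leaf 0x11478))
(.node 5335 (.leaf 0x11497)
(.leaf 0x114a8))))
(.node 5340 (.node 5338 (.node 5337 (.leaf 0x114b3)
(.leaf 0x114b7))
(.node 5339 (.leaf 0x114c6)
(.leaf 0x114c8)))
(.node 5342 (.node 5341 (.leaf 0x114e7)
(.leaf 0x114f6))
(.node 5343 (.leaf 0x114f8)
(.leaf 0x11509))))))
(.node 5360 (.node 5352 (.node 5348 (.node 5346 (.node 5345 (.leaf 0x11512)
(.leaf 0x11517))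
(.node 5347 (.leaf 0x11528)
(.leaf 0x11538)))
(.node 5350 (.node 5349 (.leaf 0x11549)
(.leaf 0x11568))
(.node 5351 (.leaf 0x11589)
(.leaf 0x115b8))))
(.node 5356 (.node 5354 (.node 5353 (.leaf 0x115c8)
(.leaf 0x115e7))
(.node 5355 (.leaf 0x115fa)
(.leaf 0x11607)))
(.node 5358 (.node 5357 (.leaf 0x11616)
(.leaf 0x11618))
(.node 5359 (.leaf 0x11631)
(.leaf 0x11637)))))
(.node 5368 (.node 5364 (.node 5362 (.node 5361 (.leaf 0x11646)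
(.leaf 0x116d9))
(.node 5363 (.leaf 0x116ea)
(.leaf 0x116f6)))
(.node 5366 (.node 5365 (.leaf 0x116f8)
(.leaf 0x1171a))
(.node 5367 (.leaf 0x11729)
(.leaf 0x1173a))))
(.node 5372 (.node 5370 (.node 5369 (.leaf 0x117a9)
(.leaf 0x117ba))
(.node 5371 (.leaf 0x117ca)
(.leaf 0x117fb)))
(.node 5374 (.node 5373 (.leaf 0x11806)
(.leaf 0x11816))
(.node 5375 (.leaf 0x11825)
(.leaf 0x11827)))))))))

/-- part of a trie -/
def parPart21 : Tr :=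
(.node 5504 (.node 5440 (.node 5408 (.node 5392 (.node 5384 (.node 5380 (.node 5378 (.node 5377 (.leaf 0x11838)
(.leaf 0x11844))
(.node 5379 (.leaf 0x11847)
(.leaf 0x11858)))
(.node 5382 (.node 5381 (.leaf 0x11863)
(.leaf 0x11867))
(.node 5383 (.leaf 0x11876)
(.leaf 0x11878))))
(.node 5388 (.node 5386 (.node 5385 (.leaf 0x11889)
(.leaf 0x11892))
(.node 5387 (.leaf 0x11897)
(.leaf 0x118a6)))
(.node 5390 (.node 5389 (.leaf 0x118a8)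
(.leaf 0x118b8))
(.node 5391 (.leaf 0x118c9)
(.leaf 0x118da)))))
(.node 5400 (.node 5396 (.node 5394 (.node 5393 (.leaf 0x118ec)
(.leaf 0x118fb))
(.node 5395 (.leaf 0x11906)
(.leaf 0x11926)))
(.node 5398 (.node 5397 (.leaf 0x11935)
(.leaf 0x11937))
(.node 5399 (.leaf 0x11944)
(.leaf 0x11947))))
(.node 5404 (.node 5402 (.node 5401 (.leaf 0x11958)
(.leaf 0x11965))
(.node 5403 (.leaf 0x11967)
(.leaf 0x11977)))
(.node 5406 (.node 5405 (.leaf 0x11988)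
(.leaf 0x11993))
(.node 5407 (.leaf 0x11997)
(.leaf 0x119a6))))))
(.node 5424 (.node 5416 (.node 5412 (.node 5410 (.node 5409 (.leaf 0x119a8)
(.leaf 0x119c4))
(.node 5411 (.leaf 0x119c7)
(.leaf 0x119d8)))
(.node 5414 (.node 5413 (.leaf 0x119e3)
(.leaf 0x119e7))
(.node 5415 (.leaf 0x119f6)
(.leaf 0x119f8))))
(.node 5420 (.node 5418 (.node 5417 (.leaf 0x11a13)
(.leaf 0x11a17))
(.node 5419 (.leaf 0x11a26)
(.leaf 0x11a28)))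
(.node 5422 (.node 5421 (.leaf 0x11a42)
(.leaf 0x11a47))
(.node 5423 (.leaf 0x11a56)
(.leaf 0x11a58)))))
(.node 5432 (.node 5428 (.node 5426 (.node 5425 (.leaf 0x11a68)
(.leaf 0x11a87))
(.node 5427 (.leaf 0x11a96)
(.leaf 0x11a98)))
(.node 5430 (.node 5429 (.leaf 0x11aa8)
(.leaf 0x11ac7))
(.node 5431 (.leaf 0x11ad6)
(.leaf 0x11ad8))))
(.node 5436 (.node 5434 (.node 5433 (.leaf 0x11ae8)
(.leaf 0x11b07))
(.node 5435 (.leaf 0x11b0b)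
(.leaf 0x11b12)))
(.node 5438 (.node 5437 (.leaf 0x11b17)
(.leaf 0x11b26))
(.node 5439 (.leaf 0x11b28)
(.leaf 0x11b38)))))))
(.node 5472 (.node 5456 (.node 5448 (.node 5444 (.node 5442 (.node 5441 (.leaf 0x11b49)
(.leaf 0x11b67))
(.node 5443 (.leaf 0x11b76)
(.leaf 0x11b78)))
(.node 5446 (.node 5445 (.leaf 0x11b85)
(.leaf 0x11b88))
(.node 5447 (.leaf 0x11b8b)
(.leaf 0x11b99))))
(.node 5452 (.node 5450 (.node 5449 (.leaf 0x11ba9)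
(.leaf 0x11bab))
(.node 5451 (.leaf 0x11bba)
(.leaf 0x11bc8)))
(.node 5454 (.node 5453 (.leaf 0x11bcb)
(.leaf 0x11bfb))
(.node 5455 (.leaf 0x11c0b)
(.leaf 0x11c28)))))
(.node 5464 (.node 5460 (.node 5458 (.node 5457 (.leaf 0x11c2b)
(.leaf 0x11c36))
(.node 5459 (.leaf 0x11c3c)
(.leaf 0x11c7b)))
(.node 5462 (.node 5461 (.leaf 0x11c86)
(.leaf 0x11c95))
(.node 5463 (.leaf 0x11c97)
(.leaf 0x11ca4))))
(.node 5468 (.node 5466 (.node 5465 (.leaf 0x11ca7)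
(.leaf 0x11cb8))
(.node 5467 (.leaf 0x11cc7)
(.leaf 0x11cd4)))
(.node 5470 (.node 5469 (.leaf 0x11cd7)
(.leaf 0x11ce8))
(.node 5471 (.leaf 0x11cf3)
(.leaf 0x11cf7))))))
(.node 5488 (.node 5480 (.node 5476 (.node 5474 (.node 5473 (.leaf 0x11d06)
(.leaf 0x11d08))
(.node 5475 (.leaf 0x11d28)
(.leaf 0x11d37)))
(.node 5478 (.node 5477 (.leaf 0x11d46)
(.leaf 0x11d48))
(.node 5479 (.leaf 0x11d66)
(.leaf 0x11d68))))
(.node 5484 (.node 5482 (.node 5481 (.leaf 0x11d78)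
(.leaf 0x11d93))
(.node 5483 (.leaf 0x11d97)
(.leaf 0x11da6)))
(.node 5486 (.node 5485 (.leaf 0x11da8)
(.leaf 0x11db9))
(.node 5487 (.leaf 0x11dc7)
(.leaf 0x11dd6)))))
(.node 5496 (.node 5492 (.node 5490 (.node 5489 (.leaf 0x11dd8)
(.leaf 0x11de8))
(.node 5491 (.leaf 0x11df9)
(.leaf 0x11e17)))
(.node 5494 (.node 5493 (.leaf 0x11e26)
(.leaf 0x11e28))
(.node 5495 (.leaf 0x11e38)
(.leaf 0x11e49))))
(.node 5500 (.node 5498 (.node 5497 (.leaf 0x11e65)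
(.leaf 0x11e68))
(.node 5499 (.leaf 0x11e79)
(.leaf 0x11e89)))
(.node 5502 (.node 5501 (.leaf 0x11e8b)
(.leaf 0x11ea8))
(.node 5503 (.leaf 0x11eb9)
(.leaf 0x11ed8))))))))
(.node 5568 (.node 5536 (.node 5520 (.node 5512 (.node 5508 (.node 5506 (.node 5505 (.leaf 0x11edb)
(.leaf 0x11efb))
(.node 5507 (.leaf 0x11f07)
(.leaf 0x11f16)))
(.node 5510 (.node 5509 (.leaf 0x11f38)
(.leaf 0x11f3b))
(.node 5511 (.leaf 0x11f68)
(.leaf 0x11f79))))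
(.node 5516 (.node 5514 (.node 5513 (.leaf 0x11f98)
(.leaf 0x11fab))
(.node 5515 (.leaf 0x11fd9)
(.leaf 0x11fe2)))
(.node 5518 (.node 5517 (.leaf 0x11fe7)
(.leaf 0x11ff6))
(.node 5519 (.leaf 0x11ff8)
(.leaf 0x12008)))))
(.node 5528 (.node 5524 (.node 5522 (.node 5521 (.leaf 0x12019)
(.leaf 0x12037))
(.node 5523 (.leaf 0x12046)
(.leaf 0x12048)))
(.node 5526 (.node 5525 (.leaf 0x12055)
(.leaf 0x12058))
(.node 5527 (.leaf 0x1205b)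
(.leaf 0x12069))))
(.node 5532 (.node 5530 (.node 5529 (.leaf 0x12077)
(.leaf 0x12079))
(.node 5531 (.leaf 0x1207b)
(.leaf 0x120a7)))
(.node 5534 (.node 5533 (.leaf 0x120b6)
(.leaf 0x120b8))
(.node 5535 (.leaf 0x120c5)
(.leaf 0x120e7))))))
(.node 5552 (.node 5544 (.node 5540 (.node 5538 (.node 5537 (.leaf 0x120f5)
(.leaf 0x12106))
(.node 5539 (.leaf 0x12108)
(.leaf 0x12115)))
(.node 5542 (.node 5541 (.leaf 0x12118)
(.leaf 0x1211b))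
(.node 5543 (.leaf 0x12138)
(.leaf 0x1213b))))
(.node 5548 (.node 5546 (.node 5545 (.leaf 0x1214b)
(.leaf 0x1215c))
(.node 5547 (.leaf 0x1217b)
(.leaf 0x121a6)))
(.node 5550 (.node 5549 (.leaf 0x121a8)
(.leaf 0x121b8))
(.node 5551 (.leaf 0x121d7)
(.leaf 0x121db)))))
(.node 5560 (.node 5556 (.node 5554 (.node 5553 (.leaf 0x12236)
(.leaf 0x12238))
(.node 5555 (.leaf 0x12245)
(.leaf 0x12248)))
(.node 5558 (.node 5557 (.leaf 0x12267)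
(.leaf 0x12278))
(.node 5559 (.leaf 0x12289)
(.leaf 0x12316))))
(.node 5564 (.node 5562 (.node 5561 (.leaf 0x12325)
(.leaf 0x12328))
(.node 5563 (.leaf 0x1232b)
(.leaf 0x1238b)))
(.node 5566 (.node 5565 (.leaf 0x123ba)
(.leaf 0x123e7))
(.node 5567 (.leaf 0x123f8)
(.leaf 0x12403)))))))
(.node 5600 (.node 5584 (.node 5576 (.node 5572 (.node 5570 (.node 5569 (.leaf 0x12407)
(.leaf 0x12416))
(.node 5571 (.leaf 0x12418)
(.leaf 0x12436)))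
(.node 5574 (.node 5573 (.leaf 0x12438)
(.leaf 0x12452))
(.node 5575 (.leaf 0x12457)
(.leaf 0x12466))))
(.node 5580 (.node 5578 (.node 5577 (.leaf 0x12468)
(.leaf 0x12478))
(.node 5579 (.leaf 0x12489)
(.leaf 0x124a1)))
(.node 5582 (.node 5581 (.leaf 0x124a7)
(.leaf 0x124b6))
(.node 5583 (.leaf 0x124b8)
(.leaf 0x124c5)))))
(.node 5592 (.node 5588 (.node 5586 (.node 5585 (.leaf 0x124c8)
(.leaf 0x124d9))
(.node 5587 (.leaf 0x124e7)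
(.leaf 0x124e9)))
(.node 5590 (.node 5589 (.leaf 0x12501)
(.leaf 0x12507))
(.node 5591 (.leaf 0x12516)
(.leaf 0x12518))))
(.node 5596 (.node 5594 (.node 5593 (.leaf 0x12528)
(.leaf 0x1252b))
(.node 5595 (.leaf 0x12539)
(.leaf 0x1254b)))
(.node 5598 (.node 5597 (.leaf 0x12576)
(.leaf 0x12585))
(.node 5599 (.leaf 0x12587)
(.leaf 0x12594))))))
(.node 5616 (.node 5608 (.node 5604 (.node 5602 (.node 5601 (.leaf 0x12597)
(.leaf 0x125a8))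
(.node 5603 (.leaf 0x125b5)
(.leaf 0x125b7)))
(.node 5606 (.node 5605 (.leaf 0x125c4)
(.leaf 0x125c7))
(.node 5607 (.leaf 0x125d8)
(.leaf 0x125e7))))
(.node 5612 (.node 5610 (.node 5609 (.leaf 0x125f6)
(.leaf 0x125f8))
(.node 5611 (.leaf 0x12616)
(.leaf 0x12618)))
(.node 5614 (.node 5613 (.leaf 0x12629)
(.leaf 0x12632))
(.node 5615 (.leaf 0x12637)
(.leaf 0x12646)))))
(.node 5624 (.node 5620 (.node 5618 (.node 5617 (.leaf 0x12648)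
(.leaf 0x12658))
(.node 5619 (.leaf 0x1265b)
(.leaf 0x12669)))
(.node 5622 (.node 5621 (.leaf 0x12681)
(.leaf 0x12687))
(.node 5623 (.leaf 0x12696)
(.leaf 0x12698))))
(.node 5628 (.node 5626 (.node 5625 (.leaf 0x126a8)
(.leaf 0x126b9))
(.node 5627 (.leaf 0x126c7)
(.leaf 0x126c9)))
(.node 5630 (.node 5629 (.leaf 0x126cb)
(.leaf 0x126e6))
(.node 5631 (.leaf 0x126f5)
(.leaf 0x126f7)))))))))

/-- part of a trie -/
def parPart22 : Tr :=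
(.node 5760 (.node 5696 (.node 5664 (.node 5648 (.node 5640 (.node 5636 (.node 5634 (.node 5633 (.leaf 0x12724)
(.leaf 0x12727))
(.node 5635 (.leaf 0x12738)
(.leaf 0x12746)))
(.node 5638 (.node 5637 (.leaf 0x12748)
(.leaf 0x12767))
(.node 5639 (.leaf 0x12778)
(.leaf 0x12783))))
(.node 5644 (.node 5642 (.node 5641 (.leaf 0x12787)
(.leaf 0x12796))
(.node 5643 (.leaf 0x12798)
(.leaf 0x127b7)))
(.node 5646 (.node 5645 (.leaf 0x127c6)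
(.leaf 0x127c8))
(.node 5647 (.leaf 0x127d8)
(.leaf 0x127db)))))
(.node 5656 (.node 5652 (.node 5650 (.node 5649 (.leaf 0x127e9)
(.leaf 0x127f7))
(.node 5651 (.leaf 0x12806)
(.leaf 0x12808)))
(.node 5654 (.node 5653 (.leaf 0x12826)
(.leaf 0x12828))
(.node 5655 (.leaf 0x12838)
(.leaf 0x12849))))
(.node 5660 (.node 5658 (.node 5657 (.leaf 0x12852)
(.leaf 0x12857))
(.node 5659 (.leaf 0x12866)
(.leaf 0x12868)))
(.node 5662 (.node 5661 (.leaf 0x12878)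
(.leaf 0x1287b))
(.node 5663 (.leaf 0x12889)
(.leaf 0x128a1))))))
(.node 5680 (.node 5672 (.node 5668 (.node 5666 (.node 5665 (.leaf 0x128a7)
(.leaf 0x128b6))
(.node 5667 (.leaf 0x128b8)
(.leaf 0x128c5)))
(.node 5670 (.node 5669 (.leaf 0x128c8)
(.leaf 0x128cb))
(.node 5671 (.leaf 0x128d9)
(.leaf 0x128e7))))
(.node 5676 (.node 5674 (.node 5673 (.leaf 0x128e9)
(.leaf 0x128eb))
(.node 5675 (.leaf 0x12907)
(.leaf 0x12916)))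
(.node 5678 (.node 5677 (.leaf 0x12918)
(.leaf 0x12925))
(.node 5679 (.leaf 0x12928)
(.leaf 0x12939)))))
(.node 5688 (.node 5684 (.node 5682 (.node 5681 (.leaf 0x12947)
(.leaf 0x12949))
(.node 5683 (.leaf 0x12967)
(.leaf 0x12976)))
(.node 5686 (.node 5685 (.leaf 0x12978)
(.leaf 0x12985))
(.node 5687 (.leaf 0x12988)
(.leaf 0x1298b))))
(.node 5692 (.node 5690 (.node 5689 (.leaf 0x12999)
(.leaf 0x129a8))
(.node 5691 (.leaf 0x129ab)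
(.leaf 0x129b7)))
(.node 5694 (.node 5693 (.leaf 0x129b9)
(.leaf 0x129bb))
(.node 5695 (.leaf 0x129cc)
(.leaf 0x129da)))))))
(.node 5728 (.node 5712 (.node 5704 (.node 5700 (.node 5698 (.node 5697 (.leaf 0x129e9)
(.leaf 0x129eb))
(.node 5699 (.leaf 0x12a0c)
(.leaf 0x12a17)))
(.node 5702 (.node 5701 (.leaf 0x12a26)
(.leaf 0x12a28))
(.node 5703 (.leaf 0x12a35)
(.leaf 0x12a38))))
(.node 5708 (.node 5706 (.node 5705 (.leaf 0x12a3b)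
(.leaf 0x12a49))
(.node 5707 (.leaf 0x12a59)
(.leaf 0x12a86)))
(.node 5710 (.node 5709 (.leaf 0x12a88)
(.leaf 0x12a95))
(.node 5711 (.leaf 0x12a98)
(.leaf 0x12a9b)))))
(.node 5720 (.node 5716 (.node 5714 (.node 5713 (.leaf 0x12aa9)
(.leaf 0x12ab8))
(.node 5715 (.leaf 0x12abb)
(.leaf 0x12ac7)))
(.node 5718 (.node 5717 (.leaf 0x12ac9)
(.leaf 0x12acb))
(.node 5719 (.leaf 0x12aea)
(.leaf 0x12afb))))
(.node 5724 (.node 5722 (.node 5721 (.leaf 0x12b0c)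
(.leaf 0x12b27))
(.node 5723 (.leaf 0x12b29)
(.leaf 0x12b2b)))
(.node 5726 (.node 5725 (.leaf 0x12b4b)
(.leaf 0x12b5b))
(.node 5727 (.leaf 0x12b6c)
(.leaf 0x12b86))))))
(.node 5744 (.node 5736 (.node 5732 (.node 5730 (.node 5729 (.leaf 0x12b8c)
(.leaf 0x12bbb))
(.node 5731 (.leaf 0x12bd7)
(.leaf 0x12bf6)))
(.node 5734 (.node 5733 (.leaf 0x12bf8)
(.leaf 0x12c16))
(.node 5735 (.leaf 0x12c18)
(.leaf 0x12c28))))
(.node 5740 (.node 5738 (.node 5737 (.leaf 0x12c57)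
(.leaf 0x12c66))
(.node 5739 (.leaf 0x12c68)
(.leaf 0x12c78)))
(.node 5742 (.node 5741 (.leaf 0x12c96)
(.leaf 0x12c98))
(.node 5743 (.leaf 0x12ca5)
(.leaf 0x12ca8)))))
(.node 5752 (.node 5748 (.node 5746 (.node 5745 (.leaf 0x12cab)
(.leaf 0x12cc7))
(.node 5747 (.leaf 0x12ccb)
(.leaf 0x12cd8)))
(.node 5750 (.node 5749 (.leaf 0x12ce9)
(.leaf 0x12d05))
(.node 5751 (.leaf 0x12d08)
(.leaf 0x12d19))))
(.node 5756 (.node 5754 (.node 5753 (.leaf 0x12d27)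
(.leaf 0x12d29))
(.node 5755 (.leaf 0x12d2b)
(.leaf 0x12d3a)))
(.node 5758 (.node 5757 (.leaf 0x12d47)
(.leaf 0x12d56))
(.node 5759 (.leaf 0x12d58)
(.leaf 0x12d65))))))))
(.node 5824 (.node 5792 (.node 5776 (.node 5768 (.node 5764 (.node 5762 (.node 5761 (.leaf 0x12d68)
(.leaf 0x12d6b))
(.node 5763 (.leaf 0x12d79)
(.leaf 0x12d87)))
(.node 5766 (.node 5765 (.leaf 0x12d89)
(.leaf 0x12da7))
(.node 5767 (.leaf 0x12db6)
(.leaf 0x12db8))))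
(.node 5772 (.node 5770 (.node 5769 (.leaf 0x12dc5)
(.leaf 0x12dc8))
(.node 5771 (.leaf 0x12dcb)
(.leaf 0x12dd9)))
(.node 5774 (.node 5773 (.leaf 0x12de8)
(.leaf 0x12deb))
(.node 5775 (.leaf 0x12df7)
(.leaf 0x12df9)))))
(.node 5784 (.node 5780 (.node 5778 (.node 5777 (.leaf 0x12dfb)
(.leaf 0x12e29))
(.node 5779 (.leaf 0x12e2b)
(.leaf 0x12e58)))
(.node 5782 (.node 5781 (.leaf 0x12e69)
(.leaf 0x12e78))
(.node 5783 (.leaf 0x12e87)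
(.leaf 0x12e89))))
(.node 5788 (.node 5786 (.node 5785 (.leaf 0x12e9a)
(.leaf 0x12ea9))
(.node 5787 (.leaf 0x12eb8)
(.leaf 0x12ec5)))
(.node 5790 (.node 5789 (.leaf 0x12ec8)
(.leaf 0x12ed9))
(.node 5791 (.leaf 0x12ef9)
(.leaf 0x12f0a))))))
(.node 5808 (.node 5800 (.node 5796 (.node 5794 (.node 5793 (.leaf 0x12f17)
(.leaf 0x12f19))
(.node 5795 (.leaf 0x12f29)
(.leaf 0x12f9b)))
(.node 5798 (.node 5797 (.leaf 0x12fb6)
(.leaf 0x12fc9))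
(.node 5799 (.leaf 0x12fe7)
(.leaf 0x12ff6))))
(.node 5804 (.node 5802 (.node 5801 (.leaf 0x12ff8)
(.leaf 0x13008))
(.node 5803 (.leaf 0x1303b)
(.leaf 0x13067)))
(.node 5806 (.node 5805 (.leaf 0x13076)
(.leaf 0x13078))
(.node 5807 (.leaf 0x13088)
(.leaf 0x130a8)))))
(.node 5816 (.node 5812 (.node 5810 (.node 5809 (.leaf 0x130b7)
(.leaf 0x130c7))
(.node 5811 (.leaf 0x130d6)
(.leaf 0x130d8)))
(.node 5814 (.node 5813 (.leaf 0x130e8)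
(.leaf 0x130eb))
(.node 5815 (.leaf 0x13127)
(.leaf 0x13136))))
(.node 5820 (.node 5818 (.node 5817 (.leaf 0x13138)
(.leaf 0x13145))
(.node 5819 (.leaf 0x13148)
(.leaf 0x1314b)))
(.node 5822 (.node 5821 (.leaf 0x13167)
(.leaf 0x13177))
(.node 5823 (.leaf 0x13186)
(.leaf 0x13188)))))))
(.node 5856 (.node 5840 (.node 5832 (.node 5828 (.node 5826 (.node 5825 (.leaf 0x13195)
(.leaf 0x13198))
(.node 5827 (.leaf 0x1319b)
(.leaf 0x131b8)))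
(.node 5830 (.node 5829 (.leaf 0x131bb)
(.leaf 0x131c7))
(.node 5831 (.leaf 0x131c9)
(.leaf 0x131cb))))
(.node 5836 (.node 5834 (.node 5833 (.leaf 0x131dc)
(.leaf 0x131eb))
(.node 5835 (.leaf 0x13216)
(.leaf 0x13218)))
(.node 5838 (.node 5837 (.leaf 0x13225)
(.leaf 0x13228))
(.node 5839 (.leaf 0x13239)
(.leaf 0x13247)))))
(.node 5848 (.node 5844 (.node 5842 (.node 5841 (.leaf 0x13266)
(.leaf 0x13268))
(.node 5843 (.leaf 0x13275)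
(.leaf 0x13278)))
(.node 5846 (.node 5845 (.leaf 0x13289)
(.leaf 0x13298))
(.node 5847 (.leaf 0x132a7)
(.leaf 0x132a9))))
(.node 5852 (.node 5850 (.node 5849 (.leaf 0x132ba)
(.leaf 0x132c9))
(.node 5851 (.leaf 0x132d6)
(.leaf 0x132e5)))
(.node 5854 (.node 5853 (.leaf 0x132e8)
(.leaf 0x132eb))
(.node 5855 (.leaf 0x132f9)
(.leaf 0x13308))))))
(.node 5872 (.node 5864 (.node 5860 (.node 5858 (.node 5857 (.leaf 0x13317)
(.leaf 0x13319))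
(.node 5859 (.leaf 0x1331b)
(.leaf 0x1333a)))
(.node 5862 (.node 5861 (.leaf 0x13366)
(.leaf 0x13368))
(.node 5863 (.leaf 0x13375)
(.leaf 0x13378))))
(.node 5868 (.node 5866 (.node 5865 (.leaf 0x1337b)
(.leaf 0x13389))
(.node 5867 (.leaf 0x13394)
(.leaf 0x13398)))
(.node 5870 (.node 5869 (.leaf 0x1339b)
(.leaf 0x133a7))
(.node 5871 (.leaf 0x133a9)
(.leaf 0x133ab)))))
(.node 5880 (.node 5876 (.node 5874 (.node 5873 (.leaf 0x133bc)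
(.leaf 0x133ca))
(.node 5875 (.leaf 0x133d7)
(.leaf 0x133db)))
(.node 5878 (.node 5877 (.leaf 0x133ec)
(.leaf 0x133fb))
(.node 5879 (.leaf 0x13456)
(.leaf 0x13458))))
(.node 5884 (.node 5882 (.node 5881 (.leaf 0x13468)
(.leaf 0x13487))
(.node 5883 (.leaf 0x134a8)
(.leaf 0x134c7)))
(.node 5886 (.node 5885 (.leaf 0x134db)
(.leaf 0x134f6))
(.node 5887 (.leaf 0x13505)
(.leaf 0x13518)))))))))

/-- part of a trie -/
def parPart23 : Tr :=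
(.node 6016 (.node 5952 (.node 5920 (.node 5904 (.node 5896 (.node 5892 (.node 5890 (.node 5889 (.leaf 0x13527)
(.leaf 0x13548))
(.node 5891 (.leaf 0x13557)
(.leaf 0x13559)))
(.node 5894 (.node 5893 (.leaf 0x13567)
(.leaf 0x13569))
(.node 5895 (.leaf 0x135ba)
(.leaf 0x135f5))))
(.node 5900 (.node 5898 (.node 5897 (.leaf 0x1365a)
(.leaf 0x1367b))
(.node 5899 (.leaf 0x136aa)
(.leaf 0x136ba)))
(.node 5902 (.node 5901 (.leaf 0x136e7)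
(.leaf 0x136f6))
(.node 5903 (.leaf 0x136f8)
(.leaf 0x13717)))))
(.node 5912 (.node 5908 (.node 5906 (.node 5905 (.leaf 0x13726)
(.leaf 0x13728))
(.node 5907 (.leaf 0x13738)
(.leaf 0x13756)))
(.node 5910 (.node 5909 (.leaf 0x13768)
(.leaf 0x13787))
(.node 5911 (.leaf 0x137b9)
(.leaf 0x137c7))))
(.node 5916 (.node 5914 (.node 5913 (.leaf 0x137d6)
(.leaf 0x137d8))
(.node 5915 (.leaf 0x137e8)
(.leaf 0x137eb)))
(.node 5918 (.node 5917 (.leaf 0x137f9)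
(.leaf 0x13816))
(.node 5919 (.leaf 0x13818)
(.leaf 0x13825))))))
(.node 5936 (.node 5928 (.node 5924 (.node 5922 (.node 5921 (.leaf 0x13828)
(.leaf 0x1382b))
(.node 5923 (.leaf 0x13839)
(.leaf 0x13847)))
(.node 5926 (.node 5925 (.leaf 0x13849)
(.leaf 0x1384b))
(.node 5927 (.leaf 0x13866)
(.leaf 0x13868))))
(.node 5932 (.node 5930 (.node 5929 (.leaf 0x13875)
(.leaf 0x13878))
(.node 5931 (.leaf 0x13898)
(.leaf 0x138a7)))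
(.node 5934 (.node 5933 (.leaf 0x138a9)
(.leaf 0x138c9))
(.node 5935 (.leaf 0x138fc)
(.leaf 0x13904)))))
(.node 5944 (.node 5940 (.node 5938 (.node 5937 (.leaf 0x13907)
(.leaf 0x13918))
(.node 5939 (.leaf 0x13927)
(.leaf 0x13936)))
(.node 5942 (.node 5941 (.leaf 0x13938)
(.leaf 0x13953))
(.node 5943 (.leaf 0x13957)
(.leaf 0x13966))))
(.node 5948 (.node 5946 (.node 5945 (.leaf 0x13968)
(.leaf 0x13987))
(.node 5947 (.leaf 0x13996)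
(.leaf 0x13998)))
(.node 5950 (.node 5949 (.leaf 0x139a8)
(.leaf 0x139c7))
(.node 5951 (.leaf 0x139d6)
(.leaf 0x139d8)))))))
(.node 5984 (.node 5968 (.node 5960 (.node 5956 (.node 5954 (.node 5953 (.leaf 0x139e8)
(.leaf 0x139f9))
(.node 5955 (.leaf 0x13a11)
(.leaf 0x13a17)))
(.node 5958 (.node 5957 (.leaf 0x13a26)
(.leaf 0x13a28))
(.node 5959 (.leaf 0x13a35)
(.leaf 0x13a38))))
(.node 5964 (.node 5962 (.node 5961 (.leaf 0x13a3b)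
(.leaf 0x13a49))
(.node 5963 (.leaf 0x13a57)
(.leaf 0x13a59)))
(.node 5966 (.node 5965 (.leaf 0x13a5b)
(.leaf 0x13a6c))
(.node 5967 (.leaf 0x13a87)
(.leaf 0x13a96)))))
(.node 5976 (.node 5972 (.node 5970 (.node 5969 (.leaf 0x13a98)
(.leaf 0x13aa5))
(.node 5971 (.leaf 0x13aa8)
(.leaf 0x13ab9)))
(.node 5974 (.node 5973 (.leaf 0x13ac8)
(.leaf 0x13ad7))
(.node 5975 (.leaf 0x13aea)
(.leaf 0x13af9))))
(.node 5980 (.node 5978 (.node 5977 (.leaf 0x13b17)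
(.leaf 0x13b28))
(.node 5979 (.leaf 0x13b37)
(.leaf 0x13b46)))
(.node 5982 (.node 5981 (.leaf 0x13b48)
(.leaf 0x13b59))
(.node 5983 (.leaf 0x13b68)
(.leaf 0x13b8a))))))
(.node 6000 (.node 5992 (.node 5988 (.node 5986 (.node 5985 (.leaf 0x13b96)
(.leaf 0x13b98))
(.node 5987 (.leaf 0x13bb6)
(.leaf 0x13bc8)))
(.node 5990 (.node 5989 (.leaf 0x13bcb)
(.leaf 0x13be7))
(.node 5991 (.leaf 0x13bf6)
(.leaf 0x13bf8))))
(.node 5996 (.node 5994 (.node 5993 (.leaf 0x13c05)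
(.leaf 0x13c08))
(.node 5995 (.leaf 0x13c0b)
(.leaf 0x13c27)))
(.node 5998 (.node 5997 (.leaf 0x13c29)
(.leaf 0x13c2b))
(.node 5999 (.leaf 0x13c47)
(.leaf 0x13c56)))))
(.node 6008 (.node 6004 (.node 6002 (.node 6001 (.leaf 0x13c58)
(.leaf 0x13c68))
(.node 6003 (.leaf 0x13c79)
(.leaf 0x13c95)))
(.node 6006 (.node 6005 (.leaf 0x13c98)
(.leaf 0x13ca9))
(.node 6007 (.leaf 0x13cb7)
(.leaf 0x13ce1))))
(.node 6012 (.node 6010 (.node 6009 (.leaf 0x13ce7)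
(.leaf 0x13cf6))
(.node 6011 (.leaf 0x13cf8)
(.leaf 0x13d05)))
(.node 6014 (.node 6013 (.leaf 0x13d08)
(.leaf 0x13d19))
(.node 6015 (.leaf 0x13d27)
(.leaf 0x13d57))))))))
(.node 6080 (.node 6048 (.node 6032 (.node 6024 (.node 6020 (.node 6018 (.node 6017 (.leaf 0x13d66)
(.leaf 0x13d68))
(.node 6019 (.leaf 0x13d75)
(.leaf 0x13d78)))
(.node 6022 (.node 6021 (.leaf 0x13d7b)
(.leaf 0x13d89))
(.node 6023 (.leaf 0x13d98)
(.leaf 0x13d9b))))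
(.node 6028 (.node 6026 (.node 6025 (.leaf 0x13da7)
(.leaf 0x13da9))
(.node 6027 (.leaf 0x13dab)
(.leaf 0x13dd9)))
(.node 6030 (.node 6029 (.leaf 0x13deb)
(.leaf 0x13dfc))
(.node 6031 (.leaf 0x13e16)
(.leaf 0x13e18)))))
(.node 6040 (.node 6036 (.node 6034 (.node 6033 (.leaf 0x13e25)
(.leaf 0x13e28))
(.node 6035 (.leaf 0x13e39)
(.leaf 0x13e48)))
(.node 6038 (.node 6037 (.leaf 0x13e4b)
(.leaf 0x13e57))
(.node 6039 (.leaf 0x13e59)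
(.leaf 0x13e79))))
(.node 6044 (.node 6042 (.node 6041 (.leaf 0x13e96)
(.leaf 0x13e98))
(.node 6043 (.leaf 0x13ea5)
(.leaf 0x13ea8)))
(.node 6046 (.node 6045 (.leaf 0x13ec8)
(.leaf 0x13ecb))
(.node 6047 (.leaf 0x13ed7)
(.leaf 0x13ed9))))))
(.node 6064 (.node 6056 (.node 6052 (.node 6050 (.node 6049 (.leaf 0x13edb)
(.leaf 0x13efa))
(.node 6051 (.leaf 0x13f07)
(.leaf 0x13f09)))
(.node 6054 (.node 6053 (.leaf 0x13f0b)
(.leaf 0x13f1c))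
(.node 6055 (.leaf 0x13f29)
(.leaf 0x13f2b))))
(.node 6060 (.node 6058 (.node 6057 (.leaf 0x13f3a)
(.leaf 0x13f78))
(.node 6059 (.leaf 0x13f86)
(.leaf 0x13f8c)))
(.node 6062 (.node 6061 (.leaf 0x13fb8)
(.leaf 0x13fbb))
(.node 6063 (.leaf 0x13fc7)
(.leaf 0x13fc9)))))
(.node 6072 (.node 6068 (.node 6066 (.node 6065 (.leaf 0x13fcb)
(.leaf 0x13fe7))
(.node 6067 (.leaf 0x13fe9)
(.leaf 0x13feb)))
(.node 6070 (.node 6069 (.leaf 0x14009)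
(.leaf 0x1400b))
(.node 6071 (.leaf 0x1401b)
(.leaf 0x1402c))))
(.node 6076 (.node 6074 (.node 6073 (.leaf 0x1403b)
(.leaf 0x1406b))
(.node 6075 (.leaf 0x1407c)
(.leaf 0x14086)))
(.node 6078 (.node 6077 (.leaf 0x1408c)
(.leaf 0x140ac))
(.node 6079 (.leaf 0x140c6)
(.leaf 0x140d7)))))))
(.node 6112 (.node 6096 (.node 6088 (.node 6084 (.node 6082 (.node 6081 (.leaf 0x140e6)
(.leaf 0x140e8))
(.node 6083 (.leaf 0x140f8)
(.leaf 0x14116)))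
(.node 6086 (.node 6085 (.leaf 0x14125)
(.leaf 0x14128))
(.node 6087 (.leaf 0x1412b)
(.leaf 0x14147))))
(.node 6092 (.node 6090 (.node 6089 (.leaf 0x14149)
(.leaf 0x1415a))
(.node 6091 (.leaf 0x1417b)
(.leaf 0x14187)))
(.node 6094 (.node 6093 (.leaf 0x14196)
(.leaf 0x14198))
(.node 6095 (.leaf 0x141a5)
(.leaf 0x141a8)))))
(.node 6104 (.node 6100 (.node 6098 (.node 6097 (.leaf 0x141cb)
(.leaf 0x141d6))
(.node 6099 (.leaf 0x141d8)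
(.leaf 0x141e5)))
(.node 6102 (.node 6101 (.leaf 0x141e8)
(.leaf 0x141eb))
(.node 6103 (.leaf 0x14208)
(.leaf 0x1420b))))
(.node 6108 (.node 6106 (.node 6105 (.leaf 0x14217)
(.leaf 0x1421b))
(.node 6107 (.leaf 0x1423b)
(.leaf 0x14256)))
(.node 6110 (.node 6109 (.leaf 0x14265)
(.leaf 0x14268))
(.node 6111 (.leaf 0x14279)
(.leaf 0x14287))))))
(.node 6128 (.node 6120 (.node 6116 (.node 6114 (.node 6113 (.leaf 0x14289)
(.leaf 0x142a5))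
(.node 6115 (.leaf 0x142ab)
(.leaf 0x142b8)))
(.node 6118 (.node 6117 (.leaf 0x142bb)
(.leaf 0x142c7))
(.node 6119 (.leaf 0x142c9)
(.leaf 0x142cb))))
(.node 6124 (.node 6122 (.node 6121 (.leaf 0x142ea)
(.leaf 0x142f9))
(.node 6123 (.leaf 0x1430a)
(.leaf 0x1430b)))
(.node 6126 (.node 6125 (.leaf 0x14327)
(.leaf 0x14336))
(.node 6127 (.leaf 0x14338)
(.leaf 0x14345)))))
(.node 6136 (.node 6132 (.node 6130 (.node 6129 (.leaf 0x14348)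
(.leaf 0x1434b))
(.node 6131 (.leaf 0x14368)
(.leaf 0x1436b)))
(.node 6134 (.node 6133 (.leaf 0x14377)
(.leaf 0x14379))
(.node 6135 (.leaf 0x1437b)
(.leaf 0x1439a))))
(.node 6140 (.node 6138 (.node 6137 (.leaf 0x143a9)
(.leaf 0x143d6))
(.node 6139 (.leaf 0x143d8)
(.leaf 0x143e5)))
(.node 6142 (.node 6141 (.leaf 0x143e8)
(.leaf 0x14408))
(.node 6143 (.leaf 0x14419)
(.leaf 0x1441b)))))))))

end Cfsg.Agent.H96.Fi24Mult.Ztwo
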