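import Cfsg.Agent.H25.Fi24.Table

/-!
Generated data of a scan certificate.
-/

set_option autoImplicit false

namespace Cfsg.Agent.H96.Fi24Mult.Ztwo

open Cfsg.Agent.H25.Fi24 (Tr)

/-- part of a trie -/
def parPart24 : Tr :=
(.node 6272 (.node 6208 (.node 6176 (.node 6160 (.node 6152 (.node 6148 (.node 6146 (.node 6145 (.leaf 0x14427)
(.leaf 0x14429))
(.node 6147 (.leaf 0x1442b)
(.leaf 0x14439)))
(.node 6150 (.node 6149 (.leaf 0x1445c)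
(.leaf 0x14468))
(.node 6151 (.leaf 0x14498)
(.leaf 0x144a7))))
(.node 6156 (.node 6154 (.node 6153 (.leaf 0x144a9)
(.leaf 0x144b9))
(.node 6155 (.leaf 0x144ca)
(.leaf 0x144e8)))
(.node 6158 (.node 6157 (.leaf 0x144ea)
(.leaf 0x14507))
(.node 6159 (.leaf 0x14509)
(.leaf 0x14519)))))
(.node 6168 (.node 6164 (.node 6162 (.node 6161 (.leaf 0x1452a)
(.leaf 0x14549))
(.node 6163 (.leaf 0x14576)
(.leaf 0x1457c)))
(.node 6166 (.node 6165 (.leaf 0x14591)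
(.leaf 0x14597))
(.node 6167 (.leaf 0x145a8)
(.leaf 0x145c8))))
(.node 6172 (.node 6170 (.node 6169 (.leaf 0x145d8)
(.leaf 0x145f8))
(.node 6171 (.leaf 0x14617)
(.leaf 0x14628)))
(.node 6174 (.node 6173 (.leaf 0x14645)
(.leaf 0x14648))
(.node 6175 (.leaf 0x14666)
(.leaf 0x14697))))))
(.node 6192 (.node 6184 (.node 6180 (.node 6178 (.node 6177 (.leaf 0x146b6)
(.leaf 0x146b8))
(.node 6179 (.leaf 0x146c8)
(.leaf 0x14708)))
(.node 6182 (.node 6181 (.leaf 0x14719)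
(.leaf 0x14727))
(.node 6183 (.leaf 0x14729)
(.leaf 0x1472b))))
(.node 6188 (.node 6186 (.node 6185 (.leaf 0x14739)
(.leaf 0x1473b))
(.node 6187 (.leaf 0x14766)
(.leaf 0x14786)))
(.node 6190 (.node 6189 (.leaf 0x14788)
(.leaf 0x14795))
(.node 6191 (.leaf 0x14798)
(.leaf 0x147b8)))))
(.node 6200 (.node 6196 (.node 6194 (.node 6193 (.leaf 0x147c7)
(.leaf 0x147c9))
(.node 6195 (.leaf 0x147d9)
(.leaf 0x147e8)))
(.node 6198 (.node 6197 (.leaf 0x147f5)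
(.leaf 0x147f8))
(.node 6199 (.leaf 0x14809)
(.leaf 0x14818))))
(.node 6204 (.node 6202 (.node 6201 (.leaf 0x14827)
(.leaf 0x14829))
(.node 6203 (.leaf 0x1482b)
(.leaf 0x14847)))
(.node 6206 (.node 6205 (.leaf 0x14849)
(.leaf 0x14859))
(.node 6207 (.leaf 0x14885)
(.leaf 0x148a8)))))))
(.node 6240 (.node 6224 (.node 6216 (.node 6212 (.node 6210 (.node 6209 (.leaf 0x148b7)
(.leaf 0x148b9))
(.node 6211 (.leaf 0x148ca)
(.leaf 0x148d7)))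
(.node 6214 (.node 6213 (.leaf 0x148d9)
(.leaf 0x148ec))
(.node 6215 (.leaf 0x148f9)
(.leaf 0x14939))))
(.node 6220 (.node 6218 (.node 6217 (.leaf 0x14948)
(.leaf 0x14957))
(.node 6219 (.leaf 0x14977)
(.leaf 0x1498c)))
(.node 6222 (.node 6221 (.leaf 0x149aa)
(.leaf 0x149e9))
(.node 6223 (.leaf 0x149eb)
(.leaf 0x14a38)))))
(.node 6232 (.node 6228 (.node 6226 (.node 6225 (.leaf 0x14a49)
(.leaf 0x14a57))
(.node 6227 (.leaf 0x14a95)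
(.leaf 0x14a98)))
(.node 6230 (.node 6229 (.leaf 0x14ab8)
(.leaf 0x14abb))
(.node 6231 (.leaf 0x14ac7)
(.leaf 0x14ae7))))
(.node 6236 (.node 6234 (.node 6233 (.leaf 0x14aeb)
(.leaf 0x14b19))
(.node 6235 (.leaf 0x14b28)
(.leaf 0x14b39)))
(.node 6238 (.node 6237 (.leaf 0x14b3b)
(.leaf 0x14b67))
(.node 6239 (.leaf 0x14b69)
(.leaf 0x14b6b))))))
(.node 6256 (.node 6248 (.node 6244 (.node 6242 (.node 6241 (.leaf 0x14c4a)
(.leaf 0x14c89))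
(.node 6243 (.leaf 0x14c98)
(.leaf 0x14ca7)))
(.node 6246 (.node 6245 (.leaf 0x14cab)
(.leaf 0x14cc6))
(.node 6247 (.leaf 0x14ccc)
(.leaf 0x14ceb))))
(.node 6252 (.node 6250 (.node 6249 (.leaf 0x14cf6)
(.leaf 0x14d07))
(.node 6251 (.leaf 0x14d17)
(.leaf 0x14d27)))
(.node 6254 (.node 6253 (.leaf 0x14d38)
(.leaf 0x14d48))
(.node 6255 (.leaf 0x14d66)
(.leaf 0x14d82)))))
(.node 6264 (.node 6260 (.node 6258 (.node 6257 (.leaf 0x14d87)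
(.leaf 0x14d96))
(.node 6259 (.leaf 0x14d98)
(.leaf 0x14da8)))
(.node 6262 (.node 6261 (.leaf 0x14dc6)
(.leaf 0x14dc8))
(.node 6263 (.leaf 0x14dd8)
(.leaf 0x14de9))))
(.node 6268 (.node 6266 (.node 6265 (.leaf 0x14e07)
(.leaf 0x14e18))
(.node 6267 (.leaf 0x14e37)
(.leaf 0x14e39)))
(.node 6270 (.node 6269 (.leaf 0x14e4a)
(.leaf 0x14e59))
(.node 6271 (.leaf 0x14e87)
(.leaf 0x14eb6))))))))
(.node 6336 (.node 6304 (.node 6288 (.node 6280 (.node 6276 (.node 6274 (.node 6273 (.leaf 0x14eb8)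
(.leaf 0x14ec8))
(.node 6275 (.leaf 0x14f1a)
(.leaf 0x14f38)))
(.node 6278 (.node 6277 (.leaf 0x14f6a)
(.leaf 0x14f8a))
(.node 6279 (.leaf 0x14fb6)
(.leaf 0x14fc5))))
(.node 6284 (.node 6282 (.node 6281 (.leaf 0x14fc7)
(.leaf 0x14fd5))
(.node 6283 (.leaf 0x14fd7)
(.leaf 0x14fe4)))
(.node 6286 (.node 6285 (.leaf 0x14fe7)
(.leaf 0x14ff8))
(.node 6287 (.leaf 0x15009)
(.leaf 0x15013)))))
(.node 6296 (.node 6292 (.node 6290 (.node 6289 (.leaf 0x15017)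
(.leaf 0x15026))
(.node 6291 (.leaf 0x15028)
(.leaf 0x15042)))
(.node 6294 (.node 6293 (.leaf 0x15047)
(.leaf 0x15056))
(.node 6295 (.leaf 0x15058)
(.leaf 0x15068))))
(.node 6300 (.node 6298 (.node 6297 (.leaf 0x15079)
(.leaf 0x1508a))
(.node 6299 (.leaf 0x15097)
(.leaf 0x150a6)))
(.node 6302 (.node 6301 (.leaf 0x150a8)
(.leaf 0x150b8))
(.node 6303 (.leaf 0x150bb)
(.leaf 0x150c9))))))
(.node 6320 (.node 6312 (.node 6308 (.node 6306 (.node 6305 (.leaf 0x150d7)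
(.leaf 0x150db))
(.node 6307 (.leaf 0x1510b)
(.leaf 0x15116)))
(.node 6310 (.node 6309 (.leaf 0x15127)
(.leaf 0x15135))
(.node 6311 (.leaf 0x15137)
(.leaf 0x15147))))
(.node 6316 (.node 6314 (.node 6313 (.leaf 0x15158)
(.leaf 0x15163))
(.node 6315 (.leaf 0x15167)
(.leaf 0x15176)))
(.node 6318 (.node 6317 (.leaf 0x15178)
(.leaf 0x15197))
(.node 6319 (.leaf 0x151a8)
(.leaf 0x151b6)))))
(.node 6328 (.node 6324 (.node 6322 (.node 6321 (.leaf 0x151b8)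
(.leaf 0x151d7))
(.node 6323 (.leaf 0x151e6)
(.leaf 0x151e8)))
(.node 6326 (.node 6325 (.leaf 0x151f8)
(.leaf 0x15213))
(.node 6327 (.leaf 0x15217)
(.leaf 0x15226))))
(.node 6332 (.node 6330 (.node 6329 (.leaf 0x15228)
(.leaf 0x15247))
(.node 6331 (.leaf 0x15256)
(.leaf 0x15258)))
(.node 6334 (.node 6333 (.leaf 0x15268)
(.leaf 0x15287))
(.node 6335 (.leaf 0x15296)
(.leaf 0x15298)))))))
(.node 6368 (.node 6352 (.node 6344 (.node 6340 (.node 6338 (.node 6337 (.leaf 0x152a8)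
(.leaf 0x152ab))
(.node 6339 (.leaf 0x152c7)
(.leaf 0x152d6)))
(.node 6342 (.node 6341 (.leaf 0x152d8)
(.leaf 0x152e5))
(.node 6343 (.leaf 0x152e8)
(.leaf 0x152eb))))
(.node 6348 (.node 6346 (.node 6345 (.leaf 0x15307)
(.leaf 0x1530b))
(.node 6347 (.leaf 0x15316)
(.leaf 0x15325)))
(.node 6350 (.node 6349 (.leaf 0x15328)
(.leaf 0x15347))
(.node 6351 (.leaf 0x15356)
(.leaf 0x15358)))))
(.node 6360 (.node 6356 (.node 6354 (.node 6353 (.leaf 0x15365)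
(.leaf 0x15368))
(.node 6355 (.leaf 0x15387)
(.leaf 0x1539b)))
(.node 6358 (.node 6357 (.leaf 0x153b7)
(.leaf 0x153c6))
(.node 6359 (.leaf 0x153c8)
(.leaf 0x153d5))))
(.node 6364 (.node 6362 (.node 6361 (.leaf 0x153d8)
(.leaf 0x153db))
(.node 6363 (.leaf 0x153f7)
(.leaf 0x153f9)))
(.node 6366 (.node 6365 (.leaf 0x153fb)
(.leaf 0x15416))
(.node 6367 (.leaf 0x15418)
(.leaf 0x15425))))))
(.node 6384 (.node 6376 (.node 6372 (.node 6370 (.node 6369 (.leaf 0x15428)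
(.leaf 0x1542b))
(.node 6371 (.leaf 0x15439)
(.leaf 0x15448)))
(.node 6374 (.node 6373 (.leaf 0x1544b)
(.leaf 0x15457))
(.node 6375 (.leaf 0x15459)
(.leaf 0x1545b))))
(.node 6380 (.node 6378 (.node 6377 (.leaf 0x1547a)
(.leaf 0x1548b))
(.node 6379 (.leaf 0x154b7)
(.leaf 0x154d6)))
(.node 6382 (.node 6381 (.leaf 0x154fb)
(.leaf 0x1551c))
(.node 6383 (.leaf 0x15536)
(.leaf 0x15547)))))
(.node 6392 (.node 6388 (.node 6386 (.node 6385 (.leaf 0x15554)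
(.leaf 0x15573))
(.node 6387 (.leaf 0x15577)
(.leaf 0x15586)))
(.node 6390 (.node 6389 (.leaf 0x15588)
(.leaf 0x155a8))
(.node 6391 (.leaf 0x155b7)
(.leaf 0x155c6))))
(.node 6396 (.node 6394 (.node 6393 (.leaf 0x155c8)
(.leaf 0x155e7))
(.node 6395 (.leaf 0x155f6)
(.leaf 0x155f8)))
(.node 6398 (.node 6397 (.leaf 0x15608)
(.leaf 0x15636))
(.node 6399 (.leaf 0x15638)
(.leaf 0x15648)))))))))

/-- part of a trie -/
def parPart25 : Tr :=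
(.node 6528 (.node 6464 (.node 6432 (.node 6416 (.node 6408 (.node 6404 (.node 6402 (.node 6401 (.leaf 0x15665)
(.leaf 0x15668))
(.node 6403 (.leaf 0x1566b)
(.leaf 0x1568b)))
(.node 6406 (.node 6405 (.leaf 0x15697)
(.leaf 0x156a6))
(.node 6407 (.leaf 0x156b8)
(.leaf 0x156c9))))
(.node 6412 (.node 6410 (.node 6409 (.leaf 0x156e6)
(.leaf 0x156f5))
(.node 6411 (.leaf 0x156f8)
(.leaf 0x15709)))
(.node 6414 (.node 6413 (.leaf 0x15717)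
(.leaf 0x1571b))
(.node 6415 (.leaf 0x15738)
(.leaf 0x15748)))))
(.node 6424 (.node 6420 (.node 6418 (.node 6417 (.leaf 0x15767)
(.leaf 0x15769))
(.node 6419 (.leaf 0x15788)
(.leaf 0x15799)))
(.node 6422 (.node 6421 (.leaf 0x1579b)
(.leaf 0x157aa))
(.node 6423 (.leaf 0x157ba)
(.leaf 0x157d9))))
(.node 6428 (.node 6426 (.node 6425 (.leaf 0x157f9)
(.leaf 0x157fb))
(.node 6427 (.leaf 0x1584b)
(.leaf 0x15856)))
(.node 6430 (.node 6429 (.leaf 0x15869)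
(.leaf 0x158b7))
(.node 6431 (.leaf 0x158c6)
(.leaf 0x158c8))))))
(.node 6448 (.node 6440 (.node 6436 (.node 6434 (.node 6433 (.leaf 0x158d5)
(.leaf 0x158d8))
(.node 6435 (.leaf 0x158e9)
(.leaf 0x158f7)))
(.node 6438 (.node 6437 (.leaf 0x15916)
(.leaf 0x15918))
(.node 6439 (.leaf 0x15925)
(.leaf 0x15928))))
(.node 6444 (.node 6442 (.node 6441 (.leaf 0x1592b)
(.leaf 0x15939))
(.node 6443 (.leaf 0x15948)
(.leaf 0x1594b)))
(.node 6446 (.node 6445 (.leaf 0x15957)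
(.leaf 0x15959))
(.node 6447 (.leaf 0x1595b)
(.leaf 0x1598b)))))
(.node 6456 (.node 6452 (.node 6450 (.node 6449 (.leaf 0x159b6)
(.leaf 0x159b8))
(.node 6451 (.leaf 0x159c5)
(.leaf 0x159c8)))
(.node 6454 (.node 6453 (.leaf 0x159e8)
(.leaf 0x15a18))
(.node 6455 (.leaf 0x15a47)
(.leaf 0x15a4b))))
(.node 6460 (.node 6458 (.node 6457 (.leaf 0x15a6b)
(.leaf 0x15ab8))
(.node 6459 (.leaf 0x15ad7)
(.leaf 0x15adb)))
(.node 6462 (.node 6461 (.leaf 0x15b05)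
(.leaf 0x15b08))
(.node 6463 (.leaf 0x15b28)
(.leaf 0x15b37)))))))
(.node 6496 (.node 6480 (.node 6472 (.node 6468 (.node 6466 (.node 6465 (.leaf 0x15b59)
(.leaf 0x15bd6))
(.node 6467 (.leaf 0x15bd8)
(.leaf 0x15bf7)))
(.node 6470 (.node 6469 (.leaf 0x15c08)
(.leaf 0x15c18))
(.node 6471 (.leaf 0x15c1b)
(.leaf 0x15c29))))
(.node 6476 (.node 6474 (.node 6473 (.leaf 0x15c38)
(.leaf 0x15c51))
(.node 6475 (.leaf 0x15c57)
(.leaf 0x15c66)))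
(.node 6478 (.node 6477 (.leaf 0x15c68)
(.leaf 0x15c78))
(.node 6479 (.leaf 0x15c89)
(.leaf 0x15c97)))))
(.node 6488 (.node 6484 (.node 6482 (.node 6481 (.leaf 0x15c99)
(.leaf 0x15c9b))
(.node 6483 (.leaf 0x15cb7)
(.leaf 0x15cc6)))
(.node 6486 (.node 6485 (.leaf 0x15cc8)
(.leaf 0x15cd5))
(.node 6487 (.leaf 0x15cd8)
(.leaf 0x15ce9))))
(.node 6492 (.node 6490 (.node 6489 (.leaf 0x15cf8)
(.leaf 0x15d07))
(.node 6491 (.leaf 0x15d09)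
(.leaf 0x15d29)))
(.node 6494 (.node 6493 (.leaf 0x15d47)
(.leaf 0x15d56))
(.node 6495 (.leaf 0x15d58)
(.leaf 0x15d68))))))
(.node 6512 (.node 6504 (.node 6500 (.node 6498 (.node 6497 (.leaf 0x15d6b)
(.leaf 0x15d8b))
(.node 6499 (.leaf 0x15dbc)
(.leaf 0x15dc5)))
(.node 6502 (.node 6501 (.leaf 0x15dc7)
(.leaf 0x15dd4))
(.node 6503 (.leaf 0x15dd7)
(.leaf 0x15de8))))
(.node 6508 (.node 6506 (.node 6505 (.leaf 0x15df7)
(.leaf 0x15e06))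
(.node 6507 (.leaf 0x15e08)
(.leaf 0x15e24)))
(.node 6510 (.node 6509 (.leaf 0x15e27)
(.leaf 0x15e38))
(.node 6511 (.leaf 0x15e43)
(.leaf 0x15e47)))))
(.node 6520 (.node 6516 (.node 6514 (.node 6513 (.leaf 0x15e56)
(.leaf 0x15e58))
(.node 6515 (.leaf 0x15e69)
(.leaf 0x15e76)))
(.node 6518 (.node 6517 (.leaf 0x15e78)
(.leaf 0x15e88))
(.node 6519 (.leaf 0x15e8b)
(.leaf 0x15ea8))))
(.node 6524 (.node 6522 (.node 6521 (.leaf 0x15ed1)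
(.leaf 0x15ed7))
(.node 6523 (.leaf 0x15ee6)
(.leaf 0x15ee8)))
(.node 6526 (.node 6525 (.leaf 0x15ef5)
(.leaf 0x15ef8))
(.node 6527 (.leaf 0x15efb)
(.leaf 0x15f09))))))))
(.node 6592 (.node 6560 (.node 6544 (.node 6536 (.node 6532 (.node 6530 (.node 6529 (.leaf 0x15f17)
(.leaf 0x15f19))
(.node 6531 (.leaf 0x15f1b)
(.leaf 0x15f47)))
(.node 6534 (.node 6533 (.leaf 0x15f56)
(.leaf 0x15f58))
(.node 6535 (.leaf 0x15f65)
(.leaf 0x15f68))))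
(.node 6540 (.node 6538 (.node 6537 (.leaf 0x15f6b)
(.leaf 0x15f79))
(.node 6539 (.leaf 0x15f87)
(.leaf 0x15f8b)))
(.node 6542 (.node 6541 (.leaf 0x15f9a)
(.leaf 0x15fa9))
(.node 6543 (.leaf 0x15fcc)
(.leaf 0x15fd5)))))
(.node 6552 (.node 6548 (.node 6546 (.node 6545 (.leaf 0x15fd7)
(.leaf 0x15fe7))
(.node 6547 (.leaf 0x15ff8)
(.leaf 0x16003)))
(.node 6550 (.node 6549 (.leaf 0x16007)
(.leaf 0x16016))
(.node 6551 (.leaf 0x16018)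
(.leaf 0x16038))))
(.node 6556 (.node 6554 (.node 6553 (.leaf 0x16056)
(.leaf 0x16058))
(.node 6555 (.leaf 0x16077)
(.leaf 0x16086)))
(.node 6558 (.node 6557 (.leaf 0x16088)
(.leaf 0x16098))
(.node 6559 (.leaf 0x1609b)
(.leaf 0x160b6))))))
(.node 6576 (.node 6568 (.node 6564 (.node 6562 (.node 6561 (.leaf 0x160b8)
(.leaf 0x160c5))
(.node 6563 (.leaf 0x160c8)
(.leaf 0x160cb)))
(.node 6566 (.node 6565 (.leaf 0x160e7)
(.leaf 0x160e9))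
(.node 6567 (.leaf 0x160eb)
(.leaf 0x160fc))))
(.node 6572 (.node 6570 (.node 6569 (.leaf 0x16116)
(.leaf 0x16118))
(.node 6571 (.leaf 0x16128)
(.leaf 0x16139)))
(.node 6574 (.node 6573 (.leaf 0x16145)
(.leaf 0x16148))
(.node 6575 (.leaf 0x1614b)
(.leaf 0x16159)))))
(.node 6584 (.node 6580 (.node 6578 (.node 6577 (.leaf 0x16167)
(.leaf 0x1616b))
(.node 6579 (.leaf 0x16187)
(.leaf 0x16196)))
(.node 6582 (.node 6581 (.leaf 0x16198)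
(.leaf 0x161a5))
(.node 6583 (.leaf 0x161a8)
(.leaf 0x161ab))))
(.node 6588 (.node 6586 (.node 6585 (.leaf 0x161b9)
(.leaf 0x161c7))
(.node 6587 (.leaf 0x161c9)
(.leaf 0x161cb)))
(.node 6590 (.node 6589 (.leaf 0x161f7)
(.leaf 0x16206))
(.node 6591 (.leaf 0x16208)
(.leaf 0x16215)))))))
(.node 6624 (.node 6608 (.node 6600 (.node 6596 (.node 6594 (.node 6593 (.leaf 0x16218)
(.leaf 0x1621b))
(.node 6595 (.leaf 0x16229)
(.leaf 0x16238)))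
(.node 6598 (.node 6597 (.leaf 0x1623b)
(.leaf 0x16247))
(.node 6599 (.leaf 0x16249)
(.leaf 0x1624b))))
(.node 6604 (.node 6602 (.node 6601 (.leaf 0x16279)
(.leaf 0x1627b))
(.node 6603 (.leaf 0x1628b)
(.leaf 0x1629c)))
(.node 6606 (.node 6605 (.leaf 0x162a6)
(.leaf 0x162b5))
(.node 6607 (.leaf 0x162b8)
(.leaf 0x162c9)))))
(.node 6616 (.node 6612 (.node 6610 (.node 6609 (.leaf 0x162d8)
(.leaf 0x162e7))
(.node 6611 (.leaf 0x162e9)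
(.leaf 0x16309)))
(.node 6614 (.node 6613 (.leaf 0x16326)
(.leaf 0x16328))
(.node 6615 (.leaf 0x16335)
(.leaf 0x16338))))
(.node 6620 (.node 6618 (.node 6617 (.leaf 0x16349)
(.leaf 0x16354))
(.node 6619 (.leaf 0x16358)
(.leaf 0x16367)))
(.node 6622 (.node 6621 (.leaf 0x16369)
(.leaf 0x1636b))
(.node 6623 (.leaf 0x1637c)
(.leaf 0x1638a))))))
(.node 6640 (.node 6632 (.node 6628 (.node 6626 (.node 6625 (.leaf 0x16397)
(.leaf 0x16399))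
(.node 6627 (.leaf 0x1639b)
(.leaf 0x163ac)))
(.node 6630 (.node 6629 (.leaf 0x163b9)
(.leaf 0x163bb))
(.node 6631 (.leaf 0x163ca)
(.leaf 0x163cb))))
(.node 6636 (.node 6634 (.node 6633 (.leaf 0x16408)
(.leaf 0x16416))
(.node 6635 (.leaf 0x1641c)
(.leaf 0x16436)))
(.node 6638 (.node 6637 (.leaf 0x16438)
(.leaf 0x16445))
(.node 6639 (.leaf 0x16448)
(.leaf 0x1644b)))))
(.node 6648 (.node 6644 (.node 6642 (.node 6641 (.leaf 0x16468)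
(.leaf 0x1646b))
(.node 6643 (.leaf 0x16479)
(.leaf 0x1647b)))
(.node 6646 (.node 6645 (.leaf 0x164aa)
(.leaf 0x164ab))
(.node 6647 (.leaf 0x164b5)
(.leaf 0x164b8))))
(.node 6652 (.node 6650 (.node 6649 (.leaf 0x164c9)
(.leaf 0x164d4))
(.node 6651 (.leaf 0x164d8)
(.leaf 0x164db)))
(.node 6654 (.node 6653 (.leaf 0x164e7)
(.leaf 0x164e9))
(.node 6655 (.leaf 0x164eb)
(.leaf 0x1650a)))))))))

/-- part of a trie -/
def parPart26 : Tr :=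
(.node 6784 (.node 6720 (.node 6688 (.node 6672 (.node 6664 (.node 6660 (.node 6658 (.node 6657 (.leaf 0x16519)
(.leaf 0x1651b))
(.node 6659 (.leaf 0x16539)
(.leaf 0x1654b)))
(.node 6662 (.node 6661 (.leaf 0x1655c)
(.leaf 0x1657c))
(.node 6663 (.leaf 0x16599)
(.leaf 0x1659b))))
(.node 6668 (.node 6666 (.node 6665 (.leaf 0x165ab)
(.leaf 0x165bc))
(.node 6667 (.leaf 0x165c6)
(.leaf 0x165fc)))
(.node 6670 (.node 6669 (.leaf 0x16616)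
(.leaf 0x16638))
(.node 6671 (.leaf 0x16655)
(.leaf 0x16658)))))
(.node 6680 (.node 6676 (.node 6674 (.node 6673 (.leaf 0x16677)
(.leaf 0x16679))
(.node 6675 (.leaf 0x1667b)
(.leaf 0x16686)))
(.node 6678 (.node 6677 (.leaf 0x16695)
(.leaf 0x16698))
(.node 6679 (.leaf 0x166b7)
(.leaf 0x166c5))))
(.node 6684 (.node 6682 (.node 6681 (.leaf 0x166c8)
(.leaf 0x166cb))
(.node 6683 (.leaf 0x166e8)
(.leaf 0x166eb)))
(.node 6686 (.node 6685 (.leaf 0x166f7)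
(.leaf 0x166fb))
(.node 6687 (.leaf 0x1671b)
(.leaf 0x16739))))))
(.node 6704 (.node 6696 (.node 6692 (.node 6690 (.node 6689 (.leaf 0x16758)
(.leaf 0x1675b))
(.node 6691 (.leaf 0x16767)
(.leaf 0x16769)))
(.node 6694 (.node 6693 (.leaf 0x1676b)
(.leaf 0x1677a))
(.node 6695 (.leaf 0x1678b)
(.leaf 0x1679a))))
(.node 6700 (.node 6698 (.node 6697 (.leaf 0x167c8)
(.leaf 0x167d5))
(.node 6699 (.leaf 0x167db)
(.leaf 0x167e9)))
(.node 6702 (.node 6701 (.leaf 0x167f8)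
(.leaf 0x167fb))
(.node 6703 (.leaf 0x16807)
(.leaf 0x16809)))))
(.node 6712 (.node 6708 (.node 6706 (.node 6705 (.leaf 0x16839)
(.leaf 0x16858))
(.node 6707 (.leaf 0x16865)
(.leaf 0x16868)))
(.node 6710 (.node 6709 (.leaf 0x16879)
(.leaf 0x16884))
(.node 6711 (.leaf 0x16888)
(.leaf 0x1688b))))
(.node 6716 (.node 6714 (.node 6713 (.leaf 0x16897)
(.leaf 0x1689b))
(.node 6715 (.leaf 0x168c7)
(.leaf 0x168c9)))
(.node 6718 (.node 6717 (.leaf 0x168cb)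
(.leaf 0x168e9))
(.node 6719 (.leaf 0x16918)
(.leaf 0x16939)))))))
(.node 6752 (.node 6736 (.node 6728 (.node 6724 (.node 6722 (.node 6721 (.leaf 0x16957)
(.leaf 0x16959))
(.node 6723 (.leaf 0x16969)
(.leaf 0x169a9)))
(.node 6726 (.node 6725 (.leaf 0x169b8)
(.leaf 0x169c7))
(.node 6727 (.leaf 0x16a09)
(.leaf 0x16a36))))
(.node 6732 (.node 6730 (.node 6729 (.leaf 0x16a47)
(.leaf 0x16a66))
(.node 6731 (.leaf 0x16a78)
(.leaf 0x16ab6)))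
(.node 6734 (.node 6733 (.leaf 0x16ac5)
(.leaf 0x16ac8))
(.node 6735 (.leaf 0x16ae7)
(.leaf 0x16af7)))))
(.node 6744 (.node 6740 (.node 6738 (.node 6737 (.leaf 0x16b16)
(.leaf 0x16b18))
(.node 6739 (.leaf 0x16b28)
(.leaf 0x16b2b)))
(.node 6742 (.node 6741 (.leaf 0x16b66)
(.leaf 0x16b68))
(.node 6743 (.leaf 0x16b75)
(.leaf 0x16b78))))
(.node 6748 (.node 6746 (.node 6745 (.leaf 0x16b7b)
(.leaf 0x16b98))
(.node 6747 (.leaf 0x16ba7)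
(.leaf 0x16ba9)))
(.node 6750 (.node 6749 (.leaf 0x16bab)
(.leaf 0x16bc9))
(.node 6751 (.leaf 0x16bd6)
(.leaf 0x16bd8))))))
(.node 6768 (.node 6760 (.node 6756 (.node 6754 (.node 6753 (.leaf 0x16be5)
(.leaf 0x16be8))
(.node 6755 (.leaf 0x16beb)
(.leaf 0x16c08)))
(.node 6758 (.node 6757 (.leaf 0x16c17)
(.leaf 0x16c19))
(.node 6759 (.leaf 0x16c1b)
(.leaf 0x16c2c))))
(.node 6764 (.node 6762 (.node 6761 (.leaf 0x16c37)
(.leaf 0x16c39))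
(.node 6763 (.leaf 0x16c3b)
(.leaf 0x16c59)))
(.node 6766 (.node 6765 (.leaf 0x16c5b)
(.leaf 0x16c6b))
(.node 6767 (.leaf 0x16c7c)
(.leaf 0x16ca5)))))
(.node 6776 (.node 6772 (.node 6770 (.node 6769 (.leaf 0x16ca8)
(.leaf 0x16cb9))
(.node 6771 (.leaf 0x16cc8)
(.leaf 0x16cd7)))
(.node 6774 (.node 6773 (.leaf 0x16cd9)
(.leaf 0x16cea))
(.node 6775 (.leaf 0x16cf9)
(.leaf 0x16d05))))
(.node 6780 (.node 6778 (.node 6777 (.leaf 0x16d08)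
(.leaf 0x16d19))
(.node 6779 (.leaf 0x16d24)
(.leaf 0x16d28)))
(.node 6782 (.node 6781 (.leaf 0x16d37)
(.leaf 0x16d39))
(.node 6783 (.leaf 0x16d3b)
(.leaf 0x16d4a))))))))
(.node 6848 (.node 6816 (.node 6800 (.node 6792 (.node 6788 (.node 6786 (.node 6785 (.leaf 0x16d57)
(.leaf 0x16d59))
(.node 6787 (.leaf 0x16d69)
(.leaf 0x16db8)))
(.node 6790 (.node 6789 (.leaf 0x16dc7)
(.leaf 0x16dc9))
(.node 6791 (.leaf 0x16dcb)
(.leaf 0x16df7))))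
(.node 6796 (.node 6794 (.node 6793 (.leaf 0x16e09)
(.leaf 0x16e1a))
(.node 6795 (.leaf 0x16e48)
(.leaf 0x16e4b)))
(.node 6798 (.node 6797 (.leaf 0x16e77)
(.leaf 0x16ea8))
(.node 6799 (.leaf 0x16eb7)
(.leaf 0x16ebb)))))
(.node 6808 (.node 6804 (.node 6802 (.node 6801 (.leaf 0x16edb)
(.leaf 0x16eea))
(.node 6803 (.leaf 0x16f2b)
(.leaf 0x16f56)))
(.node 6806 (.node 6805 (.leaf 0x16f65)
(.leaf 0x16f68))
(.node 6807 (.leaf 0x16f6b)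
(.leaf 0x16f87))))
(.node 6812 (.node 6810 (.node 6809 (.leaf 0x16fa7)
(.leaf 0x16fc6))
(.node 6811 (.leaf 0x16fd5)
(.leaf 0x16fe8)))
(.node 6814 (.node 6813 (.leaf 0x16ff7)
(.leaf 0x17017))
(.node 6815 (.leaf 0x17019)
(.leaf 0x170c6))))))
(.node 6832 (.node 6824 (.node 6820 (.node 6818 (.node 6817 (.leaf 0x170c8)
(.leaf 0x170d8))
(.node 6819 (.leaf 0x170db)
(.leaf 0x170f6)))
(.node 6822 (.node 6821 (.leaf 0x17105)
(.leaf 0x17108))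
(.node 6823 (.leaf 0x17127)
(.leaf 0x17138))))
(.node 6828 (.node 6826 (.node 6825 (.leaf 0x17147)
(.leaf 0x17176))
(.node 6827 (.leaf 0x17178)
(.leaf 0x17185)))
(.node 6830 (.node 6829 (.leaf 0x17188)
(.leaf 0x1718b))
(.node 6831 (.leaf 0x171a7)
(.leaf 0x171a9)))))
(.node 6840 (.node 6836 (.node 6834 (.node 6833 (.leaf 0x171ab)
(.leaf 0x171bc))
(.node 6835 (.leaf 0x171d5)
(.leaf 0x171d8)))
(.node 6838 (.node 6837 (.leaf 0x171db)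
(.leaf 0x171f8))
(.node 6839 (.leaf 0x171fb)
(.leaf 0x17207))))
(.node 6844 (.node 6842 (.node 6841 (.leaf 0x17209)
(.leaf 0x1720b))
(.node 6843 (.leaf 0x17239)
(.leaf 0x1723b)))
(.node 6846 (.node 6845 (.leaf 0x1724b)
(.leaf 0x1725c))
(.node 6847 (.leaf 0x17268)
(.leaf 0x17288)))))))
(.node 6880 (.node 6864 (.node 6856 (.node 6852 (.node 6850 (.node 6849 (.leaf 0x17297)
(.leaf 0x172a7))
(.node 6851 (.leaf 0x172a9)
(.leaf 0x172b9)))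
(.node 6854 (.node 6853 (.leaf 0x172d8)
(.leaf 0x172f7))
(.node 6855 (.leaf 0x17306)
(.leaf 0x17308))))
(.node 6860 (.node 6858 (.node 6857 (.leaf 0x17326)
(.leaf 0x17328))
(.node 6859 (.leaf 0x17338)
(.leaf 0x17357)))
(.node 6862 (.node 6861 (.leaf 0x17366)
(.leaf 0x17368))
(.node 6863 (.leaf 0x17378)
(.leaf 0x17396)))))
(.node 6872 (.node 6868 (.node 6866 (.node 6865 (.leaf 0x173a5)
(.leaf 0x173a8))
(.node 6867 (.leaf 0x173ab)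
(.leaf 0x173c7)))
(.node 6870 (.node 6869 (.leaf 0x173c9)
(.leaf 0x173cb))
(.node 6871 (.leaf 0x173d6)
(.leaf 0x173e5))))
(.node 6876 (.node 6874 (.node 6873 (.leaf 0x173e8)
(.leaf 0x173eb))
(.node 6875 (.leaf 0x173f9)
(.leaf 0x17407)))
(.node 6878 (.node 6877 (.leaf 0x17409)
(.leaf 0x17427))
(.node 6879 (.leaf 0x17436)
(.leaf 0x17438))))))
(.node 6896 (.node 6888 (.node 6884 (.node 6882 (.node 6881 (.leaf 0x17445)
(.leaf 0x17448))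
(.node 6883 (.leaf 0x1744b)
(.leaf 0x17459)))
(.node 6886 (.node 6885 (.leaf 0x17468)
(.leaf 0x1746b))
(.node 6887 (.leaf 0x17477)
(.leaf 0x17479))))
(.node 6892 (.node 6890 (.node 6889 (.leaf 0x1747b)
(.leaf 0x1749a))
(.node 6891 (.leaf 0x174a9)
(.leaf 0x174ba)))
(.node 6894 (.node 6893 (.leaf 0x174bb)
(.leaf 0x174cc))
(.node 6895 (.leaf 0x174e6)
(.leaf 0x174e8)))))
(.node 6904 (.node 6900 (.node 6898 (.node 6897 (.leaf 0x174f5)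
(.leaf 0x174f8))
(.node 6899 (.leaf 0x17509)
(.leaf 0x17514)))
(.node 6902 (.node 6901 (.leaf 0x17518)
(.leaf 0x17527))
(.node 6903 (.leaf 0x17529)
(.leaf 0x1752b))))
(.node 6908 (.node 6906 (.node 6905 (.leaf 0x17547)
(.leaf 0x17549))
(.node 6907 (.leaf 0x17578)
(.leaf 0x17586)))
(.node 6910 (.node 6909 (.leaf 0x17588)
(.leaf 0x175a6))
(.node 6911 (.leaf 0x175a8)
(.leaf 0x175b8)))))))))

/-- part of a trie -/
def parPart27 : Tr :=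
(.node 7040 (.node 6976 (.node 6944 (.node 6928 (.node 6920 (.node 6916 (.node 6914 (.node 6913 (.leaf 0x175da)
(.leaf 0x175e7))
(.node 6915 (.leaf 0x17608)
(.leaf 0x1760b)))
(.node 6918 (.node 6917 (.leaf 0x17625)
(.leaf 0x1762b))
(.node 6919 (.leaf 0x1763b)
(.leaf 0x17656))))
(.node 6924 (.node 6922 (.node 6921 (.leaf 0x17658)
(.leaf 0x17665))
(.node 6923 (.leaf 0x17668)
(.leaf 0x1766b)))
(.node 6926 (.node 6925 (.leaf 0x17688)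
(.leaf 0x1768b))
(.node 6927 (.leaf 0x17697)
(.leaf 0x17699)))))
(.node 6936 (.node 6932 (.node 6930 (.node 6929 (.leaf 0x1769b)
(.leaf 0x176b9))
(.node 6931 (.leaf 0x176cb)
(.leaf 0x176e6)))
(.node 6934 (.node 6933 (.leaf 0x176f5)
(.leaf 0x176f8))
(.node 6935 (.leaf 0x176fb)
(.leaf 0x17709))))
(.node 6940 (.node 6938 (.node 6937 (.leaf 0x17717)
(.leaf 0x17719))
(.node 6939 (.leaf 0x1771b)
(.leaf 0x17738)))
(.node 6942 (.node 6941 (.leaf 0x17747)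
(.leaf 0x17749))
(.node 6943 (.leaf 0x1775a)
(.leaf 0x17769))))))
(.node 6960 (.node 6952 (.node 6948 (.node 6946 (.node 6945 (.leaf 0x17777)
(.leaf 0x17786))
(.node 6947 (.leaf 0x17788)
(.leaf 0x17795)))
(.node 6950 (.node 6949 (.leaf 0x17798)
(.leaf 0x177a9))
(.node 6951 (.leaf 0x177b8)
(.leaf 0x177c7))))
(.node 6956 (.node 6954 (.node 6953 (.leaf 0x177c9)
(.leaf 0x177da))
(.node 6955 (.leaf 0x177e9)
(.leaf 0x177f6)))
(.node 6958 (.node 6957 (.leaf 0x177f8)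
(.leaf 0x17808))
(.node 6959 (.leaf 0x17819)
(.leaf 0x17824)))))
(.node 6968 (.node 6964 (.node 6962 (.node 6961 (.leaf 0x17828)
(.leaf 0x1782b))
(.node 6963 (.leaf 0x17837)
(.leaf 0x17839)))
(.node 6966 (.node 6965 (.leaf 0x1783b)
(.leaf 0x1785a))
(.node 6967 (.leaf 0x17867)
(.leaf 0x17869))))
(.node 6972 (.node 6970 (.node 6969 (.leaf 0x1786b)
(.leaf 0x17889))
(.node 6971 (.leaf 0x1788b)
(.leaf 0x1789b)))
(.node 6974 (.node 6973 (.leaf 0x178ac)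
(.leaf 0x178b8))
(.node 6975 (.leaf 0x178bb)
(.leaf 0x178e5)))))))
(.node 7008 (.node 6992 (.node 6984 (.node 6980 (.node 6978 (.node 6977 (.leaf 0x178e8)
(.leaf 0x178eb))
(.node 6979 (.leaf 0x17908)
(.leaf 0x17917)))
(.node 6982 (.node 6981 (.leaf 0x17919)
(.leaf 0x17937))
(.node 6983 (.leaf 0x17939)
(.leaf 0x1793b))))
(.node 6988 (.node 6986 (.node 6985 (.leaf 0x1794c)
(.leaf 0x17959))
(.node 6987 (.leaf 0x1795b)
(.leaf 0x17985)))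
(.node 6990 (.node 6989 (.leaf 0x17988)
(.leaf 0x179a8))
(.node 6991 (.leaf 0x179b7)
(.leaf 0x179b9)))))
(.node 7000 (.node 6996 (.node 6994 (.node 6993 (.leaf 0x179c7)
(.leaf 0x179c9))
(.node 6995 (.leaf 0x179cb)
(.leaf 0x179dc)))
(.node 6998 (.node 6997 (.leaf 0x179e9)
(.leaf 0x179fa))
(.node 6999 (.leaf 0x17a29)
(.leaf 0x17a2b))))
(.node 7004 (.node 7002 (.node 7001 (.leaf 0x17a3a)
(.leaf 0x17a4c))
(.node 7003 (.leaf 0x17a68)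
(.leaf 0x17a6a)))
(.node 7006 (.node 7005 (.leaf 0x17a76)
(.leaf 0x17a7c))
(.node 7007 (.leaf 0x17aac)
(.leaf 0x17ac7))))))
(.node 7024 (.node 7016 (.node 7012 (.node 7010 (.node 7009 (.leaf 0x17ac9)
(.leaf 0x17acb))
(.node 7011 (.leaf 0x17ae9)
(.leaf 0x17afb)))
(.node 7014 (.node 7013 (.leaf 0x17b19)
(.leaf 0x17b1b))
(.node 7015 (.leaf 0x17b2b)
(.leaf 0x17b36))))
(.node 7020 (.node 7018 (.node 7017 (.leaf 0x17b3c)
(.leaf 0x17b4b))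
(.node 7019 (.leaf 0x17b6c)
(.leaf 0x17b96)))
(.node 7022 (.node 7021 (.leaf 0x17b9c)
(.leaf 0x17bbc))
(.node 7023 (.leaf 0x17be8)
(.leaf 0x17beb)))))
(.node 7032 (.node 7028 (.node 7026 (.node 7025 (.leaf 0x17bf6)
(.leaf 0x17c05))
(.node 7027 (.leaf 0x17c08)
(.leaf 0x17c27)))
(.node 7030 (.node 7029 (.leaf 0x17c29)
(.leaf 0x17c35))
(.node 7031 (.leaf 0x17c3b)
(.leaf 0x17c48))))
(.node 7036 (.node 7034 (.node 7033 (.leaf 0x17c4b)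
(.leaf 0x17c57))
(.node 7035 (.leaf 0x17c59)
(.leaf 0x17c5b)))
(.node 7038 (.node 7037 (.leaf 0x17c79)
(.leaf 0x17c8a))
(.node 7039 (.leaf 0x17c8b)
(.leaf 0x17cb6))))))))
(.node 7104 (.node 7072 (.node 7056 (.node 7048 (.node 7044 (.node 7042 (.node 7041 (.leaf 0x17cb8)
(.leaf 0x17cc5))
(.node 7043 (.leaf 0x17cc8)
(.leaf 0x17ce8)))
(.node 7046 (.node 7045 (.leaf 0x17cfb)
(.leaf 0x17d15))
(.node 7047 (.leaf 0x17d18)
(.leaf 0x17d38))))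
(.node 7052 (.node 7050 (.node 7049 (.leaf 0x17d3b)
(.leaf 0x17d47))
(.node 7051 (.leaf 0x17d4b)
(.leaf 0x17d6b)))
(.node 7054 (.node 7053 (.leaf 0x17d8b)
(.leaf 0x17db5))
(.node 7055 (.leaf 0x17db8)
(.leaf 0x17dc8)))))
(.node 7064 (.node 7060 (.node 7058 (.node 7057 (.leaf 0x17dd7)
(.leaf 0x17dd9))
(.node 7059 (.leaf 0x17dea)
(.leaf 0x17df9)))
(.node 7062 (.node 7061 (.leaf 0x17e14)
(.leaf 0x17e18))
(.node 7063 (.leaf 0x17e1b)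
(.leaf 0x17e37))))
(.node 7068 (.node 7066 (.node 7065 (.leaf 0x17e39)
(.leaf 0x17e3b))
(.node 7067 (.leaf 0x17e59)
(.leaf 0x17e5b)))
(.node 7070 (.node 7069 (.leaf 0x17e6a)
(.leaf 0x17e9b))
(.node 7071 (.leaf 0x17ec6)
(.leaf 0x17ec8))))))
(.node 7088 (.node 7080 (.node 7076 (.node 7074 (.node 7073 (.leaf 0x17ed5)
(.leaf 0x17ed8))
(.node 7075 (.leaf 0x17ef4)
(.leaf 0x17ef8)))
(.node 7078 (.node 7077 (.leaf 0x17efb)
(.leaf 0x17f07))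
(.node 7079 (.leaf 0x17f09)
(.leaf 0x17f0b))))
(.node 7084 (.node 7082 (.node 7081 (.leaf 0x17f27)
(.leaf 0x17f29))
(.node 7083 (.leaf 0x17f2b)
(.leaf 0x17f49)))
(.node 7086 (.node 7085 (.leaf 0x17f5a)
(.leaf 0x17f88))
(.node 7087 (.leaf 0x17f95)
(.leaf 0x17f98)))))
(.node 7096 (.node 7092 (.node 7090 (.node 7089 (.leaf 0x17fb8)
(.leaf 0x17fc9))
(.node 7091 (.leaf 0x17fcb)
(.leaf 0x17fd9)))
(.node 7094 (.node 7093 (.leaf 0x17fdb)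
(.leaf 0x18009))
(.node 7095 (.leaf 0x18026)
(.leaf 0x1802c))))
(.node 7100 (.node 7098 (.node 7097 (.leaf 0x18038)
(.leaf 0x18067))
(.node 7099 (.leaf 0x18069)
(.leaf 0x18079)))
(.node 7102 (.node 7101 (.leaf 0x180ba)
(.leaf 0x180d6))
(.node 7103 (.leaf 0x180d9)
(.leaf 0x180ea)))))))
(.node 7136 (.node 7120 (.node 7112 (.node 7108 (.node 7106 (.node 7105 (.leaf 0x180fa)
(.leaf 0x18127))
(.node 7107 (.leaf 0x1812c)
(.leaf 0x18147)))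
(.node 7110 (.node 7109 (.leaf 0x18158)
(.leaf 0x181a8))
(.node 7111 (.leaf 0x181c4)
(.leaf 0x181c8))))
(.node 7116 (.node 7114 (.node 7113 (.leaf 0x18208)
(.leaf 0x18239))
(.node 7115 (.leaf 0x18259)
(.leaf 0x1825b)))
(.node 7118 (.node 7117 (.leaf 0x1826b)
(.leaf 0x18276))
(.node 7119 (.leaf 0x1828b)
(.leaf 0x182ab)))))
(.node 7128 (.node 7124 (.node 7122 (.node 7121 (.leaf 0x182b5)
(.leaf 0x182b8))
(.node 7123 (.leaf 0x182d8)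
(.leaf 0x182e7)))
(.node 7126 (.node 7125 (.leaf 0x182e9)
(.leaf 0x182eb))
(.node 7127 (.leaf 0x182f7)
(.leaf 0x182f9))))
(.node 7132 (.node 7130 (.node 7129 (.leaf 0x18309)
(.leaf 0x18339))
(.node 7131 (.leaf 0x18348)
(.leaf 0x18357)))
(.node 7134 (.node 7133 (.leaf 0x18359)
(.leaf 0x1835b))
(.node 7135 (.leaf 0x18377)
(.leaf 0x18379))))))
(.node 7152 (.node 7144 (.node 7140 (.node 7138 (.node 7137 (.leaf 0x18389)
(.leaf 0x1838b))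
(.node 7139 (.leaf 0x1839b)
(.leaf 0x183b9)))
(.node 7142 (.node 7141 (.leaf 0x183f7)
(.leaf 0x18409))
(.node 7143 (.leaf 0x1841a)
(.leaf 0x18436))))
(.node 7148 (.node 7146 (.node 7145 (.leaf 0x18439)
(.leaf 0x18487))
(.node 7147 (.leaf 0x184a6)
(.leaf 0x184da)))
(.node 7150 (.node 7149 (.leaf 0x184e6)
(.leaf 0x184f7))
(.node 7151 (.leaf 0x184f9)
(.leaf 0x18528)))))
(.node 7160 (.node 7156 (.node 7154 (.node 7153 (.leaf 0x18537)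
(.leaf 0x18547))
(.node 7155 (.leaf 0x1854b)
(.leaf 0x18586)))
(.node 7158 (.node 7157 (.leaf 0x185a9)
(.leaf 0x185ab))
(.node 7159 (.leaf 0x185bb)
(.leaf 0x1863b))))
(.node 7164 (.node 7162 (.node 7161 (.leaf 0x1865c)
(.leaf 0x18687))
(.node 7163 (.leaf 0x18698)
(.leaf 0x186a8)))
(.node 7166 (.node 7165 (.leaf 0x186b6)
(.leaf 0x186b8))
(.node 7167 (.leaf 0x18706)
(.leaf 0x18718)))))))))

/-- part of a trie -/
def parPart28 : Tr :=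
(.node 7296 (.node 7232 (.node 7200 (.node 7184 (.node 7176 (.node 7172 (.node 7170 (.node 7169 (.leaf 0x18748)
(.leaf 0x18759))
(.node 7171 (.leaf 0x18767)
(.leaf 0x18769)))
(.node 7174 (.node 7173 (.leaf 0x187ba)
(.leaf 0x187f8))
(.node 7175 (.leaf 0x18865)
(.leaf 0x18867))))
(.node 7180 (.node 7178 (.node 7177 (.leaf 0x18874)
(.leaf 0x18877))
(.node 7179 (.leaf 0x18888)
(.leaf 0x18894)))
(.node 7182 (.node 7181 (.leaf 0x18897)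
(.leaf 0x188a8))
(.node 7183 (.leaf 0x188b7)
(.leaf 0x188c6)))))
(.node 7192 (.node 7188 (.node 7186 (.node 7185 (.leaf 0x188c8)
(.leaf 0x188ea))
(.node 7187 (.leaf 0x188f7)
(.leaf 0x18906)))
(.node 7190 (.node 7189 (.leaf 0x18908)
(.leaf 0x18918))
(.node 7191 (.leaf 0x18937)
(.leaf 0x18946))))
(.node 7196 (.node 7194 (.node 7193 (.leaf 0x18948)
(.leaf 0x18955))
(.node 7195 (.leaf 0x18958)
(.leaf 0x18969)))
(.node 7198 (.node 7197 (.leaf 0x18977)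
(.leaf 0x18979))
(.node 7199 (.leaf 0x1897b)
(.leaf 0x189a6))))))
(.node 7216 (.node 7208 (.node 7204 (.node 7202 (.node 7201 (.leaf 0x189a8)
(.leaf 0x189b8))
(.node 7203 (.leaf 0x189bb)
(.leaf 0x189c9)))
(.node 7206 (.node 7205 (.leaf 0x189d7)
(.leaf 0x189db))
(.node 7207 (.leaf 0x18a0b)
(.leaf 0x18a26))))
(.node 7212 (.node 7210 (.node 7209 (.leaf 0x18a37)
(.leaf 0x18a48))
(.node 7211 (.leaf 0x18a57)
(.leaf 0x18a68)))
(.node 7214 (.node 7213 (.leaf 0x18a76)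
(.leaf 0x18a78))
(.node 7215 (.leaf 0x18a97)
(.leaf 0x18aa6)))))
(.node 7224 (.node 7220 (.node 7218 (.node 7217 (.leaf 0x18aa8)
(.leaf 0x18ab8))
(.node 7219 (.leaf 0x18ad6)
(.leaf 0x18ad8)))
(.node 7222 (.node 7221 (.leaf 0x18af8)
(.leaf 0x18afb))
(.node 7223 (.leaf 0x18b16)
(.leaf 0x18b25))))
(.node 7228 (.node 7226 (.node 7225 (.leaf 0x18b28)
(.leaf 0x18b2b))
(.node 7227 (.leaf 0x18b47)
(.leaf 0x18b57)))
(.node 7230 (.node 7229 (.leaf 0x18b66)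
(.leaf 0x18b78))
(.node 7231 (.leaf 0x18b96)
(.leaf 0x18ba5)))))))
(.node 7264 (.node 7248 (.node 7240 (.node 7236 (.node 7234 (.node 7233 (.leaf 0x18ba8)
(.leaf 0x18bab))
(.node 7235 (.leaf 0x18bc7)
(.leaf 0x18bcb)))
(.node 7238 (.node 7237 (.leaf 0x18bd6)
(.leaf 0x18be5))
(.node 7239 (.leaf 0x18be8)
(.leaf 0x18beb))))
(.node 7244 (.node 7242 (.node 7241 (.leaf 0x18c0b)
(.leaf 0x18c26))
(.node 7243 (.leaf 0x18c28)
(.leaf 0x18c35)))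
(.node 7246 (.node 7245 (.leaf 0x18c38)
(.leaf 0x18c3b))
(.node 7247 (.leaf 0x18c58)
(.leaf 0x18c67)))))
(.node 7256 (.node 7252 (.node 7250 (.node 7249 (.leaf 0x18c6b)
(.leaf 0x18c8b))
(.node 7251 (.leaf 0x18ca8)
(.leaf 0x18cc7)))
(.node 7254 (.node 7253 (.leaf 0x18ce8)
(.leaf 0x18d08))
(.node 7255 (.leaf 0x18d17)
(.leaf 0x18d36))))
(.node 7260 (.node 7258 (.node 7257 (.leaf 0x18d46)
(.leaf 0x18d48))
(.node 7259 (.leaf 0x18d55)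
(.leaf 0x18d58)))
(.node 7262 (.node 7261 (.leaf 0x18d5b)
(.leaf 0x18d78))
(.node 7263 (.leaf 0x18d7b)
(.leaf 0x18d87))))))
(.node 7280 (.node 7272 (.node 7268 (.node 7266 (.node 7265 (.leaf 0x18d89)
(.leaf 0x18d8b))
(.node 7267 (.leaf 0x18dab)
(.leaf 0x18dba)))
(.node 7270 (.node 7269 (.leaf 0x18dbb)
(.leaf 0x18dd5))
(.node 7271 (.leaf 0x18dd8)
(.leaf 0x18ddb))))
(.node 7276 (.node 7274 (.node 7273 (.leaf 0x18de9)
(.leaf 0x18df8))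
(.node 7275 (.leaf 0x18dfb)
(.leaf 0x18e07)))
(.node 7278 (.node 7277 (.leaf 0x18e09)
(.leaf 0x18e0b))
(.node 7279 (.leaf 0x18e2a)
(.leaf 0x18e39)))))
(.node 7288 (.node 7284 (.node 7282 (.node 7281 (.leaf 0x18e3b)
(.leaf 0x18e5b))
(.node 7283 (.leaf 0x18e6b)
(.leaf 0x18e9c)))
(.node 7286 (.node 7285 (.leaf 0x18ec6)
(.leaf 0x18ee7))
(.node 7287 (.leaf 0x18ef8)
(.leaf 0x18f17))))
(.node 7292 (.node 7290 (.node 7289 (.leaf 0x18f26)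
(.leaf 0x18f28))
(.node 7291 (.leaf 0x18f38)
(.leaf 0x18f66)))
(.node 7294 (.node 7293 (.leaf 0x18f68)
(.leaf 0x18f78))
(.node 7295 (.leaf 0x18f96)
(.leaf 0x18f98))))))))
(.node 7360 (.node 7328 (.node 7312 (.node 7304 (.node 7300 (.node 7298 (.node 7297 (.leaf 0x18fa5)
(.leaf 0x18fa8))
(.node 7299 (.leaf 0x18fab)
(.leaf 0x18fc7)))
(.node 7302 (.node 7301 (.leaf 0x18fcb)
(.leaf 0x18fd8))
(.node 7303 (.leaf 0x19008)
(.leaf 0x1900b))))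
(.node 7308 (.node 7306 (.node 7305 (.leaf 0x1901b)
(.leaf 0x19046))
(.node 7307 (.leaf 0x19055)
(.leaf 0x19069)))
(.node 7310 (.node 7309 (.leaf 0x19085)
(.leaf 0x19088))
(.node 7311 (.leaf 0x19098)
(.leaf 0x190a7)))))
(.node 7320 (.node 7316 (.node 7314 (.node 7313 (.leaf 0x190a9)
(.leaf 0x190ab))
(.node 7315 (.leaf 0x190ba)
(.leaf 0x190cb)))
(.node 7318 (.node 7317 (.leaf 0x190f7)
(.leaf 0x19109))
(.node 7319 (.leaf 0x1912b)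
(.leaf 0x1913a))))
(.node 7324 (.node 7322 (.node 7321 (.leaf 0x1918b)
(.leaf 0x191a6))
(.node 7323 (.leaf 0x191b7)
(.leaf 0x191d6)))
(.node 7326 (.node 7325 (.leaf 0x191d8)
(.leaf 0x191e5))
(.node 7327 (.leaf 0x191e8)
(.leaf 0x191f9))))))
(.node 7344 (.node 7336 (.node 7332 (.node 7330 (.node 7329 (.leaf 0x19208)
(.leaf 0x19217))
(.node 7331 (.leaf 0x19219)
(.leaf 0x19239)))
(.node 7334 (.node 7333 (.leaf 0x19248)
(.leaf 0x19259))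
(.node 7335 (.leaf 0x19268)
(.leaf 0x19277))))
(.node 7340 (.node 7338 (.node 7337 (.leaf 0x19279)
(.leaf 0x1927b))
(.node 7339 (.leaf 0x192cb)
(.leaf 0x19305)))
(.node 7342 (.node 7341 (.leaf 0x19308)
(.leaf 0x19328))
(.node 7343 (.leaf 0x19337)
(.leaf 0x19347)))))
(.node 7352 (.node 7348 (.node 7346 (.node 7345 (.leaf 0x19357)
(.leaf 0x19397))
(.node 7347 (.leaf 0x193ab)
(.leaf 0x193c8)))
(.node 7350 (.node 7349 (.leaf 0x193e7)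
(.leaf 0x19418))
(.node 7351 (.leaf 0x19438)
(.leaf 0x19457))))
(.node 7356 (.node 7354 (.node 7353 (.leaf 0x19459)
(.leaf 0x19487))
(.node 7355 (.leaf 0x1948b)
(.leaf 0x19497)))
(.node 7358 (.node 7357 (.leaf 0x194a6)
(.leaf 0x194a8))
(.node 7359 (.leaf 0x194b5)
(.leaf 0x194b8)))))))
(.node 7392 (.node 7376 (.node 7368 (.node 7364 (.node 7362 (.node 7361 (.leaf 0x194c9)
(.leaf 0x194d7))
(.node 7363 (.leaf 0x194d9)
(.leaf 0x194db)))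
(.node 7366 (.node 7365 (.leaf 0x194f9)
(.leaf 0x1951c))
(.node 7367 (.leaf 0x19526)
(.leaf 0x19528))))
(.node 7372 (.node 7370 (.node 7369 (.leaf 0x19538)
(.leaf 0x19549))
(.node 7371 (.leaf 0x19554)
(.leaf 0x19558)))
(.node 7374 (.node 7373 (.leaf 0x19567)
(.leaf 0x19569))
(.node 7375 (.leaf 0x19587)
(.leaf 0x19589)))))
(.node 7384 (.node 7380 (.node 7378 (.node 7377 (.leaf 0x19599)
(.leaf 0x195b8))
(.node 7379 (.leaf 0x195c6)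
(.leaf 0x195c8)))
(.node 7382 (.node 7381 (.leaf 0x195d8)
(.leaf 0x195fb))
(.node 7383 (.leaf 0x1961c)
(.leaf 0x19637))))
(.node 7388 (.node 7386 (.node 7385 (.leaf 0x19648)
(.leaf 0x19653))
(.node 7387 (.leaf 0x19657)
(.leaf 0x19666)))
(.node 7390 (.node 7389 (.leaf 0x19668)
(.leaf 0x19679))
(.node 7391 (.leaf 0x19686)
(.leaf 0x19688))))))
(.node 7408 (.node 7400 (.node 7396 (.node 7394 (.node 7393 (.leaf 0x19698)
(.leaf 0x196b7))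
(.node 7395 (.leaf 0x196c6)
(.leaf 0x196c8)))
(.node 7398 (.node 7397 (.leaf 0x196e7)
(.leaf 0x196f6))
(.node 7399 (.leaf 0x196f8)
(.leaf 0x19708))))
(.node 7404 (.node 7402 (.node 7401 (.leaf 0x1972a)
(.leaf 0x19738))
(.node 7403 (.leaf 0x1975b)
(.leaf 0x1976c)))
(.node 7406 (.node 7405 (.leaf 0x19777)
(.leaf 0x1977b))
(.node 7407 (.leaf 0x19787)
(.leaf 0x19796)))))
(.node 7416 (.node 7412 (.node 7410 (.node 7409 (.leaf 0x19798)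
(.leaf 0x197a5))
(.node 7411 (.leaf 0x197a8)
(.leaf 0x197ab)))
(.node 7414 (.node 7413 (.leaf 0x197b9)
(.leaf 0x197c8))
(.node 7415 (.leaf 0x197cb)
(.leaf 0x197d7))))
(.node 7420 (.node 7418 (.node 7417 (.leaf 0x197d9)
(.leaf 0x19809))
(.node 7419 (.leaf 0x19836)
(.leaf 0x19838)))
(.node 7422 (.node 7421 (.leaf 0x19845)
(.leaf 0x19848))
(.node 7423 (.leaf 0x1984b)
(.leaf 0x19859)))))))))

/-- part of a trie -/
def parPart29 : Tr :=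
(.node 7552 (.node 7488 (.node 7456 (.node 7440 (.node 7432 (.node 7428 (.node 7426 (.node 7425 (.leaf 0x19868)
(.leaf 0x19877))
(.node 7427 (.leaf 0x19879)
(.leaf 0x1987b)))
(.node 7430 (.node 7429 (.leaf 0x1988c)
(.leaf 0x1989a))
(.node 7431 (.leaf 0x198ab)
(.leaf 0x198bc))))
(.node 7436 (.node 7434 (.node 7433 (.leaf 0x198f7)
(.leaf 0x19916))
(.node 7435 (.leaf 0x19918)
(.leaf 0x19937)))
(.node 7438 (.node 7437 (.leaf 0x19946)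
(.leaf 0x19948))
(.node 7439 (.leaf 0x19958)
(.leaf 0x19977)))))
(.node 7448 (.node 7444 (.node 7442 (.node 7441 (.leaf 0x1997b)
(.leaf 0x19988))
(.node 7443 (.leaf 0x1998b)
(.leaf 0x199a6)))
(.node 7446 (.node 7445 (.leaf 0x199b5)
(.leaf 0x199b8))
(.node 7447 (.leaf 0x199bb)
(.leaf 0x199d7))))
(.node 7452 (.node 7450 (.node 7449 (.leaf 0x199d9)
(.leaf 0x199db))
(.node 7451 (.leaf 0x199ec)
(.leaf 0x199f5)))
(.node 7454 (.node 7453 (.leaf 0x199fb)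
(.leaf 0x19a18))
(.node 7455 (.leaf 0x19a1b)
(.leaf 0x19a27))))))
(.node 7472 (.node 7464 (.node 7460 (.node 7458 (.node 7457 (.leaf 0x19a29)
(.leaf 0x19a2b))
(.node 7459 (.leaf 0x19a49)
(.leaf 0x19a4b)))
(.node 7462 (.node 7461 (.leaf 0x19a5b)
(.leaf 0x19a85))
(.node 7463 (.leaf 0x19a88)
(.leaf 0x19aa7))))
(.node 7468 (.node 7466 (.node 7465 (.leaf 0x19aa9)
(.leaf 0x19ac8))
(.node 7467 (.leaf 0x19acb)
(.leaf 0x19ad7)))
(.node 7470 (.node 7469 (.leaf 0x19ad9)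
(.leaf 0x19adb))
(.node 7471 (.leaf 0x19afa)
(.leaf 0x19b09)))))
(.node 7480 (.node 7476 (.node 7474 (.node 7473 (.leaf 0x19b0b)
(.leaf 0x19b28))
(.node 7475 (.leaf 0x19b35)
(.leaf 0x19b38)))
(.node 7478 (.node 7477 (.leaf 0x19b3b)
(.leaf 0x19b49))
(.node 7479 (.leaf 0x19b58)
(.leaf 0x19b5b))))
(.node 7484 (.node 7482 (.node 7481 (.leaf 0x19b67)
(.leaf 0x19b69))
(.node 7483 (.leaf 0x19b6b)
(.leaf 0x19b8a)))
(.node 7486 (.node 7485 (.leaf 0x19b99)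
(.leaf 0x19b9b))
(.node 7487 (.leaf 0x19baa)
(.leaf 0x19bab)))))))
(.node 7520 (.node 7504 (.node 7496 (.node 7492 (.node 7490 (.node 7489 (.leaf 0x19bc6)
(.leaf 0x19bc8))
(.node 7491 (.leaf 0x19bd5)
(.leaf 0x19bd8)))
(.node 7494 (.node 7493 (.leaf 0x19be9)
(.leaf 0x19bf4))
(.node 7495 (.leaf 0x19bf8)
(.leaf 0x19bfb))))
(.node 7500 (.node 7498 (.node 7497 (.leaf 0x19c07)
(.leaf 0x19c09))
(.node 7499 (.leaf 0x19c0b)
(.leaf 0x19c2a)))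
(.node 7502 (.node 7501 (.leaf 0x19c37)
(.leaf 0x19c39))
(.node 7503 (.leaf 0x19c3b)
(.leaf 0x19c59)))))
(.node 7512 (.node 7508 (.node 7506 (.node 7505 (.leaf 0x19c5b)
(.leaf 0x19c6a))
(.node 7507 (.leaf 0x19c6b)
(.leaf 0x19c7c)))
(.node 7510 (.node 7509 (.leaf 0x19c8b)
(.leaf 0x19cd8))
(.node 7511 (.leaf 0x19ce7)
(.leaf 0x19ce9))))
(.node 7516 (.node 7514 (.node 7513 (.leaf 0x19ceb)
(.leaf 0x19cfa))
(.node 7515 (.leaf 0x19d07)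
(.leaf 0x19d09)))
(.node 7518 (.node 7517 (.leaf 0x19d38)
(.leaf 0x19d48))
(.node 7519 (.leaf 0x19d77)
(.leaf 0x19d79))))))
(.node 7536 (.node 7528 (.node 7524 (.node 7522 (.node 7521 (.leaf 0x19d8a)
(.leaf 0x19d98))
(.node 7523 (.leaf 0x19da7)
(.leaf 0x19da9)))
(.node 7526 (.node 7525 (.leaf 0x19dab)
(.leaf 0x19db9))
(.node 7527 (.leaf 0x19dbb)
(.leaf 0x19e09))))
(.node 7532 (.node 7530 (.node 7529 (.leaf 0x19e1a)
(.leaf 0x19e1b))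
(.node 7531 (.leaf 0x19e2c)
(.leaf 0x19e4a)))
(.node 7534 (.node 7533 (.leaf 0x19e56)
(.leaf 0x19e5c))
(.node 7535 (.leaf 0x19e9c)
(.leaf 0x19eb5)))))
(.node 7544 (.node 7540 (.node 7538 (.node 7537 (.leaf 0x19eb8)
(.leaf 0x19ed4))
(.node 7539 (.leaf 0x19ed8)
(.leaf 0x19edb)))
(.node 7542 (.node 7541 (.leaf 0x19ee9)
(.leaf 0x19eeb))
(.node 7543 (.leaf 0x19f09)
(.leaf 0x19f0b))))
(.node 7548 (.node 7546 (.node 7545 (.leaf 0x19f2a)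
(.leaf 0x19f2b))
(.node 7547 (.leaf 0x19f4b)
(.leaf 0x19f64)))
(.node 7550 (.node 7549 (.leaf 0x19f68)
(.leaf 0x19f79))
(.node 7551 (.leaf 0x19f7b)
(.leaf 0x19f8a))))))))
(.node 7616 (.node 7584 (.node 7568 (.node 7560 (.node 7556 (.node 7554 (.node 7553 (.leaf 0x19f98)
(.leaf 0x19fa9))
(.node 7555 (.leaf 0x19fab)
(.leaf 0x19fb6)))
(.node 7558 (.node 7557 (.leaf 0x19fc9)
(.leaf 0x19fdb))
(.node 7559 (.leaf 0x19fec)
(.leaf 0x1a00b))))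
(.node 7564 (.node 7562 (.node 7561 (.leaf 0x1a02b)
(.leaf 0x1a03c))
(.node 7563 (.leaf 0x1a06b)
(.leaf 0x1a076)))
(.node 7566 (.node 7565 (.leaf 0x1a07c)
(.leaf 0x1a0a5))
(.node 7567 (.leaf 0x1a0ac)
(.leaf 0x1a0d9)))))
(.node 7576 (.node 7572 (.node 7570 (.node 7569 (.leaf 0x1a0e8)
(.leaf 0x1a0f7))
(.node 7571 (.leaf 0x1a0fb)
(.leaf 0x1a10b)))
(.node 7574 (.node 7573 (.leaf 0x1a11a)
(.leaf 0x1a135))
(.node 7575 (.leaf 0x1a138)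
(.leaf 0x1a148))))
(.node 7580 (.node 7578 (.node 7577 (.leaf 0x1a157)
(.leaf 0x1a178))
(.node 7579 (.leaf 0x1a17b)
(.leaf 0x1a187)))
(.node 7582 (.node 7581 (.leaf 0x1a18b)
(.leaf 0x1a1ab))
(.node 7583 (.leaf 0x1a1cb)
(.leaf 0x1a1fa))))))
(.node 7600 (.node 7592 (.node 7588 (.node 7586 (.node 7585 (.leaf 0x1a207)
(.leaf 0x1a209))
(.node 7587 (.leaf 0x1a20b)
(.leaf 0x1a216)))
(.node 7590 (.node 7589 (.leaf 0x1a229)
(.leaf 0x1a22b))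
(.node 7591 (.leaf 0x1a23a)
(.leaf 0x1a289))))
(.node 7596 (.node 7594 (.node 7593 (.leaf 0x1a294)
(.leaf 0x1a298))
(.node 7595 (.leaf 0x1a29b)
(.leaf 0x1a2c7)))
(.node 7598 (.node 7597 (.leaf 0x1a2c9)
(.leaf 0x1a2cb))
(.node 7599 (.leaf 0x1a2e9)
(.leaf 0x1a308)))))
(.node 7608 (.node 7604 (.node 7602 (.node 7601 (.leaf 0x1a324)
(.leaf 0x1a328))
(.node 7603 (.leaf 0x1a337)
(.leaf 0x1a358)))
(.node 7606 (.node 7605 (.leaf 0x1a367)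
(.leaf 0x1a36b))
(.node 7607 (.leaf 0x1a3a9)
(.leaf 0x1a3c6))))
(.node 7612 (.node 7610 (.node 7609 (.leaf 0x1a3d8)
(.leaf 0x1a406))
(.node 7611 (.leaf 0x1a409)
(.leaf 0x1a428)))
(.node 7614 (.node 7613 (.leaf 0x1a447)
(.leaf 0x1a477))
(.node 7615 (.leaf 0x1a488)
(.leaf 0x1a498)))))))
(.node 7648 (.node 7632 (.node 7624 (.node 7620 (.node 7618 (.node 7617 (.leaf 0x1a49b)
(.leaf 0x1a4c8))
(.node 7619 (.leaf 0x1a4f6)
(.leaf 0x1a508)))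
(.node 7622 (.node 7621 (.leaf 0x1a50b)
(.leaf 0x1a545))
(.node 7623 (.leaf 0x1a548)
(.leaf 0x1a564))))
(.node 7628 (.node 7626 (.node 7625 (.leaf 0x1a568)
(.leaf 0x1a577))
(.node 7627 (.leaf 0x1a579)
(.leaf 0x1a57b)))
(.node 7630 (.node 7629 (.leaf 0x1a597)
(.leaf 0x1a599))
(.node 7631 (.leaf 0x1a5a9)
(.leaf 0x1a5e8)))))
(.node 7640 (.node 7636 (.node 7634 (.node 7633 (.leaf 0x1a608)
(.leaf 0x1a617))
(.node 7635 (.leaf 0x1a637)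
(.leaf 0x1a649)))
(.node 7638 (.node 7637 (.leaf 0x1a64b)
(.leaf 0x1a66c))
(.node 7639 (.leaf 0x1a68b)
(.leaf 0x1a6b8))))
(.node 7644 (.node 7642 (.node 7641 (.leaf 0x1a6bb)
(.leaf 0x1a6c6))
(.node 7643 (.leaf 0x1a6f4)
(.leaf 0x1a6f8)))
(.node 7646 (.node 7645 (.leaf 0x1a707)
(.leaf 0x1a709))
(.node 7647 (.leaf 0x1a727)
(.leaf 0x1a729))))))
(.node 7664 (.node 7656 (.node 7652 (.node 7650 (.node 7649 (.leaf 0x1a739)
(.leaf 0x1a774))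
(.node 7651 (.leaf 0x1a778)
(.leaf 0x1a787)))
(.node 7654 (.node 7653 (.leaf 0x1a789)
(.leaf 0x1a78b))
(.node 7655 (.leaf 0x1a7a8)
(.leaf 0x1a7b7))))
(.node 7660 (.node 7658 (.node 7657 (.leaf 0x1a7b9)
(.leaf 0x1a7c9))
(.node 7659 (.leaf 0x1a7cb)
(.leaf 0x1a7da)))
(.node 7662 (.node 7661 (.leaf 0x1a7db)
(.leaf 0x1a809))
(.node 7663 (.leaf 0x1a837)
(.leaf 0x1a849)))))
(.node 7672 (.node 7668 (.node 7666 (.node 7665 (.leaf 0x1a84b)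
(.leaf 0x1a876))
(.node 7667 (.leaf 0x1a8a7)
(.leaf 0x1a8d7)))
(.node 7670 (.node 7669 (.leaf 0x1a8e6)
(.leaf 0x1a8eb))
(.node 7671 (.leaf 0x1a906)
(.leaf 0x1a926))))
(.node 7676 (.node 7674 (.node 7673 (.leaf 0x1a935)
(.leaf 0x1a94b))
(.node 7675 (.leaf 0x1a957)
(.leaf 0x1a995)))
(.node 7678 (.node 7677 (.leaf 0x1a9b7)
(.leaf 0x1a9f5))
(.node 7679 (.leaf 0x1a9f8)
(.leaf 0x1aa17)))))))))

/-- part of a trie -/
def parPart30 : Tr :=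
(.node 7808 (.node 7744 (.node 7712 (.node 7696 (.node 7688 (.node 7684 (.node 7682 (.node 7681 (.leaf 0x1aa48)
(.leaf 0x1aa57))
(.node 7683 (.leaf 0x1aa77)
(.leaf 0x1aa95)))
(.node 7686 (.node 7685 (.leaf 0x1aa98)
(.leaf 0x1aa9b))
(.node 7687 (.leaf 0x1aab8)
(.leaf 0x1aabb))))
(.node 7692 (.node 7690 (.node 7689 (.leaf 0x1aac7)
(.leaf 0x1aac9))
(.node 7691 (.leaf 0x1aacb)
(.leaf 0x1aae9)))
(.node 7694 (.node 7693 (.leaf 0x1aaeb)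
(.leaf 0x1aafb))
(.node 7695 (.leaf 0x1ab0c)
(.leaf 0x1ab24)))))
(.node 7704 (.node 7700 (.node 7698 (.node 7697 (.leaf 0x1ab28)
(.leaf 0x1ab2b))
(.node 7699 (.leaf 0x1ab37)
(.leaf 0x1ab39)))
(.node 7702 (.node 7701 (.leaf 0x1ab57)
(.leaf 0x1ab59))
(.node 7703 (.leaf 0x1ab5b)
(.leaf 0x1ab79))))
(.node 7708 (.node 7706 (.node 7705 (.leaf 0x1ab7b)
(.leaf 0x1abab))
(.node 7707 (.leaf 0x1abf7)
(.leaf 0x1ac16)))
(.node 7710 (.node 7709 (.leaf 0x1ac19)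
(.leaf 0x1ac56))
(.node 7711 (.leaf 0x1ac58)
(.leaf 0x1ac68))))))
(.node 7728 (.node 7720 (.node 7716 (.node 7714 (.node 7713 (.leaf 0x1ac88)
(.leaf 0x1ac8b))
(.node 7715 (.leaf 0x1aca9)
(.leaf 0x1acab)))
(.node 7718 (.node 7717 (.leaf 0x1acb6)
(.leaf 0x1acc5))
(.node 7719 (.leaf 0x1acc8)
(.leaf 0x1accb))))
(.node 7724 (.node 7722 (.node 7721 (.leaf 0x1ace7)
(.leaf 0x1ace9))
(.node 7723 (.leaf 0x1aceb)
(.leaf 0x1acf5)))
(.node 7726 (.node 7725 (.leaf 0x1acfb)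
(.leaf 0x1ad08))
(.node 7727 (.leaf 0x1ad0b)
(.leaf 0x1ad17)))))
(.node 7736 (.node 7732 (.node 7730 (.node 7729 (.leaf 0x1ad1b)
(.leaf 0x1ad39))
(.node 7731 (.leaf 0x1ad4b)
(.leaf 0x1ad5c)))
(.node 7734 (.node 7733 (.leaf 0x1ad65)
(.leaf 0x1ad68))
(.node 7735 (.leaf 0x1ad6b)
(.leaf 0x1ad78))))
(.node 7740 (.node 7738 (.node 7737 (.leaf 0x1ad7b)
(.leaf 0x1ad87))
(.node 7739 (.leaf 0x1ad89)
(.leaf 0x1ad8b)))
(.node 7742 (.node 7741 (.leaf 0x1adaa)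
(.leaf 0x1adb9))
(.node 7743 (.leaf 0x1adca)
(.leaf 0x1adcb)))))))
(.node 7776 (.node 7760 (.node 7752 (.node 7748 (.node 7746 (.node 7745 (.leaf 0x1add6)
(.leaf 0x1add8))
(.node 7747 (.leaf 0x1ade5)
(.leaf 0x1ade8)))
(.node 7750 (.node 7749 (.leaf 0x1adf9)
(.leaf 0x1ae04))
(.node 7751 (.leaf 0x1ae08)
(.leaf 0x1ae0b))))
(.node 7756 (.node 7754 (.node 7753 (.leaf 0x1ae17)
(.leaf 0x1ae19))
(.node 7755 (.leaf 0x1ae1b)
(.leaf 0x1ae47)))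
(.node 7758 (.node 7757 (.leaf 0x1ae49)
(.leaf 0x1ae4b))
(.node 7759 (.leaf 0x1ae69)
(.leaf 0x1ae6b)))))
(.node 7768 (.node 7764 (.node 7762 (.node 7761 (.leaf 0x1ae7a)
(.leaf 0x1ae7b))
(.node 7763 (.leaf 0x1aea8)
(.leaf 0x1aeab)))
(.node 7766 (.node 7765 (.leaf 0x1aee8)
(.leaf 0x1aef9))
(.node 7767 (.leaf 0x1af08)
(.leaf 0x1af17))))
(.node 7772 (.node 7770 (.node 7769 (.leaf 0x1af19)
(.leaf 0x1af38))
(.node 7771 (.leaf 0x1af47)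
(.leaf 0x1af49)))
(.node 7774 (.node 7773 (.leaf 0x1af4b)
(.leaf 0x1af59))
(.node 7775 (.leaf 0x1af89)
(.leaf 0x1afb8))))))
(.node 7792 (.node 7784 (.node 7780 (.node 7778 (.node 7777 (.leaf 0x1afd5)
(.leaf 0x1afd8))
(.node 7779 (.leaf 0x1aff7)
(.leaf 0x1aff9)))
(.node 7782 (.node 7781 (.leaf 0x1affb)
(.leaf 0x1b02b))
(.node 7783 (.leaf 0x1b04b)
(.leaf 0x1b075))))
(.node 7788 (.node 7786 (.node 7785 (.leaf 0x1b078)
(.leaf 0x1b094))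
(.node 7787 (.leaf 0x1b098)
(.leaf 0x1b09b)))
(.node 7790 (.node 7789 (.leaf 0x1b0a9)
(.leaf 0x1b0ab))
(.node 7791 (.leaf 0x1b0c7)
(.leaf 0x1b0c9)))))
(.node 7800 (.node 7796 (.node 7794 (.node 7793 (.leaf 0x1b0cb)
(.leaf 0x1b0d6))
(.node 7795 (.leaf 0x1b0dc)
(.leaf 0x1b0e9)))
(.node 7798 (.node 7797 (.leaf 0x1b0eb)
(.leaf 0x1b0fb))
(.node 7799 (.leaf 0x1b118)
(.leaf 0x1b11b))))
(.node 7804 (.node 7802 (.node 7801 (.leaf 0x1b135)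
(.leaf 0x1b138))
(.node 7803 (.leaf 0x1b13b)
(.leaf 0x1b148)))
(.node 7806 (.node 7805 (.leaf 0x1b14b)
(.leaf 0x1b157))
(.node 7807 (.leaf 0x1b159)
(.leaf 0x1b15b))))))))
(.node 7872 (.node 7840 (.node 7824 (.node 7816 (.node 7812 (.node 7810 (.node 7809 (.leaf 0x1b17a)
(.leaf 0x1b189))
(.node 7811 (.leaf 0x1b18b)
(.leaf 0x1b19b)))
(.node 7814 (.node 7813 (.leaf 0x1b1b7)
(.leaf 0x1b1b9))
(.node 7815 (.leaf 0x1b1c9)
(.leaf 0x1b1da))))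
(.node 7820 (.node 7818 (.node 7817 (.leaf 0x1b206)
(.leaf 0x1b208))
(.node 7819 (.leaf 0x1b215)
(.leaf 0x1b218)))
(.node 7822 (.node 7821 (.leaf 0x1b229)
(.leaf 0x1b234))
(.node 7823 (.leaf 0x1b238)
(.leaf 0x1b247)))))
(.node 7832 (.node 7828 (.node 7826 (.node 7825 (.leaf 0x1b249)
(.leaf 0x1b24b))
(.node 7827 (.leaf 0x1b267)
(.leaf 0x1b269)))
(.node 7830 (.node 7829 (.leaf 0x1b279)
(.leaf 0x1b27b))
(.node 7831 (.leaf 0x1b28a)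
(.leaf 0x1b2b8))))
(.node 7836 (.node 7834 (.node 7833 (.leaf 0x1b2c9)
(.leaf 0x1b2d7))
(.node 7835 (.leaf 0x1b2d9)
(.leaf 0x1b2db)))
(.node 7838 (.node 7837 (.leaf 0x1b2ea)
(.leaf 0x1b2f8))
(.node 7839 (.leaf 0x1b307)
(.leaf 0x1b309))))))
(.node 7856 (.node 7848 (.node 7844 (.node 7842 (.node 7841 (.leaf 0x1b30b)
(.leaf 0x1b329))
(.node 7843 (.leaf 0x1b32b)
(.leaf 0x1b33a)))
(.node 7846 (.node 7845 (.leaf 0x1b33b)
(.leaf 0x1b369))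
(.node 7847 (.leaf 0x1b36b)
(.leaf 0x1b37b))))
(.node 7852 (.node 7850 (.node 7849 (.leaf 0x1b386)
(.leaf 0x1b38c))
(.node 7851 (.leaf 0x1b398)
(.leaf 0x1b39b)))
(.node 7854 (.node 7853 (.leaf 0x1b3ac)
(.leaf 0x1b3bc))
(.node 7855 (.leaf 0x1b3db)
(.leaf 0x1b3f8)))))
(.node 7864 (.node 7860 (.node 7858 (.node 7857 (.leaf 0x1b407)
(.leaf 0x1b427))
(.node 7859 (.leaf 0x1b429)
(.leaf 0x1b439)))
(.node 7862 (.node 7861 (.leaf 0x1b459)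
(.leaf 0x1b45b))
(.node 7863 (.leaf 0x1b47c)
(.leaf 0x1b498))))
(.node 7868 (.node 7866 (.node 7865 (.leaf 0x1b4a6)
(.leaf 0x1b4ac))
(.node 7867 (.leaf 0x1b4b8)
(.leaf 0x1b4c7)))
(.node 7870 (.node 7869 (.leaf 0x1b4d7)
(.leaf 0x1b4d9))
(.node 7871 (.leaf 0x1b4e9)
(.leaf 0x1b506)))))))
(.node 7904 (.node 7888 (.node 7880 (.node 7876 (.node 7874 (.node 7873 (.leaf 0x1b509)
(.leaf 0x1b50b))
(.node 7875 (.leaf 0x1b51a)
(.leaf 0x1b52c)))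
(.node 7878 (.node 7877 (.leaf 0x1b548)
(.leaf 0x1b54a))
(.node 7879 (.leaf 0x1b568)
(.leaf 0x1b56a))))
(.node 7884 (.node 7882 (.node 7881 (.leaf 0x1b57c)
(.leaf 0x1b5aa))
(.node 7883 (.leaf 0x1b5c5)
(.leaf 0x1b5cc)))
(.node 7886 (.node 7885 (.leaf 0x1b5f9)
(.leaf 0x1b60b))
(.node 7887 (.leaf 0x1b628)
(.leaf 0x1b62b)))))
(.node 7896 (.node 7892 (.node 7890 (.node 7889 (.leaf 0x1b63c)
(.leaf 0x1b648))
(.node 7891 (.leaf 0x1b64b)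
(.leaf 0x1b66c)))
(.node 7894 (.node 7893 (.leaf 0x1b677)
(.leaf 0x1b67c))
(.node 7895 (.leaf 0x1b696)
(.leaf 0x1b69c))))
(.node 7900 (.node 7898 (.node 7897 (.leaf 0x1b6bc)
(.leaf 0x1b6db))
(.node 7899 (.leaf 0x1b6eb)
(.leaf 0x1b705)))
(.node 7902 (.node 7901 (.leaf 0x1b718)
(.leaf 0x1b727))
(.node 7903 (.leaf 0x1b729)
(.leaf 0x1b739))))))
(.node 7920 (.node 7912 (.node 7908 (.node 7906 (.node 7905 (.leaf 0x1b74a)
(.leaf 0x1b754))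
(.node 7907 (.leaf 0x1b758)
(.leaf 0x1b75b)))
(.node 7910 (.node 7909 (.leaf 0x1b777)
(.leaf 0x1b779))
(.node 7911 (.leaf 0x1b77b)
(.leaf 0x1b799))))
(.node 7916 (.node 7914 (.node 7913 (.leaf 0x1b79b)
(.leaf 0x1b7cb))
(.node 7915 (.leaf 0x1b7f5)
(.leaf 0x1b7f8)))
(.node 7918 (.node 7917 (.leaf 0x1b818)
(.leaf 0x1b83b))
(.node 7919 (.leaf 0x1b858)
(.leaf 0x1b86b)))))
(.node 7928 (.node 7924 (.node 7922 (.node 7921 (.leaf 0x1b87b)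
(.leaf 0x1b89b))
(.node 7923 (.leaf 0x1b8ac)
(.leaf 0x1b8b6)))
(.node 7926 (.node 7925 (.leaf 0x1b8d4)
(.leaf 0x1b8d8))
(.node 7927 (.leaf 0x1b8e9)
(.leaf 0x1b8f7))))
(.node 7932 (.node 7930 (.node 7929 (.leaf 0x1b8f9)
(.leaf 0x1b909))
(.node 7931 (.leaf 0x1b91a)
(.leaf 0x1b948)))
(.node 7934 (.node 7933 (.leaf 0x1b957)
(.leaf 0x1b959))
(.node 7935 (.leaf 0x1b95b)
(.leaf 0x1b976)))))))))

/-- part of a trie -/
def parPart31 : Tr :=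
(.node 8064 (.node 8000 (.node 7968 (.node 7952 (.node 7944 (.node 7940 (.node 7938 (.node 7937 (.leaf 0x1b979)
(.leaf 0x1b97b))
(.node 7939 (.leaf 0x1b98a)
(.leaf 0x1b98b)))
(.node 7942 (.node 7941 (.leaf 0x1b9aa)
(.leaf 0x1b9ab))
(.node 7943 (.leaf 0x1b9e5)
(.leaf 0x1b9e8))))
(.node 7948 (.node 7946 (.node 7945 (.leaf 0x1ba08)
(.leaf 0x1ba17))
(.node 7947 (.leaf 0x1ba19)
(.leaf 0x1ba1b)))
(.node 7950 (.node 7949 (.leaf 0x1ba28)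
(.leaf 0x1ba37))
(.node 7951 (.leaf 0x1ba39)
(.leaf 0x1ba3b)))))
(.node 7960 (.node 7956 (.node 7954 (.node 7953 (.leaf 0x1ba6a)
(.leaf 0x1ba86))
(.node 7955 (.leaf 0x1ba89)
(.leaf 0x1baa6)))
(.node 7958 (.node 7957 (.leaf 0x1bab8)
(.leaf 0x1bae8))
(.node 7959 (.leaf 0x1bb09)
(.leaf 0x1bb0b))))
(.node 7964 (.node 7962 (.node 7961 (.leaf 0x1bb58)
(.leaf 0x1bb67))
(.node 7963 (.leaf 0x1bb6c)
(.leaf 0x1bb99)))
(.node 7966 (.node 7965 (.leaf 0x1bbd9)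
(.leaf 0x1bbea))
(.node 7967 (.leaf 0x1bc1c)
(.leaf 0x1bc2b))))))
(.node 7984 (.node 7976 (.node 7972 (.node 7970 (.node 7969 (.leaf 0x1bc38)
(.leaf 0x1bc68))
(.node 7971 (.leaf 0x1bc77)
(.leaf 0x1bcab)))
(.node 7974 (.node 7973 (.leaf 0x1bcb6)
(.leaf 0x1bcd7))
(.node 7975 (.leaf 0x1bce6)
(.leaf 0x1bd08))))
(.node 7980 (.node 7978 (.node 7977 (.leaf 0x1bd17)
(.leaf 0x1bd27))
(.node 7979 (.leaf 0x1bd2b)
(.leaf 0x1bd39)))
(.node 7982 (.node 7981 (.leaf 0x1bd66)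
(.leaf 0x1bd69))
(.node 7983 (.leaf 0x1bda7)
(.leaf 0x1bda9)))))
(.node 7992 (.node 7988 (.node 7986 (.node 7985 (.leaf 0x1bdb9)
(.leaf 0x1bdbb))
(.node 7987 (.leaf 0x1bdcb)
(.leaf 0x1bde9)))
(.node 7990 (.node 7989 (.leaf 0x1bdfb)
(.leaf 0x1be0b))
(.node 7991 (.leaf 0x1be1c)
(.leaf 0x1be2c))))
(.node 7996 (.node 7994 (.node 7993 (.leaf 0x1be46)
(.leaf 0x1be79))
(.node 7995 (.leaf 0x1be8a)
(.leaf 0x1be96)))
(.node 7998 (.node 7997 (.leaf 0x1bef7)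
(.leaf 0x1bf26))
(.node 7999 (.leaf 0x1bf37)
(.leaf 0x1bf4a)))))))
(.node 8032 (.node 8016 (.node 8008 (.node 8004 (.node 8002 (.node 8001 (.leaf 0x1bf4b)
(.leaf 0x1bf76))
(.node 8003 (.leaf 0x1bf98)
(.leaf 0x1bfc8)))
(.node 8006 (.node 8005 (.leaf 0x1bfe8)
(.leaf 0x1c009))
(.node 8007 (.leaf 0x1c029)
(.leaf 0x1c057))))
(.node 8012 (.node 8010 (.node 8009 (.leaf 0x1c067)
(.leaf 0x1c078))
(.node 8011 (.leaf 0x1c087)
(.leaf 0x1c096)))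
(.node 8014 (.node 8013 (.leaf 0x1c098)
(.leaf 0x1c0b7))
(.node 8015 (.leaf 0x1c0c6)
(.leaf 0x1c0c8)))))
(.node 8024 (.node 8020 (.node 8018 (.node 8017 (.leaf 0x1c0e6)
(.leaf 0x1c0e8))
(.node 8019 (.leaf 0x1c0f8)
(.leaf 0x1c126)))
(.node 8022 (.node 8021 (.leaf 0x1c128)
(.leaf 0x1c135))
(.node 8023 (.leaf 0x1c138)
(.leaf 0x1c13b))))
(.node 8028 (.node 8026 (.node 8025 (.leaf 0x1c157)
(.leaf 0x1c15b))
(.node 8027 (.leaf 0x1c166)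
(.leaf 0x1c168)))
(.node 8030 (.node 8029 (.leaf 0x1c175)
(.leaf 0x1c178))
(.node 8031 (.leaf 0x1c189)
(.leaf 0x1c198))))))
(.node 8048 (.node 8040 (.node 8036 (.node 8034 (.node 8033 (.leaf 0x1c1a7)
(.leaf 0x1c1a9))
(.node 8035 (.leaf 0x1c1ab)
(.leaf 0x1c1cb)))
(.node 8038 (.node 8037 (.leaf 0x1c1f8)
(.leaf 0x1c217))
(.node 8039 (.leaf 0x1c21b)
(.leaf 0x1c24b))))
(.node 8044 (.node 8042 (.node 8041 (.leaf 0x1c266)
(.leaf 0x1c277))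
(.node 8043 (.leaf 0x1c288)
(.leaf 0x1c2a6)))
(.node 8046 (.node 8045 (.leaf 0x1c2a8)
(.leaf 0x1c2c8))
(.node 8047 (.leaf 0x1c2e6)
(.leaf 0x1c2f5)))))
(.node 8056 (.node 8052 (.node 8050 (.node 8049 (.leaf 0x1c2f8)
(.leaf 0x1c317))
(.node 8051 (.leaf 0x1c31b)
(.leaf 0x1c328)))
(.node 8054 (.node 8053 (.leaf 0x1c32b)
(.leaf 0x1c34b))
(.node 8055 (.leaf 0x1c365)
(.leaf 0x1c368))))
(.node 8060 (.node 8058 (.node 8057 (.leaf 0x1c36b)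
(.leaf 0x1c378))
(.node 8059 (.leaf 0x1c37b)
(.leaf 0x1c387)))
(.node 8062 (.node 8061 (.leaf 0x1c38b)
(.leaf 0x1c3b6))
(.node 8063 (.leaf 0x1c3c5)
(.leaf 0x1c3db))))))))
(.node 8128 (.node 8096 (.node 8080 (.node 8072 (.node 8068 (.node 8066 (.node 8065 (.leaf 0x1c3e5)
(.leaf 0x1c3e8))
(.node 8067 (.leaf 0x1c3eb)
(.leaf 0x1c3f8)))
(.node 8070 (.node 8069 (.leaf 0x1c407)
(.leaf 0x1c40b))
(.node 8071 (.leaf 0x1c42b)
(.leaf 0x1c445))))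
(.node 8076 (.node 8074 (.node 8073 (.leaf 0x1c448)
(.leaf 0x1c44b))
(.node 8075 (.leaf 0x1c458)
(.leaf 0x1c46b)))
(.node 8078 (.node 8077 (.leaf 0x1c495)
(.leaf 0x1c498))
(.node 8079 (.leaf 0x1c49b)
(.leaf 0x1c4b4)))))
(.node 8088 (.node 8084 (.node 8082 (.node 8081 (.leaf 0x1c4b8)
(.leaf 0x1c4c7))
(.node 8083 (.leaf 0x1c4cb)
(.leaf 0x1c4e7)))
(.node 8086 (.node 8085 (.leaf 0x1c4eb)
(.leaf 0x1c4fb))
(.node 8087 (.leaf 0x1c516)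
(.leaf 0x1c527))))
(.node 8092 (.node 8090 (.node 8089 (.leaf 0x1c547)
(.leaf 0x1c575))
(.node 8091 (.leaf 0x1c585)
(.leaf 0x1c588)))
(.node 8094 (.node 8093 (.leaf 0x1c5a8)
(.leaf 0x1c5ab))
(.node 8095 (.leaf 0x1c5b7)
(.leaf 0x1c5b9))))))
(.node 8112 (.node 8104 (.node 8100 (.node 8098 (.node 8097 (.leaf 0x1c5bb)
(.leaf 0x1c5d9))
(.node 8099 (.leaf 0x1c5db)
(.leaf 0x1c5fb)))
(.node 8102 (.node 8101 (.leaf 0x1c60a)
(.leaf 0x1c60b))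
(.node 8103 (.leaf 0x1c626)
(.leaf 0x1c63b))))
(.node 8108 (.node 8106 (.node 8105 (.leaf 0x1c658)
(.leaf 0x1c65b))
(.node 8107 (.leaf 0x1c669)
(.leaf 0x1c66b)))
(.node 8110 (.node 8109 (.leaf 0x1c67c)
(.leaf 0x1c68a))
(.node 8111 (.leaf 0x1c697)
(.leaf 0x1c699)))))
(.node 8120 (.node 8116 (.node 8114 (.node 8113 (.leaf 0x1c69b)
(.leaf 0x1c6bb))
(.node 8115 (.leaf 0x1c6cb)
(.leaf 0x1c6dc)))
(.node 8118 (.node 8117 (.leaf 0x1c6fb)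
(.leaf 0x1c706))
(.node 8119 (.leaf 0x1c716)
(.leaf 0x1c72c))))
(.node 8124 (.node 8122 (.node 8121 (.leaf 0x1c758)
(.leaf 0x1c776))
(.node 8123 (.leaf 0x1c778)
(.leaf 0x1c785)))
(.node 8126 (.node 8125 (.leaf 0x1c788)
(.leaf 0x1c7a7))
(.node 8127 (.leaf 0x1c7b5)
(.leaf 0x1c7b8)))))))
(.node 8160 (.node 8144 (.node 8136 (.node 8132 (.node 8130 (.node 8129 (.leaf 0x1c7c9)
(.leaf 0x1c7d9))
(.node 8131 (.leaf 0x1c7e5)
(.leaf 0x1c7e8)))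
(.node 8134 (.node 8133 (.leaf 0x1c7eb)
(.leaf 0x1c808))
(.node 8135 (.leaf 0x1c80b)
(.leaf 0x1c817))))
(.node 8140 (.node 8138 (.node 8137 (.leaf 0x1c81b)
(.leaf 0x1c83b))
(.node 8139 (.leaf 0x1c86b)
(.leaf 0x1c876)))
(.node 8142 (.node 8141 (.leaf 0x1c895)
(.leaf 0x1c8ba))
(.node 8143 (.leaf 0x1c8c8)
(.leaf 0x1c8d9)))))
(.node 8152 (.node 8148 (.node 8146 (.node 8145 (.leaf 0x1c8e7)
(.leaf 0x1c8eb))
(.node 8147 (.leaf 0x1c8fb)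
(.leaf 0x1c90a)))
(.node 8150 (.node 8149 (.leaf 0x1c90b)
(.leaf 0x1c93c))
(.node 8151 (.leaf 0x1c949)
(.leaf 0x1c958))))
(.node 8156 (.node 8154 (.node 8153 (.leaf 0x1c966)
(.leaf 0x1c997))
(.node 8155 (.leaf 0x1c9a8)
(.leaf 0x1c9b5)))
(.node 8158 (.node 8157 (.leaf 0x1c9b8)
(.leaf 0x1c9c9))
(.node 8159 (.leaf 0x1c9d8)
(.leaf 0x1c9e7))))))
(.node 8176 (.node 8168 (.node 8164 (.node 8162 (.node 8161 (.leaf 0x1c9e9)
(.leaf 0x1ca07))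
(.node 8163 (.leaf 0x1ca19)
(.leaf 0x1ca79)))
(.node 8166 (.node 8165 (.leaf 0x1cab8)
(.leaf 0x1cac7))
(.node 8167 (.leaf 0x1cad7)
(.leaf 0x1cb1b))))
(.node 8172 (.node 8170 (.node 8169 (.leaf 0x1cb57)
(.leaf 0x1cb5b))
(.node 8171 (.leaf 0x1cb79)
(.leaf 0x1cb8b)))
(.node 8174 (.node 8173 (.leaf 0x1cb9b)
(.leaf 0x1cbb6))
(.node 8175 (.leaf 0x1cbb8)
(.leaf 0x1cbc5)))))
(.node 8184 (.node 8180 (.node 8178 (.node 8177 (.leaf 0x1cbc8)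
(.leaf 0x1cbd9))
(.node 8179 (.leaf 0x1cbe4)
(.leaf 0x1cbe8)))
(.node 8182 (.node 8181 (.leaf 0x1cbf7)
(.leaf 0x1cbf9))
(.node 8183 (.leaf 0x1cbfb)
(.leaf 0x1cc19))))
(.node 8188 (.node 8186 (.node 8185 (.leaf 0x1cc1b)
(.leaf 0x1cc3c))
(.node 8187 (.leaf 0x1cc48)
(.leaf 0x1cc68)))
(.node 8190 (.node 8189 (.leaf 0x1cc79)
(.leaf 0x1cc87))
(.node 8191 (.leaf 0x1cc89)
(.leaf 0x1cca8)))))))))

/-- part of a trie -/
def parPart32 : Tr :=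
(.node 8320 (.node 8256 (.node 8224 (.node 8208 (.node 8200 (.node 8196 (.node 8194 (.node 8193 (.leaf 0x1ccb7)
(.leaf 0x1ccb9))
(.node 8195 (.leaf 0x1ccc9)
(.leaf 0x1cce6)))
(.node 8198 (.node 8197 (.leaf 0x1cce9)
(.leaf 0x1cd08))
(.node 8199 (.leaf 0x1cd28)
(.leaf 0x1cd4b))))
(.node 8204 (.node 8202 (.node 8201 (.leaf 0x1cd5c)
(.leaf 0x1cd76))
(.node 8203 (.leaf 0x1cd78)
(.leaf 0x1cd89)))
(.node 8206 (.node 8205 (.leaf 0x1cd97)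
(.leaf 0x1cda6))
(.node 8207 (.leaf 0x1cda8)
(.leaf 0x1cdb8)))))
(.node 8216 (.node 8212 (.node 8210 (.node 8209 (.leaf 0x1cdc9)
(.leaf 0x1cde8))
(.node 8211 (.leaf 0x1ce0b)
(.leaf 0x1ce16)))
(.node 8214 (.node 8213 (.leaf 0x1ce18)
(.leaf 0x1ce28))
(.node 8215 (.leaf 0x1ce46)
(.leaf 0x1ce58))))
(.node 8220 (.node 8218 (.node 8217 (.leaf 0x1ce5b)
(.leaf 0x1ce77))
(.node 8219 (.leaf 0x1ce79)
(.leaf 0x1ce7b)))
(.node 8222 (.node 8221 (.leaf 0x1ce97)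
(.leaf 0x1ce9b))
(.node 8223 (.leaf 0x1ceac)
(.leaf 0x1cecb))))))
(.node 8240 (.node 8232 (.node 8228 (.node 8226 (.node 8225 (.leaf 0x1cee6)
(.leaf 0x1cee8))
(.node 8227 (.leaf 0x1cef5)
(.leaf 0x1cef8)))
(.node 8230 (.node 8229 (.leaf 0x1cf09)
(.leaf 0x1cf14))
(.node 8231 (.leaf 0x1cf18)
(.leaf 0x1cf1b))))
(.node 8236 (.node 8234 (.node 8233 (.leaf 0x1cf27)
(.leaf 0x1cf29))
(.node 8235 (.leaf 0x1cf4a)
(.leaf 0x1cf57)))
(.node 8238 (.node 8237 (.leaf 0x1cf59)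
(.leaf 0x1cf5b))
(.node 8239 (.leaf 0x1cf79)
(.leaf 0x1cfa8)))))
(.node 8248 (.node 8244 (.node 8242 (.node 8241 (.leaf 0x1cfc8)
(.leaf 0x1cfd7))
(.node 8243 (.leaf 0x1cfd9)
(.leaf 0x1d007)))
(.node 8246 (.node 8245 (.leaf 0x1d019)
(.leaf 0x1d01b))
(.node 8247 (.leaf 0x1d03c)
(.leaf 0x1d066))))
(.node 8252 (.node 8250 (.node 8249 (.leaf 0x1d06c)
(.leaf 0x1d086))
(.node 8251 (.leaf 0x1d098)
(.leaf 0x1d09b)))
(.node 8254 (.node 8253 (.leaf 0x1d0b6)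
(.leaf 0x1d0c5))
(.node 8255 (.leaf 0x1d0c8)
(.leaf 0x1d0cb)))))))
(.node 8288 (.node 8272 (.node 8264 (.node 8260 (.node 8258 (.node 8257 (.leaf 0x1d0e7)
(.leaf 0x1d0e9))
(.node 8259 (.leaf 0x1d0fb)
(.leaf 0x1d119)))
(.node 8262 (.node 8261 (.leaf 0x1d11b)
(.leaf 0x1d12c))
(.node 8263 (.leaf 0x1d135)
(.leaf 0x1d13b))))
(.node 8268 (.node 8266 (.node 8265 (.leaf 0x1d148)
(.leaf 0x1d14b))
(.node 8267 (.leaf 0x1d157)
(.leaf 0x1d159)))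
(.node 8270 (.node 8269 (.leaf 0x1d15b)
(.leaf 0x1d17b))
(.node 8271 (.leaf 0x1d18b)
(.leaf 0x1d19c)))))
(.node 8280 (.node 8276 (.node 8274 (.node 8273 (.leaf 0x1d1b4)
(.leaf 0x1d1b8))
(.node 8275 (.leaf 0x1d1bb)
(.leaf 0x1d1d7)))
(.node 8278 (.node 8277 (.leaf 0x1d1d9)
(.leaf 0x1d1db))
(.node 8279 (.leaf 0x1d1f9)
(.leaf 0x1d1fb))))
(.node 8284 (.node 8282 (.node 8281 (.leaf 0x1d20b)
(.leaf 0x1d228))
(.node 8283 (.leaf 0x1d22b)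
(.leaf 0x1d258)))
(.node 8286 (.node 8285 (.leaf 0x1d267)
(.leaf 0x1d269))
(.node 8287 (.leaf 0x1d279)
(.leaf 0x1d28a))))))
(.node 8304 (.node 8296 (.node 8292 (.node 8290 (.node 8289 (.leaf 0x1d28b)
(.leaf 0x1d297))
(.node 8291 (.leaf 0x1d299)
(.leaf 0x1d29b)))
(.node 8294 (.node 8293 (.leaf 0x1d2a6)
(.leaf 0x1d2b9))
(.node 8295 (.leaf 0x1d2ca)
(.leaf 0x1d2cb))))
(.node 8300 (.node 8298 (.node 8297 (.leaf 0x1d319)
(.leaf 0x1d324))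
(.node 8299 (.leaf 0x1d328)
(.leaf 0x1d32b)))
(.node 8302 (.node 8301 (.leaf 0x1d337)
(.leaf 0x1d339))
(.node 8303 (.leaf 0x1d33b)
(.leaf 0x1d35a)))))
(.node 8312 (.node 8308 (.node 8306 (.node 8305 (.leaf 0x1d367)
(.leaf 0x1d369))
(.node 8307 (.leaf 0x1d36b)
(.leaf 0x1d389)))
(.node 8310 (.node 8309 (.leaf 0x1d38b)
(.leaf 0x1d39a))
(.node 8311 (.leaf 0x1d405)
(.leaf 0x1d408))))
(.node 8316 (.node 8314 (.node 8313 (.leaf 0x1d419)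
(.leaf 0x1d424))
(.node 8315 (.leaf 0x1d428)
(.leaf 0x1d437)))
(.node 8318 (.node 8317 (.leaf 0x1d439)
(.leaf 0x1d44a))
(.node 8319 (.leaf 0x1d458)
(.leaf 0x1d45b))))))))
(.node 8384 (.node 8352 (.node 8336 (.node 8328 (.node 8324 (.node 8322 (.node 8321 (.leaf 0x1d467)
(.leaf 0x1d469))
(.node 8323 (.leaf 0x1d46b)
(.leaf 0x1d476)))
(.node 8326 (.node 8325 (.leaf 0x1d489)
(.leaf 0x1d49a))
(.node 8327 (.leaf 0x1d49b)
(.leaf 0x1d4c9))))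
(.node 8332 (.node 8330 (.node 8329 (.leaf 0x1d4cb)
(.leaf 0x1d4db))
(.node 8331 (.leaf 0x1d4e6)
(.leaf 0x1d4ec)))
(.node 8334 (.node 8333 (.leaf 0x1d4f8)
(.leaf 0x1d4fb))
(.node 8335 (.leaf 0x1d52c)
(.leaf 0x1d557)))))
(.node 8344 (.node 8340 (.node 8338 (.node 8337 (.leaf 0x1d559)
(.leaf 0x1d569))
(.node 8339 (.leaf 0x1d56b)
(.leaf 0x1d5a6)))
(.node 8342 (.node 8341 (.leaf 0x1d5a9)
(.leaf 0x1d5d7))
(.node 8343 (.leaf 0x1d617)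
(.leaf 0x1d626))))
(.node 8348 (.node 8346 (.node 8345 (.leaf 0x1d629)
(.leaf 0x1d62b))
(.node 8347 (.leaf 0x1d65b)
(.leaf 0x1d666)))
(.node 8350 (.node 8349 (.leaf 0x1d67a)
(.leaf 0x1d6c5))
(.node 8351 (.leaf 0x1d6cc)
(.leaf 0x1d6f4))))))
(.node 8368 (.node 8360 (.node 8356 (.node 8354 (.node 8353 (.leaf 0x1d6f8)
(.leaf 0x1d709))
(.node 8355 (.leaf 0x1d70b)
(.leaf 0x1d718)))
(.node 8358 (.node 8357 (.leaf 0x1d729)
(.leaf 0x1d72b))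
(.node 8359 (.leaf 0x1d74b)
(.leaf 0x1d75c))))
(.node 8364 (.node 8362 (.node 8361 (.leaf 0x1d76a)
(.leaf 0x1d76b))
(.node 8363 (.leaf 0x1d78b)
(.leaf 0x1d7ac)))
(.node 8366 (.node 8365 (.leaf 0x1d7b8)
(.leaf 0x1d7c9))
(.node 8367 (.leaf 0x1d7db)
(.leaf 0x1d7ec)))))
(.node 8376 (.node 8372 (.node 8370 (.node 8369 (.leaf 0x1d809)
(.leaf 0x1d81b))
(.node 8371 (.leaf 0x1d837)
(.leaf 0x1d84b)))
(.node 8374 (.node 8373 (.leaf 0x1d85c)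
(.leaf 0x1d87c))
(.node 8375 (.leaf 0x1d886)
(.leaf 0x1d88c))))
(.node 8380 (.node 8378 (.node 8377 (.leaf 0x1d8b5)
(.leaf 0x1d8bc))
(.node 8379 (.leaf 0x1d8dc)
(.leaf 0x1d8eb)))
(.node 8382 (.node 8381 (.leaf 0x1d8fa)
(.leaf 0x1d907))
(.node 8383 (.leaf 0x1d90b)
(.leaf 0x1d91b)))))))
(.node 8416 (.node 8400 (.node 8392 (.node 8388 (.node 8386 (.node 8385 (.leaf 0x1d954)
(.leaf 0x1d958))
(.node 8387 (.leaf 0x1d977)
(.leaf 0x1d99b)))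
(.node 8390 (.node 8389 (.leaf 0x1d9bb)
(.leaf 0x1d9d6))
(.node 8391 (.leaf 0x1d9dc)
(.leaf 0x1da06))))
(.node 8396 (.node 8394 (.node 8393 (.leaf 0x1da09)
(.leaf 0x1da0b))
(.node 8395 (.leaf 0x1da26)
(.leaf 0x1da2c)))
(.node 8398 (.node 8397 (.leaf 0x1da4a)
(.leaf 0x1da5c))
(.node 8399 (.leaf 0x1da88)
(.leaf 0x1da97)))))
(.node 8408 (.node 8404 (.node 8402 (.node 8401 (.leaf 0x1da9b)
(.leaf 0x1dab6))
(.node 8403 (.leaf 0x1dab9)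
(.leaf 0x1dad6)))
(.node 8406 (.node 8405 (.leaf 0x1dae8)
(.leaf 0x1db08))
(.node 8407 (.leaf 0x1db17)
(.leaf 0x1db37))))
(.node 8412 (.node 8410 (.node 8409 (.leaf 0x1db46)
(.leaf 0x1db56))
(.node 8411 (.leaf 0x1db68)
(.leaf 0x1db77)))
(.node 8414 (.node 8413 (.leaf 0x1db7c)
(.leaf 0x1db99))
(.node 8415 (.leaf 0x1dba8)
(.leaf 0x1dbc6))))))
(.node 8432 (.node 8424 (.node 8420 (.node 8418 (.node 8417 (.leaf 0x1dbd8)
(.leaf 0x1dbfb))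
(.node 8419 (.leaf 0x1dc54)
(.leaf 0x1dc58)))
(.node 8422 (.node 8421 (.leaf 0x1dc67)
(.leaf 0x1dc69))
(.node 8423 (.leaf 0x1dc78)
(.leaf 0x1dc87))))
(.node 8428 (.node 8426 (.node 8425 (.leaf 0x1dc89)
(.leaf 0x1dc99))
(.node 8427 (.leaf 0x1dcc9)
(.leaf 0x1dcf7)))
(.node 8430 (.node 8429 (.leaf 0x1dd07)
(.leaf 0x1dd38))
(.node 8431 (.leaf 0x1dd46)
(.leaf 0x1dd66)))))
(.node 8440 (.node 8436 (.node 8434 (.node 8433 (.leaf 0x1dd86)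
(.leaf 0x1dd95))
(.node 8435 (.leaf 0x1dda8)
(.leaf 0x1ddb7)))
(.node 8438 (.node 8437 (.leaf 0x1ddc9)
(.leaf 0x1dde6))
(.node 8439 (.leaf 0x1dde9)
(.leaf 0x1de18))))
(.node 8444 (.node 8442 (.node 8441 (.leaf 0x1de29)
(.leaf 0x1de39))
(.node 8443 (.leaf 0x1de3b)
(.leaf 0x1de67)))
(.node 8446 (.node 8445 (.leaf 0x1de69)
(.leaf 0x1de79))
(.node 8447 (.leaf 0x1de8b)
(.leaf 0x1de9b)))))))))

/-- part of a trie -/
def parPart33 : Tr :=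
(.node 8576 (.node 8512 (.node 8480 (.node 8464 (.node 8456 (.node 8452 (.node 8450 (.node 8449 (.leaf 0x1deac)
(.leaf 0x1decc))
(.node 8451 (.leaf 0x1ded8)
(.leaf 0x1df1b)))
(.node 8454 (.node 8453 (.leaf 0x1df3b)
(.leaf 0x1df56))
(.node 8455 (.leaf 0x1df65)
(.leaf 0x1dfd8))))
(.node 8460 (.node 8458 (.node 8457 (.leaf 0x1dfe7)
(.leaf 0x1e007))
(.node 8459 (.leaf 0x1e034)
(.leaf 0x1e038)))
(.node 8462 (.node 8461 (.leaf 0x1e03b)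
(.leaf 0x1e049))
(.node 8463 (.leaf 0x1e04b)
(.leaf 0x1e067)))))
(.node 8472 (.node 8468 (.node 8466 (.node 8465 (.leaf 0x1e069)
(.leaf 0x1e06b))
(.node 8467 (.leaf 0x1e089)
(.leaf 0x1e08b)))
(.node 8470 (.node 8469 (.leaf 0x1e09b)
(.leaf 0x1e0b8))
(.node 8471 (.leaf 0x1e0bb)
(.leaf 0x1e0f8))))
(.node 8476 (.node 8474 (.node 8473 (.leaf 0x1e107)
(.leaf 0x1e109))
(.node 8475 (.leaf 0x1e10b)
(.leaf 0x1e116)))
(.node 8478 (.node 8477 (.leaf 0x1e129)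
(.leaf 0x1e146))
(.node 8479 (.leaf 0x1e149)
(.leaf 0x1e14b))))))
(.node 8496 (.node 8488 (.node 8484 (.node 8482 (.node 8481 (.leaf 0x1e15b)
(.leaf 0x1e17b))
(.node 8483 (.leaf 0x1e1a6)
(.leaf 0x1e1b9)))
(.node 8486 (.node 8485 (.leaf 0x1e1bb)
(.leaf 0x1e1c8))
(.node 8487 (.leaf 0x1e1d8)
(.leaf 0x1e1db))))
(.node 8492 (.node 8490 (.node 8489 (.leaf 0x1e1fb)
(.leaf 0x1e209))
(.node 8491 (.leaf 0x1e20b)
(.leaf 0x1e22b)))
(.node 8494 (.node 8493 (.leaf 0x1e23c)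
(.leaf 0x1e245))
(.node 8495 (.leaf 0x1e248)
(.leaf 0x1e24b)))))
(.node 8504 (.node 8500 (.node 8498 (.node 8497 (.leaf 0x1e258)
(.leaf 0x1e25b))
(.node 8499 (.leaf 0x1e267)
(.leaf 0x1e269)))
(.node 8502 (.node 8501 (.leaf 0x1e26b)
(.leaf 0x1e289))
(.node 8503 (.leaf 0x1e29a)
(.leaf 0x1e29b))))
(.node 8508 (.node 8506 (.node 8505 (.leaf 0x1e2b4)
(.leaf 0x1e2b8))
(.node 8507 (.leaf 0x1e2bb)
(.leaf 0x1e2d7)))
(.node 8510 (.node 8509 (.leaf 0x1e2d9)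
(.leaf 0x1e2db))
(.node 8511 (.leaf 0x1e2f9)
(.leaf 0x1e2fb)))))))
(.node 8544 (.node 8528 (.node 8520 (.node 8516 (.node 8514 (.node 8513 (.leaf 0x1e318)
(.leaf 0x1e31b))
(.node 8515 (.leaf 0x1e32c)
(.leaf 0x1e344)))
(.node 8518 (.node 8517 (.leaf 0x1e348)
(.leaf 0x1e34b))
(.node 8519 (.leaf 0x1e359)
(.leaf 0x1e35b))))
(.node 8524 (.node 8522 (.node 8521 (.leaf 0x1e377)
(.leaf 0x1e379))
(.node 8523 (.leaf 0x1e37b)
(.leaf 0x1e399)))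
(.node 8526 (.node 8525 (.leaf 0x1e39b)
(.leaf 0x1e3aa))
(.node 8527 (.leaf 0x1e3ab)
(.leaf 0x1e3db)))))
(.node 8536 (.node 8532 (.node 8530 (.node 8529 (.leaf 0x1e3eb)
(.leaf 0x1e405))
(.node 8531 (.leaf 0x1e408)
(.leaf 0x1e419)))
(.node 8534 (.node 8533 (.leaf 0x1e424)
(.leaf 0x1e428))
(.node 8535 (.leaf 0x1e437)
(.leaf 0x1e439))))
(.node 8540 (.node 8538 (.node 8537 (.leaf 0x1e43b)
(.leaf 0x1e458))
(.node 8539 (.leaf 0x1e467)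
(.leaf 0x1e469)))
(.node 8542 (.node 8541 (.leaf 0x1e46b)
(.leaf 0x1e489))
(.node 8543 (.leaf 0x1e48b)
(.leaf 0x1e49a))))))
(.node 8560 (.node 8552 (.node 8548 (.node 8546 (.node 8545 (.leaf 0x1e49b)
(.leaf 0x1e4b9))
(.node 8547 (.leaf 0x1e4bb)
(.leaf 0x1e4cb)))
(.node 8550 (.node 8549 (.leaf 0x1e4eb)
(.leaf 0x1e4fc))
(.node 8551 (.leaf 0x1e547)
(.leaf 0x1e549))))
(.node 8556 (.node 8554 (.node 8553 (.leaf 0x1e567)
(.leaf 0x1e569))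
(.node 8555 (.leaf 0x1e579)
(.leaf 0x1e597)))
(.node 8558 (.node 8557 (.leaf 0x1e5a6)
(.leaf 0x1e5a9))
(.node 8559 (.leaf 0x1e5ab)
(.leaf 0x1e5e8)))))
(.node 8568 (.node 8564 (.node 8562 (.node 8561 (.leaf 0x1e5f7)
(.leaf 0x1e608))
(.node 8563 (.leaf 0x1e617)
(.leaf 0x1e619)))
(.node 8566 (.node 8565 (.leaf 0x1e61b)
(.leaf 0x1e629))
(.node 8567 (.leaf 0x1e62b)
(.leaf 0x1e63b))))
(.node 8572 (.node 8570 (.node 8569 (.leaf 0x1e666)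
(.leaf 0x1e66c))
(.node 8571 (.leaf 0x1e674)
(.leaf 0x1e678)))
(.node 8574 (.node 8573 (.leaf 0x1e689)
(.leaf 0x1e68b))
(.node 8575 (.leaf 0x1e698)
(.leaf 0x1e6a7))))))))
(.node 8640 (.node 8608 (.node 8592 (.node 8584 (.node 8580 (.node 8578 (.node 8577 (.leaf 0x1e6a9)
(.leaf 0x1e6ab))
(.node 8579 (.leaf 0x1e6cb)
(.leaf 0x1e6e9)))
(.node 8582 (.node 8581 (.leaf 0x1e6eb)
(.leaf 0x1e6fb))
(.node 8583 (.leaf 0x1e706)
(.leaf 0x1e70c))))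
(.node 8588 (.node 8586 (.node 8585 (.leaf 0x1e71c)
(.leaf 0x1e738))
(.node 8587 (.leaf 0x1e73b)
(.leaf 0x1e76b)))
(.node 8590 (.node 8589 (.leaf 0x1e784)
(.leaf 0x1e788))
(.node 8591 (.leaf 0x1e78b)
(.leaf 0x1e799)))))
(.node 8600 (.node 8596 (.node 8594 (.node 8593 (.leaf 0x1e7b7)
(.leaf 0x1e7b9))
(.node 8595 (.leaf 0x1e7bb)
(.leaf 0x1e7d9)))
(.node 8598 (.node 8597 (.leaf 0x1e7db)
(.leaf 0x1e7ea))
(.node 8599 (.leaf 0x1e81b)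
(.leaf 0x1e849))))
(.node 8604 (.node 8602 (.node 8601 (.leaf 0x1e86a)
(.leaf 0x1e885))
(.node 8603 (.leaf 0x1e888)
(.leaf 0x1e899)))
(.node 8606 (.node 8605 (.leaf 0x1e8a4)
(.leaf 0x1e8a8))
(.node 8607 (.leaf 0x1e8b7)
(.leaf 0x1e8b9))))))
(.node 8624 (.node 8616 (.node 8612 (.node 8610 (.node 8609 (.leaf 0x1e8bb)
(.leaf 0x1e8d8))
(.node 8611 (.leaf 0x1e8e7)
(.leaf 0x1e8e9)))
(.node 8614 (.node 8613 (.leaf 0x1e8eb)
(.leaf 0x1e8f9))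
(.node 8615 (.leaf 0x1e8fb)
(.leaf 0x1e90a))))
(.node 8620 (.node 8618 (.node 8617 (.leaf 0x1e90b)
(.leaf 0x1e929))
(.node 8619 (.leaf 0x1e956)
(.leaf 0x1e95c)))
(.node 8622 (.node 8621 (.leaf 0x1e977)
(.leaf 0x1e979))
(.node 8623 (.leaf 0x1e98a)
(.leaf 0x1e999)))))
(.node 8632 (.node 8628 (.node 8626 (.node 8625 (.leaf 0x1e99b)
(.leaf 0x1e9aa))
(.node 8627 (.leaf 0x1e9d7)
(.leaf 0x1e9d9)))
(.node 8630 (.node 8629 (.leaf 0x1e9e9)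
(.leaf 0x1e9fb))
(.node 8631 (.leaf 0x1ea18)
(.leaf 0x1ea1a))))
(.node 8636 (.node 8634 (.node 8633 (.leaf 0x1ea1b)
(.leaf 0x1ea4c))
(.node 8635 (.leaf 0x1ea58)
(.leaf 0x1ea5b)))
(.node 8638 (.node 8637 (.leaf 0x1ea76)
(.leaf 0x1ea87))
(.node 8639 (.leaf 0x1ea8c)
(.leaf 0x1eaab)))))))
(.node 8672 (.node 8656 (.node 8648 (.node 8644 (.node 8642 (.node 8641 (.leaf 0x1eab6)
(.leaf 0x1eabc))
(.node 8643 (.leaf 0x1eaf7)
(.leaf 0x1eb16)))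
(.node 8646 (.node 8645 (.leaf 0x1eb19)
(.leaf 0x1eb38))
(.node 8647 (.leaf 0x1eb48)
(.leaf 0x1eb5c))))
(.node 8652 (.node 8650 (.node 8649 (.leaf 0x1eb8c)
(.leaf 0x1eba7))
(.node 8651 (.leaf 0x1ebc6)
(.leaf 0x1ebc9)))
(.node 8654 (.node 8653 (.leaf 0x1ebf9)
(.leaf 0x1ebfb))
(.node 8655 (.leaf 0x1ec08)
(.leaf 0x1ec0a)))))
(.node 8664 (.node 8660 (.node 8658 (.node 8657 (.leaf 0x1ec16)
(.leaf 0x1ec1c))
(.node 8659 (.leaf 0x1ec4a)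
(.leaf 0x1eca4)))
(.node 8662 (.node 8661 (.leaf 0x1ecac)
(.leaf 0x1ecbb))
(.node 8663 (.leaf 0x1ecc8)
(.leaf 0x1eccb))))
(.node 8668 (.node 8666 (.node 8665 (.leaf 0x1ecdc)
(.leaf 0x1eceb))
(.node 8667 (.leaf 0x1ecf6)
(.leaf 0x1ecfc)))
(.node 8670 (.node 8669 (.leaf 0x1ed1b)
(.leaf 0x1ed2c))
(.node 8671 (.leaf 0x1ed4c)
(.leaf 0x1ed5b))))))
(.node 8688 (.node 8680 (.node 8676 (.node 8674 (.node 8673 (.leaf 0x1ed65)
(.leaf 0x1ed6c))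
(.node 8675 (.leaf 0x1ed8b)
(.leaf 0x1edb4)))
(.node 8678 (.node 8677 (.leaf 0x1edb8)
(.leaf 0x1edc7))
(.node 8679 (.leaf 0x1edc9)
(.leaf 0x1edd9))))
(.node 8684 (.node 8682 (.node 8681 (.leaf 0x1ee18)
(.leaf 0x1ee27))
(.node 8683 (.leaf 0x1ee29)
(.leaf 0x1ee2b)))
(.node 8686 (.node 8685 (.leaf 0x1ee49)
(.leaf 0x1ee4b))
(.node 8687 (.leaf 0x1ee5b)
(.leaf 0x1ee78)))))
(.node 8696 (.node 8692 (.node 8690 (.node 8689 (.leaf 0x1ee7b)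
(.leaf 0x1eea8))
(.node 8691 (.leaf 0x1eed6)
(.leaf 0x1eeeb)))
(.node 8694 (.node 8693 (.leaf 0x1eefc)
(.leaf 0x1ef06))
(.node 8695 (.leaf 0x1ef0c)
(.leaf 0x1ef37))))
(.node 8700 (.node 8698 (.node 8697 (.leaf 0x1ef48)
(.leaf 0x1ef57))
(.node 8699 (.leaf 0x1ef59)
(.leaf 0x1ef6a)))
(.node 8702 (.node 8701 (.leaf 0x1ef76)
(.leaf 0x1ef79))
(.node 8703 (.leaf 0x1ef8a)
(.leaf 0x1ef98)))))))))

/-- part of a trie -/
def parPart34 : Tr :=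
(.node 8832 (.node 8768 (.node 8736 (.node 8720 (.node 8712 (.node 8708 (.node 8706 (.node 8705 (.leaf 0x1efb7)
(.leaf 0x1efc6))
(.node 8707 (.leaf 0x1efc9)
(.leaf 0x1efda)))
(.node 8710 (.node 8709 (.leaf 0x1efdb)
(.leaf 0x1eff9))
(.node 8711 (.leaf 0x1f00a)
(.leaf 0x1f00b))))
(.node 8716 (.node 8714 (.node 8713 (.leaf 0x1f02b)
(.leaf 0x1f068))
(.node 8715 (.leaf 0x1f087)
(.leaf 0x1f089)))
(.node 8718 (.node 8717 (.leaf 0x1f08b)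
(.leaf 0x1f0cb))
(.node 8719 (.leaf 0x1f0ea)
(.leaf 0x1f0f6)))))
(.node 8728 (.node 8724 (.node 8722 (.node 8721 (.leaf 0x1f119)
(.leaf 0x1f128))
(.node 8723 (.leaf 0x1f137)
(.leaf 0x1f16a)))
(.node 8726 (.node 8725 (.leaf 0x1f16b)
(.leaf 0x1f198))
(.node 8727 (.leaf 0x1f19c)
(.leaf 0x1f1ab))))
(.node 8732 (.node 8730 (.node 8729 (.leaf 0x1f1ca)
(.leaf 0x1f1eb))
(.node 8731 (.leaf 0x1f217)
(.leaf 0x1f236)))
(.node 8734 (.node 8733 (.leaf 0x1f247)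
(.leaf 0x1f265))
(.node 8735 (.leaf 0x1f277)
(.leaf 0x1f289))))))
(.node 8752 (.node 8744 (.node 8740 (.node 8738 (.node 8737 (.leaf 0x1f296)
(.leaf 0x1f2a6))
(.node 8739 (.leaf 0x1f2c9)
(.leaf 0x1f2e9)))
(.node 8742 (.node 8741 (.leaf 0x1f2fb)
(.leaf 0x1f30a))
(.node 8743 (.leaf 0x1f30b)
(.leaf 0x1f31c))))
(.node 8748 (.node 8746 (.node 8745 (.leaf 0x1f32c)
(.leaf 0x1f33b))
(.node 8747 (.leaf 0x1f34c)
(.leaf 0x1f35c)))
(.node 8750 (.node 8749 (.leaf 0x1f39a)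
(.leaf 0x1f3d7))
(.node 8751 (.leaf 0x1f3e8)
(.leaf 0x1f3fb)))))
(.node 8760 (.node 8756 (.node 8754 (.node 8753 (.leaf 0x1f486)
(.leaf 0x1f488))
(.node 8755 (.leaf 0x1f4a6)
(.leaf 0x1f4a8)))
(.node 8758 (.node 8757 (.leaf 0x1f4b8)
(.leaf 0x1f4d6))
(.node 8759 (.leaf 0x1f4d8)
(.leaf 0x1f4e8))))
(.node 8764 (.node 8762 (.node 8761 (.leaf 0x1f505)
(.leaf 0x1f508))
(.node 8763 (.leaf 0x1f527)
(.leaf 0x1f52b)))
(.node 8766 (.node 8765 (.leaf 0x1f535)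
(.leaf 0x1f538))
(.node 8767 (.leaf 0x1f53b)
(.leaf 0x1f558)))))))
(.node 8800 (.node 8784 (.node 8776 (.node 8772 (.node 8770 (.node 8769 (.leaf 0x1f55b)
(.leaf 0x1f567))
(.node 8771 (.leaf 0x1f56b)
(.leaf 0x1f58b)))
(.node 8774 (.node 8773 (.leaf 0x1f5a5)
(.leaf 0x1f5a8))
(.node 8775 (.leaf 0x1f5c8)
(.leaf 0x1f5d7))))
(.node 8780 (.node 8778 (.node 8777 (.leaf 0x1f5d9)
(.leaf 0x1f5f7))
(.node 8779 (.leaf 0x1f5fb)
(.leaf 0x1f60b)))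
(.node 8782 (.node 8781 (.leaf 0x1f636)
(.leaf 0x1f647))
(.node 8783 (.leaf 0x1f65b)
(.leaf 0x1f676)))))
(.node 8792 (.node 8788 (.node 8786 (.node 8785 (.leaf 0x1f685)
(.leaf 0x1f698))
(.node 8787 (.leaf 0x1f6b8)
(.leaf 0x1f6bb)))
(.node 8790 (.node 8789 (.leaf 0x1f6db)
(.leaf 0x1f6e5))
(.node 8791 (.leaf 0x1f707)
(.leaf 0x1f70b))))
(.node 8796 (.node 8794 (.node 8793 (.leaf 0x1f71b)
(.leaf 0x1f737))
(.node 8795 (.leaf 0x1f73b)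
(.leaf 0x1f764)))
(.node 8798 (.node 8797 (.leaf 0x1f768)
(.leaf 0x1f76b))
(.node 8799 (.leaf 0x1f777)
(.leaf 0x1f77b))))))
(.node 8816 (.node 8808 (.node 8804 (.node 8802 (.node 8801 (.leaf 0x1f797)
(.leaf 0x1f79b))
(.node 8803 (.leaf 0x1f7a6)
(.leaf 0x1f7bb)))
(.node 8806 (.node 8805 (.leaf 0x1f7d5)
(.leaf 0x1f808))
(.node 8807 (.leaf 0x1f817)
(.leaf 0x1f81b))))
(.node 8812 (.node 8810 (.node 8809 (.leaf 0x1f837)
(.leaf 0x1f84b))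
(.node 8811 (.leaf 0x1f866)
(.leaf 0x1f874)))
(.node 8814 (.node 8813 (.leaf 0x1f878)
(.leaf 0x1f88b))
(.node 8815 (.leaf 0x1f8c8)
(.leaf 0x1f8d7)))))
(.node 8824 (.node 8820 (.node 8818 (.node 8817 (.leaf 0x1f8ec)
(.leaf 0x1f8f8))
(.node 8819 (.leaf 0x1f907)
(.leaf 0x1f91b)))
(.node 8822 (.node 8821 (.leaf 0x1f936)
(.leaf 0x1f93b))
(.node 8823 (.leaf 0x1f946)
(.leaf 0x1f956))))
(.node 8828 (.node 8826 (.node 8825 (.leaf 0x1f965)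
(.leaf 0x1f9a8))
(.node 8827 (.leaf 0x1f9b9)
(.leaf 0x1f9bb)))
(.node 8830 (.node 8829 (.leaf 0x1f9c7)
(.leaf 0x1f9c9))
(.node 8831 (.leaf 0x1f9cb)
(.leaf 0x1f9eb))))))))
(.node 8896 (.node 8864 (.node 8848 (.node 8840 (.node 8836 (.node 8834 (.node 8833 (.leaf 0x1f9fb)
(.leaf 0x1fa0c))
(.node 8835 (.leaf 0x1fa1a)
(.leaf 0x1fa1b)))
(.node 8838 (.node 8837 (.leaf 0x1fa36)
(.leaf 0x1fa4b))
(.node 8839 (.leaf 0x1fa65)
(.leaf 0x1fa7c))))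
(.node 8844 (.node 8842 (.node 8841 (.leaf 0x1fa89)
(.leaf 0x1fa8b))
(.node 8843 (.leaf 0x1fa9c)
(.leaf 0x1faaa)))
(.node 8846 (.node 8845 (.leaf 0x1faab)
(.leaf 0x1fabc))
(.node 8847 (.leaf 0x1faeb)
(.leaf 0x1fafb)))))
(.node 8856 (.node 8852 (.node 8850 (.node 8849 (.leaf 0x1fb16)
(.leaf 0x1fb2c))
(.node 8851 (.leaf 0x1fb4c)
(.leaf 0x1fb57)))
(.node 8854 (.node 8853 (.leaf 0x1fb95)
(.leaf 0x1fb98))
(.node 8855 (.leaf 0x1fbb8)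
(.leaf 0x1fbc7))))
(.node 8860 (.node 8858 (.node 8857 (.leaf 0x1fbf9)
(.leaf 0x1fc1a))
(.node 8859 (.leaf 0x1fc24)
(.leaf 0x1fc28)))
(.node 8862 (.node 8861 (.leaf 0x1fc2b)
(.leaf 0x1fc37))
(.node 8863 (.leaf 0x1fc57)
(.leaf 0x1fc5b))))))
(.node 8880 (.node 8872 (.node 8868 (.node 8866 (.node 8865 (.leaf 0x1fc66)
(.leaf 0x1fc7b))
(.node 8867 (.leaf 0x1fc9c)
(.leaf 0x1fca6)))
(.node 8870 (.node 8869 (.leaf 0x1fcfa)
(.leaf 0x1fd0b))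
(.node 8871 (.leaf 0x1fd3b)
(.leaf 0x1fd87))))
(.node 8876 (.node 8874 (.node 8873 (.leaf 0x1fd98)
(.leaf 0x1fdb8))
(.node 8875 (.leaf 0x1fdc7)
(.leaf 0x1fde7)))
(.node 8878 (.node 8877 (.leaf 0x1fdf9)
(.leaf 0x1fe47))
(.node 8879 (.leaf 0x1fe8b)
(.leaf 0x1fea8)))))
(.node 8888 (.node 8884 (.node 8882 (.node 8881 (.leaf 0x1feab)
(.leaf 0x1fed8))
(.node 8883 (.leaf 0x1fee9)
(.leaf 0x1fef4)))
(.node 8886 (.node 8885 (.leaf 0x1fef8)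
(.leaf 0x1ff07))
(.node 8887 (.leaf 0x1ff09)
(.leaf 0x1ff0b))))
(.node 8892 (.node 8890 (.node 8889 (.leaf 0x1ff28)
(.leaf 0x1ff37))
(.node 8891 (.leaf 0x1ff39)
(.leaf 0x1ff3b)))
(.node 8894 (.node 8893 (.leaf 0x1ff49)
(.leaf 0x1ff4b))
(.node 8895 (.leaf 0x1ff8c)
(.leaf 0x1ffb7)))))))
(.node 8928 (.node 8912 (.node 8904 (.node 8900 (.node 8898 (.node 8897 (.leaf 0x1ffb9)
(.leaf 0x1ffd9))
(.node 8899 (.leaf 0x1fff7)
(.leaf 0x20006)))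
(.node 8902 (.node 8901 (.leaf 0x20009)
(.leaf 0x20028))
(.node 8903 (.leaf 0x20048)
(.leaf 0x2006b))))
(.node 8908 (.node 8906 (.node 8905 (.leaf 0x2007c)
(.leaf 0x20098))
(.node 8907 (.leaf 0x200a9)
(.leaf 0x200c6)))
(.node 8910 (.node 8909 (.leaf 0x200d8)
(.leaf 0x200db))
(.node 8911 (.leaf 0x200f7)
(.leaf 0x200f9)))))
(.node 8920 (.node 8916 (.node 8914 (.node 8913 (.leaf 0x200fb)
(.leaf 0x2011b))
(.node 8915 (.leaf 0x20138)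
(.leaf 0x20157)))
(.node 8918 (.node 8917 (.leaf 0x2015b)
(.leaf 0x20168))
(.node 8919 (.leaf 0x2016b)
(.leaf 0x20177))))
(.node 8924 (.node 8922 (.node 8921 (.leaf 0x20179)
(.leaf 0x2017b))
(.node 8923 (.leaf 0x20199)
(.leaf 0x2019b)))
(.node 8926 (.node 8925 (.leaf 0x201ab)
(.leaf 0x201bc))
(.node 8927 (.leaf 0x201cb)
(.leaf 0x20205))))))
(.node 8944 (.node 8936 (.node 8932 (.node 8930 (.node 8929 (.leaf 0x20208)
(.leaf 0x20219))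
(.node 8931 (.leaf 0x20224)
(.leaf 0x20228)))
(.node 8934 (.node 8933 (.leaf 0x20237)
(.leaf 0x20239))
(.node 8935 (.leaf 0x20258)
(.leaf 0x2025b))))
(.node 8940 (.node 8938 (.node 8937 (.leaf 0x20267)
(.leaf 0x20269))
(.node 8939 (.leaf 0x2026b)
(.leaf 0x20276)))
(.node 8942 (.node 8941 (.leaf 0x20289)
(.leaf 0x2029a))
(.node 8943 (.leaf 0x202b9)
(.leaf 0x202e8)))))
(.node 8952 (.node 8948 (.node 8946 (.node 8945 (.leaf 0x202f7)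
(.leaf 0x20307))
(.node 8947 (.leaf 0x20309)
(.leaf 0x20319)))
(.node 8950 (.node 8949 (.leaf 0x2034b)
(.leaf 0x20356))
(.node 8951 (.leaf 0x2035c)
(.leaf 0x20375))))
(.node 8956 (.node 8954 (.node 8953 (.leaf 0x2037c)
(.leaf 0x2039b))
(.node 8955 (.leaf 0x203a7)
(.leaf 0x203ab)))
(.node 8958 (.node 8957 (.leaf 0x203c8)
(.leaf 0x203cb))
(.node 8959 (.leaf 0x203d8)
(.leaf 0x203e7)))))))))

/-- part of a trie -/
def parPart35 : Tr :=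
(.node 9088 (.node 9024 (.node 8992 (.node 8976 (.node 8968 (.node 8964 (.node 8962 (.node 8961 (.leaf 0x203e9)
(.leaf 0x203eb))
(.node 8963 (.leaf 0x20409)
(.leaf 0x2040b)))
(.node 8966 (.node 8965 (.leaf 0x2041a)
(.leaf 0x2041b))
(.node 8967 (.leaf 0x20426)
(.leaf 0x2043b))))
(.node 8972 (.node 8970 (.node 8969 (.leaf 0x2044c)
(.leaf 0x20464))
(.node 8971 (.leaf 0x20468)
(.leaf 0x2046b)))
(.node 8974 (.node 8973 (.leaf 0x20487)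
(.leaf 0x20489))
(.node 8975 (.leaf 0x2048b)
(.leaf 0x204ab)))))
(.node 8984 (.node 8980 (.node 8978 (.node 8977 (.leaf 0x204ba)
(.leaf 0x204bb))
(.node 8979 (.leaf 0x204cc)
(.leaf 0x204ec)))
(.node 8982 (.node 8981 (.leaf 0x20508)
(.leaf 0x20517))
(.node 8983 (.leaf 0x20519)
(.leaf 0x2051b))))
(.node 8988 (.node 8986 (.node 8985 (.leaf 0x20539)
(.leaf 0x2053b))
(.node 8987 (.leaf 0x2054b)
(.leaf 0x20568)))
(.node 8990 (.node 8989 (.leaf 0x2056b)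
(.leaf 0x20576))
(.node 8991 (.leaf 0x2057c)
(.leaf 0x2059b))))))
(.node 9008 (.node 9000 (.node 8996 (.node 8994 (.node 8993 (.leaf 0x205b7)
(.leaf 0x205b9))
(.node 8995 (.leaf 0x205c9)
(.leaf 0x205fb)))
(.node 8998 (.node 8997 (.leaf 0x20619)
(.leaf 0x2061b))
(.node 8999 (.leaf 0x2062b)
(.leaf 0x20636))))
(.node 9004 (.node 9002 (.node 9001 (.leaf 0x2065a)
(.leaf 0x20698))
(.node 9003 (.leaf 0x206a7)
(.leaf 0x206a9)))
(.node 9006 (.node 9005 (.leaf 0x206ab)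
(.leaf 0x206b6))
(.node 9007 (.leaf 0x206c9)
(.leaf 0x206da)))))
(.node 9016 (.node 9012 (.node 9010 (.node 9009 (.leaf 0x20709)
(.leaf 0x2070b))
(.node 9011 (.leaf 0x20764)
(.leaf 0x20768)))
(.node 9014 (.node 9013 (.leaf 0x20777)
(.leaf 0x20779))
(.node 9015 (.leaf 0x20798)
(.leaf 0x207a7))))
(.node 9020 (.node 9018 (.node 9017 (.leaf 0x207a9)
(.leaf 0x207b9))
(.node 9019 (.leaf 0x207e7)
(.leaf 0x207e9)))
(.node 9022 (.node 9021 (.leaf 0x207f6)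
(.leaf 0x20806))
(.node 9023 (.leaf 0x20809)
(.leaf 0x2081b)))))))
(.node 9056 (.node 9040 (.node 9032 (.node 9028 (.node 9026 (.node 9025 (.leaf 0x20826)
(.leaf 0x20837))
(.node 9027 (.leaf 0x20848)
(.leaf 0x2084b)))
(.node 9030 (.node 9029 (.leaf 0x2086c)
(.leaf 0x20878))
(.node 9031 (.leaf 0x2087b)
(.leaf 0x20886))))
(.node 9036 (.node 9034 (.node 9033 (.leaf 0x2088c)
(.leaf 0x20896))
(.node 9035 (.leaf 0x208a7)
(.leaf 0x208ac)))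
(.node 9038 (.node 9037 (.leaf 0x208d6)
(.leaf 0x208dc))
(.node 9039 (.leaf 0x208f6)
(.leaf 0x2091b)))))
(.node 9048 (.node 9044 (.node 9042 (.node 9041 (.leaf 0x20939)
(.leaf 0x2093b))
(.node 9043 (.leaf 0x20948)
(.leaf 0x20966)))
(.node 9046 (.node 9045 (.leaf 0x2096b)
(.leaf 0x2097b))
(.node 9047 (.leaf 0x2098b)
(.leaf 0x20996))))
(.node 9052 (.node 9050 (.node 9049 (.leaf 0x209a6)
(.leaf 0x209b5))
(.node 9051 (.leaf 0x209d4)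
(.leaf 0x209dc)))
(.node 9054 (.node 9053 (.leaf 0x209eb)
(.leaf 0x209f8))
(.node 9055 (.leaf 0x20a09)
(.leaf 0x20a1b))))))
(.node 9072 (.node 9064 (.node 9060 (.node 9058 (.node 9057 (.leaf 0x20a2c)
(.leaf 0x20a39))
(.node 9059 (.leaf 0x20a4a)
(.leaf 0x20a4b)))
(.node 9062 (.node 9061 (.leaf 0x20a6c)
(.leaf 0x20a8b))
(.node 9063 (.leaf 0x20a9c)
(.leaf 0x20aac))))
(.node 9068 (.node 9066 (.node 9065 (.leaf 0x20ac9)
(.leaf 0x20adb))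
(.node 9067 (.leaf 0x20aec)
(.leaf 0x20b0b)))
(.node 9070 (.node 9069 (.leaf 0x20b1c)
(.leaf 0x20b28))
(.node 9071 (.leaf 0x20b36)
(.leaf 0x20b3c)))))
(.node 9080 (.node 9076 (.node 9074 (.node 9073 (.leaf 0x20b65)
(.leaf 0x20b6c))
(.node 9075 (.leaf 0x20bab)
(.leaf 0x20bdb)))
(.node 9078 (.node 9077 (.leaf 0x20c08)
(.leaf 0x20c17))
(.node 9079 (.leaf 0x20c26)
(.leaf 0x20c36))))
(.node 9084 (.node 9082 (.node 9081 (.leaf 0x20c3c)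
(.leaf 0x20c57))
(.node 9083 (.leaf 0x20c5c)
(.leaf 0x20c79)))
(.node 9086 (.node 9085 (.leaf 0x20c8a)
(.leaf 0x20c8b))
(.node 9087 (.leaf 0x20c96)
(.leaf 0x20c9c))))))))
(.node 9152 (.node 9120 (.node 9104 (.node 9096 (.node 9092 (.node 9090 (.node 9089 (.leaf 0x20ca7)
(.leaf 0x20cac))
(.node 9091 (.leaf 0x20ce7)
(.leaf 0x20d06)))
(.node 9094 (.node 9093 (.leaf 0x20d19)
(.leaf 0x20d28))
(.node 9095 (.leaf 0x20d37)
(.leaf 0x20d57))))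
(.node 9100 (.node 9098 (.node 9097 (.leaf 0x20d66)
(.leaf 0x20d76))
(.node 9099 (.leaf 0x20d8b)
(.leaf 0x20d97)))
(.node 9102 (.node 9101 (.leaf 0x20db8)
(.leaf 0x20dbc))
(.node 9103 (.leaf 0x20dcb)
(.leaf 0x20dd8)))))
(.node 9112 (.node 9108 (.node 9106 (.node 9105 (.leaf 0x20ddb)
(.leaf 0x20dfb))
(.node 9107 (.leaf 0x20e28)
(.leaf 0x20e37)))
(.node 9110 (.node 9109 (.leaf 0x20e39)
(.leaf 0x20e49))
(.node 9111 (.leaf 0x20e67)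
(.leaf 0x20e79))))
(.node 9116 (.node 9114 (.node 9113 (.leaf 0x20ea8)
(.leaf 0x20ec6))
(.node 9115 (.leaf 0x20ef5)
(.leaf 0x20f05)))
(.node 9118 (.node 9117 (.leaf 0x20f27)
(.leaf 0x20f36))
(.node 9119 (.leaf 0x20f5b)
(.leaf 0x20f79))))))
(.node 9136 (.node 9128 (.node 9124 (.node 9122 (.node 9121 (.leaf 0x20f9b)
(.leaf 0x20fac))
(.node 9123 (.leaf 0x20fb9)
(.leaf 0x20fd8)))
(.node 9126 (.node 9125 (.leaf 0x20fdb)
(.leaf 0x20fec))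
(.node 9127 (.leaf 0x20ffc)
(.leaf 0x21046))))
(.node 9132 (.node 9130 (.node 9129 (.leaf 0x21055)
(.leaf 0x21064))
(.node 9131 (.leaf 0x21077)
(.leaf 0x210a8)))
(.node 9134 (.node 9133 (.leaf 0x210b7)
(.leaf 0x210b9))
(.node 9135 (.leaf 0x210bb)
(.leaf 0x210db)))))
(.node 9144 (.node 9140 (.node 9138 (.node 9137 (.leaf 0x210f6)
(.leaf 0x210f9))
(.node 9139 (.leaf 0x210fb)
(.leaf 0x2110b)))
(.node 9142 (.node 9141 (.leaf 0x2112b)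
(.leaf 0x2115b))
(.node 9143 (.leaf 0x21177)
(.leaf 0x21186))))
(.node 9148 (.node 9146 (.node 9145 (.leaf 0x21189)
(.leaf 0x2118b))
(.node 9147 (.leaf 0x2119b)
(.leaf 0x211a6)))
(.node 9150 (.node 9149 (.leaf 0x211b7)
(.leaf 0x211eb))
(.node 9151 (.leaf 0x2122b)
(.leaf 0x21238)))))))
(.node 9184 (.node 9168 (.node 9160 (.node 9156 (.node 9154 (.node 9153 (.leaf 0x2123b)
(.leaf 0x21267))
(.node 9155 (.leaf 0x21269)
(.leaf 0x2126b)))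
(.node 9158 (.node 9157 (.leaf 0x2129b)
(.leaf 0x212bc))
(.node 9159 (.leaf 0x212d4)
(.leaf 0x212d8))))
(.node 9164 (.node 9162 (.node 9161 (.leaf 0x212db)
(.leaf 0x212e7))
(.node 9163 (.leaf 0x212e9)
(.leaf 0x212eb)))
(.node 9166 (.node 9165 (.leaf 0x21307)
(.leaf 0x21309))
(.node 9167 (.leaf 0x2130b)
(.leaf 0x21329)))))
(.node 9176 (.node 9172 (.node 9170 (.node 9169 (.leaf 0x2132b)
(.leaf 0x2133a))
(.node 9171 (.leaf 0x2133b)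
(.leaf 0x2135b)))
(.node 9174 (.node 9173 (.leaf 0x2136b)
(.leaf 0x21388))
(.node 9175 (.leaf 0x21397)
(.leaf 0x21399))))
(.node 9180 (.node 9178 (.node 9177 (.leaf 0x2139b)
(.leaf 0x213b9))
(.node 9179 (.leaf 0x213bb)
(.leaf 0x213cb)))
(.node 9182 (.node 9181 (.leaf 0x213eb)
(.leaf 0x2140b))
(.node 9183 (.leaf 0x2141c)
(.leaf 0x21438))))))
(.node 9200 (.node 9192 (.node 9188 (.node 9186 (.node 9185 (.leaf 0x21447)
(.leaf 0x21449))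
(.node 9187 (.leaf 0x2144b)
(.leaf 0x2146b)))
(.node 9190 (.node 9189 (.leaf 0x21489)
(.leaf 0x2148b))
(.node 9191 (.leaf 0x2149a)
(.leaf 0x2149b))))
(.node 9196 (.node 9194 (.node 9193 (.leaf 0x214bb)
(.leaf 0x214db))
(.node 9195 (.leaf 0x21514)
(.leaf 0x21518)))
(.node 9198 (.node 9197 (.leaf 0x21527)
(.leaf 0x21529))
(.node 9199 (.leaf 0x2152b)
(.leaf 0x21543)))))
(.node 9208 (.node 9204 (.node 9202 (.node 9201 (.leaf 0x21548)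
(.leaf 0x21557))
(.node 9203 (.leaf 0x21559)
(.leaf 0x2155b)))
(.node 9206 (.node 9205 (.leaf 0x21569)
(.leaf 0x2156b))
(.node 9207 (.leaf 0x21597)
(.leaf 0x21599))))
(.node 9212 (.node 9210 (.node 9209 (.leaf 0x2159b)
(.leaf 0x215a9))
(.node 9211 (.leaf 0x215ab)
(.leaf 0x215bb)))
(.node 9214 (.node 9213 (.leaf 0x215da)
(.leaf 0x215db))
(.node 9215 (.leaf 0x215ec)
(.leaf 0x2161b)))))))))

/-- part of a trie -/
def parPart36 : Tr :=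
(.node 9344 (.node 9280 (.node 9248 (.node 9232 (.node 9224 (.node 9220 (.node 9218 (.node 9217 (.leaf 0x21669)
(.leaf 0x21686))
(.node 9219 (.leaf 0x21689)
(.leaf 0x216b6)))
(.node 9222 (.node 9221 (.leaf 0x216b9)
(.leaf 0x216c9))
(.node 9223 (.leaf 0x216cb)
(.leaf 0x216d8))))
(.node 9228 (.node 9226 (.node 9225 (.leaf 0x216e6)
(.leaf 0x2170b))
(.node 9227 (.leaf 0x21717)
(.leaf 0x21719)))
(.node 9230 (.node 9229 (.leaf 0x2171b)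
(.leaf 0x21729))
(.node 9231 (.leaf 0x2172b)
(.leaf 0x2175b)))))
(.node 9240 (.node 9236 (.node 9234 (.node 9233 (.leaf 0x21766)
(.leaf 0x2178c))
(.node 9235 (.leaf 0x217a8)
(.leaf 0x217b9)))
(.node 9238 (.node 9237 (.leaf 0x217cb)
(.leaf 0x217e7))
(.node 9239 (.leaf 0x217e9)
(.leaf 0x217f9))))
(.node 9244 (.node 9242 (.node 9241 (.leaf 0x2180b)
(.leaf 0x21838))
(.node 9243 (.leaf 0x2183b)
(.leaf 0x21856)))
(.node 9246 (.node 9245 (.leaf 0x2185c)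
(.leaf 0x21867))
(.node 9247 (.leaf 0x2186c)
(.leaf 0x2188b))))))
(.node 9264 (.node 9256 (.node 9252 (.node 9250 (.node 9249 (.leaf 0x2189b)
(.leaf 0x218bc))
(.node 9251 (.leaf 0x218c8)
(.leaf 0x218d7)))
(.node 9254 (.node 9253 (.leaf 0x218d9)
(.leaf 0x218db))
(.node 9255 (.leaf 0x218fa)
(.leaf 0x21906))))
(.node 9260 (.node 9258 (.node 9257 (.leaf 0x21909)
(.leaf 0x2190b))
(.node 9259 (.leaf 0x2191a)
(.leaf 0x2191b)))
(.node 9262 (.node 9261 (.leaf 0x2193b)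
(.leaf 0x2197a))
(.node 9263 (.leaf 0x21994)
(.leaf 0x21998)))))
(.node 9272 (.node 9268 (.node 9266 (.node 9265 (.leaf 0x219a7)
(.leaf 0x219a9))
(.node 9267 (.leaf 0x219c3)
(.leaf 0x219c8)))
(.node 9270 (.node 9269 (.leaf 0x219d7)
(.leaf 0x219d9))
(.node 9271 (.leaf 0x219e9)
(.leaf 0x219eb))))
(.node 9276 (.node 9274 (.node 9273 (.leaf 0x219fb)
(.leaf 0x21a17))
(.node 9275 (.leaf 0x21a1b)
(.leaf 0x21a29)))
(.node 9278 (.node 9277 (.leaf 0x21a2b)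
(.leaf 0x21a3a))
(.node 9279 (.leaf 0x21a3b)
(.leaf 0x21a58)))))))
(.node 9312 (.node 9296 (.node 9288 (.node 9284 (.node 9282 (.node 9281 (.leaf 0x21a5b)
(.leaf 0x21a6c))
(.node 9283 (.leaf 0x21a8c)
(.leaf 0x21aac)))
(.node 9286 (.node 9285 (.leaf 0x21ac9)
(.leaf 0x21acb))
(.node 9287 (.leaf 0x21ada)
(.leaf 0x21afa))))
(.node 9292 (.node 9290 (.node 9289 (.leaf 0x21afb)
(.leaf 0x21b29))
(.node 9291 (.leaf 0x21b3b)
(.leaf 0x21b48)))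
(.node 9294 (.node 9293 (.leaf 0x21b4a)
(.leaf 0x21b4b))
(.node 9295 (.leaf 0x21b56)
(.leaf 0x21b5c)))))
(.node 9304 (.node 9300 (.node 9298 (.node 9297 (.leaf 0x21b6a)
(.leaf 0x21b86))
(.node 9299 (.leaf 0x21b8c)
(.leaf 0x21bab)))
(.node 9302 (.node 9301 (.leaf 0x21bb6)
(.leaf 0x21bc7))
(.node 9303 (.leaf 0x21bdc)
(.leaf 0x21beb))))
(.node 9308 (.node 9306 (.node 9305 (.leaf 0x21c05)
(.leaf 0x21c0c))
(.node 9307 (.leaf 0x21c26)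
(.leaf 0x21c48)))
(.node 9310 (.node 9309 (.leaf 0x21c8b)
(.leaf 0x21c96))
(.node 9311 (.leaf 0x21ca9)
(.leaf 0x21cab))))))
(.node 9328 (.node 9320 (.node 9316 (.node 9314 (.node 9313 (.leaf 0x21cc8)
(.leaf 0x21cca))
(.node 9315 (.leaf 0x21cd6)
(.leaf 0x21d3c)))
(.node 9318 (.node 9317 (.leaf 0x21d4b)
(.leaf 0x21d6b))
(.node 9319 (.leaf 0x21d76)
(.leaf 0x21d7c))))
(.node 9324 (.node 9322 (.node 9321 (.leaf 0x21d96)
(.leaf 0x21d9c))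
(.node 9323 (.leaf 0x21da5)
(.leaf 0x21dac)))
(.node 9326 (.node 9325 (.leaf 0x21dc6)
(.leaf 0x21dcc))
(.node 9327 (.leaf 0x21deb)
(.leaf 0x21e0c)))))
(.node 9336 (.node 9332 (.node 9330 (.node 9329 (.leaf 0x21e38)
(.leaf 0x21e47))
(.node 9331 (.leaf 0x21e49)
(.leaf 0x21e56)))
(.node 9334 (.node 9333 (.leaf 0x21e59)
(.leaf 0x21e78))
(.node 9335 (.leaf 0x21e87)
(.leaf 0x21e96))))
(.node 9340 (.node 9338 (.node 9337 (.leaf 0x21e99)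
(.leaf 0x21eab))
(.node 9339 (.leaf 0x21ec8)
(.leaf 0x21ecb)))
(.node 9342 (.node 9341 (.leaf 0x21f27)
(.leaf 0x21f36))
(.node 9343 (.leaf 0x21f3c)
(.leaf 0x21f57))))))))
(.node 9408 (.node 9376 (.node 9360 (.node 9352 (.node 9348 (.node 9346 (.node 9345 (.leaf 0x21f5c)
(.leaf 0x21f87))
(.node 9347 (.leaf 0x21f96)
(.leaf 0x21f99)))
(.node 9350 (.node 9349 (.leaf 0x21faa)
(.leaf 0x21fc9))
(.node 9351 (.leaf 0x21fd8)
(.leaf 0x21fda))))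
(.node 9356 (.node 9354 (.node 9353 (.leaf 0x22006)
(.leaf 0x22009))
(.node 9355 (.leaf 0x22019)
(.leaf 0x2202a)))
(.node 9358 (.node 9357 (.leaf 0x2202b)
(.leaf 0x2203b))
(.node 9359 (.leaf 0x2205a)
(.leaf 0x2205b)))))
(.node 9368 (.node 9364 (.node 9362 (.node 9361 (.leaf 0x2206b)
(.leaf 0x22076))
(.node 9363 (.leaf 0x220c6)
(.leaf 0x220d6)))
(.node 9366 (.node 9365 (.leaf 0x220f7)
(.leaf 0x22108))
(.node 9367 (.leaf 0x2213b)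
(.leaf 0x22146))))
(.node 9372 (.node 9370 (.node 9369 (.leaf 0x2215c)
(.leaf 0x2216b))
(.node 9371 (.leaf 0x22196)
(.leaf 0x221a6)))
(.node 9374 (.node 9373 (.leaf 0x221b5)
(.leaf 0x221e6))
(.node 9375 (.leaf 0x2220b)
(.leaf 0x22217))))))
(.node 9392 (.node 9384 (.node 9380 (.node 9378 (.node 9377 (.leaf 0x2223a)
(.leaf 0x2223b))
(.node 9379 (.leaf 0x2224c)
(.leaf 0x2225b)))
(.node 9382 (.node 9381 (.leaf 0x2226c)
(.leaf 0x2229c))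
(.node 9383 (.leaf 0x222d8)
(.leaf 0x222f6))))
(.node 9388 (.node 9386 (.node 9385 (.leaf 0x22308)
(.leaf 0x22328))
(.node 9387 (.leaf 0x22347)
(.leaf 0x2234b)))
(.node 9390 (.node 9389 (.leaf 0x22358)
(.leaf 0x22377))
(.node 9391 (.leaf 0x2237b)
(.leaf 0x22388)))))
(.node 9400 (.node 9396 (.node 9394 (.node 9393 (.leaf 0x22397)
(.leaf 0x2239b))
(.node 9395 (.leaf 0x223ab)
(.leaf 0x223c8)))
(.node 9398 (.node 9397 (.leaf 0x223cb)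
(.leaf 0x223d7))
(.node 9399 (.leaf 0x223db)
(.leaf 0x223f7))))
(.node 9404 (.node 9402 (.node 9401 (.leaf 0x223fb)
(.leaf 0x2241b))
(.node 9403 (.leaf 0x22436)
(.leaf 0x22448)))
(.node 9406 (.node 9405 (.leaf 0x22457)
(.leaf 0x22459))
(.node 9407 (.leaf 0x22467)
(.leaf 0x2247b)))))))
(.node 9440 (.node 9424 (.node 9416 (.node 9412 (.node 9410 (.node 9409 (.leaf 0x22496)
(.leaf 0x2249b))
(.node 9411 (.leaf 0x224b6)
(.leaf 0x224e6)))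
(.node 9414 (.node 9413 (.leaf 0x22527)
(.leaf 0x2252b))
(.node 9415 (.leaf 0x22558)
(.leaf 0x2256b))))
(.node 9420 (.node 9418 (.node 9417 (.leaf 0x22586)
(.leaf 0x2259b))
(.node 9419 (.leaf 0x225b8)
(.leaf 0x225c7)))
(.node 9422 (.node 9421 (.leaf 0x225cb)
(.leaf 0x225eb))
(.node 9423 (.leaf 0x2260b)
(.leaf 0x22616)))))
(.node 9432 (.node 9428 (.node 9426 (.node 9425 (.leaf 0x22636)
(.leaf 0x22644))
(.node 9427 (.leaf 0x22657)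
(.leaf 0x2266b)))
(.node 9430 (.node 9429 (.leaf 0x22696)
(.leaf 0x226a5))
(.node 9431 (.leaf 0x226b8)
(.leaf 0x226e7))))
(.node 9436 (.node 9434 (.node 9433 (.leaf 0x22717)
(.leaf 0x22736))
(.node 9435 (.leaf 0x2274b)
(.leaf 0x22756)))
(.node 9438 (.node 9437 (.leaf 0x22767)
(.leaf 0x22775))
(.node 9439 (.leaf 0x22784)
(.leaf 0x22799))))))
(.node 9456 (.node 9448 (.node 9444 (.node 9442 (.node 9441 (.leaf 0x227aa)
(.leaf 0x227ab))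
(.node 9443 (.leaf 0x227bc)
(.leaf 0x227cb)))
(.node 9446 (.node 9445 (.leaf 0x227da)
(.leaf 0x227db))
(.node 9447 (.leaf 0x227f6)
(.leaf 0x2280c))))
(.node 9452 (.node 9450 (.node 9449 (.leaf 0x2282b)
(.leaf 0x2283c))
(.node 9451 (.leaf 0x2285c)
(.leaf 0x2288a)))
(.node 9454 (.node 9453 (.leaf 0x2288b)
(.leaf 0x2289c))
(.node 9455 (.leaf 0x228bb)
(.leaf 0x228cc)))))
(.node 9464 (.node 9460 (.node 9458 (.node 9457 (.leaf 0x228fc)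
(.leaf 0x22938))
(.node 9459 (.leaf 0x22948)
(.leaf 0x22957)))
(.node 9462 (.node 9461 (.leaf 0x22967)
(.leaf 0x2298a))
(.node 9463 (.leaf 0x229a8)
(.leaf 0x229b7))))
(.node 9468 (.node 9466 (.node 9465 (.leaf 0x229e6)
(.leaf 0x229eb))
(.node 9467 (.leaf 0x22a16)
(.leaf 0x22a1c)))
(.node 9470 (.node 9469 (.leaf 0x22a37)
(.leaf 0x22a56))
(.node 9471 (.leaf 0x22a78)
(.leaf 0x22a97)))))))))

/-- part of a trie -/
def parPart37 : Tr :=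
(.node 9600 (.node 9536 (.node 9504 (.node 9488 (.node 9480 (.node 9476 (.node 9474 (.node 9473 (.leaf 0x22ae6)
(.leaf 0x22afb))
(.node 9475 (.leaf 0x22b17)
(.leaf 0x22b19)))
(.node 9478 (.node 9477 (.leaf 0x22b1b)
(.leaf 0x22b38))
(.node 9479 (.leaf 0x22b47)
(.leaf 0x22b49))))
(.node 9484 (.node 9482 (.node 9481 (.leaf 0x22b4b)
(.leaf 0x22b59))
(.node 9483 (.leaf 0x22b5b)
(.leaf 0x22b87)))
(.node 9486 (.node 9485 (.leaf 0x22b96)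
(.leaf 0x22b99))
(.node 9487 (.leaf 0x22b9b)
(.leaf 0x22bc8)))))
(.node 9496 (.node 9492 (.node 9490 (.node 9489 (.leaf 0x22bcb)
(.leaf 0x22bdc))
(.node 9491 (.leaf 0x22bf9)
(.leaf 0x22c26)))
(.node 9494 (.node 9493 (.leaf 0x22c29)
(.leaf 0x22c39))
(.node 9495 (.leaf 0x22c48)
(.leaf 0x22c7c))))
(.node 9500 (.node 9498 (.node 9497 (.leaf 0x22c97)
(.leaf 0x22c99))
(.node 9499 (.leaf 0x22c9b)
(.leaf 0x22cb8)))
(.node 9502 (.node 9501 (.leaf 0x22cbb)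
(.leaf 0x22cc7))
(.node 9503 (.leaf 0x22cc9)
(.leaf 0x22ccb))))))
(.node 9520 (.node 9512 (.node 9508 (.node 9506 (.node 9505 (.leaf 0x22ce9)
(.leaf 0x22cfb))
(.node 9507 (.leaf 0x22d0c)
(.leaf 0x22d27)))
(.node 9510 (.node 9509 (.leaf 0x22d3b)
(.leaf 0x22d57))
(.node 9511 (.leaf 0x22d59)
(.leaf 0x22d5b))))
(.node 9516 (.node 9514 (.node 9513 (.leaf 0x22d79)
(.leaf 0x22d8a))
(.node 9515 (.leaf 0x22d8b)
(.leaf 0x22dab)))
(.node 9518 (.node 9517 (.leaf 0x22db6)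
(.leaf 0x22dcc))
(.node 9519 (.leaf 0x22df4)
(.leaf 0x22df8)))))
(.node 9528 (.node 9524 (.node 9522 (.node 9521 (.leaf 0x22e07)
(.leaf 0x22e09))
(.node 9523 (.leaf 0x22e23)
(.leaf 0x22e28)))
(.node 9526 (.node 9525 (.leaf 0x22e37)
(.leaf 0x22e39))
(.node 9527 (.leaf 0x22e49)
(.leaf 0x22e67))))
(.node 9532 (.node 9530 (.node 9529 (.leaf 0x22e69)
(.leaf 0x22e6b))
(.node 9531 (.leaf 0x22e76)
(.leaf 0x22e86)))
(.node 9534 (.node 9533 (.leaf 0x22e89)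
(.leaf 0x22eb7))
(.node 9535 (.leaf 0x22ec8)
(.leaf 0x22ecb)))))))
(.node 9568 (.node 9552 (.node 9544 (.node 9540 (.node 9538 (.node 9537 (.leaf 0x22ee8)
(.leaf 0x22f16))
(.node 9539 (.leaf 0x22f19)
(.leaf 0x22f46)))
(.node 9542 (.node 9541 (.leaf 0x22f4c)
(.leaf 0x22f7c))
(.node 9543 (.leaf 0x22fab)
(.leaf 0x22fc9))))
(.node 9548 (.node 9546 (.node 9545 (.leaf 0x22fcb)
(.leaf 0x22fe7))
(.node 9547 (.leaf 0x22fe9)
(.leaf 0x22ff9)))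
(.node 9550 (.node 9549 (.leaf 0x2300a)
(.leaf 0x2300b))
(.node 9551 (.leaf 0x23036)
(.leaf 0x2304b)))))
(.node 9560 (.node 9556 (.node 9554 (.node 9553 (.leaf 0x2307c)
(.leaf 0x23098))
(.node 9555 (.leaf 0x230a7)
(.leaf 0x230a9)))
(.node 9558 (.node 9557 (.leaf 0x230ab)
(.leaf 0x230c6))
(.node 9559 (.leaf 0x230c9)
(.leaf 0x230cb))))
(.node 9564 (.node 9562 (.node 9561 (.leaf 0x2310b)
(.leaf 0x2311c))
(.node 9563 (.leaf 0x23147)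
(.leaf 0x23149)))
(.node 9566 (.node 9565 (.leaf 0x23159)
(.leaf 0x2316b))
(.node 9567 (.leaf 0x23188)
(.leaf 0x2318b))))))
(.node 9584 (.node 9576 (.node 9572 (.node 9570 (.node 9569 (.leaf 0x2319c)
(.leaf 0x231a6))
(.node 9571 (.leaf 0x231ac)
(.leaf 0x231bb)))
(.node 9574 (.node 9573 (.leaf 0x231dc)
(.leaf 0x231fc))
(.node 9575 (.leaf 0x23209)
(.leaf 0x23248))))
(.node 9580 (.node 9578 (.node 9577 (.leaf 0x2324a)
(.leaf 0x2324b))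
(.node 9579 (.leaf 0x23256)
(.leaf 0x23266)))
(.node 9582 (.node 9581 (.leaf 0x23277)
(.leaf 0x23297))
(.node 9583 (.leaf 0x23299)
(.leaf 0x2329b)))))
(.node 9592 (.node 9588 (.node 9586 (.node 9585 (.leaf 0x232a6)
(.leaf 0x232a9))
(.node 9587 (.leaf 0x232ab)
(.leaf 0x232c6)))
(.node 9590 (.node 9589 (.leaf 0x232d7)
(.leaf 0x232eb))
(.node 9591 (.leaf 0x23328)
(.leaf 0x23337))))
(.node 9596 (.node 9594 (.node 9593 (.leaf 0x23339)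
(.leaf 0x23349))
(.node 9595 (.leaf 0x23367)
(.leaf 0x23376)))
(.node 9598 (.node 9597 (.leaf 0x23379)
(.leaf 0x23398))
(.node 9599 (.leaf 0x233a6)
(.leaf 0x233a9))))))))
(.node 9664 (.node 9632 (.node 9616 (.node 9608 (.node 9604 (.node 9602 (.node 9601 (.leaf 0x233bb)
(.leaf 0x233c7))
(.node 9603 (.leaf 0x233db)
(.leaf 0x233e8)))
(.node 9606 (.node 9605 (.leaf 0x233eb)
(.leaf 0x233f6))
(.node 9607 (.leaf 0x23407)
(.leaf 0x23418))))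
(.node 9612 (.node 9610 (.node 9609 (.leaf 0x23436)
(.leaf 0x2343c))
(.node 9611 (.leaf 0x2345b)
(.leaf 0x23466)))
(.node 9614 (.node 9613 (.leaf 0x23477)
(.leaf 0x2347c))
(.node 9615 (.leaf 0x23497)
(.leaf 0x234a8)))))
(.node 9624 (.node 9620 (.node 9618 (.node 9617 (.leaf 0x234ac)
(.leaf 0x234bb))
(.node 9619 (.leaf 0x234c5)
(.leaf 0x234cc)))
(.node 9622 (.node 9621 (.leaf 0x234eb)
(.leaf 0x234f6))
(.node 9623 (.leaf 0x23508)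
(.leaf 0x2350b))))
(.node 9628 (.node 9626 (.node 9625 (.leaf 0x2353b)
(.leaf 0x23546))
(.node 9627 (.leaf 0x23556)
(.leaf 0x23566)))
(.node 9630 (.node 9629 (.leaf 0x23575)
(.leaf 0x23585))
(.node 9631 (.leaf 0x23594)
(.leaf 0x235ac))))))
(.node 9648 (.node 9640 (.node 9636 (.node 9634 (.node 9633 (.leaf 0x235bb)
(.leaf 0x235d7))
(.node 9635 (.leaf 0x235d9)
(.leaf 0x235ea)))
(.node 9638 (.node 9637 (.leaf 0x235eb)
(.leaf 0x235fc))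
(.node 9639 (.leaf 0x2361b)
(.leaf 0x2362b))))
(.node 9644 (.node 9642 (.node 9641 (.leaf 0x2363c)
(.leaf 0x2365c))
(.node 9643 (.leaf 0x2368b)
(.leaf 0x2369c)))
(.node 9646 (.node 9645 (.leaf 0x236d9)
(.leaf 0x236e5))
(.node 9647 (.leaf 0x236ec)
(.leaf 0x2370c)))))
(.node 9656 (.node 9652 (.node 9650 (.node 9649 (.leaf 0x23726)
(.leaf 0x23736))
(.node 9651 (.leaf 0x23747)
(.leaf 0x23756)))
(.node 9654 (.node 9653 (.leaf 0x23777)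
(.leaf 0x2377c))
(.node 9655 (.leaf 0x2379c)
(.leaf 0x237ba))))
(.node 9660 (.node 9658 (.node 9657 (.leaf 0x237bb)
(.leaf 0x237cb))
(.node 9659 (.leaf 0x237d6)
(.leaf 0x237dc)))
(.node 9662 (.node 9661 (.leaf 0x237e5)
(.leaf 0x237e7))
(.node 9663 (.leaf 0x237ec)
(.leaf 0x2380c)))))))
(.node 9696 (.node 9680 (.node 9672 (.node 9668 (.node 9666 (.node 9665 (.leaf 0x23826)
(.leaf 0x23837))
(.node 9667 (.leaf 0x23848)
(.leaf 0x23868)))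
(.node 9670 (.node 9669 (.leaf 0x23876)
(.leaf 0x2388b))
(.node 9671 (.leaf 0x2389b)
(.leaf 0x238b8))))
(.node 9676 (.node 9674 (.node 9673 (.leaf 0x238cc)
(.leaf 0x238db))
(.node 9675 (.leaf 0x238fb)
(.leaf 0x23927)))
(.node 9678 (.node 9677 (.leaf 0x23939)
(.leaf 0x23969))
(.node 9679 (.leaf 0x23978)
(.leaf 0x239c6)))))
(.node 9688 (.node 9684 (.node 9682 (.node 9681 (.leaf 0x239db)
(.leaf 0x23a0c))
(.node 9683 (.leaf 0x23a28)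
(.leaf 0x23a4c)))
(.node 9686 (.node 9685 (.leaf 0x23a84)
(.leaf 0x23ab7))
(.node 9687 (.leaf 0x23ac6)
(.leaf 0x23ac9))))
(.node 9692 (.node 9690 (.node 9689 (.leaf 0x23acb)
(.leaf 0x23adb))
(.node 9691 (.leaf 0x23b18)
(.leaf 0x23b1b)))
(.node 9694 (.node 9693 (.leaf 0x23b5c)
(.leaf 0x23b66))
(.node 9695 (.leaf 0x23b69)
(.leaf 0x23b6b))))))
(.node 9712 (.node 9704 (.node 9700 (.node 9698 (.node 9697 (.leaf 0x23b79)
(.leaf 0x23b7b))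
(.node 9699 (.leaf 0x23b8b)
(.leaf 0x23b96)))
(.node 9702 (.node 9701 (.leaf 0x23bb7)
(.leaf 0x23bc8))
(.node 9703 (.leaf 0x23bfb)
(.leaf 0x23c19))))
(.node 9708 (.node 9706 (.node 9705 (.leaf 0x23c2b)
(.leaf 0x23c4c))
(.node 9707 (.leaf 0x23c68)
(.leaf 0x23c77)))
(.node 9710 (.node 9709 (.leaf 0x23c79)
(.leaf 0x23c7b))
(.node 9711 (.leaf 0x23c99)
(.leaf 0x23caa)))))
(.node 9720 (.node 9716 (.node 9714 (.node 9713 (.leaf 0x23cab)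
(.leaf 0x23cc9))
(.node 9715 (.leaf 0x23ccb)
(.leaf 0x23cda)))
(.node 9718 (.node 9717 (.leaf 0x23cdb)
(.leaf 0x23cfa))
(.node 9719 (.leaf 0x23cfb)
(.leaf 0x23d1b))))
(.node 9724 (.node 9722 (.node 9721 (.leaf 0x23d2c)
(.leaf 0x23d57))
(.node 9723 (.leaf 0x23d69)
(.leaf 0x23d7b)))
(.node 9726 (.node 9725 (.leaf 0x23d9b)
(.leaf 0x23ddc))
(.node 9727 (.leaf 0x23df7)
(.leaf 0x23df9)))))))))

/-- part of a trie -/
def parPart38 : Tr :=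
(.node 9856 (.node 9792 (.node 9760 (.node 9744 (.node 9736 (.node 9732 (.node 9730 (.node 9729 (.leaf 0x23e09)
(.leaf 0x23e1a))
(.node 9731 (.leaf 0x23e1b)
(.leaf 0x23e48)))
(.node 9734 (.node 9733 (.leaf 0x23e4a)
(.leaf 0x23e4b))
(.node 9735 (.leaf 0x23e6b)
(.leaf 0x23e7c))))
(.node 9740 (.node 9738 (.node 9737 (.leaf 0x23ea3)
(.leaf 0x23ea8))
(.node 9739 (.leaf 0x23eb7)
(.leaf 0x23eb9)))
(.node 9742 (.node 9741 (.leaf 0x23ebb)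
(.leaf 0x23ec9))
(.node 9743 (.leaf 0x23ecb)
(.leaf 0x23ef8)))))
(.node 9752 (.node 9748 (.node 9746 (.node 9745 (.leaf 0x23f07)
(.leaf 0x23f0b))
(.node 9747 (.leaf 0x23f19)
(.leaf 0x23f1b)))
(.node 9750 (.node 9749 (.leaf 0x23f4b)
(.leaf 0x23f5c))
(.node 9751 (.leaf 0x23f69)
(.leaf 0x23f7a))))
(.node 9756 (.node 9754 (.node 9753 (.leaf 0x23f7b)
(.leaf 0x23f9a))
(.node 9755 (.leaf 0x23f9b)
(.leaf 0x23fcb)))
(.node 9758 (.node 9757 (.leaf 0x23fd6)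
(.leaf 0x24019))
(.node 9759 (.leaf 0x2401b)
(.leaf 0x24039))))))
(.node 9776 (.node 9768 (.node 9764 (.node 9762 (.node 9761 (.leaf 0x2403b)
(.leaf 0x24048))
(.node 9763 (.leaf 0x24058)
(.leaf 0x24066)))
(.node 9766 (.node 9765 (.leaf 0x2406c)
(.leaf 0x24096))
(.node 9767 (.leaf 0x240a9)
(.leaf 0x240ab))))
(.node 9772 (.node 9770 (.node 9769 (.leaf 0x240db)
(.leaf 0x2411b))
(.node 9771 (.leaf 0x24129)
(.leaf 0x2413b)))
(.node 9774 (.node 9773 (.leaf 0x24159)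
(.leaf 0x2416b))
(.node 9775 (.leaf 0x24178)
(.leaf 0x2417b)))))
(.node 9784 (.node 9780 (.node 9778 (.node 9777 (.leaf 0x24186)
(.leaf 0x2418c))
(.node 9779 (.leaf 0x2419b)
(.leaf 0x241a6)))
(.node 9782 (.node 9781 (.leaf 0x241ac)
(.leaf 0x241b7))
(.node 9783 (.leaf 0x241bc)
(.leaf 0x241dc))))
(.node 9788 (.node 9786 (.node 9785 (.leaf 0x241eb)
(.leaf 0x2420c))
(.node 9787 (.leaf 0x24227)
(.leaf 0x24236)))
(.node 9790 (.node 9789 (.leaf 0x24239)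
(.leaf 0x2424a))
(.node 9791 (.leaf 0x2424b)
(.leaf 0x24279)))))))
(.node 9824 (.node 9808 (.node 9800 (.node 9796 (.node 9794 (.node 9793 (.leaf 0x2428a)
(.leaf 0x2428b))
(.node 9795 (.leaf 0x242ab)
(.leaf 0x242b6)))
(.node 9798 (.node 9797 (.leaf 0x242e3)
(.leaf 0x242e8))
(.node 9799 (.leaf 0x242f7)
(.leaf 0x242f9))))
(.node 9804 (.node 9802 (.node 9801 (.leaf 0x24309)
(.leaf 0x2430b))
(.node 9803 (.leaf 0x24328)
(.leaf 0x24337)))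
(.node 9806 (.node 9805 (.leaf 0x2433b)
(.leaf 0x24346))
(.node 9807 (.leaf 0x24349)
(.leaf 0x2435b)))))
(.node 9816 (.node 9812 (.node 9810 (.node 9809 (.leaf 0x24368)
(.leaf 0x2436b))
(.node 9811 (.leaf 0x2437c)
(.leaf 0x2438c)))
(.node 9814 (.node 9813 (.leaf 0x24399)
(.leaf 0x2439b))
(.node 9815 (.leaf 0x243a6)
(.leaf 0x243b8))))
(.node 9820 (.node 9818 (.node 9817 (.leaf 0x243bb)
(.leaf 0x243ec))
(.node 9819 (.leaf 0x243fb)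
(.leaf 0x24406)))
(.node 9822 (.node 9821 (.leaf 0x2440c)
(.leaf 0x2443b))
(.node 9823 (.leaf 0x2444a)
(.leaf 0x2444b))))))
(.node 9840 (.node 9832 (.node 9828 (.node 9826 (.node 9825 (.leaf 0x2445c)
(.leaf 0x2447b))
(.node 9827 (.leaf 0x24498)
(.leaf 0x2449b)))
(.node 9830 (.node 9829 (.leaf 0x244a6)
(.leaf 0x244ba))
(.node 9831 (.leaf 0x244bb)
(.leaf 0x244d6))))
(.node 9836 (.node 9834 (.node 9833 (.leaf 0x244dc)
(.leaf 0x244e7))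
(.node 9835 (.leaf 0x2450b)
(.leaf 0x24515)))
(.node 9838 (.node 9837 (.leaf 0x2451c)
(.leaf 0x24536))
(.node 9839 (.leaf 0x24547)
(.leaf 0x24558)))))
(.node 9848 (.node 9844 (.node 9842 (.node 9841 (.leaf 0x2456b)
(.leaf 0x2458c))
(.node 9843 (.leaf 0x245ab)
(.leaf 0x245db)))
(.node 9846 (.node 9845 (.leaf 0x245e8)
(.leaf 0x245eb))
(.node 9847 (.leaf 0x245fc)
(.leaf 0x2461b))))
(.node 9852 (.node 9850 (.node 9849 (.leaf 0x2462c)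
(.leaf 0x2463b))
(.node 9851 (.leaf 0x24656)
(.leaf 0x2465c)))
(.node 9854 (.node 9853 (.leaf 0x24665)
(.leaf 0x2466c))
(.node 9855 (.leaf 0x24685)
(.leaf 0x2468c))))))))
(.node 9920 (.node 9888 (.node 9872 (.node 9864 (.node 9860 (.node 9858 (.node 9857 (.leaf 0x246a4)
(.leaf 0x246ac))
(.node 9859 (.leaf 0x246c5)
(.leaf 0x246cc)))
(.node 9862 (.node 9861 (.leaf 0x246e6)
(.leaf 0x24707))
(.node 9863 (.leaf 0x24716)
(.leaf 0x24719))))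
(.node 9868 (.node 9866 (.node 9865 (.leaf 0x24739)
(.leaf 0x24748))
(.node 9867 (.leaf 0x24766)
(.leaf 0x24769)))
(.node 9870 (.node 9869 (.leaf 0x24779)
(.leaf 0x24788))
(.node 9871 (.leaf 0x2478b)
(.leaf 0x247d7)))))
(.node 9880 (.node 9876 (.node 9874 (.node 9873 (.leaf 0x247dc)
(.leaf 0x247fc))
(.node 9875 (.leaf 0x24816)
(.leaf 0x24819)))
(.node 9878 (.node 9877 (.leaf 0x24829)
(.leaf 0x24838))
(.node 9879 (.leaf 0x2483a)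
(.leaf 0x24858))))
(.node 9884 (.node 9882 (.node 9881 (.leaf 0x24889)
(.leaf 0x2489b))
(.node 9883 (.leaf 0x248aa)
(.leaf 0x248ab)))
(.node 9886 (.node 9885 (.leaf 0x248bb)
(.leaf 0x248c6))
(.node 9887 (.leaf 0x248eb)
(.leaf 0x248f6))))))
(.node 9904 (.node 9896 (.node 9892 (.node 9890 (.node 9889 (.leaf 0x24906)
(.leaf 0x24915))
(.node 9891 (.leaf 0x24927)
(.leaf 0x24937)))
(.node 9894 (.node 9893 (.leaf 0x24957)
(.leaf 0x24966))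
(.node 9895 (.leaf 0x2498b)
(.leaf 0x24996))))
(.node 9900 (.node 9898 (.node 9897 (.leaf 0x249a5)
(.leaf 0x249db))
(.node 9899 (.leaf 0x249ec)
(.leaf 0x249f8)))
(.node 9902 (.node 9901 (.leaf 0x24a0b)
(.leaf 0x24a1c))
(.node 9903 (.leaf 0x24a3c)
(.leaf 0x24a77)))))
(.node 9912 (.node 9908 (.node 9906 (.node 9905 (.leaf 0x24a87)
(.leaf 0x24a8b))
(.node 9907 (.leaf 0x24a97)
(.leaf 0x24a9b)))
(.node 9910 (.node 9909 (.leaf 0x24aab)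
(.leaf 0x24ac7))
(.node 9911 (.leaf 0x24adb)
(.leaf 0x24af7))))
(.node 9916 (.node 9914 (.node 9913 (.leaf 0x24afb)
(.leaf 0x24b0b))
(.node 9915 (.leaf 0x24b26)
(.leaf 0x24b37)))
(.node 9918 (.node 9917 (.leaf 0x24b3b)
(.leaf 0x24b5b))
(.node 9919 (.leaf 0x24b7b)
(.leaf 0x24b96)))))))
(.node 9952 (.node 9936 (.node 9928 (.node 9924 (.node 9922 (.node 9921 (.leaf 0x24ba5)
(.leaf 0x24bb7))
(.node 9923 (.leaf 0x24bf6)
(.leaf 0x24c0b)))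
(.node 9926 (.node 9925 (.leaf 0x24c16)
(.leaf 0x24c25))
(.node 9927 (.leaf 0x24c4b)
(.leaf 0x24c67))))
(.node 9932 (.node 9930 (.node 9929 (.leaf 0x24c76)
(.leaf 0x24c85))
(.node 9931 (.leaf 0x24ca7)
(.leaf 0x24cbb)))
(.node 9934 (.node 9933 (.leaf 0x24cd6)
(.leaf 0x24ce6))
(.node 9935 (.leaf 0x24cf7)
(.leaf 0x24d05)))))
(.node 9944 (.node 9940 (.node 9938 (.node 9937 (.leaf 0x24d36)
(.leaf 0x24da6))
(.node 9939 (.leaf 0x24db5)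
(.leaf 0x24db7)))
(.node 9942 (.node 9941 (.leaf 0x24dc8)
(.leaf 0x24dd4))
(.node 9943 (.leaf 0x24dfa)
(.leaf 0x24dfb))))
(.node 9948 (.node 9946 (.node 9945 (.leaf 0x24e0b)
(.leaf 0x24e1c))
(.node 9947 (.leaf 0x24e4b)
(.leaf 0x24e5c)))
(.node 9950 (.node 9949 (.leaf 0x24e8c)
(.leaf 0x24ebb))
(.node 9951 (.leaf 0x24ecc)
(.leaf 0x24f27))))))
(.node 9968 (.node 9960 (.node 9956 (.node 9954 (.node 9953 (.leaf 0x24f46)
(.leaf 0x24f67))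
(.node 9955 (.leaf 0x24f76)
(.leaf 0x24f96)))
(.node 9958 (.node 9957 (.leaf 0x24fa5)
(.leaf 0x24fac))
(.node 9959 (.leaf 0x2501c)
(.leaf 0x25029))))
(.node 9964 (.node 9962 (.node 9961 (.leaf 0x2502b)
(.leaf 0x2504c))
(.node 9963 (.leaf 0x25057)
(.leaf 0x25066)))
(.node 9966 (.node 9965 (.leaf 0x25069)
(.leaf 0x2506b))
(.node 9967 (.leaf 0x25098)
(.leaf 0x2509b)))))
(.node 9976 (.node 9972 (.node 9970 (.node 9969 (.leaf 0x250ac)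
(.leaf 0x250b6))
(.node 9971 (.leaf 0x250b9)
(.leaf 0x250bb)))
(.node 9974 (.node 9973 (.leaf 0x250c9)
(.leaf 0x250d8))
(.node 9975 (.leaf 0x250db)
(.leaf 0x250fb))))
(.node 9980 (.node 9978 (.node 9977 (.leaf 0x25139)
(.leaf 0x25148))
(.node 9979 (.leaf 0x2515b)
(.leaf 0x25189)))
(.node 9982 (.node 9981 (.leaf 0x2518b)
(.leaf 0x251b7))
(.node 9983 (.leaf 0x251b9)
(.leaf 0x251bb)))))))))

/-- part of a trie -/
def parPart39 : Tr :=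
(.node 10112 (.node 10048 (.node 10016 (.node 10000 (.node 9992 (.node 9988 (.node 9986 (.node 9985 (.leaf 0x251d9)
(.leaf 0x251ea))
(.node 9987 (.leaf 0x251eb)
(.leaf 0x2520b)))
(.node 9990 (.node 9989 (.leaf 0x2521c)
(.leaf 0x2523b))
(.node 9991 (.leaf 0x25246)
(.leaf 0x25259))))
(.node 9996 (.node 9994 (.node 9993 (.leaf 0x2526a)
(.leaf 0x2526b))
(.node 9995 (.leaf 0x2528a)
(.leaf 0x2528b)))
(.node 9998 (.node 9997 (.leaf 0x2529b)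
(.leaf 0x252ac))
(.node 9999 (.leaf 0x252b6)
(.leaf 0x252bc)))))
(.node 10008 (.node 10004 (.node 10002 (.node 10001 (.leaf 0x252e8)
(.leaf 0x252f7))
(.node 10003 (.leaf 0x252f9)
(.leaf 0x25309)))
(.node 10006 (.node 10005 (.leaf 0x25328)
(.leaf 0x25337))
(.node 10007 (.leaf 0x25339)
(.leaf 0x2533b))))
(.node 10012 (.node 10010 (.node 10009 (.leaf 0x25346)
(.leaf 0x25349))
(.node 10011 (.leaf 0x25368)
(.leaf 0x25379)))
(.node 10014 (.node 10013 (.leaf 0x2538a)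
(.leaf 0x2538b))
(.node 10015 (.leaf 0x25396)
(.leaf 0x253a5))))))
(.node 10032 (.node 10024 (.node 10020 (.node 10018 (.node 10017 (.leaf 0x253a7)
(.leaf 0x253b9))
(.node 10019 (.leaf 0x253c8)
(.leaf 0x253d8)))
(.node 10022 (.node 10021 (.leaf 0x253f6)
(.leaf 0x25419))
(.node 10023 (.leaf 0x25435)
(.leaf 0x2543c))))
(.node 10028 (.node 10026 (.node 10025 (.leaf 0x25466)
(.leaf 0x2547a))
(.node 10027 (.leaf 0x2547b)
(.leaf 0x25499)))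
(.node 10030 (.node 10029 (.leaf 0x254aa)
(.leaf 0x254ab))
(.node 10031 (.leaf 0x254cb)
(.leaf 0x254dc)))))
(.node 10040 (.node 10036 (.node 10034 (.node 10033 (.leaf 0x25517)
(.leaf 0x25526))
(.node 10035 (.leaf 0x25529)
(.leaf 0x2552b)))
(.node 10038 (.node 10037 (.leaf 0x25568)
(.leaf 0x2558c))
(.node 10039 (.leaf 0x255a9)
(.leaf 0x255bb))))
(.node 10044 (.node 10042 (.node 10041 (.leaf 0x255c8)
(.leaf 0x255cb))
(.node 10043 (.leaf 0x255d6)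
(.leaf 0x255dc)))
(.node 10046 (.node 10045 (.leaf 0x255eb)
(.leaf 0x255f6))
(.node 10047 (.leaf 0x255fc)
(.leaf 0x25617)))))))
(.node 10080 (.node 10064 (.node 10056 (.node 10052 (.node 10050 (.node 10049 (.leaf 0x2561c)
(.leaf 0x2563c))
(.node 10051 (.leaf 0x2566a)
(.leaf 0x2567b)))
(.node 10054 (.node 10053 (.leaf 0x25696)
(.leaf 0x256a7))
(.node 10055 (.leaf 0x256b7)
(.leaf 0x256d6))))
(.node 10060 (.node 10058 (.node 10057 (.leaf 0x256d9)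
(.leaf 0x256db))
(.node 10059 (.leaf 0x256eb)
(.leaf 0x256f6)))
(.node 10062 (.node 10061 (.leaf 0x2570b)
(.leaf 0x2571b))
(.node 10063 (.leaf 0x25726)
(.leaf 0x2572c)))))
(.node 10072 (.node 10068 (.node 10066 (.node 10065 (.leaf 0x25737)
(.leaf 0x25748))
(.node 10067 (.leaf 0x25756)
(.leaf 0x25767)))
(.node 10070 (.node 10069 (.leaf 0x25779)
(.leaf 0x25798))
(.node 10071 (.leaf 0x257a6)
(.leaf 0x257a9))))
(.node 10076 (.node 10074 (.node 10073 (.leaf 0x257ab)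
(.leaf 0x257bb))
(.node 10075 (.leaf 0x257c8)
(.leaf 0x257eb)))
(.node 10078 (.node 10077 (.leaf 0x257f8)
(.leaf 0x257fb))
(.node 10079 (.leaf 0x25806)
(.leaf 0x25818))))))
(.node 10096 (.node 10088 (.node 10084 (.node 10082 (.node 10081 (.leaf 0x25846)
(.leaf 0x25857))
(.node 10083 (.leaf 0x25868)
(.leaf 0x25879)))
(.node 10086 (.node 10085 (.leaf 0x25885)
(.leaf 0x2588c))
(.node 10087 (.leaf 0x258a6)
(.leaf 0x258b7))))
(.node 10092 (.node 10090 (.node 10089 (.leaf 0x258c8)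
(.leaf 0x258cc))
(.node 10091 (.leaf 0x258e8)
(.leaf 0x258fc)))
(.node 10094 (.node 10093 (.leaf 0x2590b)
(.leaf 0x2592c))
(.node 10095 (.leaf 0x25955)
(.leaf 0x2596b)))))
(.node 10104 (.node 10100 (.node 10098 (.node 10097 (.leaf 0x25986)
(.leaf 0x259ac))
(.node 10099 (.leaf 0x259b5)
(.leaf 0x259c4)))
(.node 10102 (.node 10101 (.leaf 0x259d4)
(.leaf 0x259fb))
(.node 10103 (.leaf 0x25a06)
(.leaf 0x25a19))))
(.node 10108 (.node 10106 (.node 10105 (.leaf 0x25a2a)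
(.leaf 0x25a2b))
(.node 10107 (.leaf 0x25a3b)
(.leaf 0x25a4c)))
(.node 10110 (.node 10109 (.leaf 0x25a7c)
(.leaf 0x25aac))
(.node 10111 (.leaf 0x25ad4)
(.leaf 0x25adc))))))))
(.node 10176 (.node 10144 (.node 10128 (.node 10120 (.node 10116 (.node 10114 (.node 10113 (.leaf 0x25b07)
(.leaf 0x25b15))
(.node 10115 (.leaf 0x25b1c)
(.leaf 0x25b26)))
(.node 10118 (.node 10117 (.leaf 0x25b3b)
(.leaf 0x25b4c))
(.node 10119 (.leaf 0x25b7b)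
(.leaf 0x25b86))))
(.node 10124 (.node 10122 (.node 10121 (.leaf 0x25b96)
(.leaf 0x25ba5))
(.node 10123 (.leaf 0x25bac)
(.leaf 0x25bcc)))
(.node 10126 (.node 10125 (.leaf 0x25bdc)
(.leaf 0x25c18))
(.node 10127 (.leaf 0x25c27)
(.leaf 0x25c2b)))))
(.node 10136 (.node 10132 (.node 10130 (.node 10129 (.leaf 0x25c4b)
(.leaf 0x25c5c))
(.node 10131 (.leaf 0x25c8b)
(.leaf 0x25cac)))
(.node 10134 (.node 10133 (.leaf 0x25cb9)
(.leaf 0x25cd8))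
(.node 10135 (.leaf 0x25d0c)
(.leaf 0x25d56))))
(.node 10140 (.node 10138 (.node 10137 (.leaf 0x25d59)
(.leaf 0x25d5b))
(.node 10139 (.leaf 0x25d69)
(.leaf 0x25d6b)))
(.node 10142 (.node 10141 (.leaf 0x25d78)
(.leaf 0x25d7b))
(.node 10143 (.leaf 0x25dd9)
(.leaf 0x25ddb))))))
(.node 10160 (.node 10152 (.node 10148 (.node 10146 (.node 10145 (.leaf 0x25deb)
(.leaf 0x25df6))
(.node 10147 (.leaf 0x25e0b)
(.leaf 0x25e37)))
(.node 10150 (.node 10149 (.leaf 0x25e48)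
(.leaf 0x25e59))
(.node 10151 (.leaf 0x25e7a)
(.leaf 0x25e7b))))
(.node 10156 (.node 10154 (.node 10153 (.leaf 0x25e8c)
(.leaf 0x25ea7))
(.node 10155 (.leaf 0x25ea9)
(.leaf 0x25eb9)))
(.node 10158 (.node 10157 (.leaf 0x25eca)
(.leaf 0x25ecb))
(.node 10159 (.leaf 0x25eea)
(.leaf 0x25eeb)))))
(.node 10168 (.node 10164 (.node 10162 (.node 10161 (.leaf 0x25efb)
(.leaf 0x25f0c))
(.node 10163 (.leaf 0x25f1b)
(.leaf 0x25f3b)))
(.node 10166 (.node 10165 (.leaf 0x25f46)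
(.leaf 0x25f4c))
(.node 10167 (.leaf 0x25f5b)
(.leaf 0x25f66))))
(.node 10172 (.node 10170 (.node 10169 (.leaf 0x25f99)
(.leaf 0x25fab))
(.node 10171 (.leaf 0x25fe9)
(.leaf 0x25ffa)))
(.node 10174 (.node 10173 (.leaf 0x25ffb)
(.leaf 0x26008))
(.node 10175 (.leaf 0x2600a)
(.leaf 0x2600b)))))))
(.node 10208 (.node 10192 (.node 10184 (.node 10180 (.node 10178 (.node 10177 (.leaf 0x2601b)
(.leaf 0x2602c))
(.node 10179 (.leaf 0x2603a)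
(.leaf 0x2604b)))
(.node 10182 (.node 10181 (.leaf 0x26066)
(.leaf 0x2606c))
(.node 10183 (.leaf 0x26082)
(.leaf 0x26088))))
(.node 10188 (.node 10186 (.node 10185 (.leaf 0x26097)
(.leaf 0x2609b))
(.node 10187 (.leaf 0x260a9)
(.leaf 0x260ab)))
(.node 10190 (.node 10189 (.leaf 0x260db)
(.leaf 0x260ec))
(.node 10191 (.leaf 0x260f7)
(.leaf 0x260fb)))))
(.node 10200 (.node 10196 (.node 10194 (.node 10193 (.leaf 0x26109)
(.leaf 0x2610b))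
(.node 10195 (.leaf 0x2612b)
(.leaf 0x2616a)))
(.node 10198 (.node 10197 (.leaf 0x2616b)
(.leaf 0x2617b))
(.node 10199 (.leaf 0x2619b)
(.leaf 0x261b6))))
(.node 10204 (.node 10202 (.node 10201 (.leaf 0x261c5)
(.leaf 0x261d8))
(.node 10203 (.leaf 0x261db)
(.leaf 0x261ec)))
(.node 10206 (.node 10205 (.leaf 0x261fb)
(.leaf 0x2620c))
(.node 10207 (.leaf 0x2623c)
(.leaf 0x2626a))))))
(.node 10224 (.node 10216 (.node 10212 (.node 10210 (.node 10209 (.leaf 0x2626b)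
(.leaf 0x262ab))
(.node 10211 (.leaf 0x262b6)
(.leaf 0x262c8)))
(.node 10214 (.node 10213 (.leaf 0x262cb)
(.leaf 0x262d6))
(.node 10215 (.leaf 0x262eb)
(.leaf 0x262f6))))
(.node 10220 (.node 10218 (.node 10217 (.leaf 0x262fc)
(.leaf 0x26307))
(.node 10219 (.leaf 0x2630c)
(.leaf 0x26326)))
(.node 10222 (.node 10221 (.leaf 0x2632c)
(.leaf 0x26337))
(.node 10223 (.leaf 0x2633c)
(.leaf 0x26358)))))
(.node 10232 (.node 10228 (.node 10226 (.node 10225 (.leaf 0x2635c)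
(.leaf 0x2637b))
(.node 10227 (.leaf 0x263a6)
(.leaf 0x263a9)))
(.node 10230 (.node 10229 (.leaf 0x263b9)
(.leaf 0x263ca))
(.node 10231 (.leaf 0x263cb)
(.leaf 0x263db))))
(.node 10236 (.node 10234 (.node 10233 (.leaf 0x263e6)
(.leaf 0x263fa))
(.node 10235 (.leaf 0x2640b)
(.leaf 0x26426)))
(.node 10238 (.node 10237 (.leaf 0x26448)
(.leaf 0x26457))
(.node 10239 (.leaf 0x2645b)
(.leaf 0x26469)))))))))

/-- part of a trie -/
def parPart40 : Tr :=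
(.node 10368 (.node 10304 (.node 10272 (.node 10256 (.node 10248 (.node 10244 (.node 10242 (.node 10241 (.leaf 0x26488)
(.leaf 0x2648b))
(.node 10243 (.leaf 0x2649c)
(.leaf 0x264a7)))
(.node 10246 (.node 10245 (.leaf 0x264ab)
(.leaf 0x264b9))
(.node 10247 (.leaf 0x264bb)
(.leaf 0x264db))))
(.node 10252 (.node 10250 (.node 10249 (.leaf 0x264e8)
(.leaf 0x264eb))
(.node 10251 (.leaf 0x264fc)
(.leaf 0x2650b)))
(.node 10254 (.node 10253 (.leaf 0x26516)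
(.leaf 0x2651c))
(.node 10255 (.leaf 0x26548)
(.leaf 0x2654b)))))
(.node 10264 (.node 10260 (.node 10258 (.node 10257 (.leaf 0x26556)
(.leaf 0x26567))
(.node 10259 (.leaf 0x2657b)
(.leaf 0x26586)))
(.node 10262 (.node 10261 (.leaf 0x2658c)
(.leaf 0x265b5))
(.node 10263 (.leaf 0x265bc)
(.leaf 0x265eb))))
(.node 10268 (.node 10266 (.node 10265 (.leaf 0x265fc)
(.leaf 0x2661c))
(.node 10267 (.leaf 0x2662a)
(.leaf 0x2662b)))
(.node 10270 (.node 10269 (.leaf 0x26636)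
(.leaf 0x2663c))
(.node 10271 (.leaf 0x26647)
(.leaf 0x2665b))))))
(.node 10288 (.node 10280 (.node 10276 (.node 10274 (.node 10273 (.leaf 0x26666)
(.leaf 0x26675))
(.node 10275 (.leaf 0x26677)
(.leaf 0x2667c)))
(.node 10278 (.node 10277 (.leaf 0x26698)
(.leaf 0x266bc))
(.node 10279 (.leaf 0x266d7)
(.leaf 0x266e8))))
(.node 10284 (.node 10282 (.node 10281 (.leaf 0x26706)
(.leaf 0x2672c))
(.node 10283 (.leaf 0x2674b)
(.leaf 0x2675c)))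
(.node 10286 (.node 10285 (.leaf 0x26796)
(.leaf 0x267a5))
(.node 10287 (.leaf 0x267ac)
(.leaf 0x267c4)))))
(.node 10296 (.node 10292 (.node 10290 (.node 10289 (.leaf 0x267c7)
(.leaf 0x267cc))
(.node 10291 (.leaf 0x267e4)
(.leaf 0x267ec)))
(.node 10294 (.node 10293 (.leaf 0x2680c)
(.leaf 0x26824))
(.node 10295 (.leaf 0x2682c)
(.leaf 0x2683b))))
(.node 10300 (.node 10298 (.node 10297 (.leaf 0x26845)
(.leaf 0x26856))
(.node 10299 (.leaf 0x26859)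
(.leaf 0x26869)))
(.node 10302 (.node 10301 (.leaf 0x26878)
(.leaf 0x26888))
(.node 10303 (.leaf 0x268a9)
(.leaf 0x268b8)))))))
(.node 10336 (.node 10320 (.node 10312 (.node 10308 (.node 10306 (.node 10305 (.leaf 0x268bb)
(.leaf 0x268c8))
(.node 10307 (.leaf 0x268cb)
(.leaf 0x268db)))
(.node 10310 (.node 10309 (.leaf 0x268e6)
(.leaf 0x268fc))
(.node 10311 (.leaf 0x26929)
(.leaf 0x26938))))
(.node 10316 (.node 10314 (.node 10313 (.leaf 0x26948)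
(.leaf 0x2694a))
(.node 10315 (.leaf 0x26977)
(.leaf 0x2697b)))
(.node 10318 (.node 10317 (.leaf 0x2698b)
(.leaf 0x26996))
(.node 10319 (.leaf 0x2699c)
(.leaf 0x269ab)))))
(.node 10328 (.node 10324 (.node 10322 (.node 10321 (.leaf 0x269b6)
(.leaf 0x269c6))
(.node 10323 (.leaf 0x269dc)
(.leaf 0x269e6)))
(.node 10326 (.node 10325 (.leaf 0x269f5)
(.leaf 0x26a05))
(.node 10327 (.leaf 0x26a38)
(.leaf 0x26a4b))))
(.node 10332 (.node 10330 (.node 10329 (.leaf 0x26a66)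
(.leaf 0x26a75))
(.node 10331 (.leaf 0x26a9c)
(.leaf 0x26acc)))
(.node 10334 (.node 10333 (.leaf 0x26b0b)
(.leaf 0x26b2b))
(.node 10335 (.leaf 0x26b46)
(.leaf 0x26b5b))))))
(.node 10352 (.node 10344 (.node 10340 (.node 10338 (.node 10337 (.leaf 0x26b66)
(.leaf 0x26b7b))
(.node 10339 (.leaf 0x26b96)
(.leaf 0x26ba5)))
(.node 10342 (.node 10341 (.leaf 0x26bbb)
(.leaf 0x26bd6))
(.node 10343 (.leaf 0x26c36)
(.leaf 0x26c45))))
(.node 10348 (.node 10346 (.node 10345 (.leaf 0x26c47)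
(.leaf 0x26c76))
(.node 10347 (.leaf 0x26cb6)
(.leaf 0x26cc5)))
(.node 10350 (.node 10349 (.leaf 0x26cd5)
(.leaf 0x26cd7))
(.node 10351 (.leaf 0x26cf4)
(.leaf 0x26d15)))))
(.node 10360 (.node 10356 (.node 10354 (.node 10353 (.leaf 0x26d17)
(.leaf 0x26d24))
(.node 10355 (.leaf 0x26d27)
(.leaf 0x26d38)))
(.node 10358 (.node 10357 (.leaf 0x26d6b)
(.leaf 0x26d7c))
(.node 10359 (.leaf 0x26d8c)
(.leaf 0x26dac))))
(.node 10364 (.node 10362 (.node 10361 (.leaf 0x26ddc)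
(.leaf 0x26df6))
(.node 10363 (.leaf 0x26e16)
(.leaf 0x26e35)))
(.node 10366 (.node 10365 (.leaf 0x26e4c)
(.leaf 0x26e78))
(.node 10367 (.leaf 0x26e8c)
(.leaf 0x26ea6))))))))
(.node 10432 (.node 10400 (.node 10384 (.node 10376 (.node 10372 (.node 10370 (.node 10369 (.leaf 0x26ea9)
(.leaf 0x26eb9))
(.node 10371 (.leaf 0x26ecb)
(.leaf 0x26f19)))
(.node 10374 (.node 10373 (.leaf 0x26f2b)
(.leaf 0x26f36))
(.node 10375 (.leaf 0x26f4b)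
(.leaf 0x26f5b))))
(.node 10380 (.node 10378 (.node 10377 (.leaf 0x26f66)
(.leaf 0x26f8b))
(.node 10379 (.leaf 0x26fbb)
(.leaf 0x26fc6)))
(.node 10382 (.node 10381 (.leaf 0x26fd9)
(.leaf 0x26fea))
(.node 10383 (.leaf 0x26feb)
(.leaf 0x2700a)))))
(.node 10392 (.node 10388 (.node 10386 (.node 10385 (.leaf 0x2700b)
(.leaf 0x2701b))
(.node 10387 (.leaf 0x2702c)
(.leaf 0x27036)))
(.node 10390 (.node 10389 (.leaf 0x2703c)
(.leaf 0x27056))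
(.node 10391 (.leaf 0x2707a)
(.leaf 0x2707b))))
(.node 10396 (.node 10394 (.node 10393 (.leaf 0x2708b)
(.leaf 0x2709c))
(.node 10395 (.leaf 0x270ab)
(.leaf 0x270b6)))
(.node 10398 (.node 10397 (.leaf 0x270bc)
(.leaf 0x270ec))
(.node 10399 (.leaf 0x27107)
(.leaf 0x27119))))))
(.node 10416 (.node 10408 (.node 10404 (.node 10402 (.node 10401 (.leaf 0x27138)
(.leaf 0x27147))
(.node 10403 (.leaf 0x27149)
(.leaf 0x2714b)))
(.node 10406 (.node 10405 (.leaf 0x27156)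
(.leaf 0x27159))
(.node 10407 (.leaf 0x2715b)
(.leaf 0x27189))))
(.node 10412 (.node 10410 (.node 10409 (.leaf 0x27198)
(.leaf 0x2719b))
(.node 10411 (.leaf 0x271ab)
(.leaf 0x271ba)))
(.node 10414 (.node 10413 (.leaf 0x271bb)
(.leaf 0x271cb))
(.node 10415 (.leaf 0x271d6)
(.leaf 0x271e5)))))
(.node 10424 (.node 10420 (.node 10418 (.node 10417 (.leaf 0x271e7)
(.leaf 0x271f7))
(.node 10419 (.leaf 0x27208)
(.leaf 0x2721b)))
(.node 10422 (.node 10421 (.leaf 0x27245)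
(.leaf 0x2726c))
(.node 10423 (.leaf 0x2729b)
(.leaf 0x272ac))))
(.node 10428 (.node 10426 (.node 10425 (.leaf 0x272ba)
(.leaf 0x272cb))
(.node 10427 (.leaf 0x272ec)
(.leaf 0x27306)))
(.node 10430 (.node 10429 (.leaf 0x27309)
(.leaf 0x2730b))
(.node 10431 (.leaf 0x27319)
(.leaf 0x2731b)))))))
(.node 10464 (.node 10448 (.node 10440 (.node 10436 (.node 10434 (.node 10433 (.leaf 0x27328)
(.leaf 0x2732b))
(.node 10435 (.leaf 0x27368)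
(.leaf 0x2736b)))
(.node 10438 (.node 10437 (.leaf 0x27376)
(.leaf 0x2738b))
(.node 10439 (.leaf 0x27396)
(.leaf 0x2739c))))
(.node 10444 (.node 10442 (.node 10441 (.leaf 0x273a7)
(.leaf 0x273ac))
(.node 10443 (.leaf 0x273c6)
(.leaf 0x273cc)))
(.node 10446 (.node 10445 (.leaf 0x273d7)
(.leaf 0x273dc))
(.node 10447 (.leaf 0x273f8)
(.leaf 0x273fc)))))
(.node 10456 (.node 10452 (.node 10450 (.node 10449 (.leaf 0x27436)
(.leaf 0x27447))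
(.node 10451 (.leaf 0x27468)
(.leaf 0x2747b)))
(.node 10454 (.node 10453 (.leaf 0x2748b)
(.leaf 0x27496))
(.node 10455 (.leaf 0x274a6)
(.leaf 0x274ac))))
(.node 10460 (.node 10458 (.node 10457 (.leaf 0x274b7)
(.leaf 0x274d6))
(.node 10459 (.leaf 0x274dc)
(.leaf 0x274e5)))
(.node 10462 (.node 10461 (.leaf 0x274e7)
(.leaf 0x274ec))
(.node 10463 (.leaf 0x27508)
(.leaf 0x27519))))))
(.node 10480 (.node 10472 (.node 10468 (.node 10466 (.node 10465 (.leaf 0x27525)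
(.leaf 0x27539))
(.node 10467 (.leaf 0x2753b)
(.leaf 0x27548)))
(.node 10470 (.node 10469 (.leaf 0x2756b)
(.leaf 0x27578))
(.node 10471 (.leaf 0x27586)
(.leaf 0x275cb))))
(.node 10476 (.node 10474 (.node 10473 (.leaf 0x275d6)
(.leaf 0x275e5))
(.node 10475 (.leaf 0x275e7)
(.leaf 0x275f9)))
(.node 10478 (.node 10477 (.leaf 0x27607)
(.leaf 0x27644))
(.node 10479 (.leaf 0x2764c)
(.leaf 0x27667)))))
(.node 10488 (.node 10484 (.node 10482 (.node 10481 (.leaf 0x27678)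
(.leaf 0x2768c))
(.node 10483 (.leaf 0x276bb)
(.leaf 0x2770c)))
(.node 10486 (.node 10485 (.leaf 0x27724)
(.leaf 0x27756))
(.node 10487 (.leaf 0x27767)
(.leaf 0x2777a))))
(.node 10492 (.node 10490 (.node 10489 (.leaf 0x2777b)
(.leaf 0x2778b))
(.node 10491 (.leaf 0x2779c)
(.leaf 0x277ac)))
(.node 10494 (.node 10493 (.leaf 0x277ec)
(.leaf 0x2781c))
(.node 10495 (.leaf 0x2783b)
(.leaf 0x2784c)))))))))

/-- part of a trie -/
def parPart41 : Tr :=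
(.node 10624 (.node 10560 (.node 10528 (.node 10512 (.node 10504 (.node 10500 (.node 10498 (.node 10497 (.leaf 0x27866)
(.leaf 0x27875))
(.node 10499 (.leaf 0x27885)
(.leaf 0x2789c)))
(.node 10502 (.node 10501 (.leaf 0x278eb)
(.leaf 0x278fc))
(.node 10503 (.leaf 0x2790c)
(.leaf 0x27926))))
(.node 10508 (.node 10506 (.node 10505 (.leaf 0x27979)
(.leaf 0x2797b))
(.node 10507 (.leaf 0x2798b)
(.leaf 0x27996)))
(.node 10510 (.node 10509 (.leaf 0x279a8)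
(.leaf 0x279ab))
(.node 10511 (.leaf 0x279eb)
(.leaf 0x279f6)))))
(.node 10520 (.node 10516 (.node 10514 (.node 10513 (.leaf 0x279fc)
(.leaf 0x27a06))
(.node 10515 (.leaf 0x27a17)
(.leaf 0x27a2c)))
(.node 10518 (.node 10517 (.leaf 0x27a38)
(.leaf 0x27a49))
(.node 10519 (.leaf 0x27a6b)
(.leaf 0x27a76))))
(.node 10524 (.node 10522 (.node 10521 (.leaf 0x27a99)
(.leaf 0x27aaa))
(.node 10523 (.leaf 0x27aab)
(.leaf 0x27aba)))
(.node 10526 (.node 10525 (.leaf 0x27abb)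
(.leaf 0x27acb))
(.node 10527 (.leaf 0x27ad6)
(.leaf 0x27adc))))))
(.node 10544 (.node 10536 (.node 10532 (.node 10530 (.node 10529 (.leaf 0x27aeb)
(.leaf 0x27af6))
(.node 10531 (.leaf 0x27afc)
(.leaf 0x27b0c)))
(.node 10534 (.node 10533 (.leaf 0x27b36)
(.leaf 0x27b4c))
(.node 10535 (.leaf 0x27b66)
(.leaf 0x27b8b))))
(.node 10540 (.node 10538 (.node 10537 (.leaf 0x27ba8)
(.leaf 0x27baa))
(.node 10539 (.leaf 0x27bab)
(.leaf 0x27bbb)))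
(.node 10542 (.node 10541 (.leaf 0x27bcc)
(.leaf 0x27bda))
(.node 10543 (.leaf 0x27bdb)
(.leaf 0x27beb)))))
(.node 10552 (.node 10548 (.node 10546 (.node 10545 (.leaf 0x27c0c)
(.leaf 0x27c2b))
(.node 10547 (.leaf 0x27c36)
(.leaf 0x27c3c)))
(.node 10550 (.node 10549 (.leaf 0x27c47)
(.leaf 0x27c4c))
(.node 10551 (.leaf 0x27c68)
(.leaf 0x27c77))))
(.node 10556 (.node 10554 (.node 10553 (.leaf 0x27c79)
(.leaf 0x27c7b))
(.node 10555 (.leaf 0x27c89)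
(.leaf 0x27c8b)))
(.node 10558 (.node 10557 (.leaf 0x27cab)
(.leaf 0x27ce9))
(.node 10559 (.leaf 0x27ceb)
(.leaf 0x27d0b)))))))
(.node 10592 (.node 10576 (.node 10568 (.node 10564 (.node 10562 (.node 10561 (.leaf 0x27d3b)
(.leaf 0x27d5c))
(.node 10563 (.leaf 0x27d66)
(.leaf 0x27d75)))
(.node 10566 (.node 10565 (.leaf 0x27d84)
(.leaf 0x27d9b))
(.node 10567 (.leaf 0x27dcc)
(.leaf 0x27dfb))))
(.node 10572 (.node 10570 (.node 10569 (.leaf 0x27e16)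
(.leaf 0x27e27))
(.node 10571 (.leaf 0x27e3b)
(.leaf 0x27e46)))
(.node 10574 (.node 10573 (.leaf 0x27e4c)
(.leaf 0x27e55))
(.node 10575 (.leaf 0x27e57)
(.leaf 0x27e66)))))
(.node 10584 (.node 10580 (.node 10578 (.node 10577 (.leaf 0x27e6c)
(.leaf 0x27e77))
(.node 10579 (.leaf 0x27e7c)
(.leaf 0x27e98)))
(.node 10582 (.node 10581 (.leaf 0x27e9c)
(.leaf 0x27eb7))
(.node 10583 (.leaf 0x27ebc)
(.leaf 0x27ed8))))
(.node 10588 (.node 10586 (.node 10585 (.leaf 0x27edc)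
(.leaf 0x27efc))
(.node 10587 (.leaf 0x27f16)
(.leaf 0x27f29)))
(.node 10590 (.node 10589 (.leaf 0x27f3a)
(.leaf 0x27f3b))
(.node 10591 (.leaf 0x27f4a)
(.leaf 0x27f5b))))))
(.node 10608 (.node 10600 (.node 10596 (.node 10594 (.node 10593 (.leaf 0x27f76)
(.leaf 0x27f9b))
(.node 10595 (.leaf 0x27fa6)
(.leaf 0x27fb7)))
(.node 10598 (.node 10597 (.leaf 0x27fc7)
(.leaf 0x27fcb))
(.node 10599 (.leaf 0x27fd9)
(.leaf 0x27fdb))))
(.node 10604 (.node 10602 (.node 10601 (.leaf 0x27ff8)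
(.leaf 0x27ffb))
(.node 10603 (.leaf 0x2800b)
(.leaf 0x2801c)))
(.node 10606 (.node 10605 (.leaf 0x28039)
(.leaf 0x2803b))
(.node 10607 (.leaf 0x28058)
(.leaf 0x2805b)))))
(.node 10616 (.node 10612 (.node 10610 (.node 10609 (.leaf 0x2807c)
(.leaf 0x2808b))
(.node 10611 (.leaf 0x28096)
(.leaf 0x2809c)))
(.node 10614 (.node 10613 (.leaf 0x280bc)
(.leaf 0x280c5))
(.node 10615 (.leaf 0x280cc)
(.leaf 0x280eb))))
(.node 10620 (.node 10618 (.node 10617 (.leaf 0x280f6)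
(.leaf 0x280fc))
(.node 10619 (.leaf 0x28107)
(.leaf 0x28118)))
(.node 10622 (.node 10621 (.leaf 0x28126)
(.leaf 0x28137))
(.node 10623 (.leaf 0x2813c)
(.leaf 0x2815c))))))))
(.node 10688 (.node 10656 (.node 10640 (.node 10632 (.node 10628 (.node 10626 (.node 10625 (.leaf 0x2817c)
(.leaf 0x281ab))
(.node 10627 (.leaf 0x281b6)
(.leaf 0x281bc)))
(.node 10630 (.node 10629 (.leaf 0x281c5)
(.leaf 0x281c7))
(.node 10631 (.leaf 0x281cc)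
(.leaf 0x281f6))))
(.node 10636 (.node 10634 (.node 10633 (.leaf 0x28207)
(.leaf 0x28214))
(.node 10635 (.leaf 0x28217)
(.leaf 0x2821c)))
(.node 10638 (.node 10637 (.leaf 0x28228)
(.leaf 0x2822c))
(.node 10639 (.leaf 0x28268)
(.leaf 0x28285)))))
(.node 10648 (.node 10644 (.node 10642 (.node 10641 (.leaf 0x282c7)
(.leaf 0x282d4))
(.node 10643 (.leaf 0x282dc)
(.leaf 0x282eb)))
(.node 10646 (.node 10645 (.leaf 0x282f7)
(.leaf 0x282fc))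
(.node 10647 (.leaf 0x2830c)
(.leaf 0x28323))))
(.node 10652 (.node 10650 (.node 10649 (.leaf 0x2832c)
(.leaf 0x28353))
(.node 10651 (.leaf 0x2835c)
(.leaf 0x2836b)))
(.node 10654 (.node 10653 (.leaf 0x28399)
(.leaf 0x283a8))
(.node 10655 (.leaf 0x283b8)
(.leaf 0x283d7))))))
(.node 10672 (.node 10664 (.node 10660 (.node 10658 (.node 10657 (.leaf 0x283db)
(.leaf 0x283e8))
(.node 10659 (.leaf 0x283eb)
(.leaf 0x283fb)))
(.node 10662 (.node 10661 (.leaf 0x28406)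
(.leaf 0x2840c))
(.node 10663 (.leaf 0x2841b)
(.leaf 0x28426))))
(.node 10668 (.node 10666 (.node 10665 (.leaf 0x28436)
(.leaf 0x28468))
(.node 10667 (.leaf 0x28487)
(.leaf 0x2848b)))
(.node 10670 (.node 10669 (.leaf 0x2849b)
(.leaf 0x284ab))
(.node 10671 (.leaf 0x284c6)
(.leaf 0x284dc)))))
(.node 10680 (.node 10676 (.node 10674 (.node 10673 (.leaf 0x284f6)
(.leaf 0x284fc))
(.node 10675 (.leaf 0x28505)
(.leaf 0x2850c)))
(.node 10678 (.node 10677 (.leaf 0x2852b)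
(.leaf 0x28535))
(.node 10679 (.leaf 0x2854c)
(.leaf 0x28576))))
(.node 10684 (.node 10682 (.node 10681 (.leaf 0x285c6)
(.leaf 0x285d6))
(.node 10683 (.leaf 0x285e5)
(.leaf 0x285f6)))
(.node 10686 (.node 10685 (.leaf 0x28605)
(.leaf 0x28665))
(.node 10687 (.leaf 0x28667)
(.leaf 0x28677)))))))
(.node 10720 (.node 10704 (.node 10696 (.node 10692 (.node 10690 (.node 10689 (.leaf 0x28688)
(.leaf 0x286a5))
(.node 10691 (.leaf 0x286b4)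
(.leaf 0x286c4)))
(.node 10694 (.node 10693 (.leaf 0x286c7)
(.leaf 0x286e3))
(.node 10695 (.leaf 0x286f7)
(.leaf 0x28708))))
(.node 10700 (.node 10698 (.node 10697 (.leaf 0x28717)
(.leaf 0x28728))
(.node 10699 (.leaf 0x2874c)
(.leaf 0x287a5)))
(.node 10702 (.node 10701 (.leaf 0x287f9)
(.leaf 0x2880b))
(.node 10703 (.leaf 0x2881b)
(.leaf 0x28826)))))
(.node 10712 (.node 10708 (.node 10706 (.node 10705 (.leaf 0x2883b)
(.leaf 0x28846))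
(.node 10707 (.leaf 0x28857)
(.leaf 0x28866)))
(.node 10710 (.node 10709 (.leaf 0x2886c)
(.leaf 0x28876))
(.node 10711 (.leaf 0x28887)
(.leaf 0x2889c))))
(.node 10716 (.node 10714 (.node 10713 (.leaf 0x288a6)
(.leaf 0x288b5))
(.node 10715 (.leaf 0x288ca)
(.leaf 0x288cb)))
(.node 10718 (.node 10717 (.leaf 0x288db)
(.leaf 0x288ec))
(.node 10719 (.leaf 0x288fb)
(.leaf 0x28906))))))
(.node 10736 (.node 10728 (.node 10724 (.node 10722 (.node 10721 (.leaf 0x2890c)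
(.leaf 0x2891c))
(.node 10723 (.leaf 0x2893c)
(.leaf 0x2896b)))
(.node 10726 (.node 10725 (.leaf 0x28976)
(.leaf 0x2897c))
(.node 10727 (.leaf 0x289a6)
(.leaf 0x289bc))))
(.node 10732 (.node 10730 (.node 10729 (.leaf 0x289e9)
(.leaf 0x289eb))
(.node 10731 (.leaf 0x289f8)
(.leaf 0x289fb)))
(.node 10734 (.node 10733 (.leaf 0x28a0b)
(.leaf 0x28a19))
(.node 10735 (.leaf 0x28a1b)
(.leaf 0x28a49)))))
(.node 10744 (.node 10740 (.node 10738 (.node 10737 (.leaf 0x28a4b)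
(.leaf 0x28a58))
(.node 10739 (.leaf 0x28a5b)
(.leaf 0x28a66)))
(.node 10742 (.node 10741 (.leaf 0x28a7b)
(.leaf 0x28a8b))
(.node 10743 (.leaf 0x28aac)
(.leaf 0x28abb))))
(.node 10748 (.node 10746 (.node 10745 (.leaf 0x28ad6)
(.leaf 0x28adc))
(.node 10747 (.leaf 0x28ae5)
(.leaf 0x28ae7)))
(.node 10750 (.node 10749 (.leaf 0x28af7)
(.leaf 0x28b08))
(.node 10751 (.leaf 0x28b18)
(.leaf 0x28b29)))))))))

/-- part of a trie -/
def parPart42 : Tr :=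
(.node 10880 (.node 10816 (.node 10784 (.node 10768 (.node 10760 (.node 10756 (.node 10754 (.node 10753 (.leaf 0x28b3c)
(.leaf 0x28b44))
(.node 10755 (.leaf 0x28b6c)
(.leaf 0x28b8b)))
(.node 10758 (.node 10757 (.leaf 0x28b9c)
(.leaf 0x28bbb))
(.node 10759 (.leaf 0x28bcb)
(.leaf 0x28bd6))))
(.node 10764 (.node 10762 (.node 10761 (.leaf 0x28be8)
(.leaf 0x28beb))
(.node 10763 (.leaf 0x28c2b)
(.leaf 0x28c36)))
(.node 10766 (.node 10765 (.leaf 0x28c3c)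
(.leaf 0x28c45))
(.node 10767 (.leaf 0x28c47)
(.leaf 0x28c56)))))
(.node 10776 (.node 10772 (.node 10770 (.node 10769 (.leaf 0x28c5c)
(.leaf 0x28c67))
(.node 10771 (.leaf 0x28c6c)
(.leaf 0x28c88)))
(.node 10774 (.node 10773 (.leaf 0x28c8c)
(.leaf 0x28ca7))
(.node 10775 (.leaf 0x28cac)
(.leaf 0x28cc8))))
(.node 10780 (.node 10778 (.node 10777 (.leaf 0x28ccc)
(.leaf 0x28cec))
(.node 10779 (.leaf 0x28d07)
(.leaf 0x28d18)))
(.node 10782 (.node 10781 (.leaf 0x28d36)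
(.leaf 0x28d3c))
(.node 10783 (.leaf 0x28d46)
(.leaf 0x28d4c))))))
(.node 10800 (.node 10792 (.node 10788 (.node 10786 (.node 10785 (.leaf 0x28d67)
(.leaf 0x28d6c))
(.node 10787 (.leaf 0x28d95)
(.leaf 0x28d97)))
(.node 10790 (.node 10789 (.leaf 0x28d9c)
(.leaf 0x28db4))
(.node 10791 (.leaf 0x28db7)
(.leaf 0x28dbc))))
(.node 10796 (.node 10794 (.node 10793 (.leaf 0x28dc8)
(.leaf 0x28dcc))
(.node 10795 (.leaf 0x28de9)
(.leaf 0x28e0c)))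
(.node 10798 (.node 10797 (.leaf 0x28e18)
(.leaf 0x28e1b))
(.node 10799 (.leaf 0x28e26)
(.leaf 0x28e2c)))))
(.node 10808 (.node 10804 (.node 10802 (.node 10801 (.leaf 0x28e46)
(.leaf 0x28e4c))
(.node 10803 (.leaf 0x28e5b)
(.leaf 0x28e65)))
(.node 10806 (.node 10805 (.leaf 0x28e76)
(.leaf 0x28e7c))
(.node 10807 (.leaf 0x28e87)
(.leaf 0x28e97))))
(.node 10812 (.node 10810 (.node 10809 (.leaf 0x28edc)
(.leaf 0x28ef8))
(.node 10811 (.leaf 0x28f57)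
(.leaf 0x28f7b)))
(.node 10814 (.node 10813 (.leaf 0x28f86)
(.leaf 0x28f8c))
(.node 10815 (.leaf 0x28f9c)
(.leaf 0x28fec)))))))
(.node 10848 (.node 10832 (.node 10824 (.node 10820 (.node 10818 (.node 10817 (.leaf 0x29005)
(.leaf 0x2901c))
(.node 10819 (.leaf 0x29046)
(.leaf 0x2908b)))
(.node 10822 (.node 10821 (.leaf 0x29096)
(.leaf 0x2909c))
(.node 10823 (.leaf 0x290a6)
(.leaf 0x290cb))))
(.node 10828 (.node 10826 (.node 10825 (.leaf 0x290e6)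
(.leaf 0x290fc))
(.node 10827 (.leaf 0x29115)
(.leaf 0x29117)))
(.node 10830 (.node 10829 (.leaf 0x29128)
(.leaf 0x29149))
(.node 10831 (.leaf 0x29166)
(.leaf 0x2917c)))))
(.node 10840 (.node 10836 (.node 10834 (.node 10833 (.leaf 0x2918a)
(.leaf 0x2918b))
(.node 10835 (.leaf 0x2919b)
(.leaf 0x291ac)))
(.node 10838 (.node 10837 (.leaf 0x291bb)
(.leaf 0x291d6))
(.node 10839 (.leaf 0x291ec)
(.leaf 0x29206))))
(.node 10844 (.node 10842 (.node 10841 (.leaf 0x2920c)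
(.leaf 0x2921c))
(.node 10843 (.leaf 0x29247)
(.leaf 0x2924c)))
(.node 10846 (.node 10845 (.leaf 0x2928a)
(.leaf 0x2928b))
(.node 10847 (.leaf 0x2929b)
(.leaf 0x292a6))))))
(.node 10864 (.node 10856 (.node 10852 (.node 10850 (.node 10849 (.leaf 0x292ac)
(.leaf 0x292bc))
(.node 10851 (.leaf 0x292db)
(.leaf 0x292fc)))
(.node 10854 (.node 10853 (.leaf 0x29316)
(.leaf 0x2931c))
(.node 10855 (.leaf 0x29327)
(.leaf 0x2932c))))
(.node 10860 (.node 10858 (.node 10857 (.leaf 0x29348)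
(.leaf 0x2934c))
(.node 10859 (.leaf 0x29367)
(.leaf 0x29369)))
(.node 10862 (.node 10861 (.leaf 0x29379)
(.leaf 0x2937b))
(.node 10863 (.leaf 0x2938b)
(.leaf 0x293ab)))))
(.node 10872 (.node 10868 (.node 10866 (.node 10865 (.leaf 0x293db)
(.leaf 0x29406))
(.node 10867 (.leaf 0x29425)
(.leaf 0x29427)))
(.node 10870 (.node 10869 (.leaf 0x29434)
(.leaf 0x29476))
(.node 10871 (.leaf 0x29485)
(.leaf 0x29487))))
(.node 10876 (.node 10874 (.node 10873 (.leaf 0x294a6)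
(.leaf 0x294ac))
(.node 10875 (.leaf 0x294b5)
(.leaf 0x294b7)))
(.node 10878 (.node 10877 (.leaf 0x294bc)
(.leaf 0x294d7))
(.node 10879 (.leaf 0x294f7)
(.leaf 0x294fc))))))))
(.node 10944 (.node 10912 (.node 10896 (.node 10888 (.node 10884 (.node 10882 (.node 10881 (.leaf 0x29518)
(.leaf 0x2951c))
(.node 10883 (.leaf 0x2953c)
(.leaf 0x29558)))
(.node 10886 (.node 10885 (.leaf 0x2955c)
(.leaf 0x2957c))
(.node 10887 (.leaf 0x295ba)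
(.leaf 0x295cb))))
(.node 10892 (.node 10890 (.node 10889 (.leaf 0x295eb)
(.leaf 0x295f6))
(.node 10891 (.leaf 0x29607)
(.leaf 0x29616)))
(.node 10894 (.node 10893 (.leaf 0x29627)
(.leaf 0x29649))
(.node 10895 (.leaf 0x2964b)
(.leaf 0x29668)))))
(.node 10904 (.node 10900 (.node 10898 (.node 10897 (.leaf 0x2966b)
(.leaf 0x2968b))
(.node 10899 (.leaf 0x296ac)
(.leaf 0x296c8)))
(.node 10902 (.node 10901 (.leaf 0x296cb)
(.leaf 0x296eb))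
(.node 10903 (.leaf 0x296f6)
(.leaf 0x296fc))))
(.node 10908 (.node 10906 (.node 10905 (.leaf 0x2971c)
(.leaf 0x29725))
(.node 10907 (.leaf 0x29727)
(.leaf 0x2972c)))
(.node 10910 (.node 10909 (.leaf 0x29754)
(.leaf 0x2975c))
(.node 10911 (.leaf 0x29776)
(.leaf 0x2977c))))))
(.node 10928 (.node 10920 (.node 10916 (.node 10914 (.node 10913 (.leaf 0x29785)
(.leaf 0x29787))
(.node 10915 (.leaf 0x2978c)
(.leaf 0x297a8)))
(.node 10918 (.node 10917 (.leaf 0x297c5)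
(.leaf 0x297c7))
(.node 10919 (.leaf 0x297cc)
(.leaf 0x297d8))))
(.node 10924 (.node 10922 (.node 10921 (.leaf 0x297dc)
(.leaf 0x29816))
(.node 10923 (.leaf 0x29825)
(.leaf 0x29827)))
(.node 10926 (.node 10925 (.leaf 0x2982c)
(.leaf 0x29844))
(.node 10927 (.leaf 0x29847)
(.leaf 0x2984c)))))
(.node 10936 (.node 10932 (.node 10930 (.node 10929 (.leaf 0x2985c)
(.leaf 0x29877))
(.node 10931 (.leaf 0x2987c)
(.leaf 0x29888)))
(.node 10934 (.node 10933 (.leaf 0x29897)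
(.leaf 0x2989c))
(.node 10935 (.leaf 0x298ac)
(.leaf 0x29913))))
(.node 10940 (.node 10938 (.node 10937 (.leaf 0x2991c)
(.leaf 0x2992b))
(.node 10939 (.leaf 0x2994c)
(.leaf 0x2997c)))
(.node 10942 (.node 10941 (.leaf 0x2999c)
(.leaf 0x299ab))
(.node 10943 (.leaf 0x299c8)
(.leaf 0x299e7)))))))
(.node 10976 (.node 10960 (.node 10952 (.node 10948 (.node 10946 (.node 10945 (.leaf 0x299eb)
(.leaf 0x299fb))
(.node 10947 (.leaf 0x29a1b)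
(.leaf 0x29a26)))
(.node 10950 (.node 10949 (.leaf 0x29a2c)
(.leaf 0x29a36))
(.node 10951 (.leaf 0x29a4c)
(.leaf 0x29a66))))
(.node 10956 (.node 10954 (.node 10953 (.leaf 0x29a6c)
(.leaf 0x29a97))
(.node 10955 (.leaf 0x29aab)
(.leaf 0x29acc)))
(.node 10958 (.node 10957 (.leaf 0x29ad6)
(.leaf 0x29aec))
(.node 10959 (.leaf 0x29afb)
(.leaf 0x29b05)))))
(.node 10968 (.node 10964 (.node 10962 (.node 10961 (.leaf 0x29b0c)
(.leaf 0x29b2c))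
(.node 10963 (.leaf 0x29b3b)
(.leaf 0x29b5c)))
(.node 10966 (.node 10965 (.leaf 0x29b85)
(.leaf 0x29bd7))
(.node 10967 (.leaf 0x29be8)
(.leaf 0x29bf8))))
(.node 10972 (.node 10970 (.node 10969 (.leaf 0x29c14)
(.leaf 0x29c23))
(.node 10971 (.leaf 0x29c33)
(.leaf 0x29c37)))
(.node 10974 (.node 10973 (.leaf 0x29c68)
(.leaf 0x29c88))
(.node 10975 (.leaf 0x29ccb)
(.leaf 0x29cd6))))))
(.node 10992 (.node 10984 (.node 10980 (.node 10978 (.node 10977 (.leaf 0x29ce6)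
(.leaf 0x29cec))
(.node 10979 (.leaf 0x29cf7)
(.leaf 0x29d06)))
(.node 10982 (.node 10981 (.leaf 0x29d15)
(.leaf 0x29d17))
(.node 10983 (.leaf 0x29d28)
(.leaf 0x29d37))))
(.node 10988 (.node 10986 (.node 10985 (.leaf 0x29dab)
(.leaf 0x29db6))
(.node 10987 (.leaf 0x29dbc)
(.leaf 0x29dcc)))
(.node 10990 (.node 10989 (.leaf 0x29de6)
(.leaf 0x29dec))
(.node 10991 (.leaf 0x29dfc)
(.leaf 0x29e36)))))
(.node 11000 (.node 10996 (.node 10994 (.node 10993 (.leaf 0x29e4c)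
(.leaf 0x29e88))
(.node 10995 (.leaf 0x29e8b)
(.leaf 0x29e96)))
(.node 10998 (.node 10997 (.leaf 0x29e9c)
(.leaf 0x29eab))
(.node 10999 (.leaf 0x29ecc)
(.leaf 0x29ed8))))
(.node 11004 (.node 11002 (.node 11001 (.leaf 0x29edb)
(.leaf 0x29ee6))
(.node 11003 (.leaf 0x29efb)
(.leaf 0x29f06)))
(.node 11006 (.node 11005 (.leaf 0x29f0c)
(.leaf 0x29f1b))
(.node 11007 (.leaf 0x29f26)
(.leaf 0x29f2c)))))))))

/-- part of a trie -/
def parPart43 : Tr :=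
(.node 11136 (.node 11072 (.node 11040 (.node 11024 (.node 11016 (.node 11012 (.node 11010 (.node 11009 (.leaf 0x29f35)
(.leaf 0x29f4c))
(.node 11011 (.leaf 0x29f5c)
(.leaf 0x29f76)))
(.node 11014 (.node 11013 (.leaf 0x29f7c)
(.leaf 0x29f85))
(.node 11015 (.leaf 0x29f87)
(.leaf 0x29f8c))))
(.node 11020 (.node 11018 (.node 11017 (.leaf 0x29fa7)
(.leaf 0x29fb8))
(.node 11019 (.leaf 0x29fc6)
(.leaf 0x29fc8)))
(.node 11022 (.node 11021 (.leaf 0x29fd9)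
(.leaf 0x29fe9))
(.node 11023 (.leaf 0x2a036)
(.leaf 0x2a056)))))
(.node 11032 (.node 11028 (.node 11026 (.node 11025 (.leaf 0x2a05c)
(.leaf 0x2a08b))
(.node 11027 (.leaf 0x2a0a6)
(.leaf 0x2a0ac)))
(.node 11030 (.node 11029 (.leaf 0x2a0b5)
(.leaf 0x2a0b7))
(.node 11031 (.leaf 0x2a0bc)
(.leaf 0x2a0d7))))
(.node 11036 (.node 11034 (.node 11033 (.leaf 0x2a0f7)
(.leaf 0x2a0fc))
(.node 11035 (.leaf 0x2a118)
(.leaf 0x2a11c)))
(.node 11038 (.node 11037 (.leaf 0x2a13c)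
(.leaf 0x2a158))
(.node 11039 (.leaf 0x2a15c)
(.leaf 0x2a17c))))))
(.node 11056 (.node 11048 (.node 11044 (.node 11042 (.node 11041 (.leaf 0x2a1a8)
(.leaf 0x2a1cc))
(.node 11043 (.leaf 0x2a1e5)
(.leaf 0x2a1e7)))
(.node 11046 (.node 11045 (.leaf 0x2a1ec)
(.leaf 0x2a208))
(.node 11047 (.leaf 0x2a20c)
(.leaf 0x2a224))))
(.node 11052 (.node 11050 (.node 11049 (.leaf 0x2a227)
(.leaf 0x2a22c))
(.node 11051 (.leaf 0x2a238)
(.leaf 0x2a23c)))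
(.node 11054 (.node 11053 (.leaf 0x2a257)
(.leaf 0x2a25c))
(.node 11055 (.leaf 0x2a268)
(.leaf 0x2a26c)))))
(.node 11064 (.node 11060 (.node 11058 (.node 11057 (.leaf 0x2a289)
(.leaf 0x2a28c))
(.node 11059 (.leaf 0x2a2cb)
(.leaf 0x2a2d6)))
(.node 11062 (.node 11061 (.leaf 0x2a2dc)
(.leaf 0x2a2ec))
(.node 11063 (.leaf 0x2a305)
(.leaf 0x2a30c))))
(.node 11068 (.node 11066 (.node 11065 (.leaf 0x2a326)
(.leaf 0x2a32c))
(.node 11067 (.leaf 0x2a345)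
(.leaf 0x2a347)))
(.node 11070 (.node 11069 (.leaf 0x2a34c)
(.leaf 0x2a3b6))
(.node 11071 (.leaf 0x2a3bc)
(.leaf 0x2a3cc)))))))
(.node 11104 (.node 11088 (.node 11080 (.node 11076 (.node 11074 (.node 11073 (.leaf 0x2a40c)
(.leaf 0x2a436))
(.node 11075 (.leaf 0x2a43c)
(.leaf 0x2a445)))
(.node 11078 (.node 11077 (.leaf 0x2a447)
(.leaf 0x2a44c))
(.node 11079 (.leaf 0x2a485)
(.leaf 0x2a487))))
(.node 11084 (.node 11082 (.node 11081 (.leaf 0x2a4a7)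
(.leaf 0x2a4b8))
(.node 11083 (.leaf 0x2a4c9)
(.leaf 0x2a4ec)))
(.node 11086 (.node 11085 (.leaf 0x2a50b)
(.leaf 0x2a516))
(.node 11087 (.leaf 0x2a51c)
(.leaf 0x2a526)))))
(.node 11096 (.node 11092 (.node 11090 (.node 11089 (.leaf 0x2a52c)
(.leaf 0x2a546))
(.node 11091 (.leaf 0x2a54c)
(.leaf 0x2a557)))
(.node 11094 (.node 11093 (.leaf 0x2a55c)
(.leaf 0x2a575))
(.node 11095 (.leaf 0x2a57c)
(.leaf 0x2a5a8))))
(.node 11100 (.node 11098 (.node 11097 (.leaf 0x2a5ac)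
(.leaf 0x2a5cb))
(.node 11099 (.leaf 0x2a5e6)
(.leaf 0x2a5ec)))
(.node 11102 (.node 11101 (.leaf 0x2a5fc)
(.leaf 0x2a626))
(.node 11103 (.leaf 0x2a62c)
(.leaf 0x2a647))))))
(.node 11120 (.node 11112 (.node 11108 (.node 11106 (.node 11105 (.leaf 0x2a64c)
(.leaf 0x2a668))
(.node 11107 (.leaf 0x2a66c)
(.leaf 0x2a68c)))
(.node 11110 (.node 11109 (.leaf 0x2a6a9)
(.leaf 0x2a6bb))
(.node 11111 (.leaf 0x2a6cb)
(.leaf 0x2a715))))
(.node 11116 (.node 11114 (.node 11113 (.leaf 0x2a717)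
(.leaf 0x2a724))
(.node 11115 (.leaf 0x2a727)
(.leaf 0x2a767)))
(.node 11118 (.node 11117 (.leaf 0x2a785)
(.leaf 0x2a787))
(.node 11119 (.leaf 0x2a78c)
(.leaf 0x2a7a7)))))
(.node 11128 (.node 11124 (.node 11122 (.node 11121 (.leaf 0x2a7ac)
(.leaf 0x2a7b8))
(.node 11123 (.leaf 0x2a7bc)
(.leaf 0x2a7e8)))
(.node 11126 (.node 11125 (.leaf 0x2a7ec)
(.leaf 0x2a80c))
(.node 11127 (.leaf 0x2a83c)
(.leaf 0x2a85b))))
(.node 11132 (.node 11130 (.node 11129 (.leaf 0x2a86b)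
(.leaf 0x2a876))
(.node 11131 (.leaf 0x2a886)
(.leaf 0x2a88c)))
(.node 11134 (.node 11133 (.leaf 0x2a897)
(.leaf 0x2a8b7))
(.node 11135 (.leaf 0x2a8d8)
(.leaf 0x2a8db))))))))
(.node 11200 (.node 11168 (.node 11152 (.node 11144 (.node 11140 (.node 11138 (.node 11137 (.leaf 0x2a8fb)
(.leaf 0x2a906))
(.node 11139 (.leaf 0x2a90c)
(.leaf 0x2a91c)))
(.node 11142 (.node 11141 (.leaf 0x2a93b)
(.leaf 0x2a946))
(.node 11143 (.leaf 0x2a94c)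
(.leaf 0x2a956))))
(.node 11148 (.node 11146 (.node 11145 (.leaf 0x2a95c)
(.leaf 0x2a965))
(.node 11147 (.leaf 0x2a967)
(.leaf 0x2a96c)))
(.node 11150 (.node 11149 (.leaf 0x2a994)
(.leaf 0x2a997))
(.node 11151 (.leaf 0x2a99c)
(.leaf 0x2a9a8)))))
(.node 11160 (.node 11156 (.node 11154 (.node 11153 (.leaf 0x2a9ac)
(.leaf 0x2a9cc))
(.node 11155 (.leaf 0x2a9e5)
(.leaf 0x2a9e7)))
(.node 11158 (.node 11157 (.leaf 0x2a9ec)
(.leaf 0x2aa04))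
(.node 11159 (.leaf 0x2aa07)
(.leaf 0x2aa0c))))
(.node 11164 (.node 11162 (.node 11161 (.leaf 0x2aa18)
(.leaf 0x2aa1c))
(.node 11163 (.leaf 0x2aa44)
(.leaf 0x2aa47)))
(.node 11166 (.node 11165 (.leaf 0x2aa4c)
(.leaf 0x2aa5c))
(.node 11167 (.leaf 0x2aa7c)
(.leaf 0x2aa95))))))
(.node 11184 (.node 11176 (.node 11172 (.node 11170 (.node 11169 (.leaf 0x2aa97)
(.leaf 0x2aa9c))
(.node 11171 (.leaf 0x2aaa7)
(.leaf 0x2aaac)))
(.node 11174 (.node 11173 (.leaf 0x2aab8)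
(.leaf 0x2aad7))
(.node 11175 (.leaf 0x2aadc)
(.leaf 0x2aaec))))
(.node 11180 (.node 11178 (.node 11177 (.leaf 0x2ab1c)
(.leaf 0x2ab4c))
(.node 11179 (.leaf 0x2ab7c)
(.leaf 0x2ab8b)))
(.node 11182 (.node 11181 (.leaf 0x2abcb)
(.leaf 0x2abe7))
(.node 11183 (.leaf 0x2abfb)
(.leaf 0x2ac0c)))))
(.node 11192 (.node 11188 (.node 11186 (.node 11185 (.leaf 0x2ac26)
(.leaf 0x2ac2c))
(.node 11187 (.leaf 0x2ac3c)
(.leaf 0x2ac6b)))
(.node 11190 (.node 11189 (.leaf 0x2ac7c)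
(.leaf 0x2ac9b))
(.node 11191 (.leaf 0x2aca6)
(.leaf 0x2acdb))))
(.node 11196 (.node 11194 (.node 11193 (.leaf 0x2acfc)
(.leaf 0x2ad58))
(.node 11195 (.leaf 0x2ada7)
(.leaf 0x2ade6)))
(.node 11198 (.node 11197 (.leaf 0x2adec)
(.leaf 0x2adf7))
(.node 11199 (.leaf 0x2ae07)
(.leaf 0x2ae35)))))))
(.node 11232 (.node 11216 (.node 11208 (.node 11204 (.node 11202 (.node 11201 (.leaf 0x2ae37)
(.leaf 0x2ae47))
(.node 11203 (.leaf 0x2ae58)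
(.leaf 0x2ae78)))
(.node 11206 (.node 11205 (.leaf 0x2ae7c)
(.leaf 0x2ae86))
(.node 11207 (.leaf 0x2ae8c)
(.leaf 0x2ae9c))))
(.node 11212 (.node 11210 (.node 11209 (.leaf 0x2aecc)
(.leaf 0x2aefc))
(.node 11211 (.leaf 0x2af1b)
(.leaf 0x2af26)))
(.node 11214 (.node 11213 (.leaf 0x2af2c)
(.leaf 0x2af3c))
(.node 11215 (.leaf 0x2af5c)
(.leaf 0x2af7b)))))
(.node 11224 (.node 11220 (.node 11218 (.node 11217 (.leaf 0x2af86)
(.leaf 0x2af8c))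
(.node 11219 (.leaf 0x2afa6)
(.leaf 0x2afac)))
(.node 11222 (.node 11221 (.leaf 0x2afb5)
(.leaf 0x2afb7))
(.node 11223 (.leaf 0x2afbc)
(.leaf 0x2afd6))))
(.node 11228 (.node 11226 (.node 11225 (.leaf 0x2afdc)
(.leaf 0x2afe5))
(.node 11227 (.leaf 0x2afec)
(.leaf 0x2b035)))
(.node 11230 (.node 11229 (.leaf 0x2b037)
(.leaf 0x2b03c))
(.node 11231 (.leaf 0x2b057)
(.leaf 0x2b068))))))
(.node 11248 (.node 11240 (.node 11236 (.node 11234 (.node 11233 (.leaf 0x2b06c)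
(.leaf 0x2b086))
(.node 11235 (.leaf 0x2b088)
(.leaf 0x2b099)))
(.node 11238 (.node 11237 (.leaf 0x2b0a8)
(.leaf 0x2b0b9))
(.node 11239 (.leaf 0x2b0f5)
(.leaf 0x2b0fc))))
(.node 11244 (.node 11242 (.node 11241 (.leaf 0x2b125)
(.leaf 0x2b127))
(.node 11243 (.leaf 0x2b12c)
(.leaf 0x2b147)))
(.node 11246 (.node 11245 (.leaf 0x2b158)
(.leaf 0x2b15c))
(.node 11247 (.leaf 0x2b188)
(.leaf 0x2b18c)))))
(.node 11256 (.node 11252 (.node 11250 (.node 11249 (.leaf 0x2b1ac)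
(.leaf 0x2b1dc))
(.node 11251 (.leaf 0x2b1fb)
(.leaf 0x2b224)))
(.node 11254 (.node 11253 (.leaf 0x2b227)
(.leaf 0x2b22c))
(.node 11255 (.leaf 0x2b238)
(.leaf 0x2b23c))))
(.node 11260 (.node 11258 (.node 11257 (.leaf 0x2b25c)
(.leaf 0x2b277))
(.node 11259 (.leaf 0x2b27c)
(.leaf 0x2b288)))
(.node 11262 (.node 11261 (.leaf 0x2b28c)
(.leaf 0x2b2a9))
(.node 11263 (.leaf 0x2b2ac)
(.leaf 0x2b2c8)))))))))

/-- part of a trie -/
def parPart44 : Tr :=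
(.node 11392 (.node 11328 (.node 11296 (.node 11280 (.node 11272 (.node 11268 (.node 11266 (.node 11265 (.leaf 0x2b2cc)
(.leaf 0x2b2e9))
(.node 11267 (.leaf 0x2b2ec)
(.leaf 0x2b30c)))
(.node 11270 (.node 11269 (.leaf 0x2b326)
(.leaf 0x2b32c))
(.node 11271 (.leaf 0x2b33c)
(.leaf 0x2b36c))))
(.node 11276 (.node 11274 (.node 11273 (.leaf 0x2b38c)
(.leaf 0x2b3a7))
(.node 11275 (.leaf 0x2b3ac)
(.leaf 0x2b3dc)))
(.node 11278 (.node 11277 (.leaf 0x2b415)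
(.leaf 0x2b417))
(.node 11279 (.leaf 0x2b41c)
(.leaf 0x2b437)))))
(.node 11288 (.node 11284 (.node 11282 (.node 11281 (.leaf 0x2b43c)
(.leaf 0x2b44c))
(.node 11283 (.leaf 0x2b467)
(.leaf 0x2b478)))
(.node 11286 (.node 11285 (.leaf 0x2b488)
(.leaf 0x2b4c6))
(.node 11287 (.leaf 0x2b4dc)
(.leaf 0x2b4fc))))
(.node 11292 (.node 11290 (.node 11289 (.leaf 0x2b515)
(.leaf 0x2b51c))
(.node 11291 (.leaf 0x2b538)
(.leaf 0x2b53c)))
(.node 11294 (.node 11293 (.leaf 0x2b54b)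
(.leaf 0x2b554))
(.node 11295 (.leaf 0x2b55c)
(.leaf 0x2b57c))))))
(.node 11312 (.node 11304 (.node 11300 (.node 11298 (.node 11297 (.leaf 0x2b596)
(.leaf 0x2b59c))
(.node 11299 (.leaf 0x2b5a5)
(.leaf 0x2b5ac)))
(.node 11302 (.node 11301 (.leaf 0x2b5d7)
(.leaf 0x2b5dc))
(.node 11303 (.leaf 0x2b5f8)
(.leaf 0x2b5fc))))
(.node 11308 (.node 11306 (.node 11305 (.leaf 0x2b60b)
(.leaf 0x2b61c))
(.node 11307 (.leaf 0x2b64b)
(.leaf 0x2b674)))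
(.node 11310 (.node 11309 (.leaf 0x2b677)
(.leaf 0x2b67c))
(.node 11311 (.leaf 0x2b697)
(.leaf 0x2b6b6)))))
(.node 11320 (.node 11316 (.node 11314 (.node 11313 (.leaf 0x2b6c7)
(.leaf 0x2b6cc))
(.node 11315 (.leaf 0x2b6d8)
(.leaf 0x2b6dc)))
(.node 11318 (.node 11317 (.leaf 0x2b6f8)
(.leaf 0x2b6fc))
(.node 11319 (.leaf 0x2b71c)
(.leaf 0x2b73c))))
(.node 11324 (.node 11322 (.node 11321 (.leaf 0x2b74b)
(.leaf 0x2b75b))
(.node 11323 (.leaf 0x2b76b)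
(.leaf 0x2b786)))
(.node 11326 (.node 11325 (.leaf 0x2b797)
(.leaf 0x2b7a7))
(.node 11327 (.leaf 0x2b7ac)
(.leaf 0x2b7eb)))))))
(.node 11360 (.node 11344 (.node 11336 (.node 11332 (.node 11330 (.node 11329 (.leaf 0x2b7f6)
(.leaf 0x2b7fc))
(.node 11331 (.leaf 0x2b806)
(.leaf 0x2b80c)))
(.node 11334 (.node 11333 (.leaf 0x2b815)
(.leaf 0x2b81c))
(.node 11335 (.leaf 0x2b846)
(.leaf 0x2b84c))))
(.node 11340 (.node 11338 (.node 11337 (.leaf 0x2b855)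
(.leaf 0x2b85c))
(.node 11339 (.leaf 0x2b875)
(.leaf 0x2b87c)))
(.node 11342 (.node 11341 (.leaf 0x2b894)
(.leaf 0x2b897))
(.node 11343 (.leaf 0x2b89c)
(.leaf 0x2b8a8)))))
(.node 11352 (.node 11348 (.node 11346 (.node 11345 (.leaf 0x2b8ac)
(.leaf 0x2b8c7))
(.node 11347 (.leaf 0x2b8cc)
(.leaf 0x2b8dc)))
(.node 11350 (.node 11349 (.leaf 0x2b8fc)
(.leaf 0x2b924))
(.node 11351 (.leaf 0x2b927)
(.leaf 0x2b92c))))
(.node 11356 (.node 11354 (.node 11353 (.leaf 0x2b938)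
(.leaf 0x2b93c))
(.node 11355 (.leaf 0x2b957)
(.leaf 0x2b95c)))
(.node 11358 (.node 11357 (.leaf 0x2b968)
(.leaf 0x2b96c))
(.node 11359 (.leaf 0x2b98c)
(.leaf 0x2b9a7))))))
(.node 11376 (.node 11368 (.node 11364 (.node 11362 (.node 11361 (.leaf 0x2b9ac)
(.leaf 0x2b9bc))
(.node 11363 (.leaf 0x2b9f7)
(.leaf 0x2b9fc)))
(.node 11366 (.node 11365 (.leaf 0x2ba08)
(.leaf 0x2ba0c))
(.node 11367 (.leaf 0x2ba26)
(.leaf 0x2ba28))))
(.node 11372 (.node 11370 (.node 11369 (.leaf 0x2ba2c)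
(.leaf 0x2ba5c))
(.node 11371 (.leaf 0x2baab)
(.leaf 0x2badb)))
(.node 11374 (.node 11373 (.leaf 0x2baec)
(.leaf 0x2bb0c))
(.node 11375 (.leaf 0x2bb2b)
(.leaf 0x2bb56)))))
(.node 11384 (.node 11380 (.node 11378 (.node 11377 (.leaf 0x2bb5c)
(.leaf 0x2bbb5))
(.node 11379 (.leaf 0x2bbb7)
(.leaf 0x2bbbc)))
(.node 11382 (.node 11381 (.leaf 0x2bbe8)
(.leaf 0x2bbec))
(.node 11383 (.leaf 0x2bbf7)
(.leaf 0x2bc08))))
(.node 11388 (.node 11386 (.node 11385 (.leaf 0x2bc0c)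
(.leaf 0x2bc18))
(.node 11387 (.leaf 0x2bc3c)
(.leaf 0x2bc5c)))
(.node 11390 (.node 11389 (.leaf 0x2bca6)
(.leaf 0x2bcac))
(.node 11391 (.leaf 0x2bcbc)
(.leaf 0x2bcf6))))))))
(.node 11456 (.node 11424 (.node 11408 (.node 11400 (.node 11396 (.node 11394 (.node 11393 (.leaf 0x2bcfc)
(.leaf 0x2bd05))
(.node 11395 (.leaf 0x2bd0c)
(.leaf 0x2bd25)))
(.node 11398 (.node 11397 (.leaf 0x2bd27)
(.leaf 0x2bd2c))
(.node 11399 (.leaf 0x2bd47)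
(.leaf 0x2bd4c))))
(.node 11404 (.node 11402 (.node 11401 (.leaf 0x2bd5c)
(.leaf 0x2bd75))
(.node 11403 (.leaf 0x2bd7c)
(.leaf 0x2bd9c)))
(.node 11406 (.node 11405 (.leaf 0x2bdb7)
(.leaf 0x2bdc8))
(.node 11407 (.leaf 0x2bdcc)
(.leaf 0x2bde6)))))
(.node 11416 (.node 11412 (.node 11410 (.node 11409 (.leaf 0x2bde8)
(.leaf 0x2bdec))
(.node 11411 (.leaf 0x2bdfc)
(.leaf 0x2be18)))
(.node 11414 (.node 11413 (.leaf 0x2be29)
(.leaf 0x2be49))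
(.node 11415 (.leaf 0x2be6c)
(.leaf 0x2be87))))
(.node 11420 (.node 11418 (.node 11417 (.leaf 0x2be8c)
(.leaf 0x2be98))
(.node 11419 (.leaf 0x2be9c)
(.leaf 0x2beb8)))
(.node 11422 (.node 11421 (.leaf 0x2bebc)
(.leaf 0x2becc))
(.node 11423 (.leaf 0x2beec)
(.leaf 0x2befb))))))
(.node 11440 (.node 11432 (.node 11428 (.node 11426 (.node 11425 (.leaf 0x2bf0b)
(.leaf 0x2bf1b))
(.node 11427 (.leaf 0x2bf37)
(.leaf 0x2bf3c)))
(.node 11430 (.node 11429 (.leaf 0x2bf48)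
(.leaf 0x2bf4c))
(.node 11431 (.leaf 0x2bf6c)
(.leaf 0x2bf98))))
(.node 11436 (.node 11434 (.node 11433 (.leaf 0x2bf9c)
(.leaf 0x2bfb9))
(.node 11435 (.leaf 0x2bfbc)
(.leaf 0x2bfdc)))
(.node 11438 (.node 11437 (.leaf 0x2bff9)
(.leaf 0x2bffc))
(.node 11439 (.leaf 0x2c01c)
(.leaf 0x2c045)))))
(.node 11448 (.node 11444 (.node 11442 (.node 11441 (.leaf 0x2c04c)
(.leaf 0x2c096))
(.node 11443 (.leaf 0x2c098)
(.leaf 0x2c09c)))
(.node 11446 (.node 11445 (.leaf 0x2c0c7)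
(.leaf 0x2c0dc))
(.node 11447 (.leaf 0x2c0fc)
(.leaf 0x2c126))))
(.node 11452 (.node 11450 (.node 11449 (.leaf 0x2c128)
(.leaf 0x2c12c))
(.node 11451 (.leaf 0x2c155)
(.leaf 0x2c15c)))
(.node 11454 (.node 11453 (.leaf 0x2c17b)
(.leaf 0x2c184))
(.node 11455 (.leaf 0x2c18c)
(.leaf 0x2c1ac)))))))
(.node 11488 (.node 11472 (.node 11464 (.node 11460 (.node 11458 (.node 11457 (.leaf 0x2c1bb)
(.leaf 0x2c1dc))
(.node 11459 (.leaf 0x2c205)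
(.leaf 0x2c207)))
(.node 11462 (.node 11461 (.leaf 0x2c20c)
(.leaf 0x2c22c))
(.node 11463 (.leaf 0x2c24c)
(.leaf 0x2c25b))))
(.node 11468 (.node 11466 (.node 11465 (.leaf 0x2c26c)
(.leaf 0x2c27b))
(.node 11467 (.leaf 0x2c2b7)
(.leaf 0x2c2bc)))
(.node 11470 (.node 11469 (.leaf 0x2c2c8)
(.leaf 0x2c2cc))
(.node 11471 (.leaf 0x2c306)
(.leaf 0x2c308)))))
(.node 11480 (.node 11476 (.node 11474 (.node 11473 (.leaf 0x2c30c)
(.leaf 0x2c32c))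
(.node 11475 (.leaf 0x2c33b)
(.leaf 0x2c34c)))
(.node 11478 (.node 11477 (.leaf 0x2c35b)
(.leaf 0x2c36b))
(.node 11479 (.leaf 0x2c37b)
(.leaf 0x2c3b7))))
(.node 11484 (.node 11482 (.node 11481 (.leaf 0x2c3dc)
(.leaf 0x2c3f6))
(.node 11483 (.leaf 0x2c3fc)
(.leaf 0x2c405)))
(.node 11486 (.node 11485 (.leaf 0x2c40c)
(.leaf 0x2c425))
(.node 11487 (.leaf 0x2c42c)
(.leaf 0x2c44c))))))
(.node 11504 (.node 11496 (.node 11492 (.node 11490 (.node 11489 (.leaf 0x2c465)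
(.leaf 0x2c46c))
(.node 11491 (.leaf 0x2c48c)
(.leaf 0x2c4ac)))
(.node 11494 (.node 11493 (.leaf 0x2c4c7)
(.leaf 0x2c4cc))
(.node 11495 (.leaf 0x2c4d8)
(.leaf 0x2c4dc))))
(.node 11500 (.node 11498 (.node 11497 (.leaf 0x2c4fc)
(.leaf 0x2c51c))
(.node 11499 (.leaf 0x2c557)
(.leaf 0x2c55c)))
(.node 11502 (.node 11501 (.leaf 0x2c568)
(.leaf 0x2c56c))
(.node 11503 (.leaf 0x2c58c)
(.leaf 0x2c5a8)))))
(.node 11512 (.node 11508 (.node 11506 (.node 11505 (.leaf 0x2c5ac)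
(.leaf 0x2c5c9))
(.node 11507 (.leaf 0x2c5cc)
(.leaf 0x2c5f8)))
(.node 11510 (.node 11509 (.leaf 0x2c5fc)
(.leaf 0x2c628))
(.node 11511 (.leaf 0x2c62c)
(.leaf 0x2c649))))
(.node 11516 (.node 11514 (.node 11513 (.leaf 0x2c64c)
(.leaf 0x2c668))
(.node 11515 (.leaf 0x2c66c)
(.leaf 0x2c67c)))
(.node 11518 (.node 11517 (.leaf 0x2c6bc)
(.leaf 0x2c6fc))
(.node 11519 (.leaf 0x2c717)
(.leaf 0x2c728)))))))))

/-- part of a trie -/
def parPart45 : Tr :=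
(.node 11592 (.node 11556 (.node 11538 (.node 11529 (.node 11524 (.node 11522 (.node 11521 (.leaf 0x2c72c)
(.leaf 0x2c74c))
(.node 11523 (.leaf 0x2c768)
(.leaf 0x2c76c)))
(.node 11526 (.node 11525 (.leaf 0x2c77c)
(.leaf 0x2c7c5))
(.node 11527 (.leaf 0x2c7cc)
(.node 11528 (.leaf 0x2c7f5)
(.leaf 0x2c7fc)))))
(.node 11533 (.node 11531 (.node 11530 (.leaf 0x2c814)
(.leaf 0x2c81c))
(.node 11532 (.leaf 0x2c837)
(.leaf 0x2c84c)))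
(.node 11535 (.node 11534 (.leaf 0x2c86c)
(.leaf 0x2c89c))
(.node 11536 (.leaf 0x2c8c6)
(.node 11537 (.leaf 0x2c8c8)
(.leaf 0x2c8cc))))))
(.node 11547 (.node 11542 (.node 11540 (.node 11539 (.leaf 0x2c8dc)
(.leaf 0x2c8f8))
(.node 11541 (.leaf 0x2c8fc)
(.leaf 0x2c90c)))
(.node 11544 (.node 11543 (.leaf 0x2c939)
(.leaf 0x2c976))
(.node 11545 (.leaf 0x2c978)
(.node 11546 (.leaf 0x2c97c)
(.leaf 0x2c99c)))))
(.node 11551 (.node 11549 (.node 11548 (.leaf 0x2c9ab)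
(.leaf 0x2c9bc))
(.node 11550 (.leaf 0x2c9cb)
(.leaf 0x2c9db)))
(.node 11553 (.node 11552 (.leaf 0x2c9eb)
(.leaf 0x2ca28))
(.node 11554 (.leaf 0x2ca2c)
(.node 11555 (.leaf 0x2ca4c)
(.leaf 0x2ca79)))))))
(.node 11574 (.node 11565 (.node 11560 (.node 11558 (.node 11557 (.leaf 0x2ca7c)
(.leaf 0x2ca9c))
(.node 11559 (.leaf 0x2cacc)
(.leaf 0x2cafc)))
(.node 11562 (.node 11561 (.leaf 0x2cb18)
(.leaf 0x2cb1c))
(.node 11563 (.leaf 0x2cb2c)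
(.node 11564 (.leaf 0x2cb48)
(.leaf 0x2cb4c)))))
(.node 11569 (.node 11567 (.node 11566 (.leaf 0x2cb78)
(.leaf 0x2cb7c))
(.node 11568 (.leaf 0x2cb89)
(.leaf 0x2cb8c)))
(.node 11571 (.node 11570 (.leaf 0x2cba4)
(.leaf 0x2cbac))
(.node 11572 (.leaf 0x2cbdc)
(.node 11573 (.leaf 0x2cbfb)
(.leaf 0x2cc27))))))
(.node 11583 (.node 11578 (.node 11576 (.node 11575 (.leaf 0x2cc2c)
(.leaf 0x2cc3c))
(.node 11577 (.leaf 0x2cc5b)
(.leaf 0x2cc6b)))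
(.node 11580 (.node 11579 (.leaf 0x2cca8)
(.leaf 0x2ccac))
(.node 11581 (.leaf 0x2cccc)
(.node 11582 (.leaf 0x2cce8)
(.leaf 0x2ccec)))))
(.node 11587 (.node 11585 (.node 11584 (.leaf 0x2ccfc)
(.leaf 0x2cd1b))
(.node 11586 (.leaf 0x2cd3b)
(.leaf 0x2cd7c)))
(.node 11589 (.node 11588 (.leaf 0x2cd95)
(.leaf 0x2cd9c))
(.node 11590 (.leaf 0x2cdbc)
(.node 11591 (.leaf 0x2cddc)
(.leaf 0x2ce04))))))))
(.node 11628 (.node 11610 (.node 11601 (.node 11596 (.node 11594 (.node 11593 (.leaf 0x2ce0c)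
(.leaf 0x2ce48))
(.node 11595 (.leaf 0x2ce4c)
(.leaf 0x2ce6c)))
(.node 11598 (.node 11597 (.leaf 0x2cea8)
(.leaf 0x2ceac))
(.node 11599 (.leaf 0x2cecc)
(.node 11600 (.leaf 0x2cef9)
(.leaf 0x2cefc)))))
(.node 11605 (.node 11603 (.node 11602 (.leaf 0x2cf1c)
(.leaf 0x2cf39))
(.node 11604 (.leaf 0x2cf3c)
(.leaf 0x2cf59)))
(.node 11607 (.node 11606 (.leaf 0x2cf5c)
(.leaf 0x2cf7c))
(.node 11608 (.leaf 0x2cf9c)
(.node 11609 (.leaf 0x2cfe8)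
(.leaf 0x2cfec))))))
(.node 11619 (.node 11614 (.node 11612 (.node 11611 (.leaf 0x2cffc)
(.leaf 0x2d02c))
(.node 11613 (.leaf 0x2d05c)
(.leaf 0x2d074)))
(.node 11616 (.node 11615 (.leaf 0x2d07c)
(.leaf 0x2d09c))
(.node 11617 (.leaf 0x2d0b6)
(.node 11618 (.leaf 0x2d0b8)
(.leaf 0x2d0bc)))))
(.node 11623 (.node 11621 (.node 11620 (.leaf 0x2d0f8)
(.leaf 0x2d0fc))
(.node 11622 (.leaf 0x2d10c)
(.leaf 0x2d13c)))
(.node 11625 (.node 11624 (.leaf 0x2d178)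
(.leaf 0x2d17c))
(.node 11626 (.leaf 0x2d18c)
(.node 11627 (.leaf 0x2d1ab)
(.leaf 0x2d1cb)))))))
(.node 11646 (.node 11637 (.node 11632 (.node 11630 (.node 11629 (.leaf 0x2d20c)
(.leaf 0x2d23c))
(.node 11631 (.leaf 0x2d28c)
(.leaf 0x2d2bc)))
(.node 11634 (.node 11633 (.leaf 0x2d2d9)
(.leaf 0x2d2dc))
(.node 11635 (.leaf 0x2d2fc)
(.node 11636 (.leaf 0x2d31c)
(.leaf 0x2d35c)))))
(.node 11641 (.node 11639 (.node 11638 (.leaf 0x2d36b)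
(.leaf 0x2d37b))
(.node 11640 (.leaf 0x2d3ac)
(.leaf 0x2d3dc)))
(.node 11643 (.node 11642 (.leaf 0x2d3fb)
(.leaf 0x2d434))
(.node 11644 (.leaf 0x2d43c)
(.node 11645 (.leaf 0x2d47c)
(.leaf 0x2d49c))))))
(.node 11655 (.node 11650 (.node 11648 (.node 11647 (.leaf 0x2d4c9)
(.leaf 0x2d4cc))
(.node 11649 (.leaf 0x2d4fc)
(.leaf 0x2d52c)))
(.node 11652 (.node 11651 (.leaf 0x2d54c)
(.leaf 0x2d58c))
(.node 11653 (.leaf 0x2d5dc)
(.node 11654 (.leaf 0x2d608)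
(.leaf 0x2d60c)))))
(.node 11659 (.node 11657 (.node 11656 (.leaf 0x2d61c)
(.leaf 0x2d63c))
(.node 11658 (.leaf 0x2d67c)
(.leaf 0x2d69b)))
(.node 11661 (.node 11660 (.leaf 0x2d70c)
(.leaf 0x2d74b))
(.node 11662 (.leaf 0x2d7ac)
(.node 11663 (.leaf 0x2d7ec)
(.leaf 0x2d85c)))))))))

end Cfsg.Agent.H96.Fi24Mult.Ztwo
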