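import Cfsg.Agent.H96.Fi24Mult.Cert
import Cfsg.Agent.H96.Fi24Mult.ZtwoFact0
import Cfsg.Agent.H96.Fi24Mult.ZtwoFact1
import Cfsg.Agent.H96.Fi24Mult.ZtwoFact2
import Cfsg.Agent.H96.Fi24Mult.ZtwoFact3
import Cfsg.Agent.H96.Fi24Mult.ZtwoFact4
import Cfsg.Agent.H96.Fi24Mult.ZtwoPar0
import Cfsg.Agent.H96.Fi24Mult.ZtwoPar1
import Cfsg.Agent.H96.Fi24Mult.ZtwoCode0
import Cfsg.Agent.H96.Fi24Mult.ZtwoCode1
import Cfsg.Agent.H96.Fi24Mult.ZtwoCode2
import Cfsg.Agent.H96.Fi24Mult.ZtwoCode3
import Cfsg.Agent.H96.Fi24Mult.ZtwoCode4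

/-!
A generated scan certificate.
-/

set_option autoImplicit false

namespace Cfsg.Agent.H96.Fi24Mult.Ztwo

open Cfsg.Agent.H25.Fi24 (Tr)

/-- a trie -/
def facts : Tr :=
(.node 15360 (.node 7680 (.node 3840 (.node 1792 (.node 768 (.node 256 factPart0 (.node 512 factPart1 factPart2)) (.node 1280 (.node 1024 factPart3 factPart4) (.node 1536 factPart5 factPart6))) (.node 2816 (.node 2304 (.node 2048 factPart7 factPart8) (.node 2560 factPart9 factPart10)) (.node 3328 (.node 3072 factPart11 factPart12) (.node 3584 factPart13 factPart14)))) (.node 5632 (.node 4608 (.node 4096 factPart15 (.node 4352 factPart16 factPart17)) (.node 5120 (.node 4864 factPart18 factPart19) (.node 5376 factPart20 factPart21))) (.node 6656 (.node 6144 (.node 5888 factPart22 factPart23) (.node 6400 factPart24 factPart25)) (.node 7168 (.node 6912 factPart26 factPart27) (.node 7424 factPart28 factPart29))))) (.node 11520 (.node 9472 (.node 8448 (.node 7936 factPart30 (.node 8192 factPart31 factPart32))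 (.node 8960 (.node 8704 factPart33 factPart34) (.node 9216 factPart35 factPart36))) (.node 10496 (.node 9984 (.node 9728 factPart37 factPart38) (.node 10240 factPart39 factPart40)) (.node 11008 (.node 10752 factPart41 factPart42) (.node 11264 factPart43 factPart44)))) (.node 13312 (.node 12288 (.node 11776 factPart45 (.node 12032 factPart46 factPart47)) (.node 12800 (.node 12544 factPart48 factPart49) (.node 13056 factPart50 factPart51))) (.node 14336 (.node 13824 (.node 13568 factPart52 factPart53) (.node 14080 factPart54 factPart55)) (.node 14848 (.node 14592 factPart56 factPart57) (.node 15104 factPart58 factPart59)))))) (.node 23040 (.node 19200 (.node 17152 (.node 16128 (.node 15616 factPart60 (.node 15872 factPart61 factPart62)) (.node 16640 (.node 16384 factPart63 factPart64) (.node 16896 factPart65 factPart66))) (.node 18176 (.node 17664 (.node 17408 factPart67 factPart68) (.node 17920 factPart69 factPart70)) (.node 18688 (.node 18432 factPart71 factPart72) (.node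 18944 factPart73 factPart74)))) (.node 20992 (.node 19968 (.node 19456 factPart75 (.node 19712 factPart76 factPart77)) (.node 20480 (.node 20224 factPart78 factPart79) (.node 20736 factPart80 factPart81))) (.node 22016 (.node 21504 (.node 21248 factPart82 factPart83) (.node 21760 factPart84 factPart85)) (.node 22528 (.node 22272 factPart86 factPart87) (.node 22784 factPart88 factPart89))))) (.node 26880 (.node 24832 (.node 23808 (.node 23296 factPart90 (.node 23552 factPart91 factPart92)) (.node 24320 (.node 24064 factPart93 factPart94) (.node 24576 factPart95 factPart96))) (.node 25856 (.node 25344 (.node 25088 factPart97 factPart98) (.node 25600 factPart99 factPart100)) (.node 26368 (.node 26112 factPart101 factPart102) (.node 26624 factPart103 factPart104)))) (.node 28672 (.node 27648 (.node 27136 factPart105 (.node 27392 factPart106 factPart107)) (.node 28160 (.node 27904 factPart108 factPart109) (.node 28416 factPart110 factPart111))) (.node 29696 (.node 29184 (.node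 28928 factPart112 factPart113) (.node 29440 factPart114 factPart115)) (.node 30208 (.node 29952 factPart116 factPart117) (.node 30464 factPart118 factPart119)))))))

/-- a trie -/
def pars : Tr :=
(.node 5888 (.node 2816 (.node 1280 (.node 512 (.node 256 parPart0 parPart1) (.node 768 parPart2 (.node 1024 parPart3 parPart4))) (.node 2048 (.node 1536 parPart5 (.node 1792 parPart6 parPart7)) (.node 2304 parPart8 (.node 2560 parPart9 parPart10)))) (.node 4352 (.node 3584 (.node 3072 parPart11 (.node 3328 parPart12 parPart13)) (.node 3840 parPart14 (.node 4096 parPart15 parPart16))) (.node 5120 (.node 4608 parPart17 (.node 4864 parPart18 parPart19)) (.node 5376 parPart20 (.node 5632 parPart21 parPart22))))) (.node 8704 (.node 7168 (.node 6400 (.node 6144 parPart23 parPart24) (.node 6656 parPart25 (.node 6912 parPart26 parPart27))) (.node 7936 (.node 7424 parPart28 (.node 7680 parPart29 parPart30)) (.node 8192 parPart31 (.node 8448 parPart32 parPart33)))) (.node 10240 (.node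 9472 (.node 8960 parPart34 (.node 9216 parPart35 parPart36)) (.node 9728 parPart37 (.node 9984 parPart38 parPart39))) (.node 11008 (.node 10496 parPart40 (.node 10752 parPart41 parPart42)) (.node 11264 parPart43 (.node 11520 parPart44 parPart45))))))

/-- a trie -/
def codes : Tr :=
(.node 15360 (.node 7680 (.node 3840 (.node 1792 (.node 768 (.node 256 codePart0 (.node 512 codePart1 codePart2)) (.node 1280 (.node 1024 codePart3 codePart4) (.node 1536 codePart5 codePart6))) (.node 2816 (.node 2304 (.node 2048 codePart7 codePart8) (.node 2560 codePart9 codePart10)) (.node 3328 (.node 3072 codePart11 codePart12) (.node 3584 codePart13 codePart14)))) (.node 5632 (.node 4608 (.node 4096 codePart15 (.node 4352 codePart16 codePart17)) (.node 5120 (.node 4864 codePart18 codePart19) (.node 5376 codePart20 codePart21))) (.node 6656 (.node 6144 (.node 5888 codePart22 codePart23) (.node 6400 codePart24 codePart25)) (.node 7168 (.node 6912 codePart26 codePart27) (.node 7424 codePart28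 codePart29))))) (.node 11520 (.node 9472 (.node 8448 (.node 7936 codePart30 (.node 8192 codePart31 codePart32)) (.node 8960 (.node 8704 codePart33 codePart34) (.node 9216 codePart35 codePart36))) (.node 10496 (.node 9984 (.node 9728 codePart37 codePart38) (.node 10240 codePart39 codePart40)) (.node 11008 (.node 10752 codePart41 codePart42) (.node 11264 codePart43 codePart44)))) (.node 13312 (.node 12288 (.node 11776 codePart45 (.node 12032 codePart46 codePart47)) (.node 12800 (.node 12544 codePart48 codePart49) (.node 13056 codePart50 codePart51))) (.node 14336 (.node 13824 (.node 13568 codePart52 codePart53) (.node 14080 codePart54 codePart55)) (.node 14848 (.node 14592 codePart56 codePart57) (.node 15104 codePart58 codePart59)))))) (.node 23040 (.node 19200 (.node 17152 (.node 16128 (.node 15616 codePart60 (.node 15872 codePart61 codePart62)) (.node 16640 (.node 16384 codePart63 codePart64) (.node 16896 codePart65 codePart66))) (.node 18176 (.node 17664 (.node 17408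 codePart67 codePart68) (.node 17920 codePart69 codePart70)) (.node 18688 (.node 18432 codePart71 codePart72) (.node 18944 codePart73 codePart74)))) (.node 20992 (.node 19968 (.node 19456 codePart75 (.node 19712 codePart76 codePart77)) (.node 20480 (.node 20224 codePart78 codePart79) (.node 20736 codePart80 codePart81))) (.node 22016 (.node 21504 (.node 21248 codePart82 codePart83) (.node 21760 codePart84 codePart85)) (.node 22528 (.node 22272 codePart86 codePart87) (.node 22784 codePart88 codePart89))))) (.node 26880 (.node 24832 (.node 23808 (.node 23296 codePart90 (.node 23552 codePart91 codePart92)) (.node 24320 (.node 24064 codePart93 codePart94) (.node 24576 codePart95 codePart96))) (.node 25856 (.node 25344 (.node 25088 codePart97 codePart98) (.node 25600 codePart99 codePart100)) (.node 26368 (.node 26112 codePart101 codePart102) (.node 26624 codePart103 codePart104)))) (.node 28672 (.node 27648 (.node 27136 codePart105 (.node 27392 codePart106 codePart107)) (.node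 28160 (.node 27904 codePart108 codePart109) (.node 28416 codePart110 codePart111))) (.node 29696 (.node 29184 (.node 28928 codePart112 codePart113) (.node 29440 codePart114 codePart115)) (.node 30208 (.node 29952 codePart116 codePart117) (.node 30464 codePart118 codePart119)))))))

/-- the certificate -/
def cfg : Cfg where
  sg := false
  R := [
    ([9, 10, 9, 10], 0),
    ([2, 6, 2, 6], 0),
    ([7, 8, 7, 8, 7, 8], 0),
    ([1, 2, 1, 2, 1, 2], 0),
    ([1, 10, 1, 10], 0),
    ([2, 7, 2, 7], 0),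
    ([0, 1, 0, 1, 0, 1], 0),
    ([6, 9, 6, 9], 0),
    ([6, 10, 6, 10], 0),
    ([1, 6, 1, 6], 0),
    ([0, 3, 0, 3], 0),
    ([0, 10, 0, 10], 0),
    ([2, 8, 2, 8], 0),
    ([4, 7, 4, 7], 0),
    ([2, 11, 2, 11], 0),
    ([5, 11, 5, 11], 0),
    ([4, 8, 4, 8], 0),
    ([3, 7, 3, 7], 0),
    ([3, 9, 3, 9], 0),
    ([6, 11, 6, 11], 0),
    ([2, 5, 2, 5], 0),
    ([0, 9, 0, 9], 0),
    ([1, 9, 1, 9], 0),
    ([8, 11, 8, 11], 0),
    ([1, 11, 1, 11], 0),
    ([3, 5, 3, 5], 0),
    ([5, 8, 5, 8], 0),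
    ([1, 7, 1, 7], 0),
    ([2, 9, 2, 9], 0),
    ([5, 6, 5, 6, 5, 6], 0),
    ([7, 9, 7, 9], 0),
    ([1, 8, 1, 8], 0),
    ([8, 9, 8, 9, 8, 9], 0),
    ([5, 9, 5, 9], 0),
    ([0, 5, 0, 5], 0),
    ([0, 6, 0, 6], 0),
    ([3, 11, 3, 11], 0),
    ([0, 2, 0, 2], 0),
    ([1, 3, 1, 3], 0),
    ([7, 10, 7, 10], 0),
    ([2, 10, 2, 10], 0),
    ([4, 10, 4, 10], 0),
    ([0, 4, 0, 4], 0),
    ([5, 10, 5, 10, 5, 10], 0),
    ([6, 8, 6, 8], 0),
    ([4, 6, 4, 6], 0),
    ([0, 7, 0, 7], 0),
    ([0, 11, 0, 11], 0),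
    ([2, 4, 2, 4], 0),
    ([3, 6, 3, 6], 0),
    ([0, 8, 0, 8], 0),
    ([3, 4, 3, 4, 3, 4], 0),
    ([7, 11, 7, 11], 0),
    ([4, 11, 4, 11], 0),
    ([5, 7, 5, 7], 0),
    ([3, 8, 3, 8], 0),
    ([6, 7, 6, 7, 6, 7], 0),
    ([8, 10, 8, 10], 0),
    ([1, 4, 1, 4], 0),
    ([1, 5, 1, 5], 0),
    ([4, 9, 4, 9], 0),
    ([9, 11, 9, 11], 0),
    ([3, 10, 3, 10], 0),
    ([10, 11, 10, 11, 10, 11], 0),
    ([4, 5, 4, 5, 4, 5], 0),
    ([2, 3, 2, 3, 2, 3], 0),
    ([0, 10, 7, 6, 5, 4, 3, 2, 10, 7, 6, 5, 4, 3, 2, 10, 7, 6, 5, 4, 3, 2, 10, 7, 6, 5, 4, 3, 2, 10, 7, 6, 5, 4, 3, 2, 10, 7, 6, 5, 4, 3, 2, 10, 7, 6, 5, 4, 3, 2, 10, 7, 6, 5, 4, 3, 2, 10, 7, 6, 5, 4, 3, 2], 0),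
    ([5, 4, 3, 5, 6, 7, 5, 10, 11, 5, 4, 3, 5, 6, 7, 5, 10, 11, 5, 4, 3, 5, 6, 7, 5, 10, 11, 5, 4, 3, 5, 6, 7, 5, 10, 11, 5, 4, 3, 5, 6, 7, 5, 10, 11, 5, 4, 3, 5, 6, 7, 5, 10, 11, 5, 4, 3, 5, 6, 7, 5, 10, 11, 5, 4, 3, 5, 6, 7, 5, 10, 11, 5, 4, 3, 5, 6, 7, 5, 10, 11, 5, 4, 3, 5, 6, 7, 5, 10, 11], 0),
    ([5, 4, 3, 2, 1, 0, 5, 6, 7, 8, 9, 5, 10, 11, 5, 4, 3, 2, 1, 0, 5, 6, 7, 8, 9, 5, 10, 11, 5, 4, 3, 2, 1, 0, 5, 6, 7, 8, 9, 5, 10, 11, 5, 4, 3, 2, 1, 0, 5, 6, 7, 8, 9, 5, 10, 11, 5, 4, 3, 2, 1, 0, 5, 6, 7, 8, 9, 5, 10, 11, 5, 4, 3, 2, 1, 0, 5, 6, 7, 8, 9, 5, 10, 11, 5, 4, 3, 2, 1, 0, 5, 6, 7, 8, 9, 5, 10, 11, 5, 4, 3, 2, 1, 0, 5, 6, 7, 8, 9, 5, 10, 11, 5, 4, 3, 2, 1, 0, 5, 6, 7, 8, 9, 5, 10, 11, 5, 4, 3, 2, 1, 0, 5, 6, 7, 8, 9, 5, 10, 11, 5, 4, 3, 2, 1, 0, 5, 6, 7, 8, 9, 5, 10, 11, 5, 4, 3, 2, 1, 0, 5, 6, 7, 8, 9, 5, 10, 11, 5, 4, 3, 2, 1, 0, 5, 6, 7, 8, 9, 5, 10, 11, 5, 4, 3, 2, 1, 0, 5, 6, 7, 8, 9, 5, 10, 11, 5, 4, 3, 2, 1, 0, 5, 6, 7, 8, 9, 5, 10, 11, 5, 4, 3, 2, 1, 0,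 5, 6, 7, 8, 9, 5, 10, 11, 5, 4, 3, 2, 1, 0, 5, 6, 7, 8, 9, 5, 10, 11], 1)]
  S := [16384, 16386, 16387, 16388, 16389, 16390, 16391, 16392, 16393, 16394, 16395]
  F := facts
  P := pars
  C := codes

end Cfsg.Agent.H96.Fi24Mult.Ztwo
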